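import Mathlib

set_option autoImplicit false
universe u

namespace Groth.Agent.Lib.Helper9

open Polynomial IsLocalRing

/-- Over a henselian local ring `R`, every `R`-algebra map from an étale `R`-algebra to the residue
field lifts to an `R`-algebra map to `R`. -/
theorem exists_lift_of_etale {R : Type u} [CommRing R] [HenselianLocalRing R]
    {R' : Type u} [CommRing R'] [Algebra R R'] [Algebra.Etale R R']
    (Ψ : R' →ₐ[R] ResidueField R) :
    ∃ t : R' →ₐ[R] R, ∀ x, residue R (t x) = Ψ x := by
  let Q : Ideal R' := RingHom.ker Ψ.toRingHom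
  have hQ : Q.IsPrime := RingHom.ker_isPrime _
  obtain ⟨f, hfQ, hstd⟩ := Algebra.IsEtaleAt.exists_isStandardEtale (R := R) Q
  let Pres : StandardEtalePresentation R (Localization.Away f) :=
    hstd.nonempty_standardEtalePresentation.some
  have hΨf : IsUnit (Ψ f) := by
    rw [isUnit_iff_ne_zero]
    exact hfQ
  let Ψ' : Localization.Away f →ₐ[R] ResidueField R := IsLocalization.Away.liftAlgHom f hΨf
  have hΨ' : ∀ x : R', Ψ' (algebraMap R' (Localization.Away f) x) = Ψ x := fun x =>
    IsLocalization.Away.lift_eq f hΨf x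
  have hmap₀ : Pres.P.HasMap (Ψ' Pres.x) := Pres.hasMap.map Ψ'
  have hens : ∀ f : R[X], f.Monic → ∀ a₀ : ResidueField R, aeval a₀ f = 0 →
      aeval a₀ (derivative f) ≠ 0 → ∃ a : R, f.IsRoot a ∧ residue R a = a₀ :=
    ((HenselianLocalRing.TFAE R).out 0 1).1 ‹HenselianLocalRing R›
  obtain ⟨a, ha, haa₀⟩ := hens Pres.f
    Pres.monic_f (Ψ' Pres.x) hmap₀.1 hmap₀.isUnit_derivative_f.ne_zero
  have hmap : Pres.P.HasMap a := by
    refine ⟨by rw [coe_aeval_eq_eval]; exact ha, ?_⟩
    have h1 : IsUnit (residue R (aeval a Pres.g)) := by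
      have : residue R (aeval a Pres.g) = aeval (Ψ' Pres.x) Pres.g := by
        rw [← haa₀]
        exact (Polynomial.aeval_algebraMap_apply (ResidueField R) a Pres.g).symm
      rw [this]
      exact hmap₀.2
    exact isUnit_of_map_unit (residue R) _ h1
  let t₁ : Localization.Away f →ₐ[R] R := (Pres.P.lift a hmap).comp Pres.equivRing.toAlgHom
  have ht₁ : (Algebra.ofId R (ResidueField R)).comp t₁ = Ψ' := by
    apply Pres.hom_ext
    simp only [AlgHom.coe_comp, Function.comp_apply, t₁]
    change algebraMap R (ResidueField R) (Pres.P.lift a hmap (Pres.equivRing Pres.x)) = _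
    rw [Pres.equivRing_x, StandardEtalePair.lift_X]
    exact haa₀
  refine ⟨t₁.comp (IsScalarTower.toAlgHom R R' (Localization.Away f)), fun x => ?_⟩
  rw [← hΨ', ← ht₁]
  rfl

open TensorProduct in
/-- Two algebra maps from an unramified algebra to a local ring which agree modulo the maximal ideal
are equal. -/
theorem algHom_ext_of_residue_eq {R : Type*} [CommRing R] {A : Type*} [CommRing A] [Algebra R A]
    [Algebra.EssFiniteType R A] [Algebra.FormallyUnramified R A]
    {S : Type*} [CommRing S] [IsLocalRing S] [Algebra R S] (f₁ f₂ : A →ₐ[R] S)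
    (h : ∀ a, residue S (f₁ a) = residue S (f₂ a)) : f₁ = f₂ := by
  obtain ⟨e, he, hsp⟩ : ∃ e, IsIdempotentElem e ∧ KaehlerDifferential.ideal R A = A ⊗[R] A ∙ e :=
    (Ideal.isIdempotentElem_iff_of_fg _ (KaehlerDifferential.ideal_fg R A)).mp <|
      (Ideal.cotangent_subsingleton_iff _).mp <| inferInstanceAs <| Subsingleton Ω[A⁄R]
  let F : A ⊗[R] A →ₐ[R] S := Algebra.TensorProduct.lift f₁ f₂ fun _ _ => Commute.all _ _
  have hF : ∀ a b, F (a ⊗ₜ b) = f₁ a * f₂ b := fun a b => by simp [F]
  have hemem : e ∈ KaehlerDifferential.ideal R A := by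
    rw [hsp]; exact Ideal.mem_span_singleton_self e
  -- residue ∘ F factors through multiplication
  have hG : ∀ x : A ⊗[R] A, residue S (F x) =
      residue S (f₁ (Algebra.TensorProduct.lmul' R x)) := by
    intro x
    induction x with
    | zero => simp
    | tmul a b =>
      rw [hF, Algebra.TensorProduct.lmul'_apply_tmul, map_mul, map_mul, map_mul, h b]
    | add x y hx hy => simp only [map_add, hx, hy]
  have hres : residue S (F e) = 0 := by
    rw [hG, (RingHom.mem_ker).1 hemem, map_zero, map_zero]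
  have hFe_idem : IsIdempotentElem (F e) := he.map F
  have hFe : F e = 0 := by
    have hnu : ¬ IsUnit (F e) := by
      intro hu
      have := hu.map (residue S)
      rw [hres] at this
      exact not_isUnit_zero this
    have hu' : IsUnit (1 - F e) := by
      rcases IsLocalRing.isUnit_or_isUnit_one_sub_self (F e) with h1 | h1
      · exact absurd h1 hnu
      · exact h1
    have h0 : F e * (1 - F e) = 0 := by
      rw [mul_sub, mul_one, hFe_idem.eq, sub_self]
    exact (hu'.mul_left_eq_zero).1 h0
  ext a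
  have hmem : (1 : A) ⊗ₜ[R] a - a ⊗ₜ[R] (1 : A) ∈ A ⊗[R] A ∙ e := by
    rw [← hsp]; exact KaehlerDifferential.one_smul_sub_smul_one_mem_ideal R a
  obtain ⟨c, hc⟩ := Ideal.mem_span_singleton'.1 hmem
  have : F ((1 : A) ⊗ₜ[R] a - a ⊗ₜ[R] (1 : A)) = 0 := by
    rw [← hc, map_mul, hFe, mul_zero]
  rw [map_sub, hF, hF, map_one, map_one, one_mul, mul_one, sub_eq_zero] at this
  exact this.symm

end Groth.Agent.Lib.Helper9
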