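import Mathlib
import Groth.Agent.Lib.Helper9.HenselLocal

set_option autoImplicit false
universe u v

namespace Groth.Agent.Lib.Helper9

open IsLocalRing TensorProduct TopologicalSpace

/-- Over a henselian local ring `R`, an étale `R`-algebra `R'` with a prime `P` over the maximal
ideal with trivial residue field extension admits a retraction `t : R' → R` with `t⁻¹(m) = P`. -/
theorem exists_section_of_etale_nbhd {R : Type u} [CommRing R] [HenselianLocalRing R]
    {R' : Type u} [CommRing R'] [Algebra R R'] [Algebra.Etale R R']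
    (P : Ideal R') [P.IsPrime] [P.LiesOver (maximalIdeal R)]
    (H : Function.Bijective (Ideal.ResidueField.mapₐ (maximalIdeal R) P (Algebra.ofId _ _)
      (P.over_def (maximalIdeal R)))) :
    ∃ t : R' →ₐ[R] R, ∀ x, t x ∈ maximalIdeal R ↔ x ∈ P := by
  let ε : (maximalIdeal R).ResidueField ≃ₐ[R] P.ResidueField := AlgEquiv.ofBijective _ H
  let δ : (R ⧸ maximalIdeal R) ≃ₐ[R] (maximalIdeal R).ResidueField :=
    AlgEquiv.ofBijective (IsScalarTower.toAlgHom R (R ⧸ maximalIdeal R) _)
      (Ideal.bijective_algebraMap_quotient_residueField (maximalIdeal R))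
  let Ψ₀ : R' →ₐ[R] P.ResidueField := IsScalarTower.toAlgHom R R' P.ResidueField
  let Ψ : R' →ₐ[R] ResidueField R := (δ.symm.toAlgHom.comp ε.symm.toAlgHom).comp Ψ₀
  obtain ⟨t, ht⟩ := exists_lift_of_etale Ψ
  refine ⟨t, fun x => ?_⟩
  rw [← residue_eq_zero_iff, ht]
  change δ.symm (ε.symm (algebraMap R' P.ResidueField x)) = 0 ↔ _
  rw [EmbeddingLike.map_eq_zero_iff, EmbeddingLike.map_eq_zero_iff]
  exact Ideal.algebraMap_residueField_eq_zero (I := P)


theorem exists_retraction_tensor {R : Type u} [CommRing R] [HenselianLocalRing R]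
    {R' : Type u} [CommRing R'] [Algebra R R'] [Algebra.Etale R R']
    (P : Ideal R') [P.IsPrime] [P.LiesOver (maximalIdeal R)]
    (H : Function.Bijective (Ideal.ResidueField.mapₐ (maximalIdeal R) P (Algebra.ofId _ _)
      (P.over_def (maximalIdeal R))))
    (S : Type v) [CommRing S] [Algebra R S] :
    ∃ τ : R' ⊗[R] S →ₐ[R] S,
      (∀ s, τ (1 ⊗ₜ s) = s) ∧
      (∀ Q : Ideal S, Q.IsPrime → Q.LiesOver (maximalIdeal R) →
        (Q.comap τ.toRingHom).LiesOver P) ∧
      (∀ P'' : Ideal (R' ⊗[R] S), P''.IsPrime → P''.LiesOver P →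
        (P''.comap (Algebra.TensorProduct.includeRight : S →ₐ[R] R' ⊗[R] S).toRingHom).comap
          τ.toRingHom = P'') ∧
      (∀ e' : R' ⊗[R] S, Module.Finite R' (Localization.Away e') →
        Module.Finite R (Localization.Away (τ e'))) := by
  obtain ⟨t, ht⟩ := exists_section_of_etale_nbhd P H
  let τ : R' ⊗[R] S →ₐ[R] S :=
    Algebra.TensorProduct.lift ((Algebra.ofId R S).comp t) (AlgHom.id R S) (fun _ _ => Commute.all _ _)
  have hτ_right : ∀ s, τ (1 ⊗ₜ s) = s := fun s => by simp [τ]
  have hτ_left : ∀ r', τ (r' ⊗ₜ 1) = algebraMap R S (t r') := fun r' => by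
    simp [τ, Algebra.ofId_apply]
  have hτsurj : Function.Surjective τ := fun s => ⟨1 ⊗ₜ s, hτ_right s⟩
  have hτincl : τ.toRingHom.comp (Algebra.TensorProduct.includeRight : S →ₐ[R] R' ⊗[R] S).toRingHom
      = RingHom.id S := by
    ext s; simp [τ]
  have hover : ∀ Q : Ideal S, Q.IsPrime → Q.LiesOver (maximalIdeal R) →
      (Q.comap τ.toRingHom).LiesOver P := by
    intro Q _ hQ
    constructor
    ext x
    rw [Ideal.under, Ideal.mem_comap, Ideal.mem_comap, Algebra.TensorProduct.algebraMap_apply,
      Algebra.algebraMap_self, RingHom.id_apply, AlgHom.toRingHom_eq_coe, RingHom.coe_coe, hτ_left,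
      ← ht x, Q.over_def (maximalIdeal R), Ideal.under, Ideal.mem_comap]
  have hcomapR : ∀ Q : Ideal S,
      (Q.comap τ.toRingHom).comap
        (Algebra.TensorProduct.includeRight : S →ₐ[R] R' ⊗[R] S).toRingHom = Q := by
    intro Q
    rw [Ideal.comap_comap, hτincl, Ideal.comap_id]
  refine ⟨τ, hτ_right, hover, ?_, ?_⟩
  · intro P'' hP'' hP''P
    set Q := P''.comap (Algebra.TensorProduct.includeRight : S →ₐ[R] R' ⊗[R] S).toRingHom with hQ
    have hQprime : Q.IsPrime := Ideal.comap_isPrime _ _
    have hP''m : P''.LiesOver (maximalIdeal R) := Ideal.LiesOver.trans P'' P (maximalIdeal R)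
    have hQm : Q.LiesOver (maximalIdeal R) := by
      constructor
      rw [hP''m.over, hQ, Ideal.under, Ideal.under, Ideal.comap_comap]
      congr 1
      ext r
      simp
    have h1 := hover Q hQprime hQm
    have h2 : (Q.comap τ.toRingHom).IsPrime := Ideal.comap_isPrime _ _
    apply Ideal.eq_of_comap_eq_comap_of_bijective_residueFieldMap H
    rw [hcomapR]
  · intro e' hfin
    let τe : Localization.Away e' →ₐ[R] Localization.Away (τ e') := Localization.awayMapₐ τ e'
    have hτe : Function.Surjective τe :=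
      IsLocalization.Away.mapₐ_surjective_of_surjective e' hτsurj
    have hτe_alg : ∀ z : R' ⊗[R] S, τe (algebraMap _ _ z) = algebraMap S _ (τ z) := by
      intro z
      simp [τe, Localization.awayMapₐ, IsLocalization.Away.mapₐ_apply, IsLocalization.Away.map]
    obtain ⟨s, hs⟩ := hfin.fg_top
    classical
    refine ⟨⟨s.image τe, ?_⟩⟩
    rw [eq_top_iff]
    rintro y -
    obtain ⟨x, rfl⟩ := hτe y
    have hx : x ∈ Submodule.span R' (s : Set (Localization.Away e')) := hs ▸ Submodule.mem_top
    induction hx using Submodule.span_induction with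
    | mem x hx =>
      apply Submodule.subset_span
      simp only [Finset.coe_image, Set.mem_image, Finset.mem_coe]
      exact ⟨x, hx, rfl⟩
    | zero => simp
    | add x y _ _ hx hy => rw [map_add]; exact add_mem hx hy
    | smul r' x _ hx =>
      have : τe (r' • x) = t r' • τe x := by
        rw [Algebra.smul_def, map_mul, Algebra.smul_def]
        congr 1
        rw [IsScalarTower.algebraMap_apply R' (R' ⊗[R] S) (Localization.Away e'),
          Algebra.TensorProduct.algebraMap_apply, Algebra.algebraMap_self, RingHom.id_apply,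
          hτe_alg, hτ_left, ← IsScalarTower.algebraMap_apply]
      rw [this]; exact Submodule.smul_mem _ _ hx


/-- Over a henselian local ring, a finite type algebra that is quasi-finite at a prime `q` over the
maximal ideal has an idempotent `e ∉ q` with `S_e` finite and `q` the only prime over the maximal
ideal in `D(e)`. -/
theorem exists_idempotent_of_quasiFiniteAt {R : Type u} [CommRing R] [HenselianLocalRing R]
    {S : Type v} [CommRing S] [Algebra R S] [Algebra.FiniteType R S]
    (q : Ideal S) [q.IsPrime] [q.LiesOver (maximalIdeal R)] [Algebra.QuasiFiniteAt R q] :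
    ∃ e : S, IsIdempotentElem e ∧ e ∉ q ∧ Module.Finite R (Localization.Away e) ∧
      ∀ Q : Ideal S, Q.IsPrime → Q.LiesOver (maximalIdeal R) → e ∉ Q → Q = q := by
  obtain ⟨R', _, _, _, P, _, _, e', he', P', _, _, hP'q, he'P', H, hfin, huniq⟩ :=
    Algebra.exists_etale_isIdempotentElem_forall_liesOver_eq (maximalIdeal R) q
  obtain ⟨τ, hτ_right, hover, hback, hfinτ⟩ := exists_retraction_tensor P H S
  have hq' : q.comap τ.toRingHom = P' := by
    rw [← hP'q]; exact hback P' inferInstance inferInstance
  refine ⟨τ e', he'.map τ, ?_, hfinτ e' hfin, ?_⟩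
  · intro h; apply he'P'; rw [← hq']; exact h
  · intro Q hQ hQm heQ
    have h1 := hover Q hQ hQm
    have h2 : (Q.comap τ.toRingHom).IsPrime := Ideal.comap_isPrime _ _
    have h3 := huniq (Q.comap τ.toRingHom) inferInstance inferInstance heQ
    have hcomapR : (Q.comap τ.toRingHom).comap
        (Algebra.TensorProduct.includeRight : S →ₐ[R] R' ⊗[R] S).toRingHom = Q := by
      rw [Ideal.comap_comap]
      have : τ.toRingHom.comp
          (Algebra.TensorProduct.includeRight : S →ₐ[R] R' ⊗[R] S).toRingHom = RingHom.id S := by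
        ext s; exact hτ_right s
      rw [this, Ideal.comap_id]
    rw [← hcomapR, h3, hP'q]

/-- In a finite algebra over a local ring, every maximal ideal lies over the maximal ideal. -/
theorem liesOver_maximalIdeal_of_isMaximal {R : Type u} [CommRing R] [IsLocalRing R]
    {S : Type v} [CommRing S] [Algebra R S] [Algebra.IsIntegral R S]
    (M : Ideal S) [M.IsMaximal] : M.LiesOver (maximalIdeal R) := by
  constructor
  have : (M.comap (algebraMap R S)).IsMaximal := Ideal.isMaximal_comap_of_isIntegral_of_isMaximal M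
  exact (IsLocalRing.eq_maximalIdeal this).symm

theorem exists_completeOrthogonalIdempotents_of_finite {R : Type u} [CommRing R]
    [HenselianLocalRing R] (S : Type v) [CommRing S] [Algebra R S] [Module.Finite R S] :
    ∃ (n : ℕ) (e : Fin n → S), CompleteOrthogonalIdempotents e ∧
      ∀ i, IsLocalRing (S ⧸ Ideal.span {1 - e i}) := by
  obtain ⟨R', _, _, _, P, _, _, n, e', he', P', _, _, H, he'P', hall⟩ :=
    Algebra.exists_etale_completeOrthogonalIdempotents_forall_liesOver_eq (R := R) (S := S)
      (maximalIdeal R)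
  obtain ⟨τ, hτ_right, hover, hback, -⟩ := exists_retraction_tensor P H S
  have hτincl : τ.toRingHom.comp
      (Algebra.TensorProduct.includeRight : S →ₐ[R] R' ⊗[R] S).toRingHom = RingHom.id S := by
    ext s; exact hτ_right s
  have he : CompleteOrthogonalIdempotents (τ ∘ e') := he'.map τ.toRingHom
  -- the last idempotent vanishes
  have hlast : τ (e' (Fin.last n)) = 0 := by
    have hjac : τ (e' (Fin.last n)) ∈ Ideal.jacobson (⊥ : Ideal S) := by
      rw [Ideal.mem_jacobson_bot]
      intro y
      by_contra hu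
      obtain ⟨M, hM, hle⟩ := Ideal.exists_le_maximal (Ideal.span {τ (e' (Fin.last n)) * y + 1})
        (by rwa [Ne, Ideal.span_singleton_eq_top])
      have hMm := liesOver_maximalIdeal_of_isMaximal (R := R) M
      have h1 := hover M hM.isPrime hMm
      have h2 : (M.comap τ.toRingHom).IsPrime := Ideal.comap_isPrime _ _
      have h3 := (hall (M.comap τ.toRingHom) h2 h1).1
      have h4 : τ (e' (Fin.last n)) ∈ M := h3
      have h5 : τ (e' (Fin.last n)) * y + 1 ∈ M := hle (Ideal.mem_span_singleton_self _)
      have h6 : (1 : S) ∈ M := by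
        have := M.sub_mem h5 (M.mul_mem_right y h4)
        simpa using this
      exact hM.ne_top ((Ideal.eq_top_iff_one _).2 h6)
    have hidem : IsIdempotentElem (τ (e' (Fin.last n))) := he.idem (Fin.last n)
    exact (Ideal.mem_jacobson_bot.1 hjac (-1)).mul_left_eq_zero.1 (by
      have := hidem.eq
      linear_combination (-1 : S) * this)
  have hcoi : CompleteOrthogonalIdempotents (fun i : Fin n => τ (e' i.castSucc)) := by
    refine ⟨he.toOrthogonalIdempotents.embedding Fin.castSuccEmb, ?_⟩
    have := he.complete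
    rw [Fin.sum_univ_castSucc] at this
    simpa [hlast] using this
  refine ⟨n, fun i => τ (e' i.castSucc), hcoi, fun i => ?_⟩
  set I : Ideal S := Ideal.span {1 - τ (e' i.castSucc)} with hI
  -- the prime q_i
  set qi : Ideal S := (P' i).comap
    (Algebra.TensorProduct.includeRight : S →ₐ[R] R' ⊗[R] S).toRingHom with hqi
  have hqi_back : qi.comap τ.toRingHom = P' i := hback (P' i) inferInstance inferInstance
  have hqi_prime : qi.IsPrime := Ideal.comap_isPrime _ _
  have heqi : τ (e' i.castSucc) ∉ qi := by
    intro h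
    apply he'P' i
    rw [← hqi_back]
    exact h
  have hidem : IsIdempotentElem (τ (e' i.castSucc)) := hcoi.idem i
  have hIle : I ≤ qi := by
    rw [hI, Ideal.span_singleton_le_iff_mem]
    have : τ (e' i.castSucc) * (1 - τ (e' i.castSucc)) ∈ qi := by
      rw [mul_sub, mul_one, hidem.eq, sub_self]; exact qi.zero_mem
    exact (hqi_prime.mem_or_mem this).resolve_left heqi
  have hnontriv : Nontrivial (S ⧸ I) :=
    Ideal.Quotient.nontrivial_iff.2 (fun h => hqi_prime.ne_top (top_le_iff.1 (h ▸ hIle)))
  -- every maximal ideal of S containing I equals qi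
  have hmax : ∀ M : Ideal S, M.IsMaximal → I ≤ M → M = qi := by
    intro M hM hIM
    have heM : τ (e' i.castSucc) ∉ M := by
      intro h
      have h1 : (1 - τ (e' i.castSucc)) ∈ M := hIM (Ideal.mem_span_singleton_self _)
      have : (1 : S) ∈ M := by
        have := M.add_mem h1 h
        simpa using this
      exact hM.ne_top ((Ideal.eq_top_iff_one _).2 this)
    have hMm := liesOver_maximalIdeal_of_isMaximal (R := R) M
    have h1 := hover M hM.isPrime hMm
    have h2 : (M.comap τ.toRingHom).IsPrime := Ideal.comap_isPrime _ _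
    have h3 := (hall (M.comap τ.toRingHom) h2 h1).2 i heM
    have : (M.comap τ.toRingHom).comap
        (Algebra.TensorProduct.includeRight : S →ₐ[R] R' ⊗[R] S).toRingHom = M := by
      rw [Ideal.comap_comap, hτincl, Ideal.comap_id]
    rw [← this, h3]
  apply IsLocalRing.of_unique_max_ideal
  obtain ⟨M₀, hM₀⟩ := Ideal.exists_maximal (S ⧸ I)
  refine ⟨M₀, hM₀, fun M hM => ?_⟩
  have hsurj : Function.Surjective (Ideal.Quotient.mk I) := Ideal.Quotient.mk_surjective
  have key : ∀ N : Ideal (S ⧸ I), N.IsMaximal → N.comap (Ideal.Quotient.mk I) = qi := by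
    intro N hN
    apply hmax
    · exact Ideal.comap_isMaximal_of_surjective _ hsurj
    · intro x hx
      rw [Ideal.mem_comap, Ideal.Quotient.eq_zero_iff_mem.2 hx]
      exact N.zero_mem
  apply Ideal.comap_injective_of_surjective _ hsurj
  rw [key M hM, key M₀ hM₀]


/-- If `e` is idempotent and `S_e` is a finite `R`-module then the ideal `eS` is a finitely generated
`R`-module. -/
theorem fg_span_of_finite_away {R : Type*} {S : Type*} [CommRing R] [CommRing S] [Algebra R S]
    {e : S} (he : IsIdempotentElem e) (hfin : Module.Finite R (Localization.Away e)) :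
    (Submodule.restrictScalars R (Ideal.span {e})).FG := by
  let A := Localization.Away e
  let φ : S →ₗ[R] A := (IsScalarTower.toAlgHom R S A).toLinearMap
  have hφ : Function.Surjective φ :=
    IsLocalization.Away.algebraMap_surjective_of_isIdempotentElem e he
  let ψ : S →ₗ[R] S := LinearMap.mulLeft R e
  have hker : LinearMap.ker φ ≤ LinearMap.ker ψ := by
    intro x hx
    have hx' : algebraMap S A x = 0 := hx
    rw [IsLocalization.map_eq_zero_iff (Submonoid.powers e)] at hx'
    obtain ⟨⟨_, n, rfl⟩, hn⟩ := hx'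
    change e * x = 0
    have hn' : e ^ n * x = 0 := hn
    rcases n with _ | n
    · simp only [pow_zero, one_mul] at hn'; rw [hn', mul_zero]
    · rw [he.pow_succ_eq] at hn'; exact hn'
  let χ : A →ₗ[R] S := (Submodule.liftQ _ ψ hker).comp
    (φ.quotKerEquivOfSurjective hφ).symm.toLinearMap
  have hχ : ∀ x, χ (φ x) = ψ x := by
    intro x
    simp only [χ, LinearMap.comp_apply, LinearEquiv.coe_coe]
    have : (φ.quotKerEquivOfSurjective hφ).symm (φ x) = Submodule.Quotient.mk x := by
      rw [LinearEquiv.symm_apply_eq]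
      rfl
    rw [this, Submodule.liftQ_apply]
  have hrange : LinearMap.range χ = Submodule.restrictScalars R (Ideal.span {e}) := by
    ext y
    simp only [LinearMap.mem_range, Submodule.restrictScalars_mem, Ideal.mem_span_singleton']
    constructor
    · rintro ⟨a, rfl⟩
      obtain ⟨x, rfl⟩ := hφ a
      exact ⟨x, by rw [hχ]; exact mul_comm _ _⟩
    · rintro ⟨x, rfl⟩
      exact ⟨φ x, by rw [hχ]; exact mul_comm _ _⟩
  rw [← hrange, LinearMap.range_eq_map]
  exact hfin.fg_top.map χ

/-- If `E` is idempotent and the ideal `ES` is a finitely generated `R`-module, then `S/(1-E)` is a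
finite `R`-module. -/
theorem finite_quotient_of_fg_span {R : Type*} {S : Type*} [CommRing R] [CommRing S] [Algebra R S]
    {E : S} (hfg : (Submodule.restrictScalars R (Ideal.span {E})).FG) :
    Module.Finite R (S ⧸ Ideal.span {1 - E}) := by
  have : Module.Finite R (Submodule.restrictScalars R (Ideal.span {E})) :=
    Module.Finite.iff_fg.2 hfg
  let f : Submodule.restrictScalars R (Ideal.span {E}) →ₗ[R] S ⧸ Ideal.span {1 - E} :=
    ((Ideal.Quotient.mkₐ R (Ideal.span {1 - E})).toLinearMap).comp
      (Submodule.subtype _)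
  refine Module.Finite.of_surjective f ?_
  intro z
  obtain ⟨z, rfl⟩ := Ideal.Quotient.mk_surjective z
  refine ⟨⟨E * z, ?_⟩, ?_⟩
  · rw [Submodule.restrictScalars_mem]
    exact Ideal.mul_mem_right _ _ (Ideal.mem_span_singleton_self E)
  · change Ideal.Quotient.mk _ (E * z) = Ideal.Quotient.mk _ z
    rw [Ideal.Quotient.eq, Ideal.mem_span_singleton']
    exact ⟨-z, by ring⟩

theorem exists_idempotent_union {R : Type*} {S : Type*} [CommRing R] [CommRing S] [Algebra R S]
    {ι : Type*} (s : Finset ι) (e : ι → S)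
    (he : ∀ i ∈ s, IsIdempotentElem (e i))
    (hfin : ∀ i ∈ s, Module.Finite R (Localization.Away (e i))) :
    ∃ E : S, IsIdempotentElem E ∧ Module.Finite R (S ⧸ Ideal.span {1 - E}) ∧
      (∀ i ∈ s, e i * E = e i) ∧ E ∈ Ideal.span (e '' (s : Set ι)) := by
  classical
  have h3 : ∀ i ∈ s, e i * (1 - ∏ i ∈ s, (1 - e i)) = e i := by
    intro i hi
    have h0 : e i * ∏ j ∈ s, (1 - e j) = 0 := by
      rw [← Finset.mul_prod_erase s _ hi, ← mul_assoc, mul_sub, mul_one, (he i hi).eq, sub_self,
        zero_mul]
    rw [mul_sub, mul_one, h0, sub_zero]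
  have h4 : ∀ t : Finset ι, 1 - ∏ i ∈ t, (1 - e i) ∈ Ideal.span (e '' (t : Set ι)) := by
    intro t
    induction t using Finset.induction_on with
    | empty => simp
    | insert a t hat ih =>
      rw [Finset.prod_insert hat, Finset.coe_insert, Set.image_insert_eq]
      have : 1 - (1 - e a) * ∏ i ∈ t, (1 - e i) =
          (1 - ∏ i ∈ t, (1 - e i)) + e a * ∏ i ∈ t, (1 - e i) := by ring
      rw [this]
      refine Ideal.add_mem _ (Ideal.span_mono (Set.subset_insert _ _) ih) ?_
      exact Ideal.mul_mem_right _ _ (Ideal.subset_span (Set.mem_insert _ _))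
  have hfg : ∀ t : Finset ι, t ⊆ s →
      (Submodule.restrictScalars R (Ideal.span (e '' (t : Set ι)))).FG := by
    intro t
    induction t using Finset.induction_on with
    | empty =>
      intro _
      simp only [Finset.coe_empty, Set.image_empty, Ideal.span_empty]
      rw [Submodule.restrictScalars_bot]
      exact Submodule.fg_bot
    | insert a t hat ih =>
      intro hsub
      rw [Finset.coe_insert, Set.image_insert_eq, Ideal.span_insert, Submodule.restrictScalars_sup]
      have ha : a ∈ s := hsub (Finset.mem_insert_self _ _)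
      exact (fg_span_of_finite_away (he a ha) (hfin a ha)).sup
        (ih ((Finset.subset_insert _ _).trans hsub))
  have hspan : Ideal.span {1 - ∏ i ∈ s, (1 - e i)} = Ideal.span (e '' (s : Set ι)) := by
    apply le_antisymm
    · rw [Ideal.span_singleton_le_iff_mem]; exact h4 s
    · rw [Ideal.span_le]
      rintro _ ⟨i, hi, rfl⟩
      rw [SetLike.mem_coe, Ideal.mem_span_singleton']
      exact ⟨e i, h3 i hi⟩
  refine ⟨1 - ∏ i ∈ s, (1 - e i), ?_, ?_, h3, h4 s⟩
  · apply IsIdempotentElem.one_sub
    apply Finset.prod_induction _ IsIdempotentElem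
    · intro a b ha hb; exact ha.mul hb
    · exact IsIdempotentElem.one
    · intro i hi; exact (he i hi).one_sub
  · apply finite_quotient_of_fg_span
    rw [hspan]
    exact hfg s (Finset.Subset.refl _)


/-- A subset of a Noetherian space all of whose points are open in the ambient space is finite. -/
theorem finite_of_forall_isOpen_singleton {X : Type*} [TopologicalSpace X] [NoetherianSpace X]
    (T : Set X) (h : ∀ x ∈ T, IsOpen ({x} : Set X)) : T.Finite := by
  have hc : IsCompact T := NoetherianSpace.isCompact T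
  have : DiscreteTopology T := by
    rw [discreteTopology_iff_isOpen_singleton]
    intro x
    have : ({x} : Set T) = Subtype.val ⁻¹' ({x.1} : Set X) := by
      ext y; simp [Subtype.ext_iff]
    rw [this]
    exact (h x.1 x.2).preimage continuous_subtype_val
  exact hc.finite (isDiscrete_iff_discreteTopology.2 this)

theorem isOpen_singleton_fiber_of_quasiFiniteAt {R : Type*} {S : Type*} [CommRing R] [CommRing S]
    [Algebra R S] [Algebra.FiniteType R S] (p : PrimeSpectrum R) (q : PrimeSpectrum S)
    (hqp : q.comap (algebraMap R S) = p) [Algebra.QuasiFiniteAt R q.asIdeal] :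
    IsOpen (X := PrimeSpectrum.comap (algebraMap R S) ⁻¹' {p}) {⟨q, hqp⟩} := by
  subst hqp
  exact (Algebra.quasiFiniteAt_iff_isOpen_singleton_fiber q).1 inferInstance

theorem finite_quasiFiniteAt_primesOver {R : Type*} {S : Type*} [CommRing R] [CommRing S]
    [Algebra R S] [Algebra.FiniteType R S] (p : Ideal R) [p.IsPrime] :
    {q : Ideal S | ∃ (_ : q.IsPrime), q.LiesOver p ∧ Algebra.QuasiFiniteAt R q}.Finite := by
  let pp : PrimeSpectrum R := ⟨p, inferInstance⟩
  let X := PrimeSpectrum.comap (algebraMap R S) ⁻¹' {pp}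
  have : IsNoetherianRing (pp.asIdeal.Fiber S) :=
    Algebra.FiniteType.isNoetherianRing pp.asIdeal.ResidueField _
  have : NoetherianSpace X :=
    (noetherianSpace_iff_of_homeomorph (PrimeSpectrum.preimageHomeomorphFiber R S pp)).2
      inferInstance
  let T : Set X := {x | Algebra.QuasiFiniteAt R x.1.asIdeal}
  have hT : T.Finite := by
    apply finite_of_forall_isOpen_singleton
    intro x hx
    have : Algebra.QuasiFiniteAt R x.1.asIdeal := hx
    exact isOpen_singleton_fiber_of_quasiFiniteAt pp x.1 x.2
  refine (hT.image (fun x : X => x.1.asIdeal)).subset ?_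
  rintro q ⟨hq, hqp, hqf⟩
  refine ⟨⟨⟨q, hq⟩, ?_⟩, hqf, rfl⟩
  apply PrimeSpectrum.ext
  exact (hqp.over).symm


theorem quasiFiniteAt_of_quotient_idempotent {R : Type*} {S : Type*} [CommRing R] [CommRing S]
    [Algebra R S] {E : S} (hE : IsIdempotentElem E) (q' : Ideal (S ⧸ Ideal.span {E})) [q'.IsPrime]
    [Algebra.QuasiFiniteAt R q'] (Q : Ideal S) [Q.IsPrime]
    (hQ : Q = q'.comap (Ideal.Quotient.mk (Ideal.span {E}))) :
    Algebra.QuasiFiniteAt R Q := by
  let A := Localization.AtPrime Q
  have hmem : ∀ x : S, x ∈ Q ↔ Ideal.Quotient.mk (Ideal.span {E}) x ∈ q' := by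
    intro x; rw [hQ, Ideal.mem_comap]
  have hEQ : E ∈ Q := by
    rw [hmem, Ideal.Quotient.eq_zero_iff_mem.2 (Ideal.mem_span_singleton_self E)]
    exact q'.zero_mem
  have h1E : 1 - E ∈ Q.primeCompl := by
    intro h
    have : (1 : S) ∈ Q := by
      have := Q.add_mem h hEQ
      simpa using this
    exact (Ideal.IsPrime.ne_top inferInstance) ((Ideal.eq_top_iff_one _).2 this)
  have hE0 : algebraMap S A E = 0 := by
    have hu : IsUnit (algebraMap S A (1 - E)) :=
      IsLocalization.map_units (M := Q.primeCompl) A ⟨1 - E, h1E⟩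
    have : algebraMap S A (1 - E) * algebraMap S A E = 0 := by
      rw [← map_mul, sub_mul, one_mul, hE.eq, sub_self, map_zero]
    exact (hu.mul_right_eq_zero).1 this
  let g₁ : S ⧸ Ideal.span {E} →ₐ[R] A :=
    Ideal.Quotient.liftₐ (Ideal.span {E}) (IsScalarTower.toAlgHom R S A) (by
      intro x hx
      obtain ⟨c, rfl⟩ := Ideal.mem_span_singleton'.1 hx
      simp [hE0])
  have hg₁ : ∀ x : S, g₁ (Ideal.Quotient.mk _ x) = algebraMap S A x := fun x => rfl
  have hunits : ∀ y : q'.primeCompl, IsUnit (g₁ y) := by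
    rintro ⟨y, hy⟩
    obtain ⟨x, rfl⟩ := Ideal.Quotient.mk_surjective y
    rw [hg₁]
    refine IsLocalization.map_units (M := Q.primeCompl) A ⟨x, ?_⟩
    intro hx
    exact hy ((hmem x).1 hx)
  let g₂ : Localization.AtPrime q' →ₐ[R] A :=
    IsLocalization.liftAlgHom (M := q'.primeCompl) (f := g₁) hunits
  have hsurj : Function.Surjective g₂ := by
    intro a
    obtain ⟨x, s, rfl⟩ := IsLocalization.exists_mk'_eq Q.primeCompl a
    have hs : Ideal.Quotient.mk (Ideal.span {E}) s.1 ∈ q'.primeCompl := by
      intro h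
      exact s.2 ((hmem s.1).2 h)
    refine ⟨IsLocalization.mk' _ (Ideal.Quotient.mk (Ideal.span {E}) x) ⟨_, hs⟩, ?_⟩
    simp only [g₂, IsLocalization.liftAlgHom_apply, IsLocalization.lift_mk'_spec]
    change algebraMap S A x = algebraMap S A s.1 * IsLocalization.mk' A x s
    exact (IsLocalization.mk'_spec' A x s).symm
  exact Algebra.QuasiFinite.of_surjective_algHom g₂ hsurj


/-- A finite (or integral) algebra map between local rings is local. -/
theorem isLocalHom_of_isIntegral {R : Type*} {A : Type*} [CommRing R] [IsLocalRing R]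
    [CommRing A] [IsLocalRing A] [Algebra R A] [Algebra.IsIntegral R A] :
    IsLocalHom (algebraMap R A) := by
  have h := liesOver_maximalIdeal_of_isMaximal (R := R) (maximalIdeal A)
  refine ((IsLocalRing.local_hom_TFAE (algebraMap R A)).out 0 2).2 ?_
  rw [Ideal.map_le_iff_le_comap]
  exact h.over.le

/-- A finite unramified local algebra over a local ring with separably closed residue field is a
quotient. -/
theorem surjective_of_finite_unramified_of_isSepClosed {R : Type*} {A : Type*} [CommRing R]
    [IsLocalRing R] [IsSepClosed (ResidueField R)] [CommRing A] [IsLocalRing A] [Algebra R A]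
    [Module.Finite R A] [Algebra.FormallyUnramified R A] :
    Function.Surjective (algebraMap R A) := by
  have : IsLocalHom (algebraMap R A) := isLocalHom_of_isIntegral
  have hmap : (maximalIdeal R).map (algebraMap R A) = maximalIdeal A :=
    Algebra.FormallyUnramified.map_maximalIdeal
  have hres : Function.Surjective (algebraMap (ResidueField R) (ResidueField A)) :=
    IsSepClosed.algebraMap_surjective _ _
  let N : Submodule R A := LinearMap.range (Algebra.linearMap R A)
  have hle : (⊤ : Submodule R A) ≤ N ⊔ maximalIdeal R • ⊤ := by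
    rintro a -
    obtain ⟨r, hr⟩ := hres (residue A a)
    obtain ⟨r, rfl⟩ := residue_surjective r
    have h1 : residue A (a - algebraMap R A r) = 0 := by
      rw [map_sub, ← hr]
      simp
    rw [residue_eq_zero_iff, ← hmap] at h1
    have h2 : a - algebraMap R A r ∈ maximalIdeal R • (⊤ : Submodule R A) := by
      rw [Ideal.smul_top_eq_map]; exact h1
    have : a = algebraMap R A r + (a - algebraMap R A r) := by ring
    rw [this]
    exact Submodule.add_mem_sup ⟨r, rfl⟩ h2
  have hfg : (⊤ : Submodule R A).FG := Module.Finite.fg_top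
  have := Submodule.le_of_le_smul_of_le_jacobson_bot hfg
    (IsLocalRing.maximalIdeal_le_jacobson (⊥ : Ideal R)) hle
  intro a
  obtain ⟨r, hr⟩ := this (Submodule.mem_top : a ∈ ⊤)
  exact ⟨r, hr⟩


section
open Polynomial


/-- A `K`-algebra map from a finite power of `K` to a field extension of `K` has image `K`. -/
theorem mem_range_of_algHom_pi {K : Type*} [Field K] {I : Type*} [Finite I] {L : Type*} [Field L]
    [Algebra K L] (G : (I → K) →ₐ[K] L) (x : I → K) : G x ∈ Set.range (algebraMap K L) := by
  classical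
  have := Fintype.ofFinite I
  let q : K[X] := ∏ i, (X - C (x i))
  have h0 : aeval x q = 0 := by
    ext j
    have : (aeval x q) j = aeval (x j) q :=
      (Polynomial.aeval_algHom_apply (Pi.evalAlgHom K (fun _ : I => K) j) x q).symm
    rw [this, Pi.zero_apply]
    simp only [q, map_prod, map_sub, aeval_X, aeval_C]
    exact Finset.prod_eq_zero (Finset.mem_univ j) (by simp)
  have h1 : aeval (G x) q = 0 := by
    rw [Polynomial.aeval_algHom_apply, h0, map_zero]
  simp only [q, map_prod, map_sub, aeval_X, aeval_C] at h1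
  rw [Finset.prod_eq_zero_iff] at h1
  obtain ⟨i, -, hi⟩ := h1
  exact ⟨x i, (sub_eq_zero.1 hi).symm⟩



theorem residue_mem_range_of_etale {R : Type u} [CommRing R] [IsLocalRing R]
    [IsSepClosed (ResidueField R)]
    {B : Type u} [CommRing B] [Algebra R B] [Algebra.Etale R B]
    {S : Type*} [CommRing S] [IsLocalRing S] [Algebra R S] [IsLocalHom (algebraMap R S)]
    (g : B →ₐ[R] S) (b : B) :
    residue S (g b) ∈ Set.range (algebraMap (ResidueField R) (ResidueField S)) := by
  let k := ResidueField R
  let B' := k ⊗[R] B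
  have : Module.Finite k B' := Algebra.FormallyUnramified.finite_of_free k B'
  have : IsArtinianRing B' := isArtinian_of_tower k inferInstance
  let e : B' ≃ₐ[k] (PrimeSpectrum B' → k) := Algebra.FormallyEtale.equivPiOfIsSepClosed k B'
  let g' : B →ₐ[R] ResidueField S := (IsScalarTower.toAlgHom R S (ResidueField S)).comp g
  let G₀ : B' →ₐ[k] ResidueField S :=
    Algebra.TensorProduct.lift (Algebra.ofId k (ResidueField S)) g' (fun _ _ => Commute.all _ _)
  let G : (PrimeSpectrum B' → k) →ₐ[k] ResidueField S := G₀.comp e.symm.toAlgHom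
  have := mem_range_of_algHom_pi G (e (1 ⊗ₜ b))
  have h2 : G (e (1 ⊗ₜ b)) = residue S (g b) := by
    have h3 : (e.symm.toAlgHom) (e (1 ⊗ₜ b)) = 1 ⊗ₜ b := e.symm_apply_apply _
    have h4 : G₀ ((1 : k) ⊗ₜ[R] b) = Algebra.ofId k (ResidueField S) 1 * g' b :=
      Algebra.TensorProduct.lift_tmul _ _ _ _ _
    simp only [G, AlgHom.comp_apply, h3, h4, map_one, one_mul]
    rfl
  rwa [h2] at this



/-- Over a strictly henselian local ring `R`, every `R`-algebra map from an étale algebra to a local
`R`-algebra `S` (with local structure map) factors through `R`. -/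
theorem exists_algHom_comp_eq_of_isSepClosed {R : Type u} [CommRing R] [HenselianLocalRing R]
    [IsSepClosed (ResidueField R)]
    {B : Type u} [CommRing B] [Algebra R B] [Algebra.Etale R B]
    {S : Type*} [CommRing S] [IsLocalRing S] [Algebra R S] [IsLocalHom (algebraMap R S)]
    (g : B →ₐ[R] S) : ∃ t : B →ₐ[R] R, (Algebra.ofId R S).comp t = g := by
  let κ : ResidueField R →ₐ[R] ResidueField S := IsScalarTower.toAlgHom R _ _
  have hinj : Function.Injective κ := (algebraMap (ResidueField R) (ResidueField S)).injective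
  let g' : B →ₐ[R] ResidueField S := (IsScalarTower.toAlgHom R S (ResidueField S)).comp g
  have hg' : ∀ b, g' b ∈ κ.range := by
    intro b
    obtain ⟨x, hx⟩ := residue_mem_range_of_etale g b
    exact ⟨x, hx⟩
  let Ψ : B →ₐ[R] ResidueField R :=
    ((AlgEquiv.ofInjective κ hinj).symm : κ.range →ₐ[R] ResidueField R).comp
      (g'.codRestrict κ.range hg')
  have hΨ : ∀ b, κ (Ψ b) = g' b := by
    intro b
    have := (AlgEquiv.ofInjective κ hinj).apply_symm_apply (g'.codRestrict κ.range hg' b)
    exact congrArg Subtype.val this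
  obtain ⟨t, ht⟩ := exists_lift_of_etale Ψ
  refine ⟨t, ?_⟩
  apply algHom_ext_of_residue_eq
  intro b
  have h1 : residue S ((Algebra.ofId R S).comp t b) = κ (residue R (t b)) := rfl
  rw [h1, ht, hΨ]
  rfl

end

/-- Lifting of maps from an étale algebra to the residue field of a henselian local algebra. -/
theorem exists_lift_of_etale_of_algebra {R : Type u} [CommRing R]
    {T : Type u} [CommRing T] [HenselianLocalRing T] [Algebra R T]
    {A : Type u} [CommRing A] [Algebra R A] [Algebra.Etale R A]
    (ψ₀ : A →ₐ[R] ResidueField T) :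
    ∃ φ : A →ₐ[R] T, ∀ a, residue T (φ a) = ψ₀ a := by
  let Ψ : T ⊗[R] A →ₐ[T] ResidueField T :=
    Algebra.TensorProduct.lift (Algebra.ofId T (ResidueField T)) ψ₀ (fun _ _ => Commute.all _ _)
  obtain ⟨t, ht⟩ := exists_lift_of_etale Ψ
  refine ⟨(t.restrictScalars R).comp Algebra.TensorProduct.includeRight, fun a => ?_⟩
  have := ht (1 ⊗ₜ a)
  simpa [Ψ] using this

/-- Two maps from an unramified algebra which agree modulo an ideal contained in the Jacobson
radical are equal. -/
theorem algHom_ext_of_sub_mem_jacobson {R : Type*} [CommRing R] {A : Type*} [CommRing A]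
    [Algebra R A] [Algebra.EssFiniteType R A] [Algebra.FormallyUnramified R A]
    {S : Type*} [CommRing S] [Algebra R S] (f₁ f₂ : A →ₐ[R] S)
    (h : ∀ a, f₁ a - f₂ a ∈ Ideal.jacobson (⊥ : Ideal S)) : f₁ = f₂ := by
  set J := Ideal.jacobson (⊥ : Ideal S) with hJ
  obtain ⟨e, he, hsp⟩ : ∃ e, IsIdempotentElem e ∧ KaehlerDifferential.ideal R A = A ⊗[R] A ∙ e :=
    (Ideal.isIdempotentElem_iff_of_fg _ (KaehlerDifferential.ideal_fg R A)).mp <|
      (Ideal.cotangent_subsingleton_iff _).mp <| inferInstanceAs <| Subsingleton Ω[A⁄R]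
  let F : A ⊗[R] A →ₐ[R] S := Algebra.TensorProduct.lift f₁ f₂ fun _ _ => Commute.all _ _
  have hF : ∀ a b, F (a ⊗ₜ b) = f₁ a * f₂ b := fun a b => by simp [F]
  have hemem : e ∈ KaehlerDifferential.ideal R A := by
    rw [hsp]; exact Ideal.mem_span_singleton_self e
  have hG : ∀ x : A ⊗[R] A, F x - f₁ (Algebra.TensorProduct.lmul' R x) ∈ J := by
    intro x
    induction x with
    | zero => simp
    | tmul a b =>
      rw [hF, Algebra.TensorProduct.lmul'_apply_tmul, map_mul, ← mul_sub]
      have := h b
      have h2 : f₂ b - f₁ b ∈ J := by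
        have := J.neg_mem this
        simpa using this
      exact J.mul_mem_left _ h2
    | add x y hx hy =>
      have : F (x + y) - f₁ (Algebra.TensorProduct.lmul' R (x + y)) =
          (F x - f₁ (Algebra.TensorProduct.lmul' R x)) +
            (F y - f₁ (Algebra.TensorProduct.lmul' R y)) := by
        simp only [map_add]; ring
      rw [this]
      exact J.add_mem hx hy
  have hres : F e ∈ J := by
    have := hG e
    rwa [(RingHom.mem_ker).1 hemem, map_zero, sub_zero] at this
  have hFe_idem : IsIdempotentElem (F e) := he.map F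
  have hFe : F e = 0 := by
    have hu : IsUnit (F e * (-1) + 1) := Ideal.mem_jacobson_bot.1 hres (-1)
    exact hu.mul_left_eq_zero.1 (by
      have := hFe_idem.eq
      linear_combination (-1 : S) * this)
  ext a
  have hmem : (1 : A) ⊗ₜ[R] a - a ⊗ₜ[R] (1 : A) ∈ A ⊗[R] A ∙ e := by
    rw [← hsp]; exact KaehlerDifferential.one_smul_sub_smul_one_mem_ideal R a
  obtain ⟨c, hc⟩ := Ideal.mem_span_singleton'.1 hmem
  have : F ((1 : A) ⊗ₜ[R] a - a ⊗ₜ[R] (1 : A)) = 0 := by
    rw [← hc, map_mul, hFe, mul_zero]
  rw [map_sub, hF, hF, map_one, map_one, one_mul, mul_one, sub_eq_zero] at this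
  exact this.symm

/-- In a finite algebra over a local ring, the extension of the maximal ideal lies in the Jacobson
radical. -/
theorem map_maximalIdeal_le_jacobson {R : Type*} [CommRing R] [IsLocalRing R]
    {S : Type*} [CommRing S] [Algebra R S] [Algebra.IsIntegral R S] :
    (maximalIdeal R).map (algebraMap R S) ≤ Ideal.jacobson (⊥ : Ideal S) := by
  rw [Ideal.jacobson, le_sInf_iff]
  rintro M ⟨-, hM⟩
  have := liesOver_maximalIdeal_of_isMaximal (R := R) M
  rw [Ideal.map_le_iff_le_comap]
  exact this.over.le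

/-- `1 ⊗ x = 0` in `κ ⊗ S` for `x ∈ mS`. -/
theorem one_tmul_eq_zero_of_mem_map {R : Type*} [CommRing R] [IsLocalRing R]
    {S : Type*} [CommRing S] [Algebra R S] (x : S)
    (hx : x ∈ (maximalIdeal R).map (algebraMap R S)) :
    (1 : ResidueField R) ⊗ₜ[R] x = 0 := by
  rw [Ideal.map, ← Ideal.submodule_span_eq] at hx
  induction hx using Submodule.span_induction with
  | mem x hx =>
    obtain ⟨r, hr, rfl⟩ := hx
    rw [Algebra.algebraMap_eq_smul_one, ← TensorProduct.smul_tmul, Algebra.smul_def, mul_one]
    have : algebraMap R (ResidueField R) r = 0 := by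
      rw [ResidueField.algebraMap_eq, residue_eq_zero_iff]; exact hr
    rw [this, TensorProduct.zero_tmul]
  | zero => simp
  | add x y _ _ hx hy => rw [TensorProduct.tmul_add, hx, hy, add_zero]
  | smul a x _ hx =>
    rw [smul_eq_mul]
    have : (1 : ResidueField R) ⊗ₜ[R] (a * x) =
        ((1 : ResidueField R) ⊗ₜ[R] a) * ((1 : ResidueField R) ⊗ₜ[R] x) := by
      rw [Algebra.TensorProduct.tmul_mul_tmul, one_mul]
    rw [this, hx, mul_zero]


section
open Polynomial

/-- If all coefficients of `D` lie in the maximal ideal then `D(root)` lies in `m · R[X]/(P)`. -/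
theorem mk_mem_map_of_coeff_mem {R : Type*} [CommRing R] (I : Ideal R) (P D : R[X])
    (hD : ∀ k, D.coeff k ∈ I) :
    AdjoinRoot.mk P D ∈ I.map (algebraMap R (AdjoinRoot P)) := by
  rw [← Polynomial.sum_monomial_eq D, Polynomial.sum, map_sum]
  refine Ideal.sum_mem _ (fun k _ => ?_)
  rw [← Polynomial.C_mul_X_pow_eq_monomial, map_mul]
  apply Ideal.mul_mem_right
  rw [AdjoinRoot.mk_C]
  exact Ideal.mem_map_of_mem _ (hD k)

theorem isUnit_mk_derivative_of_separable {R : Type*} [CommRing R] [IsLocalRing R] (P : R[X])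
    (hP : P.Monic) (hsep : (P.map (residue R)).Separable) :
    IsUnit (AdjoinRoot.mk P (derivative P)) := by
  obtain ⟨a, b, hab⟩ := hsep
  obtain ⟨a', rfl⟩ := Polynomial.map_surjective (residue R) residue_surjective a
  obtain ⟨b', rfl⟩ := Polynomial.map_surjective (residue R) residue_surjective b
  set D : R[X] := a' * P + b' * derivative P - 1 with hD
  have hDmap : D.map (residue R) = 0 := by
    rw [hD, Polynomial.map_sub, Polynomial.map_add, Polynomial.map_mul, Polynomial.map_mul,
      Polynomial.map_one, ← Polynomial.derivative_map, hab, sub_self]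
  have hDcoeff : ∀ k, D.coeff k ∈ maximalIdeal R := by
    intro k
    have := congrArg (fun q => q.coeff k) hDmap
    simp only [Polynomial.coeff_map, Polynomial.coeff_zero] at this
    exact (residue_eq_zero_iff _).1 this
  have h1 := mk_mem_map_of_coeff_mem (maximalIdeal R) P D hDcoeff
  have : Module.Finite R (AdjoinRoot P) := hP.finite_adjoinRoot
  have h2 : AdjoinRoot.mk P D ∈ Ideal.jacobson (⊥ : Ideal (AdjoinRoot P)) :=
    map_maximalIdeal_le_jacobson (R := R) h1
  have h3 : IsUnit (AdjoinRoot.mk P D * 1 + 1) := Ideal.mem_jacobson_bot.1 h2 1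
  have h4 : AdjoinRoot.mk P D * 1 + 1 = AdjoinRoot.mk P b' * AdjoinRoot.mk P (derivative P) := by
    rw [hD, mul_one, map_sub, map_add, map_mul, map_mul, AdjoinRoot.mk_self, mul_zero, zero_add,
      map_one, sub_add_cancel]
  rw [h4] at h3
  exact isUnit_of_mul_isUnit_right h3

theorem etale_adjoinRoot_of_separable {R : Type*} [CommRing R] [IsLocalRing R] (P : R[X])
    (hP : P.Monic) (hsep : (P.map (residue R)).Separable) :
    Algebra.Etale R (AdjoinRoot P) := by
  obtain ⟨v, hv⟩ := (isUnit_mk_derivative_of_separable P hP hsep).exists_right_inv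
  obtain ⟨p₁, rfl⟩ := AdjoinRoot.mk_surjective v
  have hcond : ∃ p₁ p₂ n, derivative P * p₁ + P * p₂ = (1 : R[X]) ^ n := by
    rw [← map_mul, ← map_one (AdjoinRoot.mk P), AdjoinRoot.mk_eq_mk] at hv
    obtain ⟨c, hc⟩ := hv
    exact ⟨p₁, -c, 0, by rw [pow_zero]; linear_combination hc⟩
  let Pr : StandardEtalePair R := ⟨P, hP, 1, hcond⟩
  have e1 : Pr.Ring ≃ₐ[R] Localization.Away (AdjoinRoot.mk P (1 : R[X])) := Pr.equivAwayAdjoinRoot
  have : IsLocalization.Away (1 : AdjoinRoot P) (Localization.Away (AdjoinRoot.mk P (1 : R[X]))) := by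
    rw [map_one]; infer_instance
  have e2 : AdjoinRoot P ≃ₐ[R] Localization.Away (AdjoinRoot.mk P (1 : R[X])) :=
    (IsLocalization.atOne (AdjoinRoot P) _).restrictScalars R
  exact Algebra.Etale.of_equiv (e1.trans e2.symm)

end

section
open Polynomial

/-- Base change of `R[X]/(P)` to the residue field. -/
noncomputable def adjoinRootResidueEquiv {R : Type*} [CommRing R] [IsLocalRing R] (P : R[X]) :
    ResidueField R ⊗[R] AdjoinRoot P ≃ₐ[ResidueField R] AdjoinRoot (P.map (residue R)) := by
  let e₁ := AdjoinRoot.tensorAlgEquiv (R := R) (S := R) (T := ResidueField R) P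
    (P.map (Algebra.TensorProduct.includeRight : R →ₐ[R] ResidueField R ⊗[R] R).toRingHom) rfl
  let f : ResidueField R ⊗[R] R ≃ₐ[ResidueField R] ResidueField R :=
    Algebra.TensorProduct.rid R (ResidueField R) (ResidueField R)
  refine e₁.trans (AdjoinRoot.mapAlgEquiv f _ _ (Associated.of_eq ?_))
  rw [Polynomial.map_map]
  congr 1
  ext r
  simp [f, Algebra.smul_def]

end

end Groth.Agent.Lib.Helper9
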