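import Mathlib

/-!
# Lifting finite residue field extensions of a valuation ring

For a valuation ring `V`, a field `F` over `V` (with `V → F` local) and finitely many elements
`θ i` of `F` integral over `V`, we construct a finite `V`-algebra `W`, a domain all of whose nonzero
elements are of the form `r * unit` with `r ∈ V`, with a local homomorphism `W → F` and generators
`z i` of `W` mapping to `θ i`.
-/

universe u

set_option linter.unusedSectionVars false

namespace Groth.Agent.Lib.Helper9.AdmTower

open IsLocalRing Polynomial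

/-- in a valuation ring, a nonzero finite family has a member dividing all the others. -/
theorem exists_dvd_all {V : Type*} [CommRing V] [IsDomain V] [ValuationRing V] {ι : Type*}
    (s : Finset ι) (hs : s.Nonempty) (a : ι → V) : ∃ j ∈ s, ∀ i ∈ s, a j ∣ a i := by
  classical
  induction hs using Finset.Nonempty.cons_induction with
  | singleton x => exact ⟨x, Finset.mem_singleton_self x, fun i hi => by
      rw [Finset.mem_singleton] at hi; rw [hi]⟩
  | cons x s hx hs ih =>
    obtain ⟨j, hj, hjs⟩ := ih
    rcases ValuationRing.dvd_total (a x) (a j) with h | h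
    · refine ⟨x, Finset.mem_cons_self x s, fun i hi => ?_⟩
      rw [Finset.mem_cons] at hi
      rcases hi with rfl | hi
      · exact dvd_rfl
      · exact h.trans (hjs i hi)
    · refine ⟨j, Finset.mem_cons.2 (Or.inr hj), fun i hi => ?_⟩
      rw [Finset.mem_cons] at hi
      rcases hi with rfl | hi
      · exact h
      · exact hjs i hi

section simple

variable (V : Type u) [CommRing V] [IsDomain V] [ValuationRing V]
  (F : Type u) [Field F] [Algebra V F] [IsLocalHom (algebraMap V F)]

theorem algebraMap_eq_zero_iff (v : V) : algebraMap V F v = 0 ↔ v ∈ maximalIdeal V := by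
  constructor
  · intro h
    rw [mem_maximalIdeal, mem_nonunits_iff]
    intro hu
    have := hu.map (algebraMap V F)
    rw [h] at this
    exact not_isUnit_zero this
  · intro h
    by_contra h0
    have hu : IsUnit (algebraMap V F v) := IsUnit.mk0 _ h0
    exact (mem_maximalIdeal _).1 h (IsLocalHom.map_nonunit v hu)

theorem simple_step (θ : F) (hθ : IsIntegral V θ) :
    ∃ (W : Type u) (_ : CommRing W) (_ : IsDomain W) (_ : ValuationRing W) (_ : Algebra V W)
      (_ : Algebra W F) (_ : IsScalarTower V W F) (_ : IsLocalHom (algebraMap W F)),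
      Module.Finite V W ∧ Function.Injective (algebraMap V W) ∧
      (∀ w : W, w ≠ 0 → ∃ (r : V) (u : Wˣ), w = algebraMap V W r * u) ∧
      ∃ z : W, algebraMap W F z = θ ∧ Algebra.adjoin V {z} = ⊤ := by
  classical
  letI : Algebra (ResidueField V) F := (ResidueField.lift (algebraMap V F)).toAlgebra
  haveI : IsScalarTower V (ResidueField V) F :=
    IsScalarTower.of_algebraMap_eq (fun x => by
      change _ = ResidueField.lift (algebraMap V F) (residue V x)
      rw [ResidueField.lift_residue_apply])
  have hθκ : IsIntegral (ResidueField V) θ := hθ.tower_top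
  set gb := minpoly (ResidueField V) θ with hgb
  have hgbm : gb.Monic := minpoly.monic hθκ
  have hl : gb ∈ lifts (residue V) := by
    rw [lifts_iff_coeff_lifts]
    intro i
    obtain ⟨c, hc⟩ := residue_surjective (gb.coeff i)
    exact ⟨c, hc⟩
  obtain ⟨G, hGmap, hGdeg, hG⟩ := lifts_and_degree_eq_and_monic hl hgbm
  have hGnat : G.natDegree = gb.natDegree := natDegree_eq_of_degree_eq hGdeg
  have hev : G.eval₂ (algebraMap V F) θ = 0 := by
    rw [IsScalarTower.algebraMap_eq V (ResidueField V) F, ← eval₂_map]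
    change eval₂ (algebraMap (ResidueField V) F) θ (G.map (residue V)) = 0
    rw [hGmap, ← aeval_def, minpoly.aeval]
  let π : AdjoinRoot G →+* F := AdjoinRoot.lift (algebraMap V F) θ hev
  letI : Algebra (AdjoinRoot G) F := π.toAlgebra
  haveI : IsScalarTower V (AdjoinRoot G) F :=
    IsScalarTower.of_algebraMap_eq (fun x => (AdjoinRoot.lift_of hev).symm)
  haveI hfin : Module.Finite V (AdjoinRoot G) := hG.finite_adjoinRoot
  have hinj : Function.Injective (algebraMap V (AdjoinRoot G)) := by
    apply AdjoinRoot.of.injective_of_degree_ne_zero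
    rw [hGdeg]
    exact (minpoly.degree_pos hθκ).ne'
  set pb := AdjoinRoot.powerBasis' hG with hpb
  have hdim : pb.dim = G.natDegree := rfl
  -- coordinates
  have hrepr : ∀ w : AdjoinRoot G, w = ∑ i : Fin G.natDegree,
      algebraMap V (AdjoinRoot G) (pb.basis.repr w i) * AdjoinRoot.root G ^ (i : ℕ) := by
    intro w
    conv_lhs => rw [← pb.basis.sum_repr w]
    apply Finset.sum_congr rfl
    intro i _
    rw [pb.basis_eq_pow, Algebra.smul_def]
    rfl
  have hπsum : ∀ a : Fin G.natDegree → V,
      π (∑ i, algebraMap V (AdjoinRoot G) (a i) * AdjoinRoot.root G ^ (i : ℕ)) =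
        aeval θ (∑ i : Fin G.natDegree, C (residue V (a i)) * X ^ (i : ℕ)) := by
    intro a
    rw [map_sum, map_sum]
    apply Finset.sum_congr rfl
    intro i _
    rw [map_mul, map_pow, map_mul, map_pow, aeval_X, aeval_C]
    congr 1
    · change π (AdjoinRoot.of G (a i)) = _
      rw [AdjoinRoot.lift_of, IsScalarTower.algebraMap_apply V (ResidueField V) F]
      rfl
    · rw [AdjoinRoot.lift_root]
  -- L1
  have L1 : ∀ a : Fin G.natDegree → V,
      π (∑ i, algebraMap V (AdjoinRoot G) (a i) * AdjoinRoot.root G ^ (i : ℕ)) = 0 →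
      ∀ i, a i ∈ maximalIdeal V := by
    intro a ha i
    rw [hπsum] at ha
    set q : (ResidueField V)[X] := ∑ i : Fin G.natDegree, C (residue V (a i)) * X ^ (i : ℕ)
      with hq
    have hqdeg : q.degree < G.natDegree := degree_sum_fin_lt _
    have hq0 : q = 0 := by
      by_contra hne
      have := minpoly.degree_le_of_ne_zero (ResidueField V) θ hne ha
      rw [← hgb, ← hGdeg, degree_eq_natDegree hG.ne_zero] at this
      exact absurd (lt_of_le_of_lt this hqdeg) (lt_irrefl _)
    have hci : q.coeff i = residue V (a i) := by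
      rw [hq, finset_sum_coeff]
      rw [Finset.sum_eq_single i]
      · rw [coeff_C_mul, coeff_X_pow, if_pos rfl, mul_one]
      · intro j _ hj
        rw [coeff_C_mul, coeff_X_pow, if_neg, mul_zero]
        intro h
        exact hj (Fin.ext h.symm)
      · intro h; exact absurd (Finset.mem_univ i) h
    rw [hq0, coeff_zero] at hci
    exact (residue_eq_zero_iff _).1 hci.symm
  -- the kernel of π is maximal and contained in every maximal ideal
  haveI : Algebra.IsIntegral V (AdjoinRoot G) := Algebra.IsIntegral.of_finite V _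
  have hkerV : (RingHom.ker π).comap (algebraMap V (AdjoinRoot G)) = maximalIdeal V := by
    ext v
    rw [Ideal.mem_comap, RingHom.mem_ker, ← algebraMap_eq_zero_iff V F]
    change algebraMap (AdjoinRoot G) F (algebraMap V (AdjoinRoot G) v) = 0 ↔ _
    rw [← IsScalarTower.algebraMap_apply]
  haveI hkerprime : (RingHom.ker π).IsPrime := RingHom.ker_isPrime π
  have hkermax : (RingHom.ker π).IsMaximal :=
    Ideal.isMaximal_of_isIntegral_of_isMaximal_comap (R := V) _ (by
      rw [hkerV]; infer_instance)
  have hkerle : ∀ 𝔫 : Ideal (AdjoinRoot G), 𝔫.IsMaximal → RingHom.ker π ≤ 𝔫 := by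
    intro 𝔫 h𝔫 x hx
    haveI := h𝔫
    have h1 : (𝔫.comap (algebraMap V (AdjoinRoot G))).IsMaximal :=
      Ideal.isMaximal_comap_of_isIntegral_of_isMaximal 𝔫
    have h2 : 𝔫.comap (algebraMap V (AdjoinRoot G)) = maximalIdeal V :=
      IsLocalRing.eq_maximalIdeal h1
    rw [RingHom.mem_ker, hrepr x] at hx
    have h3 := L1 _ hx
    rw [hrepr x]
    refine 𝔫.sum_mem (fun i _ => 𝔫.mul_mem_right _ ?_)
    have := h3 i
    rw [← h2] at this
    exact this
  -- L2
  have L2 : ∀ x : AdjoinRoot G, π x ≠ 0 → IsUnit x := by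
    intro x hx
    by_contra hnu
    obtain ⟨𝔫, h𝔫, hx𝔫⟩ := exists_max_ideal_of_mem_nonunits (mem_nonunits_iff.2 hnu)
    have h1 : RingHom.ker π = 𝔫 := hkermax.eq_of_le h𝔫.ne_top (hkerle 𝔫 h𝔫)
    rw [← h1, RingHom.mem_ker] at hx𝔫
    exact hx hx𝔫
  -- every nonzero element is `r * unit`
  have hru : ∀ w : AdjoinRoot G, w ≠ 0 →
      ∃ (r : V) (u : (AdjoinRoot G)ˣ), w = algebraMap V (AdjoinRoot G) r * u := by
    intro w hw
    set a : Fin G.natDegree → V := fun i => pb.basis.repr w i with ha
    have hne : (Finset.univ : Finset (Fin G.natDegree)).Nonempty := by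
      rw [Finset.univ_nonempty_iff]
      by_contra hemp
      rw [not_nonempty_iff] at hemp
      apply hw
      rw [hrepr w]
      exact Finset.sum_of_isEmpty _
    obtain ⟨j, -, hj⟩ := exists_dvd_all Finset.univ hne a
    have haj0 : a j ≠ 0 := by
      intro h0
      apply hw
      rw [hrepr w]
      apply Finset.sum_eq_zero
      intro i _
      have := hj i (Finset.mem_univ i)
      rw [h0, zero_dvd_iff] at this
      change algebraMap V (AdjoinRoot G) (a i) * _ = 0
      rw [this, map_zero, zero_mul]
    choose b hb using fun i => hj i (Finset.mem_univ i)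
    have hbj : b j = 1 := by
      have := hb j
      have h2 : a j * 1 = a j * b j := by rw [mul_one]; exact this
      exact (mul_left_cancel₀ haj0 h2).symm
    set w' : AdjoinRoot G :=
      ∑ i, algebraMap V (AdjoinRoot G) (b i) * AdjoinRoot.root G ^ (i : ℕ) with hw'
    have hww' : w = algebraMap V (AdjoinRoot G) (a j) * w' := by
      rw [hw', Finset.mul_sum]
      conv_lhs => rw [hrepr w]
      apply Finset.sum_congr rfl
      intro i _
      change algebraMap V (AdjoinRoot G) (a i) * _ = _
      rw [hb i, map_mul, mul_assoc]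
    have hw'u : IsUnit w' := by
      apply L2
      intro h0
      have := L1 b h0 j
      rw [hbj] at this
      exact (mem_maximalIdeal _).1 this isUnit_one
    exact ⟨a j, hw'u.unit, by rw [hww']; rfl⟩
  -- domain and valuation ring
  haveI : Nontrivial (AdjoinRoot G) := π.domain_nontrivial
  haveI hdom : IsDomain (AdjoinRoot G) := by
    haveI : NoZeroDivisors (AdjoinRoot G) := by
      constructor
      intro x y hxy
      by_contra hcon
      push Not at hcon
      obtain ⟨r, u, hr⟩ := hru x hcon.1
      obtain ⟨s, v, hs⟩ := hru y hcon.2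
      have h1 : algebraMap V (AdjoinRoot G) (r * s) * ((u * v : (AdjoinRoot G)ˣ) : AdjoinRoot G) =
          0 := by
        rw [map_mul, Units.val_mul, ← hxy, hr, hs]; ring
      have h2 : algebraMap V (AdjoinRoot G) (r * s) = 0 :=
        (Units.mul_left_eq_zero _).1 h1
      have h3 : r * s = 0 := hinj (by rw [h2, map_zero])
      rcases mul_eq_zero.1 h3 with h | h
      · exact hcon.1 (by rw [hr, h, map_zero, zero_mul])
      · exact hcon.2 (by rw [hs, h, map_zero, zero_mul])
    exact NoZeroDivisors.to_isDomain _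
  haveI hval : ValuationRing (AdjoinRoot G) := by
    rw [ValuationRing.iff_dvd_total]
    constructor
    intro x y
    by_cases hx : x = 0
    · right; rw [hx]; exact dvd_zero _
    by_cases hy : y = 0
    · left; rw [hy]; exact dvd_zero _
    obtain ⟨r, u, hr⟩ := hru x hx
    obtain ⟨s, v, hs⟩ := hru y hy
    rcases ValuationRing.dvd_total r s with ⟨c, hc⟩ | ⟨c, hc⟩
    · left
      refine ⟨algebraMap V (AdjoinRoot G) c * ((u⁻¹ * v : (AdjoinRoot G)ˣ) : AdjoinRoot G), ?_⟩
      rw [hs, hr, hc, map_mul, Units.val_mul]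
      have : (u : AdjoinRoot G) * ((u⁻¹ : (AdjoinRoot G)ˣ) : AdjoinRoot G) = 1 := u.mul_inv
      linear_combination (-(algebraMap V (AdjoinRoot G) r * algebraMap V (AdjoinRoot G) c *
        (v : AdjoinRoot G))) * this
    · right
      refine ⟨algebraMap V (AdjoinRoot G) c * ((v⁻¹ * u : (AdjoinRoot G)ˣ) : AdjoinRoot G), ?_⟩
      rw [hs, hr, hc, map_mul, Units.val_mul]
      have : (v : AdjoinRoot G) * ((v⁻¹ : (AdjoinRoot G)ˣ) : AdjoinRoot G) = 1 := v.mul_inv
      linear_combination (-(algebraMap V (AdjoinRoot G) s * algebraMap V (AdjoinRoot G) c *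
        (u : AdjoinRoot G))) * this
  haveI hloc : IsLocalHom (algebraMap (AdjoinRoot G) F) :=
    ⟨fun x hx => L2 x hx.ne_zero⟩
  exact ⟨AdjoinRoot G, inferInstance, hdom, hval, inferInstance, inferInstance, inferInstance,
    hloc, hfin, hinj, hru, AdjoinRoot.root G, AdjoinRoot.lift_root hev,
    AdjoinRoot.adjoinRoot_eq_top⟩

theorem tower (n : ℕ) : ∀ (V : Type u) [CommRing V] [IsDomain V] [ValuationRing V]
    (F : Type u) [Field F] [Algebra V F] [IsLocalHom (algebraMap V F)] (θ : Fin n → F)
    (_ : ∀ i, IsIntegral V (θ i)),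
    ∃ (W : Type u) (_ : CommRing W) (_ : IsDomain W) (_ : ValuationRing W) (_ : Algebra V W)
      (_ : Algebra W F) (_ : IsScalarTower V W F) (_ : IsLocalHom (algebraMap W F)),
      Module.Finite V W ∧ Function.Injective (algebraMap V W) ∧
      (∀ w : W, w ≠ 0 → ∃ (r : V) (u : Wˣ), w = algebraMap V W r * u) ∧
      ∃ z : Fin n → W, (∀ i, algebraMap W F (z i) = θ i) ∧
        Algebra.adjoin V (Set.range z) = ⊤ := by
  induction n with
  | zero =>
    intro V _ _ _ F _ _ _ θ hθ
    refine ⟨V, inferInstance, inferInstance, inferInstance, inferInstance, inferInstance,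
      inferInstance, inferInstance, inferInstance, fun x y h => h, ?_, Fin.elim0,
      fun i => i.elim0, Subsingleton.elim _ _⟩
    intro w _
    exact ⟨w, 1, by simp⟩
  | succ n ih =>
    intro V _ _ _ F _ _ _ θ hθ
    obtain ⟨W₁, i1, i2, i3, i4, i5, i6, i7, hfin₁, hinj₁, hru₁, z₁, hz₁, hadj₁⟩ :=
      simple_step V F (θ 0) (hθ 0)
    obtain ⟨W₂, j1, j2, j3, j4, j5, j6, j7, hfin₂, hinj₂, hru₂, z₂, hz₂, hadj₂⟩ :=
      ih W₁ F (Fin.tail θ) (fun i => (hθ i.succ).tower_top)
    letI : Algebra V W₂ := ((algebraMap W₁ W₂).comp (algebraMap V W₁)).toAlgebra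
    haveI t1 : IsScalarTower V W₁ W₂ := IsScalarTower.of_algebraMap_eq (fun _ => rfl)
    haveI t2 : IsScalarTower V W₂ F := IsScalarTower.of_algebraMap_eq (fun v => by
      change algebraMap V F v = algebraMap W₂ F (algebraMap W₁ W₂ (algebraMap V W₁ v))
      rw [← IsScalarTower.algebraMap_apply W₁ W₂ F, ← IsScalarTower.algebraMap_apply V W₁ F])
    refine ⟨W₂, j1, j2, j3, inferInstance, j5, t2, j7, Module.Finite.trans W₁ W₂,
      hinj₂.comp hinj₁, ?_, Fin.cons (algebraMap W₁ W₂ z₁) z₂, ?_, ?_⟩
    · intro w hw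
      obtain ⟨s, u, hs⟩ := hru₂ w hw
      have hs0 : s ≠ 0 := by
        intro h; apply hw; rw [hs, h, map_zero, zero_mul]
      obtain ⟨r, v, hr⟩ := hru₁ s hs0
      refine ⟨r, Units.map (algebraMap W₁ W₂).toMonoidHom v * u, ?_⟩
      rw [hs, hr, map_mul, Units.val_mul, mul_assoc]
      rfl
    · intro i
      refine Fin.cases ?_ (fun i => ?_) i
      · rw [Fin.cons_zero, ← IsScalarTower.algebraMap_apply W₁ W₂ F, hz₁]
      · rw [Fin.cons_succ, hz₂]; rfl
    · rw [eq_top_iff]
      set 𝒜 : Subalgebra V W₂ := Algebra.adjoin V (Set.range (Fin.cons (algebraMap W₁ W₂ z₁) z₂ :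
        Fin (n + 1) → W₂)) with h𝒜
      have hz1mem : algebraMap W₁ W₂ z₁ ∈ 𝒜 :=
        Algebra.subset_adjoin ⟨0, by rw [Fin.cons_zero]⟩
      have hz2mem : ∀ i, z₂ i ∈ 𝒜 := fun i =>
        Algebra.subset_adjoin ⟨i.succ, by rw [Fin.cons_succ]⟩
      have hW₁ : ∀ a : W₁, algebraMap W₁ W₂ a ∈ 𝒜 := by
        intro a
        have ha : a ∈ Algebra.adjoin V {z₁} := by rw [hadj₁]; trivial
        induction ha using Algebra.adjoin_induction with
        | mem x hx =>
          rw [Set.mem_singleton_iff] at hx
          rw [hx]; exact hz1mem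
        | algebraMap r =>
          have : algebraMap W₁ W₂ (algebraMap V W₁ r) = algebraMap V W₂ r := rfl
          rw [this]; exact 𝒜.algebraMap_mem r
        | add x y _ _ hx hy => rw [map_add]; exact 𝒜.add_mem hx hy
        | mul x y _ _ hx hy => rw [map_mul]; exact 𝒜.mul_mem hx hy
      intro w _
      have hw : w ∈ Algebra.adjoin W₁ (Set.range z₂) := by rw [hadj₂]; trivial
      induction hw using Algebra.adjoin_induction with
      | mem x hx =>
        obtain ⟨i, rfl⟩ := hx
        exact hz2mem i
      | algebraMap r => exact hW₁ r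
      | add x y _ _ hx hy => exact 𝒜.add_mem (hx trivial) (hy trivial)
      | mul x y _ _ hx hy => exact 𝒜.mul_mem (hx trivial) (hy trivial)

end simple

end Groth.Agent.Lib.Helper9.AdmTower
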