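import Mathlib

/-!
# The Eakin–Nagata theorem (Formanek's proof)

* `isNoetherian_of_acc_smul_top`: a finite `R`-module `M` such that the submodules `I • ⊤`
  (`I` an ideal of `R`) satisfy the ascending chain condition is a Noetherian module.
* `isNoetherianRing_of_finite_of_injective`: Eakin–Nagata: if `A` is a Noetherian ring that is a
  finite module over a subring `B`, then `B` is Noetherian.
-/

namespace Groth.Agent.Lib.Helper9.EakinNagata

open Submodule

section Formanek

variable {R M : Type*} [CommRing R] [AddCommGroup M] [Module R M]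

theorem isNoetherian_of_isTorsionBySet (c : Ideal R)
    [IsNoetherianRing (R ⧸ c)] (M : Type*) [AddCommGroup M] [Module R M] [Module.Finite R M]
    (h : Module.IsTorsionBySet R M c) : IsNoetherian R M := by
  let _ := h.module
  have : IsScalarTower R (R ⧸ c) M := h.isScalarTower
  have : Module.Finite (R ⧸ c) M := Module.Finite.of_restrictScalars_finite R (R ⧸ c) M
  have : IsNoetherian (R ⧸ c) M := isNoetherian_of_isNoetherianRing_of_finite (R ⧸ c) M
  refine ⟨fun N => ?_⟩
  let N' : Submodule (R ⧸ c) M :=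
    { N.toAddSubmonoid with
      smul_mem' := by
        intro t x hx
        obtain ⟨s, rfl⟩ := Ideal.Quotient.mk_surjective t
        have : (Ideal.Quotient.mk c s) • x = s • x := h.mk_smul s x
        rw [this]
        exact N.smul_mem s hx }
  have h1 : N'.FG := IsNoetherian.noetherian N'
  have h2 := h1.restrictScalars_of_surjective (R := R) Ideal.Quotient.mk_surjective
  have h3 : N'.restrictScalars R = N := by ext x; rfl
  rwa [h3] at h2

theorem mem_colon_top_iff (N : Submodule R M) (s : Set M) (hs : span R s = ⊤) (a : R) :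
    a ∈ N.colon ⊤ ↔ ∀ m ∈ s, a • m ∈ N := by
  rw [Submodule.mem_colon]
  constructor
  · intro h m _
    exact h m trivial
  · intro h m _
    have hm : m ∈ span R s := by rw [hs]; trivial
    have key : ∀ m ∈ span R s, a • m ∈ N := by
      intro m hm
      induction hm using Submodule.span_induction with
      | mem x hx => exact h x hx
      | zero => simp
      | add x y _ _ hx hy => rw [smul_add]; exact N.add_mem hx hy
      | smul r x _ hx => rw [smul_comm]; exact N.smul_mem r hx
    exact key m hm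

/-- **Formanek's theorem**. -/
theorem isNoetherian_of_acc_smul_top [Module.Finite R M]
    (hmax : ∀ S : Set (Ideal R), S.Nonempty → ∃ I ∈ S, ∀ J ∈ S,
      I • (⊤ : Submodule R M) ≤ J • ⊤ → J • (⊤ : Submodule R M) ≤ I • ⊤) :
    IsNoetherian R M := by
  by_contra hM
  obtain ⟨s, hs⟩ : ∃ s : Finset M, span R (s : Set M) = ⊤ := Module.Finite.fg_top
  -- a maximal bad `I₀ • ⊤`
  obtain ⟨I₀, hI₀, hI₀max⟩ := hmax {I | ¬ IsNoetherian R (M ⧸ I • (⊤ : Submodule R M))} (by
    refine ⟨⊥, ?_⟩
    intro h
    apply hM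
    have e : (M ⧸ (⊥ : Ideal R) • (⊤ : Submodule R M)) ≃ₗ[R] M :=
      (Submodule.quotEquivOfEq _ _ (by simp)).trans (Submodule.quotEquivOfEqBot ⊥ rfl)
    exact isNoetherian_of_linearEquiv e)
  set P : Submodule R M := I₀ • ⊤ with hP
  have hPbad : ¬ IsNoetherian R (M ⧸ P) := hI₀
  set 𝔞 : Ideal R := P.colon ⊤ with h𝔞
  -- (ii) for `J ⊄ 𝔞`, `M ⧸ (P ⊔ J • ⊤)` is Noetherian
  have hii : ∀ J : Ideal R, ¬ J ≤ 𝔞 → IsNoetherian R (M ⧸ (P ⊔ J • (⊤ : Submodule R M))) := by
    intro J hJ
    by_contra hbad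
    have hsup : (I₀ ⊔ J) • (⊤ : Submodule R M) = P ⊔ J • ⊤ := Submodule.sup_smul _ _ _
    have h1 : (I₀ ⊔ J) • (⊤ : Submodule R M) ≤ P :=
      hI₀max (I₀ ⊔ J) (by rw [Set.mem_setOf_eq, hsup]; exact hbad) (by rw [hsup]; exact le_sup_left)
    apply hJ
    intro a ha
    rw [h𝔞, Submodule.mem_colon]
    intro m _
    apply h1
    rw [hsup]
    exact Submodule.mem_sup_right (Submodule.smul_mem_smul ha trivial)
  -- Zorn
  let Γ : Set (Submodule R M) := {N | P ≤ N ∧ N.colon ⊤ ≤ 𝔞}
  have hPΓ : P ∈ Γ := ⟨le_rfl, le_rfl⟩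
  obtain ⟨N₀, hPN₀, hN₀max⟩ := zorn_le_nonempty₀ Γ (by
    intro c hc hchain y hy
    refine ⟨sSup c, ⟨(hc hy).1.trans (le_sSup hy), ?_⟩, fun z hz => le_sSup hz⟩
    intro a ha
    rw [mem_colon_top_iff _ _ hs] at ha
    let K : Submodule R M := span R ((fun m => a • m) '' (s : Set M))
    have hKfg : K.FG := Submodule.fg_span ((Finset.finite_toSet s).image _)
    have hKle : K ≤ sSup c := by
      rw [Submodule.span_le]
      rintro _ ⟨m, hm, rfl⟩
      exact ha m hm
    have hcomp := (Submodule.fg_iff_compact K).mp hKfg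
    rw [CompleteLattice.isCompactElement_iff_le_of_directed_sSup_le] at hcomp
    obtain ⟨N, hNc, hKN⟩ := hcomp c ⟨y, hy⟩ hchain.directedOn hKle
    apply (hc hNc).2
    rw [mem_colon_top_iff _ _ hs]
    intro m hm
    exact hKN (Submodule.subset_span ⟨m, hm, rfl⟩)) P hPΓ
  have hN₀Γ : N₀ ∈ Γ := hN₀max.prop
  have hcolon : N₀.colon ⊤ = 𝔞 := by
    refine le_antisymm hN₀Γ.2 ?_
    intro a ha
    rw [h𝔞, Submodule.mem_colon] at ha
    rw [Submodule.mem_colon]
    exact fun m hm => hPN₀ (ha m hm)
  -- (i) `M ⧸ N₀` is not Noetherian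
  have hi : ¬ IsNoetherian R (M ⧸ N₀) := by
    intro hN
    let φ : R →ₗ[R] (s → M ⧸ N₀) :=
      LinearMap.pi fun m => LinearMap.toSpanSingleton R (M ⧸ N₀) (N₀.mkQ m.1)
    have hker : LinearMap.ker φ = 𝔞 := by
      ext a
      rw [← hcolon, mem_colon_top_iff _ _ hs, LinearMap.mem_ker]
      constructor
      · intro h m hm
        have := congrFun h ⟨m, hm⟩
        simp only [φ, LinearMap.pi_apply, LinearMap.toSpanSingleton_apply, Pi.zero_apply] at this
        rw [← map_smul, Submodule.mkQ_apply, Submodule.Quotient.mk_eq_zero] at this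
        exact this
      · intro h
        funext m
        simp only [φ, LinearMap.pi_apply, LinearMap.toSpanSingleton_apply, Pi.zero_apply]
        rw [← map_smul, Submodule.mkQ_apply, Submodule.Quotient.mk_eq_zero]
        exact h m.1 m.2
    have h1 : IsNoetherian R (R ⧸ LinearMap.ker φ) :=
      isNoetherian_of_linearEquiv φ.quotKerEquivRange.symm
    have h2 : IsNoetherian R (R ⧸ 𝔞) :=
      isNoetherian_of_linearEquiv (Submodule.quotEquivOfEq _ _ hker)
    have h3 : IsNoetherianRing (R ⧸ 𝔞) := isNoetherian_of_tower R h2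
    apply hPbad
    apply isNoetherian_of_isTorsionBySet 𝔞 (M ⧸ P)
    intro x a
    obtain ⟨x, rfl⟩ := Submodule.Quotient.mk_surjective _ x
    rw [← Submodule.Quotient.mk_smul, Submodule.Quotient.mk_eq_zero]
    have ha : (a : R) ∈ P.colon ⊤ := a.2
    rw [Submodule.mem_colon] at ha
    exact ha x trivial
  -- (iii) for `N' > N₀`, some `a ∉ 𝔞` has `a • M ⊆ N'`
  have hiii : ∀ N' : Submodule R M, N₀ < N' → ∃ a : R, a ∉ 𝔞 ∧ ∀ m : M, a • m ∈ N' := by
    intro N' hlt
    have hnot : N' ∉ Γ := fun h => hlt.not_ge (hN₀max.le_of_ge h hlt.le)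
    have : ¬ N'.colon ⊤ ≤ 𝔞 := fun h => hnot ⟨hPN₀.trans hlt.le, h⟩
    obtain ⟨a, ha, ha'⟩ := Set.not_subset.mp this
    refine ⟨a, ha', fun m => ?_⟩
    have := ha
    rw [SetLike.mem_coe, Submodule.mem_colon] at this
    exact this m trivial
  -- conclusion: every submodule of `M ⧸ N₀` is finitely generated
  apply hi
  refine ⟨fun Q => ?_⟩
  set N' : Submodule R M := Q.comap N₀.mkQ with hN'
  have hQ : Q = N'.map N₀.mkQ := by
    rw [hN', Submodule.map_comap_eq_of_surjective (Submodule.mkQ_surjective N₀)]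
  have hle : N₀ ≤ N' := by
    rw [hN']
    intro x hx
    rw [Submodule.mem_comap, Submodule.mkQ_apply, (Submodule.Quotient.mk_eq_zero N₀).mpr hx]
    exact Q.zero_mem
  rcases hle.eq_or_lt with heq | hlt
  · rw [hQ, ← heq]
    have : N₀.map N₀.mkQ = ⊥ := by
      rw [← LinearMap.le_ker_iff_map, Submodule.ker_mkQ]
    rw [this]
    exact Submodule.fg_bot
  · obtain ⟨a, ha𝔞, haM⟩ := hiii N' hlt
    have hJ : ¬ Ideal.span {a} ≤ 𝔞 := fun h => ha𝔞 (h (Ideal.mem_span_singleton_self a))
    have hnoeth := hii (Ideal.span {a}) hJ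
    set aM : Submodule R M := Ideal.span {a} • (⊤ : Submodule R M) with haM'
    have hTle : P ⊔ aM ≤ N₀ ⊔ aM := sup_le_sup_right hPN₀ _
    have hnoeth' : IsNoetherian R (M ⧸ (N₀ ⊔ aM)) :=
      isNoetherian_of_surjective (Submodule.factor hTle) (LinearMap.range_eq_top.mpr
        (Submodule.factor_surjective hTle))
    -- a • M is fg and inside N'
    have haMfg : aM.FG :=
      Submodule.FG.smul (Submodule.fg_span_singleton a) Module.Finite.fg_top
    have haMle : aM ≤ N' := by
      rw [haM', Submodule.smul_le]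
      intro r hr m _
      obtain ⟨c, rfl⟩ := Ideal.mem_span_singleton'.mp hr
      rw [mul_smul]
      exact N'.smul_mem c (haM m)
    let f : (M ⧸ N₀) →ₗ[R] (M ⧸ (N₀ ⊔ aM)) := Submodule.factor le_sup_left
    have hker : LinearMap.ker f = aM.map N₀.mkQ := by
      ext x
      obtain ⟨x, rfl⟩ := Submodule.Quotient.mk_surjective _ x
      rw [LinearMap.mem_ker]
      have : f (Submodule.Quotient.mk x) = (N₀ ⊔ aM).mkQ x := Submodule.factor_mk _ x
      rw [this, Submodule.mkQ_apply, Submodule.Quotient.mk_eq_zero, Submodule.mem_sup,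
        Submodule.mem_map]
      constructor
      · rintro ⟨n, hn, y, hy, rfl⟩
        refine ⟨y, hy, ?_⟩
        rw [Submodule.mkQ_apply, eq_comm, Submodule.Quotient.eq]
        simpa using hn
      · rintro ⟨y, hy, hxy⟩
        rw [Submodule.mkQ_apply, Submodule.Quotient.eq] at hxy
        exact ⟨x - y, by simpa using N₀.neg_mem hxy, y, hy, by abel⟩
    rw [hQ]
    apply Submodule.fg_of_fg_map_of_fg_inf_ker f
    · exact IsNoetherian.noetherian _
    · rw [hker, inf_eq_right.mpr (Submodule.map_mono haMle)]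
      exact haMfg.map _

end Formanek

/-- **Eakin–Nagata**: if the Noetherian ring `A` is a finite module over its subring `B`
(`B → A` injective), then `B` is Noetherian. -/
theorem isNoetherianRing_of_finite (B A : Type*) [CommRing B] [CommRing A] [Algebra B A]
    [FaithfulSMul B A] [Module.Finite B A] [IsNoetherianRing A] : IsNoetherianRing B := by
  have hA : IsNoetherian B A := by
    apply isNoetherian_of_acc_smul_top
    intro S hS
    obtain ⟨_, ⟨I, hI, rfl⟩, hmax⟩ := set_has_maximal_iff_noetherian.mpr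
      (inferInstance : IsNoetherian A A) ((fun I : Ideal B => I.map (algebraMap B A)) '' S)
      (hS.image _)
    refine ⟨I, hI, fun J hJ hle => ?_⟩
    rw [Ideal.smul_top_eq_map, Ideal.smul_top_eq_map] at hle ⊢
    have hle' : I.map (algebraMap B A) ≤ J.map (algebraMap B A) := hle
    have := hmax _ ⟨J, hJ, rfl⟩
    have heq : I.map (algebraMap B A) = J.map (algebraMap B A) := by
      by_contra hne
      exact this (lt_of_le_of_ne hle' hne)
    intro x hx
    have hx' : x ∈ J.map (algebraMap B A) := hx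
    rw [← heq] at hx'
    exact hx'
  exact isNoetherian_of_injective (Algebra.linearMap B A) (FaithfulSMul.algebraMap_injective B A)

end Groth.Agent.Lib.Helper9.EakinNagata
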