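import Mathlib
import Groth.Agent.Lib.Helper14.DvrDominate

/-!
# Pointwise functions varying along DVRs on a normal Noetherian ring (ring-level core)

A "pointwise function" on `Spec A` is encoded by a relation `Rel y a b` ("`f(y) · b(y) = a(y)`").
If `A` is reduced Noetherian and integrally closed in its total ring of fractions and the function
is algebraic along all DVRs, it comes from an element of `A`.
-/

universe u

set_option linter.unusedSectionVars false
set_option linter.style.haveILetI false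
set_option linter.overlappingInstances false

open Polynomial IsLocalRing

namespace Groth.Agent.Lib.Helper9.PtFunRing

open Groth.Agent.Lib.Helper14.DvrDominate

section Dvr

variable (D : Type u) [CommRing D] [IsDomain D] [IsNoetherianRing D] (K : Type u) [Field K]
  [Algebra D K] [IsFractionRing D K]

/-- A non-integral element of the fraction field of a Noetherian domain is excluded by a DVR
containing the domain. -/
theorem exists_dvr_not_mem (c : K) (hc : ¬ IsIntegral D c) :
    ∃ O : ValuationSubring K, IsDiscreteValuationRing O ∧ (∀ a : D, algebraMap D K a ∈ O) ∧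
      c ∉ O := by
  classical
  have hc0 : c ≠ 0 := fun h => hc (h ▸ isIntegral_zero)
  letI : Invertible c⁻¹ := invertibleOfNonzero (inv_ne_zero hc0)
  let B : Subalgebra D K := Algebra.adjoin D {c⁻¹}
  let cinv : B := ⟨c⁻¹, Algebra.subset_adjoin rfl⟩
  have hJ : Ideal.span {cinv} ≠ ⊤ := by
    intro htop
    have htop' : (⊥ : Ideal D).map (algebraMap D B) ⊔ Ideal.span {cinv} = ⊤ := by
      rw [Ideal.map_bot, bot_sup_eq]
      exact htop
    obtain ⟨p, hp, hpx⟩ := Algebra.exists_aeval_invOf_eq_zero_of_idealMap_adjoin_sup_span_eq_top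
      (c⁻¹) (⊥ : Ideal D) bot_ne_top htop'
    have hinv : ⅟(c⁻¹) = c := by
      rw [invOf_eq_inv, inv_inv]
    rw [hinv] at hpx
    have hmon : p.Monic := by
      rw [Ideal.mem_bot, sub_eq_zero] at hp
      exact hp
    exact hc ⟨p, hmon, by rw [← Polynomial.aeval_def]; exact hpx⟩
  obtain ⟨𝔫, h𝔫max, h𝔫⟩ := Ideal.exists_le_maximal _ hJ
  haveI : 𝔫.IsPrime := h𝔫max.isPrime
  have hcinv0 : cinv ≠ 0 := by
    intro h
    exact inv_ne_zero hc0 (congrArg Subtype.val h)
  have hcinv𝔫 : cinv ∈ 𝔫 := h𝔫 (Ideal.subset_span rfl)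
  have h𝔫0 : 𝔫 ≠ ⊥ := fun h => hcinv0 (by rw [h] at hcinv𝔫; exact hcinv𝔫)
  haveI : Algebra.FiniteType D B := Algebra.FiniteType.adjoin_of_finite (Set.finite_singleton _)
  haveI : IsNoetherianRing B := Algebra.FiniteType.isNoetherianRing D B
  have hFr : IsFractionRing B K := IsFractionRing.of_field B K (fun z => by
    obtain ⟨a, b, -, rfl⟩ := IsFractionRing.div_surjective (A := D) z
    exact ⟨algebraMap D B a, algebraMap D B b, rfl⟩)
  have hfg : (⊤ : IntermediateField K K).FG := IntermediateField.fg_top K K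
  obtain ⟨O, hO, hOmem, hOlt⟩ := exists_dvr_of_prime B 𝔫 h𝔫0 K K hfg
  refine ⟨O, hO, fun a => hOmem (algebraMap D B a), ?_⟩
  intro hcO
  have h1 : O.valuation c⁻¹ < 1 := hOlt cinv hcinv𝔫
  have h2 : O.valuation c ≤ 1 := (O.valuation_le_one_iff c).2 hcO
  have h3 : O.valuation c * O.valuation c⁻¹ = 1 := by
    rw [← map_mul, mul_inv_cancel₀ hc0, map_one]
  have h4 : O.valuation c * O.valuation c⁻¹ < 1 := by
    calc O.valuation c * O.valuation c⁻¹ ≤ 1 * O.valuation c⁻¹ := by gcongr
      _ = O.valuation c⁻¹ := one_mul _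
      _ < 1 := h1
  exact (ne_of_lt h4) h3

/-- A DVR of the fraction field containing the Noetherian domain `D` with centre exactly `P`. -/
theorem exists_dvr_center (P : Ideal D) [P.IsPrime] (hP : P ≠ ⊥) :
    ∃ O : ValuationSubring K, IsDiscreteValuationRing O ∧ (∀ a : D, algebraMap D K a ∈ O) ∧
      ∀ a : D, O.valuation (algebraMap D K a) < 1 ↔ a ∈ P := by
  have hS : P.primeCompl ≤ nonZeroDivisors D := Ideal.primeCompl_le_nonZeroDivisors _
  obtain ⟨AP, hAP⟩ : ∃ AP : Subalgebra D K, AP = Localization.subalgebra K P.primeCompl hS :=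
    ⟨_, rfl⟩
  have hat : IsLocalization.AtPrime AP P := by
    rw [hAP]
    exact Localization.subalgebra.isLocalization_subalgebra K P.primeCompl hS
  have hFr : IsFractionRing AP K := by
    rw [hAP]
    exact Localization.subalgebra.isFractionRing K P.primeCompl hS
  have hloc : IsLocalRing AP := IsLocalization.AtPrime.isLocalRing AP P
  have hN : IsNoetherianRing AP := IsLocalization.isNoetherianRing P.primeCompl AP inferInstance
  have hinjAK : Function.Injective (algebraMap D K) := IsFractionRing.injective D K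
  have hmem : ∀ a ∈ P, algebraMap D AP a ∈ maximalIdeal AP := by
    intro a ha
    rw [IsLocalization.AtPrime.to_map_mem_maximal_iff AP P]
    exact ha
  have hnf : ¬ IsField AP := by
    intro hf
    obtain ⟨a, haP, ha0⟩ := Submodule.exists_mem_ne_zero_of_ne_bot hP
    have h1 := hmem a haP
    rw [isField_iff_maximalIdeal_eq.1 hf, Ideal.mem_bot] at h1
    have h2 : algebraMap D K a = 0 := congrArg (fun b : AP => (b : K)) h1
    exact ha0 ((map_eq_zero_iff _ hinjAK).1 h2)
  obtain ⟨O, hO, hOmem, hOlt⟩ := exists_dvr_dominating AP hnf K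
  refine ⟨O, hO, fun a => hOmem (algebraMap D AP a), fun a => ⟨fun hlt => ?_, fun ha =>
    hOlt _ (hmem a ha)⟩⟩
  by_contra haP
  have hu : IsUnit (algebraMap D AP a) := IsLocalization.map_units AP (⟨a, haP⟩ : P.primeCompl)
  obtain ⟨w, hw⟩ := hu
  have h1 : O.valuation (algebraMap AP K ((w⁻¹ : APˣ) : AP)) ≤ 1 :=
    (O.valuation_le_one_iff _).2 (hOmem _)
  have h2 : O.valuation (algebraMap AP K (w : AP)) *
      O.valuation (algebraMap AP K ((w⁻¹ : APˣ) : AP)) = 1 := by
    rw [← map_mul, ← map_mul, Units.mul_inv, map_one, map_one]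
  have h3 : O.valuation (algebraMap AP K (w : AP)) < 1 := by
    rw [hw]
    exact hlt
  have h4 : O.valuation (algebraMap AP K (w : AP)) *
      O.valuation (algebraMap AP K ((w⁻¹ : APˣ) : AP)) < 1 := by
    calc _ ≤ O.valuation (algebraMap AP K (w : AP)) * 1 := by gcongr
      _ = _ := mul_one _
      _ < 1 := h3
  exact (ne_of_lt h4) h2

end Dvr


section Main

variable {A : Type u} [CommRing A] [IsNoetherianRing A]
  (Rel : PrimeSpectrum A → A → A → Prop)
  (hR1 : ∀ y, ∃ a b, b ∉ y.asIdeal ∧ Rel y a b)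
  (hR2 : ∀ y a b a' b', Rel y a b → b ∉ y.asIdeal →
    (Rel y a' b' ↔ a * b' - a' * b ∈ y.asIdeal))
  (hH : ∀ (R : Type u) [CommRing R] [IsDomain R] [IsDiscreteValuationRing R] (φ : A →+* R),
    ∃ s : R, ∀ y' : PrimeSpectrum R, ∀ a b, Rel (PrimeSpectrum.comap φ y') a b →
      s * φ b - φ a ∈ y'.asIdeal)

/-- the map `A → Frac (A/y)`. -/
noncomputable def toK (y : PrimeSpectrum A) : A →+* FractionRing (A ⧸ y.asIdeal) :=
  (algebraMap (A ⧸ y.asIdeal) (FractionRing (A ⧸ y.asIdeal))).comp (Ideal.Quotient.mk y.asIdeal)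

theorem toK_eq_zero_iff (y : PrimeSpectrum A) (a : A) : toK y a = 0 ↔ a ∈ y.asIdeal := by
  rw [toK, RingHom.comp_apply,
    map_eq_zero_iff _ (IsFractionRing.injective (A ⧸ y.asIdeal) (FractionRing (A ⧸ y.asIdeal))),
    Ideal.Quotient.eq_zero_iff_mem]

/-- the map `A → O` for a valuation subring of `Frac (A/y)` containing `A/y`. -/
noncomputable def toO (y : PrimeSpectrum A) (O : ValuationSubring (FractionRing (A ⧸ y.asIdeal)))
    (hO : ∀ d : A ⧸ y.asIdeal, algebraMap _ (FractionRing (A ⧸ y.asIdeal)) d ∈ O) : A →+* O :=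
  (toK y).codRestrict O.toSubring fun a => hO _

theorem comap_toO_bot (y : PrimeSpectrum A)
    (O : ValuationSubring (FractionRing (A ⧸ y.asIdeal)))
    (hO : ∀ d : A ⧸ y.asIdeal, algebraMap _ (FractionRing (A ⧸ y.asIdeal)) d ∈ O) :
    PrimeSpectrum.comap (toO y O hO) ⟨⊥, Ideal.isPrime_bot⟩ = y := by
  apply PrimeSpectrum.ext
  ext a
  rw [PrimeSpectrum.comap_asIdeal, Ideal.mem_comap, Ideal.mem_bot, ← toK_eq_zero_iff]
  constructor
  · intro h
    exact congrArg Subtype.val h
  · intro h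
    exact Subtype.ext h

include hH in
/-- values along a DVR containing `A/y`: the function value at `y` is in the DVR. -/
theorem exists_val (y : PrimeSpectrum A) (O : ValuationSubring (FractionRing (A ⧸ y.asIdeal)))
    (hdvr : IsDiscreteValuationRing O)
    (hO : ∀ d : A ⧸ y.asIdeal, algebraMap _ (FractionRing (A ⧸ y.asIdeal)) d ∈ O) :
    ∃ s₀ : O, (∀ a b, Rel y a b → (s₀ : FractionRing (A ⧸ y.asIdeal)) * toK y b = toK y a) ∧
      ∀ y' : PrimeSpectrum O, ∀ a b, Rel (PrimeSpectrum.comap (toO y O hO) y') a b →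
        s₀ * toO y O hO b - toO y O hO a ∈ y'.asIdeal := by
  obtain ⟨s₀, hs₀⟩ := hH O (toO y O hO)
  refine ⟨s₀, fun a b hab => ?_, hs₀⟩
  have h1 := hs₀ ⟨⊥, Ideal.isPrime_bot⟩ a b (by rw [comap_toO_bot]; exact hab)
  rw [Ideal.mem_bot, sub_eq_zero] at h1
  exact congrArg Subtype.val h1

include hH in
/-- the value at `y` is integral over `A/y`. -/
theorem isIntegral_val (y : PrimeSpectrum A) (a s : A) (hs : s ∉ y.asIdeal) (hrel : Rel y a s) :
    IsIntegral (A ⧸ y.asIdeal) (toK y a / toK y s) := by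
  by_contra hni
  obtain ⟨O, hdvr, hO, hc⟩ := exists_dvr_not_mem (A ⧸ y.asIdeal) _ _ hni
  obtain ⟨s₀, h1, -⟩ := exists_val Rel hH y O hdvr hO
  apply hc
  have hs0 : toK y s ≠ 0 := fun h => hs ((toK_eq_zero_iff y s).1 h)
  have : toK y a / toK y s = (s₀ : FractionRing (A ⧸ y.asIdeal)) := by
    rw [div_eq_iff hs0]
    exact (h1 a s hrel).symm
  rw [this]
  exact s₀.2

include hR1 hR2 hH in
/-- propagate the value from a generization. -/
theorem rel_of_le (p y : PrimeSpectrum A) (hpy : p.asIdeal ≤ y.asIdeal) (a' : A)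
    (hp : Rel p a' 1) : Rel y a' 1 := by
  by_cases hne : p = y
  · exact hne ▸ hp
  let P : Ideal (A ⧸ p.asIdeal) := y.asIdeal.map (Ideal.Quotient.mk p.asIdeal)
  haveI : P.IsPrime := Ideal.map_isPrime_of_surjective Ideal.Quotient.mk_surjective
    (by rw [Ideal.mk_ker]; exact hpy)
  have hPmem : ∀ a : A, Ideal.Quotient.mk p.asIdeal a ∈ P ↔ a ∈ y.asIdeal := fun a =>
    Ideal.mem_quotient_iff_mem hpy
  have hP0 : P ≠ ⊥ := by
    intro h0
    apply hne
    apply PrimeSpectrum.ext
    apply le_antisymm hpy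
    intro a ha
    have := (hPmem a).2 ha
    rw [h0, Ideal.mem_bot, Ideal.Quotient.eq_zero_iff_mem] at this
    exact this
  obtain ⟨O, hdvr, hO, hcen⟩ := exists_dvr_center (A ⧸ p.asIdeal) (FractionRing (A ⧸ p.asIdeal))
    P hP0
  obtain ⟨s₀, h1, h2⟩ := exists_val Rel hH p O hdvr hO
  have hs₀ : (s₀ : FractionRing (A ⧸ p.asIdeal)) = toK p a' := by
    have := h1 a' 1 hp
    rwa [map_one, mul_one] at this
  have hcl : PrimeSpectrum.comap (toO p O hO) (closedPoint O) = y := by
    apply PrimeSpectrum.ext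
    ext a
    rw [PrimeSpectrum.comap_asIdeal, Ideal.mem_comap]
    change toO p O hO a ∈ maximalIdeal O ↔ _
    rw [ValuationSubring.valuation_lt_one_iff, ← hPmem]
    exact hcen _
  obtain ⟨a₁, b₁, hb₁, hrel₁⟩ := hR1 y
  have h3 := h2 (closedPoint O) a₁ b₁ (by rw [hcl]; exact hrel₁)
  have h4 : toO p O hO (a' * b₁ - a₁) ∈ (closedPoint O).asIdeal := by
    have : toO p O hO (a' * b₁ - a₁) = s₀ * toO p O hO b₁ - toO p O hO a₁ := by
      apply Subtype.ext
      simp only [map_sub, map_mul]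
      change toK p a' * toK p b₁ - toK p a₁ = (s₀ : FractionRing (A ⧸ p.asIdeal)) * toK p b₁ -
        toK p a₁
      rw [hs₀]
    rw [this]
    exact h3
  have h5 : a' * b₁ - a₁ ∈ y.asIdeal := by
    rw [← hcl]
    exact h4
  rw [hR2 y a₁ b₁ a' 1 hrel₁ hb₁, mul_one]
  have : a₁ - a' * b₁ = -(a' * b₁ - a₁) := by ring
  rw [this]
  exact neg_mem h5

end Main


section Final

variable {A : Type u} [CommRing A] [IsReduced A] [IsNoetherianRing A] [IsIntegrallyClosed A]
  (Rel : PrimeSpectrum A → A → A → Prop)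
  (hR1 : ∀ y, ∃ a b, b ∉ y.asIdeal ∧ Rel y a b)
  (hR2 : ∀ y a b a' b', Rel y a b → b ∉ y.asIdeal →
    (Rel y a' b' ↔ a * b' - a' * b ∈ y.asIdeal))
  (hH : ∀ (R : Type u) [CommRing R] [IsDomain R] [IsDiscreteValuationRing R] (φ : A →+* R),
    ∃ s : R, ∀ y' : PrimeSpectrum R, ∀ a b, Rel (PrimeSpectrum.comap φ y') a b →
      s * φ b - φ a ∈ y'.asIdeal)

/-- a minimal prime as a point of the spectrum. -/
def minPt (i : minimalPrimes A) : PrimeSpectrum A := ⟨i.1, i.2.1.1⟩

theorem minPt_asIdeal (i : minimalPrimes A) : (minPt i).asIdeal = i.1 := rfl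

include hR1 hR2 hH in
theorem exists_section : ∃ a : A, ∀ y, Rel y a 1 := by
  classical
  have hfin : (minimalPrimes A).Finite := minimalPrimes.finite_of_isNoetherianRing A
  haveI : Fintype (minimalPrimes A) := hfin.fintype
  choose a_ s_ hs_ hrel_ using fun i : minimalPrimes A => hR1 (minPt i)
  have ht : ∀ i : minimalPrimes A, ∃ t : A, t ∉ i.1 ∧ ∀ j : minimalPrimes A, j ≠ i → t ∈ j.1 := by
    intro i
    haveI : i.1.IsPrime := i.2.1.1
    by_contra hcon
    push Not at hcon
    have hle : (Finset.univ.erase i).inf (fun j : minimalPrimes A => j.1) ≤ i.1 := by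
      intro t ht
      by_contra hti
      obtain ⟨j, hj, htj⟩ := hcon t hti
      exact htj ((Finset.inf_le (Finset.mem_erase.2 ⟨hj, Finset.mem_univ _⟩) :
        (Finset.univ.erase i).inf (fun j : minimalPrimes A => j.1) ≤ j.1) ht)
    obtain ⟨j, hj, hji⟩ := (Ideal.IsPrime.inf_le' inferInstance).1 hle
    have : j = i := Subtype.ext (le_antisymm hji (i.2.2 j.2.1 hji))
    exact (Finset.mem_erase.1 hj).1 this
  choose t_ ht_ ht'_ using ht
  set s : A := ∑ i, t_ i * s_ i with hs
  set a : A := ∑ i, t_ i * a_ i with ha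
  have hsmod : ∀ i : minimalPrimes A, s - t_ i * s_ i ∈ i.1 := by
    intro i
    rw [hs, ← Finset.add_sum_erase _ _ (Finset.mem_univ i), add_sub_cancel_left]
    exact Ideal.sum_mem _ fun j hj =>
      Ideal.mul_mem_right _ _ (ht'_ j i (Finset.mem_erase.1 hj).1.symm)
  have hamod : ∀ i : minimalPrimes A, a - t_ i * a_ i ∈ i.1 := by
    intro i
    rw [ha, ← Finset.add_sum_erase _ _ (Finset.mem_univ i), add_sub_cancel_left]
    exact Ideal.sum_mem _ fun j hj =>
      Ideal.mul_mem_right _ _ (ht'_ j i (Finset.mem_erase.1 hj).1.symm)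
  have hsnot : ∀ i : minimalPrimes A, s ∉ i.1 := by
    intro i hsi
    haveI : i.1.IsPrime := i.2.1.1
    have : t_ i * s_ i ∈ i.1 := by
      have := i.1.sub_mem hsi (hsmod i)
      rwa [sub_sub_cancel] at this
    rcases Ideal.IsPrime.mem_or_mem inferInstance this with h | h
    · exact ht_ i h
    · exact hs_ i h
  have hzero : ∀ x : A, (∀ i : minimalPrimes A, x ∈ i.1) → x = 0 := by
    intro x hx
    have h1 : x ∈ sInf (minimalPrimes A) := by
      rw [Ideal.mem_sInf]
      intro p hp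
      exact hx ⟨p, hp⟩
    rw [minimalPrimes, Ideal.sInf_minimalPrimes] at h1
    have h2 : IsNilpotent x := by
      rw [← mem_nilradical, nilradical]
      exact h1
    exact h2.eq_zero
  have hsnzd : s ∈ nonZeroDivisors A := by
    rw [mem_nonZeroDivisors_iff_right]
    intro x hx
    apply hzero
    intro i
    haveI : i.1.IsPrime := i.2.1.1
    have : x * s ∈ i.1 := hx ▸ i.1.zero_mem
    exact (Ideal.IsPrime.mem_or_mem inferInstance this).resolve_right (hsnot i)
  have hP : ∀ i : minimalPrimes A, ∃ P : A[X], P.Monic ∧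
      P.eval₂ (toK (minPt i)) (toK (minPt i) (a_ i) / toK (minPt i) (s_ i)) = 0 := by
    intro i
    obtain ⟨Pbar, hmon, hroot⟩ := isIntegral_val Rel hH (minPt i) (a_ i) (s_ i) (hs_ i) (hrel_ i)
    obtain ⟨P, hPmap, -, hPmon⟩ := Polynomial.lifts_and_natDegree_eq_and_monic
      (f := Ideal.Quotient.mk (minPt i).asIdeal)
      ((Polynomial.mem_lifts _).2 (Polynomial.map_surjective _ Ideal.Quotient.mk_surjective Pbar))
      hmon
    refine ⟨P, hPmon, ?_⟩
    rw [toK, ← Polynomial.eval₂_map, hPmap]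
    exact hroot
  choose P_ hPmon_ hProot_ using hP
  set P : A[X] := ∏ i, P_ i with hPdef
  have hPmon : P.Monic := Polynomial.monic_prod_of_monic _ _ fun i _ => hPmon_ i
  have hkey : (Polynomial.scaleRoots P s).eval a = 0 := by
    apply hzero
    intro i
    rw [← minPt_asIdeal i, ← toK_eq_zero_iff (minPt i), ← Polynomial.eval₂_at_apply]
    have hs0 : toK (minPt i) (s_ i) ≠ 0 := fun h => hs_ i ((toK_eq_zero_iff (minPt i) _).1 h)
    have ht0 : toK (minPt i) (t_ i) ≠ 0 := fun h => ht_ i ((toK_eq_zero_iff (minPt i) _).1 h)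
    have hsK : toK (minPt i) s = toK (minPt i) (t_ i) * toK (minPt i) (s_ i) := by
      rw [← map_mul, ← sub_eq_zero, ← map_sub, toK_eq_zero_iff]
      exact hsmod i
    have haK : toK (minPt i) a = toK (minPt i) (t_ i) * toK (minPt i) (a_ i) := by
      rw [← map_mul, ← sub_eq_zero, ← map_sub, toK_eq_zero_iff]
      exact hamod i
    have hac : toK (minPt i) a = toK (minPt i) s * (toK (minPt i) (a_ i) / toK (minPt i) (s_ i)) := by
      rw [hsK, haK]
      field_simp
    rw [hac, Polynomial.scaleRoots_eval₂_mul]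
    have : P.eval₂ (toK (minPt i)) (toK (minPt i) (a_ i) / toK (minPt i) (s_ i)) = 0 := by
      rw [hPdef, Polynomial.eval₂_finset_prod]
      exact Finset.prod_eq_zero (Finset.mem_univ i) (hProot_ i)
    rw [this, mul_zero]
  have hcint : IsIntegral A
      (IsLocalization.mk' (FractionRing A) a (⟨s, hsnzd⟩ : nonZeroDivisors A)) := by
    refine ⟨P, hPmon, ?_⟩
    have h1 := Polynomial.scaleRoots_eval₂_mul (p := P) (algebraMap A (FractionRing A))
      (IsLocalization.mk' (FractionRing A) a (⟨s, hsnzd⟩ : nonZeroDivisors A)) s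
    rw [show algebraMap A (FractionRing A) s *
        IsLocalization.mk' (FractionRing A) a (⟨s, hsnzd⟩ : nonZeroDivisors A) =
        algebraMap A (FractionRing A) a from
      IsLocalization.mk'_spec' (FractionRing A) a (⟨s, hsnzd⟩ : nonZeroDivisors A),
      Polynomial.eval₂_at_apply, hkey, map_zero] at h1
    have hu : IsUnit (algebraMap A (FractionRing A) s) :=
      IsLocalization.map_units _ (⟨s, hsnzd⟩ : nonZeroDivisors A)
    exact ((hu.pow _).mul_right_eq_zero).1 h1.symm
  obtain ⟨a', ha'⟩ := (isIntegrallyClosed_iff (FractionRing A)).1 inferInstance hcint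
  have ha's : a' * s = a := by
    have h1 := (IsLocalization.eq_mk'_iff_mul_eq).1 ha'
    rw [← map_mul] at h1
    exact IsFractionRing.injective A (FractionRing A) h1
  have hmin : ∀ i : minimalPrimes A, Rel (minPt i) a' 1 := by
    intro i
    haveI : i.1.IsPrime := i.2.1.1
    rw [hR2 (minPt i) (a_ i) (s_ i) a' 1 (hrel_ i) (hs_ i), mul_one]
    have h1 : t_ i * (a_ i - a' * s_ i) ∈ i.1 := by
      have : t_ i * (a_ i - a' * s_ i) = (a' * (s - t_ i * s_ i)) - (a - t_ i * a_ i) := by
        rw [← ha's]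
        ring
      rw [this]
      exact i.1.sub_mem (Ideal.mul_mem_left _ _ (hsmod i)) (hamod i)
    exact (Ideal.IsPrime.mem_or_mem inferInstance h1).resolve_left (ht_ i)
  refine ⟨a', fun z => ?_⟩
  obtain ⟨p, hp, hpz⟩ := Ideal.exists_minimalPrimes_le (show (⊥ : Ideal A) ≤ z.asIdeal from bot_le)
  exact rel_of_le Rel hR1 hR2 hH (minPt ⟨p, hp⟩) z hpz a' (hmin ⟨p, hp⟩)

end Final

end Groth.Agent.Lib.Helper9.PtFunRing
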