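import Mathlib
import Groth.Agent.S0503
import Groth.Agent.Lib.Helper58.HenselPair

set_option autoImplicit false

namespace Groth.Agent.Lib.Helper9.HenselFactor

open Polynomial TensorProduct IsLocalRing

universe u

theorem quasiFinite_adjoinRoot {R : Type u} [CommRing R] (f : R[X]) (i : ℕ)
    (hi : IsUnit (f.coeff i)) : Algebra.QuasiFinite R (AdjoinRoot f) := by
  refine ⟨fun P _ => ?_⟩
  set κ := P.ResidueField
  set x : P.Fiber (AdjoinRoot f) := (1 : κ) ⊗ₜ[R] AdjoinRoot.root f with hx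
  have htop : Algebra.adjoin κ ({x} : Set (P.Fiber (AdjoinRoot f))) = ⊤ := by
    have := Algebra.TensorProduct.adjoin_one_tmul_image_eq_top (R := R) (A := κ)
      ({AdjoinRoot.root f} : Set (AdjoinRoot f)) AdjoinRoot.adjoinRoot_eq_top
    simpa using this
  have hne : f.map (algebraMap R κ) ≠ 0 := by
    intro h
    have h1 : (f.map (algebraMap R κ)).coeff i = 0 := by rw [h]; simp
    rw [coeff_map] at h1
    exact (hi.map (algebraMap R κ)).ne_zero h1
  have hroot : aeval x (f.map (algebraMap R κ)) = 0 := by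
    rw [aeval_map_algebraMap]
    have : aeval x f = Algebra.TensorProduct.includeRight (R := R) (A := κ) (aeval (AdjoinRoot.root f) f) := by
      rw [← aeval_algHom_apply]; rfl
    rw [this, AdjoinRoot.aeval_eq, AdjoinRoot.mk_self, map_zero]
  have hint : IsIntegral κ x := by
    rw [← isAlgebraic_iff_isIntegral]
    exact ⟨_, hne, hroot⟩
  have hfin : Module.Finite κ (Algebra.adjoin κ ({x} : Set (P.Fiber (AdjoinRoot f)))) :=
    Algebra.finite_adjoin_simple_of_isIntegral hint
  rw [htop] at hfin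
  exact Module.Finite.equiv (Subalgebra.topEquiv (R := κ) (A := P.Fiber (AdjoinRoot f))).toLinearEquiv

section
variable {R : Type u} [CommRing R] [IsLocalRing R]

theorem mem_map_C_iff_map_eq_zero (p : R[X]) :
    p ∈ Ideal.map (C : R →+* R[X]) (maximalIdeal R) ↔ p.map (residue R) = 0 := by
  rw [← IsLocalRing.ker_residue, ← Polynomial.ker_mapRingHom, RingHom.mem_ker, coe_mapRingHom]

omit [IsLocalRing R] in
theorem map_algebraMap_adjoinRoot (f : R[X]) (I : Ideal R) :
    Ideal.map (algebraMap R (AdjoinRoot f)) I =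
      Ideal.map (AdjoinRoot.mk f) (Ideal.map (C : R →+* R[X]) I) := by
  rw [Ideal.map_map]; rfl

omit [IsLocalRing R] in
theorem ker_mk (f : R[X]) : RingHom.ker (AdjoinRoot.mk f) = Ideal.span {f} := by
  ext p
  rw [RingHom.mem_ker, AdjoinRoot.mk_eq_zero, Ideal.mem_span_singleton]

theorem mk_mem_map_iff (f : R[X]) (p : R[X]) :
    AdjoinRoot.mk f p ∈ Ideal.map (algebraMap R (AdjoinRoot f)) (maximalIdeal R) ↔
      f.map (residue R) ∣ p.map (residue R) := by
  rw [map_algebraMap_adjoinRoot, ← Ideal.mem_comap,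
    Ideal.comap_map_of_surjective _ AdjoinRoot.mk_surjective, ← RingHom.ker_eq_comap_bot,
    ker_mk, Submodule.mem_sup]
  constructor
  · rintro ⟨c, hc, y, hy, rfl⟩
    obtain ⟨q, rfl⟩ := Ideal.mem_span_singleton.1 hy
    rw [Polynomial.map_add, (mem_map_C_iff_map_eq_zero c).1 hc, zero_add, Polynomial.map_mul]
    exact dvd_mul_right _ _
  · rintro ⟨qb, hq⟩
    obtain ⟨q, rfl⟩ := Polynomial.map_surjective (residue R) residue_surjective qb
    refine ⟨p - f * q, ?_, f * q, Ideal.mem_span_singleton.2 (dvd_mul_right _ _), by ring⟩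
    rw [mem_map_C_iff_map_eq_zero, Polynomial.map_sub, Polynomial.map_mul, hq, sub_self]

end

theorem exists_monic_dvd_aux {R : Type u} [CommRing R] [IsLocalRing R] (f : R[X])
    (hf : f.map (residue R) ≠ 0) (e : AdjoinRoot f) (he : IsIdempotentElem e)
    (hfin : Module.Finite R (AdjoinRoot f ⧸ Ideal.span ({1 - e} : Set (AdjoinRoot f))))
    (h1e : 1 - e ∈ Ideal.map (algebraMap R (AdjoinRoot f)) (maximalIdeal R)) :
    ∃ F : R[X], F.Monic ∧ F ∣ f ∧ F.natDegree = (f.map (residue R)).natDegree := by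
  classical
  set fb := f.map (residue R) with hfb
  set d := fb.natDegree with hd
  set J : Ideal (AdjoinRoot f) := Ideal.span {1 - e} with hJ
  have hJm : J ≤ Ideal.map (algebraMap R (AdjoinRoot f)) (maximalIdeal R) := by
    rw [hJ, Ideal.span_singleton_le_iff_mem]; exact h1e
  set 𝔟 : Ideal R[X] := Ideal.comap (AdjoinRoot.mk f) J with h𝔟
  have hf𝔟 : f ∈ 𝔟 := by
    rw [h𝔟, Ideal.mem_comap, AdjoinRoot.mk_self]; exact J.zero_mem
  have key : ∀ p ∈ 𝔟, fb ∣ p.map (residue R) := by
    intro p hp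
    exact (mk_mem_map_iff f p).1 (hJm hp)
  let π : R[X] →ₐ[R] AdjoinRoot f ⧸ J := (Ideal.Quotient.mkₐ R J).comp (AdjoinRoot.mkₐ f)
  have hπsurj : Function.Surjective π :=
    (Ideal.Quotient.mkₐ_surjective R J).comp AdjoinRoot.mk_surjective
  have hπ : ∀ p, π p = 0 ↔ p ∈ 𝔟 := by
    intro p
    show Ideal.Quotient.mk J (AdjoinRoot.mk f p) = 0 ↔ _
    rw [Ideal.Quotient.eq_zero_iff_mem, h𝔟, Ideal.mem_comap]
  have hlc : fb.leadingCoeff ≠ 0 := leadingCoeff_ne_zero.mpr hf
  set fb1 : (ResidueField R)[X] := fb * C (fb.leadingCoeff)⁻¹ with hfb1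
  have hfb1m : fb1.Monic := monic_mul_leadingCoeff_inv hf
  have hfb1d : fb1.natDegree = d := by
    rw [hfb1, natDegree_mul_C (inv_ne_zero hlc)]
  have hdvd1 : fb ∣ fb1 := dvd_mul_right _ _
  have hmem_smul : ∀ p : R[X], fb ∣ p.map (residue R) →
      π p ∈ (maximalIdeal R) • (⊤ : Submodule R (AdjoinRoot f ⧸ J)) := by
    intro p hp
    have h1 := (mk_mem_map_iff f p).2 hp
    rw [Ideal.smul_top_eq_map, Submodule.restrictScalars_mem,
      IsScalarTower.algebraMap_eq R (AdjoinRoot f) (AdjoinRoot f ⧸ J), ← Ideal.map_map]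
    exact Ideal.mem_map_of_mem _ h1
  have hN : (⊤ : Submodule R (AdjoinRoot f ⧸ J)) ≤ Submodule.map π.toLinearMap (degreeLT R d) := by
    apply Submodule.le_of_le_smul_of_le_jacobson_bot (I := maximalIdeal R)
      (Module.finite_def.1 hfin) (IsLocalRing.maximalIdeal_le_jacobson _)
    intro s _
    obtain ⟨p, rfl⟩ := hπsurj s
    set rb := p.map (residue R) %ₘ fb1 with hrb
    have hrbdeg : rb.degree < d := by
      have := degree_modByMonic_lt (p.map (residue R)) hfb1m
      rwa [degree_eq_natDegree hfb1m.ne_zero, hfb1d] at this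
    obtain ⟨r, hr, hrdeg⟩ := exists_degree_eq_of_mem_lifts (f := residue R) (p := rb)
      ((Polynomial.mem_lifts _).2 (Polynomial.map_surjective _ residue_surjective rb))
    have hr' : r ∈ degreeLT R d := by
      rw [mem_degreeLT, hrdeg]; exact hrbdeg
    have hpr : fb ∣ (p - r).map (residue R) := by
      rw [Polynomial.map_sub, hr, hrb, modByMonic_eq_sub_mul_div, sub_sub_cancel]
      exact hdvd1.mul_right _
    have : π p = π r + π (p - r) := by rw [← map_add]; congr 1; ring
    rw [this]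
    exact Submodule.add_mem_sup (Submodule.mem_map_of_mem hr') (hmem_smul _ hpr)
  obtain ⟨r, hr, hrX⟩ : ∃ r ∈ degreeLT R d, π r = π (X ^ d) := by
    have := hN (Submodule.mem_top (x := π (X ^ d)))
    obtain ⟨r, hr, hrX⟩ := Submodule.mem_map.1 this
    exact ⟨r, hr, hrX⟩
  set F : R[X] := X ^ d - r with hF
  have hFm : F.Monic := monic_X_pow_sub (mem_degreeLT.1 hr)
  have hFd : F.natDegree = d := by
    have h1 : r.degree < (X ^ d : R[X]).degree := by
      rw [degree_X_pow]; exact mem_degreeLT.1 hr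
    rw [hF, natDegree_eq_of_degree_eq (degree_sub_eq_left_of_degree_lt h1), natDegree_X_pow]
  have hF𝔟 : F ∈ 𝔟 := by
    rw [← hπ, hF, map_sub, hrX, sub_self]
  refine ⟨F, hFm, ?_, hFd⟩
  obtain ⟨E', hE'⟩ := AdjoinRoot.mk_surjective (g := f) (1 - e)
  have hE'𝔟 : E' ∈ 𝔟 := by
    rw [h𝔟, Ideal.mem_comap, hE']; exact Ideal.mem_span_singleton_self _
  have h𝔟eq : 𝔟 = Ideal.span {E', f} := by
    apply le_antisymm
    · intro p hp
      rw [h𝔟, Ideal.mem_comap, hJ, Ideal.mem_span_singleton] at hp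
      obtain ⟨s, hs⟩ := hp
      obtain ⟨q, rfl⟩ := AdjoinRoot.mk_surjective (g := f) s
      rw [← hE', ← map_mul, AdjoinRoot.mk_eq_mk] at hs
      obtain ⟨a, ha⟩ := hs
      have : p = q * E' + a * f := by linear_combination ha
      rw [this]
      exact Ideal.add_mem _ (Ideal.mul_mem_left _ _ (Ideal.subset_span (by simp)))
        (Ideal.mul_mem_left _ _ (Ideal.subset_span (by simp)))
    · rw [Ideal.span_le]
      rintro x (rfl | rfl)
      · exact hE'𝔟
      · exact hf𝔟
  have hMfin : Module.Finite R (AdjoinRoot F) := hFm.finite_adjoinRoot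
  set K : Submodule R (AdjoinRoot F) :=
    (Ideal.map (AdjoinRoot.mk F) 𝔟).restrictScalars R with hK
  have hKfg : K.FG := by
    have h1 : (Ideal.map (AdjoinRoot.mk F) 𝔟).FG := by
      rw [h𝔟eq, Ideal.map_span]
      exact Submodule.fg_span (Set.Finite.image _ (by simp))
    have : Module.Finite (AdjoinRoot F) (Ideal.map (AdjoinRoot.mk F) 𝔟) :=
      Module.Finite.iff_fg.2 h1
    have : Module.Finite R (Ideal.map (AdjoinRoot.mk F) 𝔟) :=
      Module.Finite.trans (AdjoinRoot F) _
    rw [← Module.Finite.iff_fg]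
    exact Module.Finite.equiv
      ((Submodule.restrictScalarsEquiv R (AdjoinRoot F) (AdjoinRoot F)
        (Ideal.map (AdjoinRoot.mk F) 𝔟)).symm.restrictScalars R)
  have hL2 : ∀ c ∈ Ideal.map (C : R →+* R[X]) (maximalIdeal R), ∀ b ∈ 𝔟,
      AdjoinRoot.mk F (c * b) ∈ (maximalIdeal R) • K := by
    intro c hc b hb
    rw [hK, ← Ideal.smul_restrictScalars, Submodule.restrictScalars_mem, map_mul,
      map_algebraMap_adjoinRoot, smul_eq_mul]
    exact Ideal.mul_mem_mul (Ideal.mem_map_of_mem _ hc) (Ideal.mem_map_of_mem _ hb)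
  have hKle : K ≤ (maximalIdeal R) • K := by
    intro k hk
    rw [hK, Submodule.restrictScalars_mem,
      Ideal.mem_map_iff_of_surjective _ AdjoinRoot.mk_surjective] at hk
    obtain ⟨b, hb, rfl⟩ := hk
    set r' := b %ₘ F with hr'
    have hr'𝔟 : r' ∈ 𝔟 := by
      rw [hr', modByMonic_eq_sub_mul_div]
      exact Ideal.sub_mem _ hb (Ideal.mul_mem_right _ _ hF𝔟)
    have hmk : AdjoinRoot.mk F b = AdjoinRoot.mk F r' := by
      rw [AdjoinRoot.mk_eq_mk, hr', modByMonic_eq_sub_mul_div, sub_sub_cancel]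
      exact dvd_mul_right _ _
    have hr'deg : r'.degree < d := by
      have := degree_modByMonic_lt b hFm
      rwa [degree_eq_natDegree hFm.ne_zero, hFd] at this
    have hr'0 : r'.map (residue R) = 0 := by
      apply eq_zero_of_dvd_of_degree_lt (key r' hr'𝔟)
      calc (r'.map (residue R)).degree ≤ r'.degree := degree_map_le
        _ < d := hr'deg
        _ = fb.degree := by rw [hd, degree_eq_natDegree hf]
    have hr'C : r' ∈ Ideal.map (C : R →+* R[X]) (maximalIdeal R) :=
      (mem_map_C_iff_map_eq_zero r').2 hr'0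
    have hdiv : f ∣ r' * (1 - E') := by
      rw [← AdjoinRoot.mk_eq_zero, map_mul, map_sub, map_one, hE', sub_sub_cancel]
      have h1 : AdjoinRoot.mk f r' ∈ J := hr'𝔟
      rw [hJ, Ideal.mem_span_singleton] at h1
      obtain ⟨s, hs⟩ := h1
      rw [hs, mul_comm (1 - e) s, mul_assoc, sub_mul, one_mul, he.eq, sub_self, mul_zero]
    obtain ⟨a, ha⟩ := hdiv
    have ha0 : a.map (residue R) = 0 := by
      have h1 := congrArg (Polynomial.map (residue R)) ha
      rw [Polynomial.map_mul, Polynomial.map_mul, hr'0, zero_mul] at h1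
      exact (mul_eq_zero.1 h1.symm).resolve_left hf
    have haC : a ∈ Ideal.map (C : R →+* R[X]) (maximalIdeal R) :=
      (mem_map_C_iff_map_eq_zero a).2 ha0
    have hsplit : r' = a * f + r' * E' := by linear_combination ha
    rw [hmk, hsplit, map_add]
    exact Submodule.add_mem _ (hL2 a haC f hf𝔟) (hL2 r' hr'C E' hE'𝔟)
  have hK0 : K = ⊥ :=
    Submodule.eq_bot_of_le_smul_of_le_jacobson_bot (maximalIdeal R) K hKfg hKle
      (IsLocalRing.maximalIdeal_le_jacobson _)
  have hfK : AdjoinRoot.mk F f ∈ K := by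
    rw [hK, Submodule.restrictScalars_mem]
    exact Ideal.mem_map_of_mem _ hf𝔟
  rw [hK0, Submodule.mem_bot, AdjoinRoot.mk_eq_zero] at hfK
  exact hfK

theorem exists_monic_dvd {R : Type u} [CommRing R] [HenselianLocalRing R] (f : R[X])
    (hf : f.map (residue R) ≠ 0) :
    ∃ F : R[X], F.Monic ∧ F ∣ f ∧ F.natDegree = (f.map (residue R)).natDegree := by
  classical
  set fb := f.map (residue R) with hfb
  set d := fb.natDegree with hd
  have hcoeff : IsUnit (f.coeff d) := by
    have h1 : fb.coeff d ≠ 0 := by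
      rw [hd, coeff_natDegree]; exact leadingCoeff_ne_zero.mpr hf
    rw [hfb, coeff_map] at h1
    by_contra hnu
    exact h1 ((residue_eq_zero_iff _).mpr ((mem_maximalIdeal _).2 hnu))
  have hqf : Algebra.QuasiFinite R (AdjoinRoot f) := quasiFinite_adjoinRoot f d hcoeff
  have hft : Algebra.FiniteType R (AdjoinRoot f) := inferInstance
  obtain ⟨e, he, hfin, htop⟩ := Groth.Agent.S0503.result R (AdjoinRoot f)
  have h1e : 1 - e ∈ Ideal.map (algebraMap R (AdjoinRoot f)) (maximalIdeal R) := by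
    have h2 : Ideal.map (algebraMap R (AdjoinRoot f)) (maximalIdeal R) ⊔ Ideal.span {e} = ⊤ := by
      have h3 := congrArg (Ideal.comap (Ideal.Quotient.mk (Ideal.span ({e} : Set (AdjoinRoot f))))) htop
      rw [Ideal.comap_top, IsScalarTower.algebraMap_eq R (AdjoinRoot f)
        (AdjoinRoot f ⧸ Ideal.span ({e} : Set (AdjoinRoot f))), ← Ideal.map_map,
        Ideal.Quotient.algebraMap_eq,
        Ideal.comap_map_of_surjective _ Ideal.Quotient.mk_surjective,
        ← RingHom.ker_eq_comap_bot, Ideal.mk_ker] at h3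
      exact h3
    have h4 : (1 : AdjoinRoot f) ∈ Ideal.map (algebraMap R (AdjoinRoot f)) (maximalIdeal R) ⊔
        Ideal.span {e} := by rw [h2]; trivial
    obtain ⟨j, hj, y, hy, hjy⟩ := Submodule.mem_sup.1 h4
    obtain ⟨s, rfl⟩ := Ideal.mem_span_singleton.1 hy
    have : 1 - e = (1 - e) * j := by
      have h5 : (1 - e) * (e * s) = 0 := by
        rw [← mul_assoc, sub_mul, one_mul, he.eq, sub_self, zero_mul]
      calc 1 - e = (1 - e) * (j + e * s) := by rw [hjy, mul_one]
        _ = (1 - e) * j := by rw [mul_add, h5, add_zero]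
    rw [this]
    exact Ideal.mul_mem_left _ _ hj
  exact exists_monic_dvd_aux f hf e he hfin h1e

theorem exists_factor {R : Type u} [CommRing R] [HenselianLocalRing R]
    (f : R[X]) (g₀ h₀ : (ResidueField R)[X]) (hg : g₀.Monic)
    (hc : IsCoprime g₀ h₀) (hf : f.map (residue R) = g₀ * h₀) :
    ∃ g h : R[X], f = g * h ∧ g.Monic ∧ g.map (residue R) = g₀ ∧ h.map (residue R) = h₀ := by
  classical
  by_cases hf0 : f.map (residue R) = 0
  · have hh0 : h₀ = 0 := by
      rw [hf0] at hf
      exact (mul_eq_zero.1 hf.symm).resolve_left hg.ne_zero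
    have hg1 : g₀ = 1 := by
      rw [hh0, isCoprime_zero_right] at hc
      exact hg.eq_one_of_isUnit hc
    refine ⟨1, f, (one_mul f).symm, monic_one, by rw [Polynomial.map_one, hg1], ?_⟩
    rw [hf0, hh0]
  · obtain ⟨F, hFm, ⟨U, hU⟩, hFd⟩ := exists_monic_dvd f hf0
    set Fb := F.map (residue R) with hFb
    set Ub := U.map (residue R) with hUb
    have hFbm : Fb.Monic := hFm.map _
    have hFbd : Fb.natDegree = (f.map (residue R)).natDegree := by
      rw [hFb, hFm.natDegree_map]; exact hFd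
    have hfU : f.map (residue R) = Fb * Ub := by rw [hU, Polynomial.map_mul]
    have hUb0 : Ub ≠ 0 := by
      intro h; rw [h, mul_zero] at hfU; exact hf0 hfU
    have hUbd : Ub.natDegree = 0 := by
      have h1 := congrArg natDegree hfU
      rw [natDegree_mul hFbm.ne_zero hUb0, hFbd] at h1
      omega
    obtain ⟨c, hcU⟩ : ∃ c, Ub = C c := ⟨_, eq_C_of_natDegree_eq_zero hUbd⟩
    have hc0 : c ≠ 0 := by
      intro h; rw [h, C_0] at hcU; exact hUb0 hcU
    set h₁₀ : (ResidueField R)[X] := h₀ * C c⁻¹ with hh₁₀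
    have hfac : Fb = g₀ * h₁₀ := by
      have h1 : Fb * C c = g₀ * h₀ := by rw [← hcU, ← hfU, hf]
      have h2 : (C c : (ResidueField R)[X]) * C c⁻¹ = 1 := by
        rw [← C_mul, mul_inv_cancel₀ hc0, C_1]
      calc Fb = Fb * (C c * C c⁻¹) := by rw [h2, mul_one]
        _ = (Fb * C c) * C c⁻¹ := by ring
        _ = g₀ * h₁₀ := by rw [h1, hh₁₀]; ring
    have hh₁₀m : h₁₀.Monic := hg.of_mul_monic_left (hfac ▸ hFbm)
    have hcop : IsCoprime g₀ h₁₀ := by
      have hu : IsUnit (C c⁻¹ : (ResidueField R)[X]) :=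
        Polynomial.isUnit_C.2 (isUnit_iff_ne_zero.2 (inv_ne_zero hc0))
      exact (isCoprime_mul_unit_right_right hu g₀ h₀).2 hc
    obtain ⟨g, h₁, hgm, -, hFgh, hgmap, hh₁map, -⟩ :=
      Groth.Agent.Lib.Helper58.HenselPair.exists_factor_lift (I := maximalIdeal R)
        F hFm g₀ h₁₀ hg hh₁₀m hcop hfac
    refine ⟨g, h₁ * U, by rw [hU, hFgh, mul_assoc], hgm, hgmap, ?_⟩
    rw [Polynomial.map_mul]
    have : h₁.map (residue R) = h₁₀ := hh₁map
    rw [this, ← hUb, hcU, hh₁₀, mul_assoc, ← C_mul, inv_mul_cancel₀ hc0, C_1, mul_one]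

end Groth.Agent.Lib.Helper9.HenselFactor
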