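import Mathlib
import Groth.Prelude.Def_EtRam

set_option autoImplicit false

namespace Groth.Agent.Lib.Helper9.DvrExt

open IsDiscreteValuationRing

set_option linter.unusedSectionVars false
set_option linter.style.haveILetI false
set_option linter.overlappingInstances false

local notation "𝔪" => IsLocalRing.maximalIdeal

section Abstract

variable {A B : Type*} [CommRing A] [IsDomain A] [IsDiscreteValuationRing A]
  [CommRing B] [IsDomain B] [IsDiscreteValuationRing B] [Algebra A B]

theorem exists_map_uniformizer (hinj : Function.Injective (algebraMap A B))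
    [IsLocalHom (algebraMap A B)] {π : A} (hπ : Irreducible π) {ϖ : B} (hϖ : Irreducible ϖ) :
    ∃ (e : ℕ) (u : Bˣ), e ≠ 0 ∧ algebraMap A B π = u * ϖ ^ e := by
  have h0 : algebraMap A B π ≠ 0 := by
    rw [Ne, map_eq_zero_iff _ hinj]; exact hπ.ne_zero
  obtain ⟨e, u, hu⟩ := eq_unit_mul_pow_irreducible h0 hϖ
  refine ⟨e, u, ?_, hu⟩
  rintro rfl
  rw [pow_zero, mul_one] at hu
  have : IsUnit (algebraMap A B π) := hu ▸ u.isUnit
  exact hπ.not_isUnit (isUnit_of_map_unit (algebraMap A B) π this)

theorem ramificationIdx'_eq_of_map_uniformizer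
    {π : A} (hπ : Irreducible π) {ϖ : B} (hϖ : Irreducible ϖ) {e : ℕ} {u : Bˣ}
    (h : algebraMap A B π = u * ϖ ^ e) :
    Ideal.ramificationIdx' (𝔪 A) (𝔪 B) = e := by
  have hmap : (𝔪 A).map (algebraMap A B) = 𝔪 B ^ e := by
    rw [hπ.maximalIdeal_eq, hϖ.maximalIdeal_eq, Ideal.map_span, Set.image_singleton, h,
      Ideal.span_singleton_pow, Ideal.span_singleton_eq_span_singleton]
    exact ⟨u⁻¹, by rw [mul_comm, ← mul_assoc]; simp⟩
  refine Ideal.ramificationIdx'_spec hmap.le ?_
  rw [hmap, hϖ.maximalIdeal_eq, Ideal.span_singleton_pow, Ideal.span_singleton_pow,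
    Ideal.span_singleton_le_span_singleton, pow_dvd_pow_iff hϖ.ne_zero hϖ.not_isUnit]
  omega

theorem map_maximalIdeal_eq_pow (hinj : Function.Injective (algebraMap A B))
    [IsLocalHom (algebraMap A B)] :
    (𝔪 A).map (algebraMap A B) =
      𝔪 B ^ Ideal.ramificationIdx' (𝔪 A) (𝔪 B) := by
  obtain ⟨π, hπ⟩ := exists_irreducible A
  obtain ⟨ϖ, hϖ⟩ := exists_irreducible B
  obtain ⟨e, u, he, h⟩ := exists_map_uniformizer hinj hπ hϖ
  rw [ramificationIdx'_eq_of_map_uniformizer hπ hϖ h]
  rw [hπ.maximalIdeal_eq, hϖ.maximalIdeal_eq, Ideal.map_span, Set.image_singleton, h,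
      Ideal.span_singleton_pow, Ideal.span_singleton_eq_span_singleton]
  exact ⟨u⁻¹, by rw [mul_comm, ← mul_assoc]; simp⟩

theorem ramificationIdx'_ne_zero (hinj : Function.Injective (algebraMap A B))
    [IsLocalHom (algebraMap A B)] :
    Ideal.ramificationIdx' (𝔪 A) (𝔪 B) ≠ 0 := by
  obtain ⟨π, hπ⟩ := exists_irreducible A
  obtain ⟨ϖ, hϖ⟩ := exists_irreducible B
  obtain ⟨e, u, he, h⟩ := exists_map_uniformizer hinj hπ hϖ
  rwa [ramificationIdx'_eq_of_map_uniformizer hπ hϖ h]

theorem addVal_algebraMap (hinj : Function.Injective (algebraMap A B))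
    [IsLocalHom (algebraMap A B)] (x : A) :
    addVal B (algebraMap A B x) =
      Ideal.ramificationIdx' (𝔪 A) (𝔪 B) • addVal A x := by
  obtain ⟨π, hπ⟩ := exists_irreducible A
  obtain ⟨ϖ, hϖ⟩ := exists_irreducible B
  obtain ⟨e, u, he, h⟩ := exists_map_uniformizer hinj hπ hϖ
  rw [ramificationIdx'_eq_of_map_uniformizer hπ hϖ h]
  by_cases hx : x = 0
  · subst hx
    simp [he]
  obtain ⟨n, v, rfl⟩ := eq_unit_mul_pow_irreducible hx hπ
  rw [map_mul, map_pow, h, addVal_mul, addVal_mul, addVal_pow, addVal_pow, addVal_mul,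
    addVal_eq_zero_of_unit, addVal_eq_zero_of_unit, addVal_pow, addVal_uniformizer hϖ,
    addVal_uniformizer hπ]
  have : IsUnit (algebraMap A B v) := v.isUnit.map _
  rw [show algebraMap A B v = this.unit from rfl, addVal_eq_zero_of_unit]
  simp [mul_comm]

end Abstract

section EF

variable {A B K L : Type*} [CommRing A] [IsDomain A] [IsDiscreteValuationRing A]
  [CommRing B] [IsDomain B] [IsDiscreteValuationRing B] [Algebra A B]
  [Field K] [Field L] [Algebra A K] [IsFractionRing A K] [Algebra B L] [IsFractionRing B L]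
  [Algebra K L] [Algebra A L] [IsScalarTower A K L] [IsScalarTower A B L]

theorem linearIndependent_mul_pow (hinj : Function.Injective (algebraMap A B))
    [IsLocalHom (algebraMap A B)] {ι : Type*} [Fintype ι] (b : ι → B)
    (hb : LinearIndependent (IsLocalRing.ResidueField A) (fun i => IsLocalRing.residue B (b i)))
    {ϖ : B} (hϖ : Irreducible ϖ) :
    LinearIndependent K (fun x : ι × Fin (Ideal.ramificationIdx' (𝔪 A) (𝔪 B)) =>
      algebraMap B L (b x.1 * ϖ ^ (x.2 : ℕ))) := by
  classical
  set e := Ideal.ramificationIdx' (𝔪 A) (𝔪 B) with he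
  rw [Fintype.linearIndependent_iff]
  intro g hg
  by_contra hne
  push Not at hne
  obtain ⟨x₀, hx₀⟩ := hne
  obtain ⟨a, hint, x₁, -, hx₁⟩ := Ideal.exist_integer_multiples_notMem (A := A) (K := K)
    (J := 𝔪 A) (Ideal.IsPrime.ne_top inferInstance) Finset.univ g (Finset.mem_univ x₀) hx₀
  choose c hc using fun x => hint x (Finset.mem_univ x)
  have hsum : ∑ x : ι × Fin e, algebraMap A B (c x) * (b x.1 * ϖ ^ (x.2 : ℕ)) = 0 := by
    apply IsFractionRing.injective B L
    rw [map_sum, map_zero]
    have : ∀ x : ι × Fin e, algebraMap B L (algebraMap A B (c x) * (b x.1 * ϖ ^ (x.2 : ℕ))) =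
        a • (g x • algebraMap B L (b x.1 * ϖ ^ (x.2 : ℕ))) := by
      intro x
      rw [map_mul (algebraMap B L), ← IsScalarTower.algebraMap_apply A B L,
        IsScalarTower.algebraMap_apply A K L, hc x, smul_smul, Algebra.smul_def]
    simp_rw [this]
    rw [← Finset.smul_sum, hg, smul_zero]
  have hx₁' : c x₁ ∉ 𝔪 A := by
    intro h
    apply hx₁
    rw [FractionalIdeal.mem_coeIdeal]
    exact ⟨c x₁, h, hc x₁⟩
  let T : Finset (Fin e) := Finset.univ.filter fun j => ∃ i, c (i, j) ∉ 𝔪 A
  have hT : T.Nonempty := ⟨x₁.2, by simp only [T, Finset.mem_filter, Finset.mem_univ, true_and]; exact ⟨x₁.1, hx₁'⟩⟩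
  obtain ⟨j₀, hj₀T, hj₀min⟩ := Finset.exists_min_image T (fun j => j) hT
  simp only [T, Finset.mem_filter, Finset.mem_univ, true_and] at hj₀T hj₀min
  obtain ⟨i₀, hi₀⟩ := hj₀T
  have hmap : (𝔪 A).map (algebraMap A B) = Ideal.span {ϖ ^ e} := by
    have h := map_maximalIdeal_eq_pow (A := A) (B := B) hinj
    rw [← he] at h
    rw [h, hϖ.maximalIdeal_eq, Ideal.span_singleton_pow]
  let I : Ideal B := Ideal.span {ϖ ^ ((j₀ : ℕ) + 1)}
  let F : Fin e → B := fun j => ∑ i, algebraMap A B (c (i, j)) * (b i * ϖ ^ (j : ℕ))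
  have hF : ∑ j, F j = 0 := by
    rw [← hsum, Fintype.sum_prod_type_right]
  have hFI : ∀ j, j ≠ j₀ → F j ∈ I := by
    intro j hj
    refine Ideal.sum_mem _ fun i _ => ?_
    rcases lt_or_gt_of_ne hj with hlt | hgt
    · have hcm : c (i, j) ∈ 𝔪 A := by
        by_contra h
        exact absurd (hj₀min j ⟨i, h⟩) (not_le.2 hlt)
      have h1 : algebraMap A B (c (i, j)) ∈ Ideal.span {ϖ ^ e} := by
        rw [← hmap]; exact Ideal.mem_map_of_mem _ hcm
      have h2 : Ideal.span {ϖ ^ e} ≤ I := by
        rw [Ideal.span_singleton_le_span_singleton]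
        exact pow_dvd_pow _ (by have := j₀.2; omega)
      exact Ideal.mul_mem_right _ _ (h2 h1)
    · have h3 : ϖ ^ (j : ℕ) ∈ I := by
        rw [Ideal.mem_span_singleton]
        exact pow_dvd_pow _ (by have : (j₀ : ℕ) < j := hgt; omega)
      exact Ideal.mul_mem_left _ _ (Ideal.mul_mem_left _ _ h3)
  have hF₀ : F j₀ ∈ I := by
    have : F j₀ = - ∑ j ∈ Finset.univ.erase j₀, F j := by
      rw [eq_neg_iff_add_eq_zero, Finset.add_sum_erase _ _ (Finset.mem_univ j₀), hF]
    rw [this]
    exact neg_mem (Ideal.sum_mem _ fun j hj => hFI j (Finset.ne_of_mem_erase hj))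
  have hG : ϖ ∣ ∑ i, algebraMap A B (c (i, j₀)) * b i := by
    have h4 : F j₀ = ϖ ^ (j₀ : ℕ) * ∑ i, algebraMap A B (c (i, j₀)) * b i := by
      simp only [F, Finset.mul_sum]
      refine Finset.sum_congr rfl fun i _ => ?_
      ring
    rw [h4, Ideal.mem_span_singleton, pow_succ] at hF₀
    exact (mul_dvd_mul_iff_left (pow_ne_zero _ hϖ.ne_zero)).1 hF₀
  have hres : ∑ i, IsLocalRing.residue A (c (i, j₀)) • IsLocalRing.residue B (b i) = 0 := by
    have h5 : IsLocalRing.residue B (∑ i, algebraMap A B (c (i, j₀)) * b i) = 0 := by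
      rw [IsLocalRing.residue_eq_zero_iff, hϖ.maximalIdeal_eq, Ideal.mem_span_singleton]
      exact hG
    rw [map_sum] at h5
    rw [← h5]
    refine Finset.sum_congr rfl fun i _ => ?_
    rw [map_mul, Algebra.smul_def, IsLocalRing.ResidueField.algebraMap_residue]
  have h6 := (Fintype.linearIndependent_iff.1 hb) (fun i => IsLocalRing.residue A (c (i, j₀))) hres i₀
  rw [IsLocalRing.residue_eq_zero_iff] at h6
  exact hi₀ h6

theorem card_mul_ramificationIdx'_le (hinj : Function.Injective (algebraMap A B))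
    [IsLocalHom (algebraMap A B)] [FiniteDimensional K L] {ι : Type*} [Fintype ι]
    (v : ι → IsLocalRing.ResidueField B)
    (hv : LinearIndependent (IsLocalRing.ResidueField A) v) :
    Fintype.card ι * Ideal.ramificationIdx' (𝔪 A) (𝔪 B) ≤ Module.finrank K L := by
  obtain ⟨ϖ, hϖ⟩ := exists_irreducible B
  choose b hb using fun i => IsLocalRing.residue_surjective (v i)
  have hv' : LinearIndependent (IsLocalRing.ResidueField A)
      (fun i => IsLocalRing.residue B (b i)) := by
    convert hv using 1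
    exact funext hb
  have := (linearIndependent_mul_pow (K := K) (L := L) hinj b hv' hϖ).fintype_card_le_finrank
  simpa using this

theorem finite_residueField (hinj : Function.Injective (algebraMap A B))
    [IsLocalHom (algebraMap A B)] [FiniteDimensional K L] :
    Module.Finite (IsLocalRing.ResidueField A) (IsLocalRing.ResidueField B) := by
  have he := ramificationIdx'_ne_zero (A := A) (B := B) hinj
  have hrank : Module.rank (IsLocalRing.ResidueField A) (IsLocalRing.ResidueField B) ≤
      (Module.finrank K L : ℕ) := by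
    apply rank_le
    intro s hs
    have h := card_mul_ramificationIdx'_le (K := K) (L := L) hinj
      (fun i : s => (i : IsLocalRing.ResidueField B)) hs
    rw [Fintype.card_coe] at h
    calc s.card ≤ s.card * _ := Nat.le_mul_of_pos_right _ (Nat.pos_of_ne_zero he)
      _ ≤ _ := h
  exact Module.rank_lt_aleph0_iff.1 (lt_of_le_of_lt hrank Cardinal.natCast_lt_aleph0)

theorem ramificationIdx'_mul_finrank_le (hinj : Function.Injective (algebraMap A B))
    [IsLocalHom (algebraMap A B)] [FiniteDimensional K L] :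
    Ideal.ramificationIdx' (𝔪 A) (𝔪 B) *
      Module.finrank (IsLocalRing.ResidueField A) (IsLocalRing.ResidueField B) ≤
        Module.finrank K L := by
  have := finite_residueField (K := K) (L := L) hinj
  have h := card_mul_ramificationIdx'_le (K := K) (L := L) hinj _
    (Module.finBasis (IsLocalRing.ResidueField A) (IsLocalRing.ResidueField B)).linearIndependent
  rw [Fintype.card_fin] at h
  rwa [mul_comm]

end EF

section Tower

variable {A B C : Type*} [CommRing A] [IsDomain A] [IsDiscreteValuationRing A]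
  [CommRing B] [IsDomain B] [IsDiscreteValuationRing B] [Algebra A B]
  [CommRing C] [IsDomain C] [IsDiscreteValuationRing C] [Algebra B C] [Algebra A C]
  [IsScalarTower A B C]

theorem ramificationIdx'_tower (hAB : Function.Injective (algebraMap A B))
    (hBC : Function.Injective (algebraMap B C))
    [IsLocalHom (algebraMap A B)] [IsLocalHom (algebraMap B C)] :
    Ideal.ramificationIdx' (𝔪 A) (𝔪 C) =
      Ideal.ramificationIdx' (𝔪 A) (𝔪 B) * Ideal.ramificationIdx' (𝔪 B) (𝔪 C) := by
  obtain ⟨π, hπ⟩ := exists_irreducible A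
  obtain ⟨ϖ, hϖ⟩ := exists_irreducible B
  obtain ⟨τ, hτ⟩ := exists_irreducible C
  obtain ⟨e₁, u₁, -, h₁⟩ := exists_map_uniformizer hAB hπ hϖ
  obtain ⟨e₂, u₂, -, h₂⟩ := exists_map_uniformizer hBC hϖ hτ
  have h₃ : algebraMap A C π = (Units.map (algebraMap B C).toMonoidHom u₁ * u₂ ^ e₁ : Cˣ) *
      τ ^ (e₁ * e₂) := by
    rw [IsScalarTower.algebraMap_apply A B C, h₁, map_mul, map_pow, h₂]
    push_cast
    simp only [RingHom.toMonoidHom_eq_coe, Units.coe_map, MonoidHom.coe_coe]
    ring
  rw [ramificationIdx'_eq_of_map_uniformizer hπ hϖ h₁,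
    ramificationIdx'_eq_of_map_uniformizer hϖ hτ h₂,
    ramificationIdx'_eq_of_map_uniformizer hπ hτ h₃]

end Tower

section WU

variable {A B : Type*} [CommRing A] [IsDomain A] [IsDiscreteValuationRing A]
  [CommRing B] [IsDomain B] [IsDiscreteValuationRing B] [Algebra A B]

theorem isWeaklyUnramified_iff (hAB : Function.Injective (algebraMap A B))
    [IsLocalHom (algebraMap A B)] :
    (𝔪 A).map (algebraMap A B) = 𝔪 B ↔ Ideal.ramificationIdx' (𝔪 A) (𝔪 B) = 1 := by
  constructor
  · intro h
    refine Ideal.ramificationIdx'_spec (by rw [h, pow_one]) ?_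
    rw [h]
    intro hle
    obtain ⟨ϖ, hϖ⟩ := exists_irreducible B
    rw [hϖ.maximalIdeal_eq, Ideal.span_singleton_pow, Ideal.span_singleton_le_span_singleton] at hle
    have : ϖ ^ 2 ∣ ϖ ^ 1 := by rwa [pow_one]
    rw [pow_dvd_pow_iff hϖ.ne_zero hϖ.not_isUnit] at this
    omega
  · intro h
    rw [map_maximalIdeal_eq_pow hAB, h, pow_one]

end WU

section ValRing

set_option linter.deprecated false

variable {A K L V : Type*} [CommRing A] [IsDomain A] [IsDiscreteValuationRing A]
  [Field K] [Algebra A K] [IsFractionRing A K] [Field L] [Algebra K L] [FiniteDimensional K L]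
  [Algebra A L] [IsScalarTower A K L] [CommRing V] [IsDomain V] [Algebra A V]
  [Algebra V L] [IsFractionRing V L] [IsScalarTower A V L]

attribute [local instance] Ideal.Quotient.field

include K L in
theorem finite_quotient_map_maximalIdeal :
    Module.Finite (A ⧸ 𝔪 A) (V ⧸ (𝔪 A).map (algebraMap A V)) := by
  have hrank : Module.rank (A ⧸ 𝔪 A) (V ⧸ (𝔪 A).map (algebraMap A V)) ≤
      (Module.finrank K L : ℕ) := by
    apply rank_le
    intro s hs
    choose b hb using fun i : s => Ideal.Quotient.mk_surjective (i : V ⧸ (𝔪 A).map (algebraMap A V))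
    have hker : RingHom.ker (algebraMap A (A ⧸ 𝔪 A)) ≠ ⊤ := by
      rw [Ideal.Quotient.algebraMap_eq, Ideal.mk_ker]
      exact Ideal.IsPrime.ne_top inferInstance
    have hli := Ideal.FinrankQuotientMap.linearIndependent_of_nontrivial (R := A) (S := A ⧸ 𝔪 A) K
      (V := L) (V' := V ⧸ (𝔪 A).map (algebraMap A V)) (V'' := V) hker
      (IsScalarTower.toAlgHom A V L).toLinearMap (IsFractionRing.injective V L)
      (Ideal.Quotient.mkₐ A ((𝔪 A).map (algebraMap A V))).toLinearMap (b := b) (by
        have hfb : ⇑(Ideal.Quotient.mkₐ A ((𝔪 A).map (algebraMap A V))).toLinearMap ∘ b =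
            fun i : s => (i : V ⧸ (𝔪 A).map (algebraMap A V)) := funext hb
        rw [hfb]
        exact hs)
    have := hli.fintype_card_le_finrank
    simpa using this
  exact Module.rank_lt_aleph0_iff.1 (lt_of_le_of_lt hrank Cardinal.natCast_lt_aleph0)

include K L in
theorem isDiscreteValuationRing_of_valuationRing [ValuationRing V] [IsLocalHom (algebraMap A V)] :
    IsDiscreteValuationRing V := by
  classical
  have hAL : Function.Injective (algebraMap A L) := by
    rw [IsScalarTower.algebraMap_eq A K L]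
    exact (algebraMap K L).injective.comp (IsFractionRing.injective A K)
  have hAV : Function.Injective (algebraMap A V) := by
    intro x y hxy
    apply hAL
    rw [IsScalarTower.algebraMap_apply A V L, hxy, ← IsScalarTower.algebraMap_apply A V L]
  obtain ⟨π, hπ⟩ := exists_irreducible A
  set P : Ideal V := (𝔪 A).map (algebraMap A V) with hP
  have hPspan : P = Ideal.span {algebraMap A V π} := by
    rw [hP, hπ.maximalIdeal_eq, Ideal.map_span, Set.image_singleton]
  have hπV : algebraMap A V π ∈ 𝔪 V := by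
    rw [IsLocalRing.mem_maximalIdeal, mem_nonunits_iff]
    intro h
    exact hπ.not_isUnit (isUnit_of_map_unit (algebraMap A V) π h)
  have hπ0 : algebraMap A V π ≠ 0 := by
    rw [Ne, map_eq_zero_iff _ hAV]; exact hπ.ne_zero
  have hPle : P ≤ 𝔪 V := by
    rw [hPspan, Ideal.span_singleton_le_iff_mem]; exact hπV
  have hfin : Module.Finite (A ⧸ 𝔪 A) (V ⧸ P) := finite_quotient_map_maximalIdeal (K := K) (L := L)
  have hfinA : Module.Finite A (V ⧸ P) := Module.Finite.trans (A ⧸ 𝔪 A) (V ⧸ P)
  have hnoeA : IsNoetherian A (V ⧸ P) := isNoetherian_of_isNoetherianRing_of_finite A (V ⧸ P)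
  have hnoeV : IsNoetherian V (V ⧸ P) := isNoetherian_of_tower A hnoeA
  have hart : IsArtinianRing (V ⧸ P) := IsArtinianRing.of_finite (A ⧸ 𝔪 A) (V ⧸ P)
  have hfg : (𝔪 V).FG := by
    refine Submodule.fg_of_fg_map_of_fg_inf_ker (Submodule.mkQ P) (IsNoetherian.noetherian _) ?_
    rw [Submodule.ker_mkQ, inf_eq_right.2 hPle, hPspan]
    exact ⟨{algebraMap A V π}, by simp⟩
  obtain ⟨ϖ, hϖ⟩ := (IsBezout.isPrincipal_of_FG _ hfg).principal
  have hϖ' : 𝔪 V = Ideal.span {ϖ} := hϖ
  have hϖ0 : ϖ ≠ 0 := by
    rintro rfl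
    rw [hϖ', Ideal.mem_span_singleton, zero_dvd_iff] at hπV
    exact hπ0 hπV
  have hirr : Irreducible ϖ := irreducible_of_span_eq_maximalIdeal ϖ hϖ0 hϖ'
  have hϖmem : ϖ ∈ 𝔪 V := by rw [hϖ']; exact Ideal.mem_span_singleton_self ϖ
  have hjac : Ideal.Quotient.mk P ϖ ∈ (⊥ : Ideal (V ⧸ P)).jacobson := by
    rw [Ideal.mem_jacobson_bot]
    intro y
    obtain ⟨y, rfl⟩ := Ideal.Quotient.mk_surjective y
    rw [← map_mul, ← map_one (Ideal.Quotient.mk P), ← map_add]
    apply IsUnit.map
    have : ϖ * y ∈ 𝔪 V := Ideal.mul_mem_right _ _ hϖmem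
    by_contra hnu
    have h1 : ϖ * y + 1 ∈ 𝔪 V := by rwa [IsLocalRing.mem_maximalIdeal, mem_nonunits_iff]
    have h2 : (1 : V) ∈ 𝔪 V := by
      have h3 := Ideal.sub_mem _ h1 this
      rwa [add_sub_cancel_left] at h3
    exact (Ideal.ne_top_iff_one _).1 (IsLocalRing.maximalIdeal.isMaximal V).ne_top h2
  obtain ⟨k, hk⟩ := IsArtinianRing.isNilpotent_jacobson_bot (R := V ⧸ P)
  have hϖk : algebraMap A V π ∣ ϖ ^ k := by
    have h1 : (Ideal.Quotient.mk P ϖ) ^ k ∈ (⊥ : Ideal (V ⧸ P)).jacobson ^ k := Ideal.pow_mem_pow hjac k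
    rw [hk, Ideal.zero_eq_bot, Ideal.mem_bot, ← map_pow, Ideal.Quotient.eq_zero_iff_mem, hPspan,
      Ideal.mem_span_singleton] at h1
    exact h1
  have hdvd : ∀ x : V, x ≠ 0 → ∃ M : ℕ, x ∣ ϖ ^ M := by
    intro x hx
    have halg : IsAlgebraic A x := by
      rw [← isAlgebraic_algebraMap_iff (IsFractionRing.injective V L)]
      have : IsAlgebraic K (algebraMap V L x) := Algebra.IsAlgebraic.isAlgebraic _
      exact (IsFractionRing.isAlgebraic_iff A K L).2 this
    obtain ⟨a, ha0, hax⟩ := halg.exists_nonzero_dvd (mem_nonZeroDivisors_of_ne_zero hx)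
    obtain ⟨n, u, rfl⟩ := eq_unit_mul_pow_irreducible ha0 hπ
    refine ⟨k * n, hax.trans ?_⟩
    rw [map_mul, map_pow, pow_mul]
    have hu : IsUnit (algebraMap A V u) := u.isUnit.map _
    exact (hu.mul_left_dvd).2 (pow_dvd_pow_of_dvd hϖk n)
  have hassoc : ∀ (M : ℕ) (x : V), x ∣ ϖ ^ M → ∃ n, Associated (ϖ ^ n) x := by
    intro M
    induction M with
    | zero =>
      intro x hx
      rw [pow_zero] at hx
      exact ⟨0, by rw [pow_zero]; exact (associated_one_iff_isUnit.2 (isUnit_of_dvd_one hx)).symm⟩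
    | succ M ih =>
      intro x hx
      by_cases hxu : IsUnit x
      · exact ⟨0, by rw [pow_zero]; exact (associated_one_iff_isUnit.2 hxu).symm⟩
      · have hxm : x ∈ 𝔪 V := by rwa [IsLocalRing.mem_maximalIdeal, mem_nonunits_iff]
        rw [hϖ', Ideal.mem_span_singleton] at hxm
        obtain ⟨x', rfl⟩ := hxm
        rw [pow_succ', mul_dvd_mul_iff_left hϖ0] at hx
        obtain ⟨n, hn⟩ := ih x' hx
        exact ⟨n + 1, by rw [pow_succ']; exact hn.mul_left ϖ⟩
  refine IsDiscreteValuationRing.ofHasUnitMulPowIrreducibleFactorization ⟨ϖ, hirr, ?_⟩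
  intro x hx
  obtain ⟨M, hM⟩ := hdvd x hx
  exact hassoc M x hM

end ValRing

section VS

universe u

theorem valuation_lt_one_iff' {L : Type*} [Field L] (V : ValuationSubring L) (x : L) :
    V.valuation x < 1 ↔ x = 0 ∨ x⁻¹ ∉ V :=
  (ValuationSubring.mem_nonunits_iff V).symm.trans (ValuationSubring.mem_nonunits_iff_or V)

theorem valuation_comap_lt_one_iff {L M : Type*} [Field L] [Field M] (W : ValuationSubring M)
    (f : L →+* M) (x : L) : (W.comap f).valuation x < 1 ↔ W.valuation (f x) < 1 := by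
  rw [valuation_lt_one_iff', valuation_lt_one_iff', ValuationSubring.mem_comap, map_inv₀,
    map_eq_zero]

theorem exists_comap_eq {L M : Type*} [Field L] [Field M] (f : L →+* M) (V : ValuationSubring L) :
    ∃ W : ValuationSubring M, W.comap f = V := by
  obtain ⟨W, hle, hloc⟩ := LocalSubring.exists_le_valuationSubring (V.toLocalSubring.map f)
  refine ⟨W, ?_⟩
  ext x
  rw [ValuationSubring.mem_comap]
  constructor
  · intro hx
    by_contra hxV
    have hx0 : x ≠ 0 := fun h => hxV (h ▸ V.zero_mem)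
    have hinv : x⁻¹ ∈ V := (V.mem_or_inv_mem x).resolve_left hxV
    have hmem : f x⁻¹ ∈ (V.toLocalSubring.map f).toSubring := ⟨x⁻¹, hinv, rfl⟩
    have hu : IsUnit (Subring.inclusion hle ⟨f x⁻¹, hmem⟩) := by
      refine isUnit_iff_exists_inv.2 ⟨⟨f x, hx⟩, Subtype.ext ?_⟩
      show f x⁻¹ * f x = 1
      rw [← map_mul, inv_mul_cancel₀ hx0, map_one]
    obtain ⟨⟨y, hy⟩, hy1⟩ := isUnit_iff_exists_inv.1 (hloc.map_nonunit _ hu)
    obtain ⟨z, hz, rfl⟩ := hy
    have h1 : f x⁻¹ * f z = 1 := congrArg Subtype.val hy1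
    rw [← map_mul, ← map_one f] at h1
    have h2 := f.injective h1
    have : z = x := by
      field_simp at h2
      exact h2
    exact hxV (this ▸ hz)
  · intro hx
    exact hle ⟨x, hx, rfl⟩

variable {A : Type u} [CommRing A] [IsLocalRing A]

theorem dominates_comap_iff {L M : Type u} [Field L] [Field M] (g : A →+* L) (f : L →+* M)
    (W : ValuationSubring M) :
    EtRam.Dominates A g (W.comap f) ↔ EtRam.Dominates A (f.comp g) W := by
  unfold EtRam.Dominates
  simp only [ValuationSubring.mem_comap, valuation_comap_lt_one_iff, RingHom.comp_apply]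

theorem dominates_subtype {L M : Type u} [Field L] [Field M] (f : L →+* M)
    (W : ValuationSubring M) :
    EtRam.Dominates (W.comap f) (f.comp (W.comap f).subtype) W := by
  refine ⟨fun a => a.2, fun a ha => ?_⟩
  rw [RingHom.comp_apply, ← valuation_comap_lt_one_iff]
  exact (ValuationSubring.valuation_lt_one_iff _ a).1 ha

theorem isLocalHom_of_dominates {L : Type u} [Field L] (g : A →+* L) (V : ValuationSubring L)
    (h : EtRam.Dominates A g V) : IsLocalHom (RingHom.codRestrict g V h.1) := by
  constructor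
  intro a ha
  by_contra hna
  have h1 := h.2 a ((IsLocalRing.mem_maximalIdeal a).2 hna)
  have h2 := (ValuationSubring.valuation_eq_one_iff V _).1 ha
  rw [show ((RingHom.codRestrict g V h.1 a : V) : L) = g a from rfl] at h2
  exact (ne_of_lt h1) h2

end VS

section DomDVR

universe u

variable {A K L : Type u} [CommRing A] [IsDomain A] [IsDiscreteValuationRing A] [Field K]
  [Algebra A K] [IsFractionRing A K] [Field L] [Algebra K L]

theorem isDiscreteValuationRing_of_dominates [FiniteDimensional K L] (V : ValuationSubring L)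
    (h : EtRam.Dominates A ((algebraMap K L).comp (algebraMap A K)) V) :
    IsDiscreteValuationRing V := by
  letI : Algebra A L := ((algebraMap K L).comp (algebraMap A K)).toAlgebra
  haveI : IsScalarTower A K L := IsScalarTower.of_algebraMap_eq fun _ => rfl
  letI : Algebra A V := (RingHom.codRestrict _ V h.1).toAlgebra
  haveI : IsScalarTower A V L := IsScalarTower.of_algebraMap_eq fun _ => rfl
  haveI : IsLocalHom (algebraMap A V) := isLocalHom_of_dominates _ V h
  exact isDiscreteValuationRing_of_valuationRing (A := A) (K := K) (L := L)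

theorem injective_codRestrict_of_dominates (V : ValuationSubring L)
    (h : EtRam.Dominates A ((algebraMap K L).comp (algebraMap A K)) V) :
    Function.Injective (RingHom.codRestrict ((algebraMap K L).comp (algebraMap A K)) V h.1) := by
  intro x y hxy
  have h1 : (algebraMap K L) (algebraMap A K x) = (algebraMap K L) (algebraMap A K y) :=
    congrArg Subtype.val hxy
  exact IsFractionRing.injective A K ((algebraMap K L).injective h1)

end DomDVR

section TowerApps

variable {A B C : Type*} [CommRing A] [IsDomain A] [IsDiscreteValuationRing A]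
  [CommRing B] [IsDomain B] [IsDiscreteValuationRing B] [Algebra A B]
  [CommRing C] [IsDomain C] [IsDiscreteValuationRing C] [Algebra B C] [Algebra A C]
  [IsScalarTower A B C]
  [IsLocalHom (algebraMap A B)] [IsLocalHom (algebraMap B C)] [IsLocalHom (algebraMap A C)]

theorem isSeparable_residue_bot
    [Algebra.IsSeparable (IsLocalRing.ResidueField A) (IsLocalRing.ResidueField C)] :
    Algebra.IsSeparable (IsLocalRing.ResidueField A) (IsLocalRing.ResidueField B) :=
  Algebra.isSeparable_tower_bot_of_isSeparable (IsLocalRing.ResidueField A)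
    (IsLocalRing.ResidueField B) (IsLocalRing.ResidueField C)

theorem isSeparable_residue_trans
    [Algebra.IsSeparable (IsLocalRing.ResidueField A) (IsLocalRing.ResidueField B)]
    [Algebra.IsSeparable (IsLocalRing.ResidueField B) (IsLocalRing.ResidueField C)] :
    Algebra.IsSeparable (IsLocalRing.ResidueField A) (IsLocalRing.ResidueField C) :=
  Algebra.IsSeparable.trans (IsLocalRing.ResidueField A)
    (IsLocalRing.ResidueField B) (IsLocalRing.ResidueField C)

end TowerApps

section RangeVal

variable (B K₁ : Type*) [CommRing B] [IsDomain B] [ValuationRing B] [Field K₁] [Algebra B K₁]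
  [IsFractionRing B K₁]

def rangeValuationSubring : ValuationSubring K₁ :=
  { (algebraMap B K₁).range with
    mem_or_inv_mem' := fun x => by
      rcases ValuationRing.isInteger_or_isInteger B x with ⟨b, hb⟩ | ⟨b, hb⟩
      · exact Or.inl ⟨b, hb⟩
      · exact Or.inr ⟨b, hb⟩ }

variable {B K₁}

theorem mem_rangeValuationSubring {y : K₁} :
    y ∈ rangeValuationSubring B K₁ ↔ ∃ b : B, algebraMap B K₁ b = y := Iff.rfl

theorem eq_rangeValuationSubring [IsLocalRing B] (V : ValuationSubring K₁)
    (h1 : ∀ b : B, algebraMap B K₁ b ∈ V)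
    (h2 : ∀ b : B, b ∈ 𝔪 B → V.valuation (algebraMap B K₁ b) < 1) :
    V = rangeValuationSubring B K₁ := by
  ext y
  rw [mem_rangeValuationSubring]
  constructor
  · intro hy
    by_cases hy0 : y = 0
    · exact ⟨0, by rw [map_zero, hy0]⟩
    rcases ValuationRing.isInteger_or_isInteger B y with ⟨b, hb⟩ | ⟨b, hb⟩
    · exact ⟨b, hb⟩
    · by_cases hbu : IsUnit b
      · obtain ⟨c, hc⟩ := hbu.exists_right_inv
        refine ⟨c, ?_⟩
        have : algebraMap B K₁ b * algebraMap B K₁ c = 1 := by rw [← map_mul, hc, map_one]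
        have hb' : algebraMap B K₁ b = y⁻¹ := hb
        rw [hb'] at this
        field_simp at this
        exact this
      · have hbm : b ∈ 𝔪 B := (IsLocalRing.mem_maximalIdeal b).2 hbu
        have := h2 b hbm
        have hb' : algebraMap B K₁ b = y⁻¹ := hb
        rw [hb', valuation_lt_one_iff', inv_inv] at this
        rcases this with h | h
        · exact absurd (inv_eq_zero.1 h) hy0
        · exact absurd hy h
  · rintro ⟨b, rfl⟩
    exact h1 b

end RangeVal

end Groth.Agent.Lib.Helper9.DvrExt
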