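import Mathlib
import Groth.Agent.Lib.Helper9.DvrExt

set_option autoImplicit false

open LinearMap IsLocalRing nonZeroDivisors

universe u

attribute [local instance] Ideal.Quotient.field
attribute [local instance] FractionRing.liftAlgebra FractionRing.isScalarTower_liftAlgebra

namespace Groth.Agent.Lib.Helper9.TameDiff

theorem trace_eq_add_of_exact {k U V Q : Type*} [Field k]
    [AddCommGroup U] [Module k U] [FiniteDimensional k U]
    [AddCommGroup V] [Module k V] [FiniteDimensional k V]
    [AddCommGroup Q] [Module k Q] [FiniteDimensional k Q]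
    (ι : U →ₗ[k] V) (q : V →ₗ[k] Q) (hι : Function.Injective ι) (hq : Function.Surjective q)
    (hex : LinearMap.range ι = LinearMap.ker q)
    (fU : U →ₗ[k] U) (fV : V →ₗ[k] V) (fQ : Q →ₗ[k] Q)
    (h1 : ι ∘ₗ fU = fV ∘ₗ ι) (h2 : q ∘ₗ fV = fQ ∘ₗ q) :
    trace k V fV = trace k U fU + trace k Q fQ := by
  obtain ⟨s, hs⟩ := LinearMap.exists_rightInverse_of_surjective q (LinearMap.range_eq_top.2 hq)
  have hP2 : ∀ v : V, v - s (q v) ∈ LinearMap.range ι := by
    intro v
    rw [hex, LinearMap.mem_ker, map_sub]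
    have : q (s (q v)) = q v := by
      have := LinearMap.congr_fun hs (q v)
      simpa using this
    rw [this, sub_self]
  let P2 : V →ₗ[k] LinearMap.range ι :=
    LinearMap.codRestrict (LinearMap.range ι) (LinearMap.id - s ∘ₗ q) (fun v => by
      simpa using hP2 v)
  let r : V →ₗ[k] U := (LinearEquiv.ofInjective ι hι).symm.toLinearMap ∘ₗ P2
  have hιr : ∀ v, ι (r v) = v - s (q v) := by
    intro v
    have := (LinearEquiv.ofInjective ι hι).apply_symm_apply (P2 v)
    have h3 : ι ((LinearEquiv.ofInjective ι hι).symm (P2 v)) = (P2 v : V) := by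
      have := congrArg Subtype.val this
      simpa using this
    simpa [r, P2] using h3
  have hrι : r ∘ₗ ι = LinearMap.id := by
    ext u
    apply hι
    rw [LinearMap.comp_apply, hιr, LinearMap.id_apply]
    have : q (ι u) = 0 := by
      have : ι u ∈ LinearMap.ker q := hex ▸ LinearMap.mem_range_self ι u
      exact this
    rw [this, map_zero, sub_zero]
  have hdecomp : fV = (ι ∘ₗ r) ∘ₗ fV + (s ∘ₗ q) ∘ₗ fV := by
    ext v
    simp only [LinearMap.add_apply, LinearMap.comp_apply, hιr]
    abel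
  have ht1 : trace k V ((ι ∘ₗ r) ∘ₗ fV) = trace k U fU := by
    rw [LinearMap.comp_assoc, LinearMap.trace_comp_comm', LinearMap.comp_assoc, ← h1,
      ← LinearMap.comp_assoc, hrι, LinearMap.id_comp]
  have ht2 : trace k V ((s ∘ₗ q) ∘ₗ fV) = trace k Q fQ := by
    rw [LinearMap.comp_assoc, LinearMap.trace_comp_comm', h2, LinearMap.comp_assoc, hs,
      LinearMap.comp_id]
  rw [hdecomp, map_add, ht1, ht2]

theorem trace_quotient_pow {k C : Type*} [Field k] [CommRing C] [Algebra k C]
    [FiniteDimensional k C] (N : C) (e : ℕ)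
    (H : ∀ i < e, ∀ c : C, N ^ i * c ∈ Ideal.span {N ^ (i + 1)} → c ∈ Ideal.span {N}) (x : C) :
    ∀ i ≤ e, Algebra.trace k (C ⧸ Ideal.span {N ^ i}) (Ideal.Quotient.mk _ x) =
      i • Algebra.trace k (C ⧸ Ideal.span {N}) (Ideal.Quotient.mk _ x) := by
  intro i
  induction i with
  | zero =>
    intro _
    have : Subsingleton (C ⧸ Ideal.span {N ^ 0}) := by
      rw [pow_zero, Ideal.span_singleton_one]
      exact Ideal.Quotient.subsingleton_iff.2 rfl
    rw [Subsingleton.elim (Ideal.Quotient.mk (Ideal.span {N ^ 0}) x) 0, map_zero, zero_smul]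
  | succ i ih =>
    intro hi
    have hi' : i < e := hi
    have hle : Ideal.span {N ^ (i + 1)} ≤ Ideal.span {N ^ i} := by
      rw [Ideal.span_singleton_le_span_singleton]
      exact ⟨N, pow_succ N i⟩
    let ιC : (C ⧸ Ideal.span {N}) →ₗ[C] (C ⧸ Ideal.span {N ^ (i + 1)}) :=
      Submodule.liftQ (Ideal.span {N})
        (Submodule.mkQ (Ideal.span {N ^ (i + 1)}) ∘ₗ LinearMap.mulLeft C (N ^ i)) (by
          rw [Ideal.span_le]
          intro c hc
          rw [Set.mem_singleton_iff] at hc
          rw [SetLike.mem_coe, LinearMap.mem_ker, LinearMap.comp_apply, LinearMap.mulLeft_apply,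
            Submodule.mkQ_apply, Submodule.Quotient.mk_eq_zero, hc, ← pow_succ]
          exact Ideal.mem_span_singleton_self _)
    have hιC : ∀ c : C, ιC (Ideal.Quotient.mk _ c) = Ideal.Quotient.mk _ (N ^ i * c) := fun c => rfl
    let ι : (C ⧸ Ideal.span {N}) →ₗ[k] (C ⧸ Ideal.span {N ^ (i + 1)}) := ιC.restrictScalars k
    let q : (C ⧸ Ideal.span {N ^ (i + 1)}) →ₗ[k] (C ⧸ Ideal.span {N ^ i}) :=
      (Ideal.Quotient.factorₐ k hle).toLinearMap
    have hq : ∀ c : C, q (Ideal.Quotient.mk _ c) = Ideal.Quotient.mk _ c := fun c => rfl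
    have hιinj : Function.Injective ι := by
      rw [← LinearMap.ker_eq_bot, LinearMap.ker_eq_bot']
      intro u hu
      obtain ⟨c, rfl⟩ := Ideal.Quotient.mk_surjective u
      change ιC (Ideal.Quotient.mk _ c) = 0 at hu
      rw [hιC, Ideal.Quotient.eq_zero_iff_mem] at hu
      exact Ideal.Quotient.eq_zero_iff_mem.2 (H i hi' c hu)
    have hqsurj : Function.Surjective q := by
      intro z
      obtain ⟨c, rfl⟩ := Ideal.Quotient.mk_surjective z
      exact ⟨Ideal.Quotient.mk _ c, rfl⟩
    have hex : LinearMap.range ι = LinearMap.ker q := by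
      ext v
      obtain ⟨c, rfl⟩ := Ideal.Quotient.mk_surjective v
      rw [LinearMap.mem_ker, hq, Ideal.Quotient.eq_zero_iff_mem, Ideal.mem_span_singleton']
      constructor
      · rintro ⟨u, hu⟩
        obtain ⟨c', rfl⟩ := Ideal.Quotient.mk_surjective u
        change ιC (Ideal.Quotient.mk _ c') = _ at hu
        rw [hιC, Ideal.Quotient.eq, Ideal.mem_span_singleton'] at hu
        obtain ⟨a, ha⟩ := hu
        refine ⟨c' - a * N, ?_⟩
        rw [pow_succ] at ha
        linear_combination (-1 : C) * ha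
      · rintro ⟨a, ha⟩
        refine ⟨Ideal.Quotient.mk _ a, ?_⟩
        change ιC (Ideal.Quotient.mk _ a) = _
        rw [hιC, ← ha, mul_comm]
    have key := trace_eq_add_of_exact ι q hιinj hqsurj hex
      (Algebra.lmul k _ (Ideal.Quotient.mk _ x)) (Algebra.lmul k _ (Ideal.Quotient.mk _ x))
      (Algebra.lmul k _ (Ideal.Quotient.mk _ x))
      (by
        refine LinearMap.ext fun u => ?_
        obtain ⟨c, rfl⟩ := Ideal.Quotient.mk_surjective u
        change ιC (Ideal.Quotient.mk _ x * Ideal.Quotient.mk _ c) =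
          Ideal.Quotient.mk _ x * ιC (Ideal.Quotient.mk _ c)
        rw [← map_mul, hιC, hιC, ← map_mul]
        congr 1; ring)
      (by
        refine LinearMap.ext fun v => ?_
        obtain ⟨c, rfl⟩ := Ideal.Quotient.mk_surjective v
        change q (Ideal.Quotient.mk _ x * Ideal.Quotient.mk _ c) =
          Ideal.Quotient.mk _ x * q (Ideal.Quotient.mk _ c)
        rw [← map_mul, hq, hq, ← map_mul])
    rw [Algebra.trace_apply, key, ← Algebra.trace_apply, ← Algebra.trace_apply, ih hi'.le, succ_nsmul,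
      add_comm]

theorem trace_eq_smul_of_pow_eq_zero {k C : Type*} [Field k] [CommRing C] [Algebra k C]
    [FiniteDimensional k C] (N : C) (e : ℕ) (hN : N ^ e = 0)
    (H : ∀ i < e, ∀ c : C, N ^ i * c ∈ Ideal.span {N ^ (i + 1)} → c ∈ Ideal.span {N}) (x : C) :
    Algebra.trace k C x = e • Algebra.trace k (C ⧸ Ideal.span {N}) (Ideal.Quotient.mk _ x) := by
  rw [← trace_quotient_pow N e H x e le_rfl]
  have hbot : Ideal.span {N ^ e} = (⊥ : Ideal C) := by rw [hN]; simp
  let φ : (C ⧸ Ideal.span {N ^ e}) ≃ₐ[k] C :=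
    (Ideal.quotientEquivAlgOfEq k hbot).trans (AlgEquiv.quotientBot k C)
  have : φ (Ideal.Quotient.mk _ x) = x := rfl
  rw [← Algebra.trace_eq_of_algEquiv φ, this]

section
variable (A B : Type u) [CommRing A] [IsDomain A] [IsDiscreteValuationRing A]
    [CommRing B] [IsDomain B] [IsDiscreteValuationRing B] [Algebra A B] [Module.Finite A B]
    [Module.IsTorsionFree A B] [IsLocalHom (algebraMap A B)]

theorem liesOver_maximalIdeal : (maximalIdeal B).LiesOver (maximalIdeal A) := by
  have h : (maximalIdeal B).comap (algebraMap A B) = maximalIdeal A :=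
    ((IsLocalRing.local_hom_TFAE (algebraMap A B)).out 0 4).mp ‹IsLocalHom (algebraMap A B)›
  exact ⟨h.symm⟩

theorem trace_quotient_map_eq (e : ℕ) (he0 : e ≠ 0)
    (he : (maximalIdeal A).map (algebraMap A B) = maximalIdeal B ^ e) (x : B) :
    Algebra.trace (A ⧸ maximalIdeal A) (B ⧸ (maximalIdeal A).map (algebraMap A B))
        (Ideal.Quotient.mk _ x) =
      e • Algebra.trace (A ⧸ maximalIdeal A) (B ⧸ maximalIdeal B) (Ideal.Quotient.mk _ x) := by
  obtain ⟨ϖ, hϖ⟩ := IsDiscreteValuationRing.exists_irreducible B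
  set I := (maximalIdeal A).map (algebraMap A B) with hI
  have hIϖ : I = Ideal.span {ϖ ^ e} := by
    rw [he, hϖ.maximalIdeal_eq, Ideal.span_singleton_pow]
  set N : B ⧸ I := Ideal.Quotient.mk I ϖ with hN
  have hNe : N ^ e = 0 := by
    rw [hN, ← map_pow, Ideal.Quotient.eq_zero_iff_mem, hIϖ]
    exact Ideal.mem_span_singleton_self _
  have H : ∀ i < e, ∀ c : B ⧸ I, N ^ i * c ∈ Ideal.span {N ^ (i + 1)} → c ∈ Ideal.span {N} := by
    intro i hi c hc
    obtain ⟨b, rfl⟩ := Ideal.Quotient.mk_surjective c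
    rw [Ideal.mem_span_singleton'] at hc
    obtain ⟨a, ha⟩ := hc
    obtain ⟨b', rfl⟩ := Ideal.Quotient.mk_surjective a
    rw [hN, ← map_pow, ← map_pow, ← map_mul, ← map_mul, Ideal.Quotient.eq, hIϖ,
      Ideal.mem_span_singleton'] at ha
    obtain ⟨b'', hb''⟩ := ha
    have h1 : ϖ ^ i * (ϖ * (b' - b'' * ϖ ^ (e - i - 1))) = ϖ ^ i * b := by
      have h2 : ϖ ^ e = ϖ ^ i * ϖ * ϖ ^ (e - i - 1) := by
        rw [← pow_succ, ← pow_add]; congr 1; omega
      have h3 : b' * ϖ ^ (i + 1) - ϖ ^ i * b = b'' * ϖ ^ e := hb''.symm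
      rw [h2] at h3
      rw [pow_succ] at h3
      linear_combination h3
    have h4 := mul_left_cancel₀ (pow_ne_zero i hϖ.ne_zero) h1
    rw [Ideal.mem_span_singleton']
    refine ⟨Ideal.Quotient.mk I (b' - b'' * ϖ ^ (e - i - 1)), ?_⟩
    rw [hN, ← map_mul, ← h4, mul_comm]
  rw [trace_eq_smul_of_pow_eq_zero N e hNe H]
  congr 1
  have hle : I ≤ maximalIdeal B := by
    rw [hI, Ideal.map_le_iff_le_comap]
    exact (liesOver_maximalIdeal A B).over.le
  let ψ : B ⧸ I →+* B ⧸ maximalIdeal B := Ideal.Quotient.factor hle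
  have hψ : ∀ b : B, ψ (Ideal.Quotient.mk I b) = Ideal.Quotient.mk _ b := fun b => rfl
  have hψsurj : Function.Surjective ψ := Ideal.Quotient.factor_surjective hle
  have hker : RingHom.ker ψ = Ideal.span {N} := by
    ext c
    obtain ⟨b, rfl⟩ := Ideal.Quotient.mk_surjective c
    rw [RingHom.mem_ker, hψ, Ideal.Quotient.eq_zero_iff_mem, hϖ.maximalIdeal_eq,
      Ideal.mem_span_singleton', Ideal.mem_span_singleton']
    constructor
    · rintro ⟨a, rfl⟩
      exact ⟨Ideal.Quotient.mk I a, by rw [hN, ← map_mul]⟩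
    · rintro ⟨a, ha⟩
      obtain ⟨a', rfl⟩ := Ideal.Quotient.mk_surjective a
      rw [hN, ← map_mul, Ideal.Quotient.eq, hIϖ, Ideal.mem_span_singleton'] at ha
      obtain ⟨b'', hb''⟩ := ha
      obtain ⟨j, hj⟩ : ∃ j, e = j + 1 := Nat.exists_eq_succ_of_ne_zero he0
      refine ⟨a' - b'' * ϖ ^ j, ?_⟩
      rw [hj, pow_succ] at hb''
      linear_combination (-1 : B) * hb''
  let e₂ : ((B ⧸ I) ⧸ Ideal.span {N}) ≃+* (B ⧸ maximalIdeal B) :=
    (Ideal.quotEquivOfEq hker.symm).trans (RingHom.quotientKerEquivOfSurjective hψsurj)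
  have he₂ : ∀ b : B, e₂ (Ideal.Quotient.mk _ (Ideal.Quotient.mk I b)) = Ideal.Quotient.mk _ b :=
    fun b => rfl
  have hcomm : RingHom.comp (algebraMap (A ⧸ maximalIdeal A) (B ⧸ maximalIdeal B))
      (RingEquiv.refl (A ⧸ maximalIdeal A) : _ →+* _) =
      RingHom.comp (e₂ : _ →+* _) (algebraMap (A ⧸ maximalIdeal A) ((B ⧸ I) ⧸ Ideal.span {N})) := by
    refine RingHom.ext fun a => ?_
    obtain ⟨a, rfl⟩ := Ideal.Quotient.mk_surjective a
    rfl
  rw [Algebra.trace_eq_of_equiv_equiv (RingEquiv.refl _) e₂ hcomm, he₂]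
  rfl

end

section
variable (A B : Type u) [CommRing A] [IsDomain A] [IsDiscreteValuationRing A]
    [CommRing B] [IsDomain B] [IsDiscreteValuationRing B] [Algebra A B] [Module.Finite A B]
    [Module.IsTorsionFree A B] [IsLocalHom (algebraMap A B)]
    [Algebra.IsSeparable (FractionRing A) (FractionRing B)]

theorem map_dvd_differentIdeal_of_intTrace_mem
    (h : ∀ x : B, Algebra.intTrace A B x ∈ maximalIdeal A) :
    (maximalIdeal A).map (algebraMap A B) ∣ differentIdeal A B := by
  obtain ⟨π, hπ⟩ := IsDiscreteValuationRing.exists_irreducible A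
  have hinj : Function.Injective (algebraMap A B) := FaithfulSMul.algebraMap_injective A B
  set β := algebraMap A B π with hβ
  have hβ0 : β ≠ 0 := by
    rw [hβ, Ne, map_eq_zero_iff _ hinj]; exact hπ.ne_zero
  have hI : (maximalIdeal A).map (algebraMap A B) = Ideal.span {β} := by
    rw [hπ.maximalIdeal_eq, Ideal.map_span, Set.image_singleton]
  have hIbot : Ideal.span {β} ≠ (⊥ : Ideal B) := by
    rw [Ne, Ideal.span_singleton_eq_bot]; exact hβ0
  have : IsLocalization (Algebra.algebraMapSubmonoid B A⁰) (FractionRing B) :=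
    IsIntegralClosure.isLocalization _ (FractionRing A) _ _
  have : FiniteDimensional (FractionRing A) (FractionRing B) := .of_isLocalization A B A⁰
  rw [hI, Ideal.dvd_iff_le,
    differentialIdeal_le_iff (K := FractionRing A) (L := FractionRing B) hIbot,
    Submodule.map_le_iff_le_comap]
  intro x hx
  rw [Submodule.restrictScalars_mem, FractionalIdeal.mem_coe,
    FractionalIdeal.coeIdeal_span_singleton, FractionalIdeal.spanSingleton_inv,
    FractionalIdeal.mem_spanSingleton] at hx
  obtain ⟨z, rfl⟩ := hx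
  rw [Submodule.mem_comap, LinearMap.coe_restrictScalars]
  obtain ⟨a', ha'⟩ := Ideal.mem_span_singleton'.1 (hπ.maximalIdeal_eq ▸ h z)
  rw [Submodule.mem_one]
  refine ⟨a', ?_⟩
  have h1 : algebraMap B (FractionRing B) β =
      algebraMap (FractionRing A) (FractionRing B) (algebraMap A (FractionRing A) π) := by
    rw [hβ, ← IsScalarTower.algebraMap_apply, ← IsScalarTower.algebraMap_apply]
  have hπK : algebraMap A (FractionRing A) π ≠ 0 := by
    rw [Ne, map_eq_zero_iff _ (IsFractionRing.injective A (FractionRing A))]; exact hπ.ne_zero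
  rw [h1, ← map_inv₀, Algebra.smul_def, mul_comm, ← Algebra.smul_def, map_smul,
    ← Algebra.algebraMap_intTrace (A := A), ← ha', map_mul, smul_eq_mul]
  field_simp

theorem differentIdeal_eq_pow_sub_one_iff (A B : Type u) [CommRing A] [IsDomain A] [IsDiscreteValuationRing A]
    [CommRing B] [IsDomain B] [IsDiscreteValuationRing B] [Algebra A B] [Module.Finite A B]
    [Module.IsTorsionFree A B]
    [IsLocalHom (algebraMap A B)] [Algebra.IsSeparable (FractionRing A) (FractionRing B)] :
    differentIdeal A B = maximalIdeal B ^ (Ideal.ramificationIdx (maximalIdeal B) A - 1) ↔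
      (Algebra.IsSeparable (ResidueField A) (ResidueField B) ∧
        ((Ideal.ramificationIdx (maximalIdeal B) A : ℕ) : ResidueField A) ≠ 0) := by
  have hinj : Function.Injective (algebraMap A B) := FaithfulSMul.algebraMap_injective A B
  have hp0 : maximalIdeal A ≠ ⊥ := IsDiscreteValuationRing.not_a_field A
  have hP0 : maximalIdeal B ≠ ⊥ := IsDiscreteValuationRing.not_a_field B
  have he' : (maximalIdeal A).ramificationIdx' (maximalIdeal B) =
      (maximalIdeal B).ramificationIdx A :=
    Ideal.ramificationIdx'_eq_ramificationIdx (maximalIdeal A) (maximalIdeal B) hp0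
  set e := (maximalIdeal B).ramificationIdx A with hedef
  have hmap : (maximalIdeal A).map (algebraMap A B) = maximalIdeal B ^ e := by
    rw [← he']; exact Groth.Agent.Lib.Helper9.DvrExt.map_maximalIdeal_eq_pow hinj
  have he0 : e ≠ 0 := by
    rw [← he']; exact Groth.Agent.Lib.Helper9.DvrExt.ramificationIdx'_ne_zero hinj
  have hdvd : maximalIdeal B ^ (e - 1) ∣ differentIdeal A B :=
    pow_sub_one_dvd_differentIdeal A (maximalIdeal B) e hp0 (hmap ▸ dvd_rfl)
  have key2 : ∀ x : B, Algebra.intTrace A B x ∈ maximalIdeal A ↔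
      (e : A ⧸ maximalIdeal A) *
        Algebra.trace (A ⧸ maximalIdeal A) (B ⧸ maximalIdeal B) (Ideal.Quotient.mk _ x) = 0 := by
    intro x
    rw [← Ideal.Quotient.eq_zero_iff_mem, ← Algebra.trace_quotient_eq_of_isDedekindDomain,
      trace_quotient_map_eq A B e he0 hmap, nsmul_eq_mul]
  have key1 : maximalIdeal B ^ e ∣ differentIdeal A B ↔
      ∀ x : B, Algebra.intTrace A B x ∈ maximalIdeal A := by
    constructor
    · intro h x
      by_contra hx
      exact not_dvd_differentIdeal_of_intTrace_not_mem A (maximalIdeal B ^ e) ⊤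
        (by rw [Ideal.mul_top, hmap]) x trivial hx h
    · intro h
      rw [← hmap]
      exact map_dvd_differentIdeal_of_intTrace_mem A B h
  have hD0 : differentIdeal A B ≠ ⊥ := differentIdeal_ne_bot
  obtain ⟨ϖ, hϖ⟩ := IsDiscreteValuationRing.exists_irreducible B
  obtain ⟨k, hk⟩ := IsDiscreteValuationRing.ideal_eq_span_pow_irreducible hD0 hϖ
  have hk' : differentIdeal A B = maximalIdeal B ^ k := by
    rw [hk, hϖ.maximalIdeal_eq, Ideal.span_singleton_pow]
  have hPtop : maximalIdeal B ≠ ⊤ := Ideal.IsPrime.ne_top'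
  have hanti := Ideal.pow_right_strictAnti (maximalIdeal B) hP0 hPtop
  have hle_iff : ∀ m n : ℕ, maximalIdeal B ^ m ≤ maximalIdeal B ^ n ↔ n ≤ m := fun m n =>
    hanti.le_iff_ge
  have hinj_pow : ∀ m n : ℕ, maximalIdeal B ^ m = maximalIdeal B ^ n ↔ m = n := fun m n =>
    hanti.injective.eq_iff
  have hk1 : e - 1 ≤ k := by
    rw [hk', Ideal.dvd_iff_le, hle_iff] at hdvd
    exact hdvd
  have step1 : differentIdeal A B = maximalIdeal B ^ (e - 1) ↔
      ¬ (maximalIdeal B ^ e ∣ differentIdeal A B) := by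
    rw [hk', hinj_pow, Ideal.dvd_iff_le, hle_iff]
    omega
  have hfin : Module.Finite (A ⧸ maximalIdeal A) (B ⧸ maximalIdeal B) :=
    Module.Finite.of_restrictScalars_finite A _ _
  have hsep_iff : Algebra.IsSeparable (ResidueField A) (ResidueField B) ↔
      Algebra.IsSeparable (A ⧸ maximalIdeal A) (B ⧸ maximalIdeal B) :=
    Algebra.IsSeparable.iff_of_equiv_equiv
      (RingEquiv.refl (A ⧸ maximalIdeal A) : ResidueField A ≃+* (A ⧸ maximalIdeal A))
      (RingEquiv.refl (B ⧸ maximalIdeal B) : ResidueField B ≃+* (B ⧸ maximalIdeal B)) (by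
      refine RingHom.ext fun a => ?_
      obtain ⟨a, rfl⟩ := Ideal.Quotient.mk_surjective a
      rfl)
  rw [step1, key1, hsep_iff]
  change _ ↔ _ ∧ ((e : ℕ) : A ⧸ maximalIdeal A) ≠ 0
  constructor
  · intro h
    push Not at h
    obtain ⟨x, hx⟩ := h
    rw [key2] at hx
    constructor
    · by_contra hns
      apply hx
      rw [Algebra.trace_eq_zero_of_not_isSeparable hns, LinearMap.zero_apply, mul_zero]
    · intro he
      apply hx
      rw [he, zero_mul]
  · rintro ⟨hsep, he⟩ hall
    have htr := Algebra.trace_ne_zero (A ⧸ maximalIdeal A) (B ⧸ maximalIdeal B)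
    apply htr
    refine LinearMap.ext fun y => ?_
    obtain ⟨x, rfl⟩ := Ideal.Quotient.mk_surjective y
    have := (key2 x).1 (hall x)
    rcases mul_eq_zero.1 this with h | h
    · exact absurd h he
    · rw [h, LinearMap.zero_apply]

end

end Groth.Agent.Lib.Helper9.TameDiff
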