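import Mathlib
import Groth.Agent.Lib.Helper9.TameDiff

set_option autoImplicit false

open Groth.Agent.Lib.Helper9.TameDiff IsLocalRing

universe u

namespace Groth.Agent.Lib.Helper9.TraceLength

section
variable (k : Type u) [Field k] (C : Type u) [CommRing C] [Algebra k C] [IsLocalRing C]
  [Module.Finite k C]

noncomputable def smulEnd (M : Type u) [AddCommGroup M] [Module C M] [Module k M] [IsScalarTower k C M]
    (c : C) : M →ₗ[k] M :=
  (LinearMap.lsmul C M c).restrictScalars k

omit [IsLocalRing C] [Module.Finite k C] in
theorem smulEnd_apply (M : Type u) [AddCommGroup M] [Module C M] [Module k M] [IsScalarTower k C M]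
    (c : C) (m : M) : smulEnd k C M c m = c • m := rfl

omit [Module.Finite k C] in
theorem trace_smulEnd_eq (n : ℕ) : ∀ (M : Type u) [AddCommGroup M] [Module C M] [Module k M]
    [IsScalarTower k C M] [Module.Finite k M], Module.length C M = (n : ℕ∞) → ∀ c : C,
    LinearMap.trace k M (smulEnd k C M c) = n • Algebra.trace k (ResidueField C) (residue C c) := by
  induction n with
  | zero =>
    intro M _ _ _ _ _ hn c
    rw [Nat.cast_zero, Module.length_eq_zero_iff] at hn
    have : smulEnd k C M c = 0 := LinearMap.ext fun m => Subsingleton.elim _ _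
    rw [this, map_zero, zero_smul]
  | succ n ih =>
    intro M _ _ _ _ _ hn c
    have : Module.Finite C M := Module.Finite.of_restrictScalars_finite k C M
    have hnt : Nontrivial M := by
      by_contra h
      rw [not_nontrivial_iff_subsingleton, ← Module.length_eq_zero_iff (R := C), hn] at h
      exact absurd h (by simp)
    obtain ⟨N, hN⟩ : ∃ N : Submodule C M, IsCoatom N := by
      rcases IsCoatomic.eq_top_or_exists_le_coatom (⊥ : Submodule C M) with h | ⟨N, hN, -⟩
      · exact absurd h bot_ne_top
      · exact ⟨N, hN⟩
    have hsimple : IsSimpleModule C (M ⧸ N) := isSimpleModule_iff_isCoatom.2 hN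
    obtain ⟨I, hI, ⟨φ⟩⟩ := isSimpleModule_iff_quot_maximal.1 hsimple
    obtain rfl := IsLocalRing.eq_maximalIdeal hI
    have hlen : Module.length C M = Module.length C N + Module.length C (M ⧸ N) :=
      Module.length_eq_add_of_exact N.subtype N.mkQ N.injective_subtype N.mkQ_surjective
        (LinearMap.exact_subtype_mkQ N)
    rw [Module.length_eq_one_iff.2 hsimple, hn] at hlen
    have hlenN : Module.length C N = (n : ℕ∞) := by
      have h1 : Module.length C N ≠ ⊤ := by
        intro h
        rw [h] at hlen
        simp at hlen
      generalize Module.length C N = a at hlen h1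
      lift a to ℕ using h1
      have : n + 1 = a + 1 := by exact_mod_cast hlen
      congr 1
      omega
    let ι : N →ₗ[k] M := N.subtype.restrictScalars k
    let q : M →ₗ[k] (M ⧸ N) := N.mkQ.restrictScalars k
    have : Module.Finite k N := Module.Finite.of_injective ι N.injective_subtype
    have : Module.Finite k (M ⧸ N) := Module.Finite.of_surjective q N.mkQ_surjective
    have key := trace_eq_add_of_exact ι q N.injective_subtype N.mkQ_surjective
      (by
        ext m
        simp only [ι, q, LinearMap.mem_range, LinearMap.mem_ker, LinearMap.coe_restrictScalars,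
          Submodule.coe_subtype, Submodule.mkQ_apply, Submodule.Quotient.mk_eq_zero]
        constructor
        · rintro ⟨y, rfl⟩; exact y.2
        · intro h; exact ⟨⟨m, h⟩, rfl⟩)
      (smulEnd k C N c) (smulEnd k C M c) (smulEnd k C (M ⧸ N) c)
      (LinearMap.ext fun _ => rfl) (LinearMap.ext fun _ => rfl)
    rw [key, ih N hlenN c, succ_nsmul]
    congr 1
    let ψ : (M ⧸ N) ≃ₗ[k] ResidueField C := φ.restrictScalars k
    rw [← LinearMap.trace_conj' _ ψ, Algebra.trace_apply]
    congr 1
    refine LinearMap.ext fun y => ?_
    obtain ⟨y, rfl⟩ := Ideal.Quotient.mk_surjective y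
    rw [LinearEquiv.conj_apply]
    change φ (c • φ.symm _) = _
    rw [map_smul, LinearEquiv.apply_symm_apply]
    rfl

theorem trace_eq_length_smul (c : C) :
    Algebra.trace k C c =
      (Module.length C C).toNat • Algebra.trace k (ResidueField C) (residue C c) := by
  have := IsArtinianRing.of_finite k C
  have hlen : Module.length C C = ((Module.length C C).toNat : ℕ∞) :=
    (ENat.coe_toNat Module.length_ne_top).symm
  rw [← trace_smulEnd_eq k C _ C hlen c, Algebra.trace_apply]
  rfl

theorem surjective_trace_iff :
    Function.Surjective (Algebra.trace k C) ↔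
      (Algebra.IsSeparable k (ResidueField C) ∧ ((Module.length C C).toNat : k) ≠ 0) := by
  have hfin : Module.Finite k (ResidueField C) :=
    Module.Finite.of_surjective ((IsScalarTower.toAlgHom k C (ResidueField C)).toLinearMap)
      (Ideal.Quotient.mk_surjective)
  constructor
  · intro h
    obtain ⟨c, hc⟩ := h 1
    rw [trace_eq_length_smul, nsmul_eq_mul] at hc
    have h1 : ((Module.length C C).toNat : k) ≠ 0 := by
      intro h0; rw [h0, zero_mul] at hc; exact zero_ne_one hc
    have h2 : Algebra.trace k (ResidueField C) (residue C c) ≠ 0 := by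
      intro h0; rw [h0, mul_zero] at hc; exact zero_ne_one hc
    refine ⟨?_, h1⟩
    by_contra hns
    apply h2
    rw [Algebra.trace_eq_zero_of_not_isSeparable hns, LinearMap.zero_apply]
  · rintro ⟨hsep, hn⟩
    have htr := Algebra.trace_ne_zero k (ResidueField C)
    obtain ⟨y, hy⟩ : ∃ y, Algebra.trace k (ResidueField C) y ≠ 0 := by
      by_contra h
      push Not at h
      exact htr (LinearMap.ext h)
    obtain ⟨c, rfl⟩ := Ideal.Quotient.mk_surjective y
    have hc : Algebra.trace k C c ≠ 0 := by
      rw [trace_eq_length_smul, nsmul_eq_mul]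
      exact mul_ne_zero hn hy
    intro a
    refine ⟨(a / Algebra.trace k C c) • c, ?_⟩
    rw [map_smul, smul_eq_mul, div_mul_cancel₀ _ hc]

end

end Groth.Agent.Lib.Helper9.TraceLength
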