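import Mathlib
import Groth.Prelude.Def_NonAbH2
import Groth.Prelude.Def_ActBC
import Groth.Agent.S12496

set_option autoImplicit false
universe u
open CategoryTheory AlgebraicGeometry MonoidalCategory CartesianMonoidalCategory MonObj GrpObj
open CategoryTheory.Limits

namespace Groth.Agent.Lib.Helper9.TorsorSch

open NonAbH1

variable {S : Scheme.{u}} {G X : Over S} [GrpObj G]

noncomputable def orbit (a : AlgGrp.Action G X) (σ : 𝟙_ (Over S) ⟶ X) : G ⟶ X :=
  lift (𝟙 G) (toUnit G ≫ σ) ≫ a.act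

lemma orbit_equivariant (a : AlgGrp.Action G X) (σ : 𝟙_ (Over S) ⟶ X) :
    μ[G] ≫ orbit a σ = (G ◁ orbit a σ) ≫ a.act := by
  have h1 : μ[G] ≫ orbit a σ = lift (𝟙 (G ⊗ G)) (toUnit (G ⊗ G) ≫ σ) ≫ (μ[G] ▷ X) ≫ a.act := by
    rw [orbit, ← Category.assoc, ← Category.assoc]
    congr 1
    apply CartesianMonoidalCategory.hom_ext
    · simp
    · simp [← Category.assoc]
  rw [h1, a.mul_act]
  simp only [← Category.assoc]
  congr 1
  apply CartesianMonoidalCategory.hom_ext
  · simp
  · simp only [Category.assoc, whiskerLeft_snd]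
    simp [orbit, ← Category.assoc]
    congr 1
    apply CartesianMonoidalCategory.hom_ext
    · simp
    · simp

lemma isIso_orbit (a : AlgGrp.Action G X) (h : IsPseudoTorsorSch a) (σ : 𝟙_ (Over S) ⟶ X) :
    IsIso (orbit a σ) := by
  haveI : IsIso (lift a.act (snd G X)) := h
  let p : X ⟶ X ⊗ X := lift (𝟙 X) (toUnit X ≫ σ)
  let q : X ⟶ G ⊗ X := p ≫ inv (lift a.act (snd G X))
  have hq : q ≫ lift a.act (snd G X) = p := by
    simp only [q, Category.assoc, IsIso.inv_hom_id, Category.comp_id]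
  have hq1 : q ≫ a.act = 𝟙 X := by
    have := congrArg (· ≫ fst X X) hq
    simpa [p] using this
  have hq2 : q ≫ snd G X = toUnit X ≫ σ := by
    have := congrArg (· ≫ snd X X) hq
    simpa [p] using this
  let r : G ⟶ G ⊗ X := lift (𝟙 G) (toUnit G ≫ σ)
  have hr : r ≫ lift a.act (snd G X) = orbit a σ ≫ p := by
    apply CartesianMonoidalCategory.hom_ext
    · simp [r, p, orbit]
    · simp [r, p, orbit]
  refine ⟨⟨q ≫ fst G X, ?_, ?_⟩⟩
  · have : orbit a σ ≫ q = r := by
      simp only [q, ← Category.assoc, ← hr]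
      simp
    rw [← Category.assoc, this]
    simp [r]
  · rw [orbit]
    have : (q ≫ fst G X) ≫ lift (𝟙 G) (toUnit G ≫ σ) = q := by
      apply CartesianMonoidalCategory.hom_ext
      · simp
      · simp [hq2]
    rw [← Category.assoc, this, hq1]

lemma isPseudoTorsorSch_of_equivIso {X' : Over S} {a : AlgGrp.Action G X} {a' : AlgGrp.Action G X'}
    (e : EquivIso a a') (h : IsPseudoTorsorSch a) : IsPseudoTorsorSch a' := by
  haveI : IsIso (lift a.act (snd G X)) := h
  have key : lift a'.act (snd G X') =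
      (G ◁ e.iso.inv) ≫ lift a.act (snd G X) ≫ (e.iso.hom ⊗ₘ e.iso.hom) := by
    apply CartesianMonoidalCategory.hom_ext
    · simp only [lift_fst, Category.assoc, tensorHom_fst, lift_fst_assoc]
      rw [e.comm, ← Category.assoc, ← MonoidalCategory.whiskerLeft_comp, e.iso.inv_hom_id]
      simp
    · simp
  change IsIso (lift a'.act (snd G X'))
  rw [key]
  infer_instance

noncomputable def sectionHom (s : S ⟶ X.left) (hs : s ≫ X.hom = 𝟙 S) : 𝟙_ (Over S) ⟶ X :=
  Over.homMk s (by simpa using hs)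

noncomputable def equivIsoOfSection (a : AlgGrp.Action G X) (h : IsPseudoTorsorSch a)
    (σ : 𝟙_ (Over S) ⟶ X) : EquivIso (trivialAction G) a :=
  haveI := isIso_orbit a h σ
  { iso := asIso (orbit a σ)
    comm := orbit_equivariant a σ }

lemma exists_iso_of_section (a : AlgGrp.Action G X) (h : IsPseudoTorsorSch a) {S' : Scheme.{u}}
    (f : S' ⟶ S) (hs : HasSectionOver X f) :
    ∃ e : pullback G.hom f ≅ pullback X.hom f,
      e.hom ≫ pullback.snd X.hom f = pullback.snd G.hom f := by
  obtain ⟨s, hs⟩ := hs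
  let σ : 𝟙_ (Over S') ⟶ Red.bc f X :=
    sectionHom (X := Red.bc f X) (pullback.lift s (𝟙 S') (by rw [hs, Category.id_comp]))
      (pullback.lift_snd _ _ _)
  let E := equivIsoOfSection (a.bc f) (isPseudoTorsorSch_bc f h) σ
  exact ⟨(Over.forget S').mapIso E.iso, Over.w E.iso.hom⟩

lemma prop_snd_of_section (P : MorphismProperty Scheme.{u}) [P.RespectsIso]
    [P.IsStableUnderBaseChange] (a : AlgGrp.Action G X) (h : IsPseudoTorsorSch a) (hG : P G.hom)
    {S' : Scheme.{u}} (f : S' ⟶ S) (hs : HasSectionOver X f) : P (pullback.snd X.hom f) := by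
  obtain ⟨e, he⟩ := exists_iso_of_section a h f hs
  have h1 : P (pullback.snd G.hom f) := MorphismProperty.pullback_snd _ _ hG
  rw [← he] at h1
  exact (MorphismProperty.cancel_left_of_respectsIso P e.hom _).1 h1

theorem prop_of_isTorsorFor_fpqc (P : MorphismProperty Scheme.{u}) [IsZariskiLocalAtTarget P]
    [P.IsStableUnderBaseChange]
    (hP : P.DescendsAlong (@Surjective ⊓ @Flat ⊓ @QuasiCompact : MorphismProperty Scheme.{u}))
    (a : AlgGrp.Action G X) (h : IsTorsorFor Scheme.fpqcPrecoverage a) (hG : P G.hom) :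
    P X.hom := by
  obtain ⟨hps, R, hR, hsec⟩ := h
  let 𝒰 : Scheme.Cover Scheme.fpqcPrecoverage S :=
    ⟨R.preZeroHypercover, by rw [Presieve.presieve₀_preZeroHypercover]; exact hR⟩
  refine Groth.Agent.S12496.result P hP X.hom 𝒰 fun i => ?_
  exact prop_snd_of_section P a hps hG _ (hsec _ i.2)

end Groth.Agent.Lib.Helper9.TorsorSch
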