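import Groth.Agent.Lib.Helper9.AA7202COREc

/-!
# S7202 CORE, second seat: the assembly `core_of_inj`
-/

set_option autoImplicit false
universe u
open IsLocalRing CategoryTheory AlgebraicGeometry
open Groth.Agent.Lib.Helper34.AA7202H

namespace Groth.Agent.Lib.Helper9.AA7202CORE

set_option maxHeartbeats 1600000 in
theorem core_aux (hinj : INJ.{u}) (H : H6843.{u}) {Λ₀ A₀ B₀ : Type u} [CommRing Λ₀] [CommRing A₀]
    [CommRing B₀] [Algebra Λ₀ A₀] [Algebra Λ₀ B₀]
    [IsNoetherianRing Λ₀] [Algebra.FiniteType Λ₀ A₀] [Algebra.FiniteType Λ₀ B₀]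
    (p : Ideal A₀) [p.IsPrime] (𝔮 : Ideal B₀) [𝔮.IsPrime]
    (A : Type u) [CommRing A] [IsLocalRing A] [Algebra A₀ A] [IsLocalization.AtPrime A p]
    (hG : CAlg.IsGRing A) (hGL : CAlg.IsGRing (Localization.AtPrime p))
    (B : Type u) [CommRing B] [IsLocalRing B] [Algebra B₀ B] [IsLocalization.AtPrime B 𝔮]
    (φ : B →+* AdicCompletion (maximalIdeal A) A)
    (hφ : ∀ l : Λ₀, φ (algebraMap B₀ B (algebraMap Λ₀ B₀ l)) =
      algebraMap A (AdicCompletion (maximalIdeal A) A) (algebraMap A₀ A (algebraMap Λ₀ A₀ l)))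
    (hloc : ∀ b ∈ maximalIdeal B,
      φ b ∈ (maximalIdeal A).map (algebraMap A (AdicCompletion (maximalIdeal A) A)))
    (N : ℕ) (hN : 1 ≤ N) :
    ∃ (R' : Type u) (_ : CommRing R') (_ : Algebra A₀ R') (_ : Algebra.Etale A₀ R')
      (p' : Ideal R') (_ : p'.IsPrime) (g : B₀ →+* R'),
      p'.comap (algebraMap A₀ R') = p ∧ p'.comap g = 𝔮 ∧
      (∀ l : Λ₀, g (algebraMap Λ₀ B₀ l) = algebraMap A₀ R' (algebraMap Λ₀ A₀ l)) ∧
      (∀ z : R', ∃ r s : A₀, s ∉ p ∧ algebraMap A₀ R' s * z - algebraMap A₀ R' r ∈ p') ∧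
      ∀ (b₀ t : B₀) (c₀ s : A₀) (b : B) (c : A), t ∉ 𝔮 → s ∉ p →
        algebraMap B₀ B t * b = algebraMap B₀ B b₀ → algebraMap A₀ A s * c = algebraMap A₀ A c₀ →
        AdicCompletion.evalₐ (maximalIdeal A) N (φ b) = Ideal.Quotient.mk (maximalIdeal A ^ N) c →
        ∃ w : R', w ∉ p' ∧
          w * (g b₀ * algebraMap A₀ R' s - algebraMap A₀ R' c₀ * g t) ∈ p' ^ N := by
  classical
  haveI : IsNoetherianRing A := hG.1
  haveI : IsNoetherianRing A₀ := Algebra.FiniteType.isNoetherianRing Λ₀ A₀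
  have hfg : (maximalIdeal A).FG := IsNoetherian.noetherian _
  obtain ⟨n, m, G, π, hπ, hker⟩ := exists_presentation (Λ₀ := Λ₀) (B₀ := B₀)
  -- the map `Θ₂ : B₀ → L^`
  let Θ₂' : B →+* AdicCompletion (maximalIdeal (Localization.AtPrime p)) (Localization.AtPrime p) :=
    (kap p A).comp φ
  let Θ₂ : B₀ →+* AdicCompletion (maximalIdeal (Localization.AtPrime p)) (Localization.AtPrime p) :=
    Θ₂'.comp (algebraMap B₀ B)
  let ρ : Λ₀ →+* AdicCompletion (maximalIdeal (Localization.AtPrime p)) (Localization.AtPrime p) :=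
    (algebraMap (Localization.AtPrime p) _).comp
      ((algebraMap A₀ (Localization.AtPrime p)).comp (algebraMap Λ₀ A₀))
  have hΘ₂Λ : ∀ l, Θ₂ (algebraMap Λ₀ B₀ l) = ρ l := by
    intro l
    show kap p A (φ (algebraMap B₀ B (algebraMap Λ₀ B₀ l))) = _
    rw [hφ, kap_algebraMap, AlgEquiv.commutes]
    rfl
  let a : Fin n → AdicCompletion (maximalIdeal (Localization.AtPrime p)) (Localization.AtPrime p) :=
    fun i => Θ₂ (π (MvPolynomial.X i))
  have hΘ₂π : ∀ P, Θ₂ (π P) = MvPolynomial.eval₂ ρ a P := by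
    intro P
    have : (Θ₂.comp π.toRingHom) = MvPolynomial.eval₂Hom ρ a := by
      apply MvPolynomial.ringHom_ext
      · intro l
        show Θ₂ (π (MvPolynomial.C l)) = MvPolynomial.eval₂ ρ a (MvPolynomial.C l)
        rw [MvPolynomial.eval₂_C, ← MvPolynomial.algebraMap_eq, AlgHom.commutes, hΘ₂Λ]
      · intro i
        show Θ₂ (π (MvPolynomial.X i)) = MvPolynomial.eval₂ ρ a (MvPolynomial.X i)
        rw [MvPolynomial.eval₂_X]
    exact RingHom.congr_fun this P
  let F : Fin m → MvPolynomial (Fin n) A₀ := fun j => MvPolynomial.map (algebraMap Λ₀ A₀) (G j)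
  have hGker : ∀ j, π (G j) = 0 := by
    intro j
    have : G j ∈ RingHom.ker π.toRingHom := by
      rw [hker]; exact Ideal.subset_span ⟨j, rfl⟩
    exact this
  have ha : ∀ j, MvPolynomial.aeval a
      (MvPolynomial.map (algebraMap A₀ (Localization.AtPrime p)) (F j)) = 0 := by
    intro j
    show MvPolynomial.aeval a (MvPolynomial.map (algebraMap A₀ (Localization.AtPrime p))
      (MvPolynomial.map (algebraMap Λ₀ A₀) (G j))) = 0
    rw [MvPolynomial.map_map, MvPolynomial.aeval_def, MvPolynomial.eval₂_map]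
    have := hΘ₂π (G j)
    rw [hGker, map_zero] at this
    exact this.symm
  obtain ⟨R', _, _, hEt, ψ, p', hp'prime, hψ, hcomap, hfrac, hψp, b, hb, happrox⟩ :=
    H p hGL F a ha N
  haveI := hp'prime
  -- the map `g`
  let f₀ : Λ₀ →+* R' := (algebraMap A₀ R').comp (algebraMap Λ₀ A₀)
  have hbG : ∀ j, MvPolynomial.eval₂ f₀ b (G j) = 0 := by
    intro j
    have := hb j
    show MvPolynomial.eval₂ ((algebraMap A₀ R').comp (algebraMap Λ₀ A₀)) b (G j) = 0
    rw [← MvPolynomial.eval₂_map, ← MvPolynomial.aeval_def]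
    exact this
  obtain ⟨g, hgπ, hgΛ⟩ := exists_lift G π hπ hker f₀ b hbG
  let Θ₁ : B₀ →+* AdicCompletion (maximalIdeal (Localization.AtPrime p)) (Localization.AtPrime p) :=
    ψ.comp g
  -- agreement modulo `m^N L^`
  have hΘ : ∀ b₀ : B₀, Θ₁ b₀ - Θ₂ b₀ ∈ (maximalIdeal (Localization.AtPrime p) ^ N).map
      (algebraMap (Localization.AtPrime p)
        (AdicCompletion (maximalIdeal (Localization.AtPrime p)) (Localization.AtPrime p))) := by
    intro b₀
    obtain ⟨P, rfl⟩ := hπ b₀
    refine sub_mem_of_generators (Θ₁.comp π.toRingHom) (Θ₂.comp π.toRingHom) _ ?_ ?_ P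
    · intro l
      show ψ (g (π (MvPolynomial.C l))) - Θ₂ (π (MvPolynomial.C l)) ∈ _
      rw [← MvPolynomial.algebraMap_eq, AlgHom.commutes, hgΛ, hΘ₂Λ]
      show ψ (algebraMap A₀ R' (algebraMap Λ₀ A₀ l)) - _ ∈ _
      rw [hψ]
      show (ρ l - ρ l) ∈ _
      rw [sub_self]
      exact Ideal.zero_mem _
    · intro i
      show ψ (g (π (MvPolynomial.X i))) - a i ∈ _
      rw [hgπ, MvPolynomial.eval₂_X]
      have := happrox i
      rw [← neg_sub]
      exact Ideal.neg_mem_iff _ |>.mpr this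
  have hJle : (maximalIdeal (Localization.AtPrime p) ^ N).map
      (algebraMap (Localization.AtPrime p)
        (AdicCompletion (maximalIdeal (Localization.AtPrime p)) (Localization.AtPrime p))) ≤
      (maximalIdeal (Localization.AtPrime p)).map
      (algebraMap (Localization.AtPrime p)
        (AdicCompletion (maximalIdeal (Localization.AtPrime p)) (Localization.AtPrime p))) :=
    Ideal.map_mono (Ideal.pow_le_self (by omega))
  -- `ψ⁻¹(m L^) ⊆ p'`
  have hpre : ∀ z : R', ψ z ∈ (maximalIdeal (Localization.AtPrime p)).map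
      (algebraMap (Localization.AtPrime p)
        (AdicCompletion (maximalIdeal (Localization.AtPrime p)) (Localization.AtPrime p))) →
      z ∈ p' := by
    intro z hz
    by_contra hzp
    obtain ⟨r, s, hs, hrs⟩ := hfrac z
    have hsp : algebraMap A₀ R' s ∉ p' := by
      intro h
      apply hs
      rw [← hcomap]
      exact h
    have hr : r ∉ p := by
      intro hr
      have h1 : algebraMap A₀ R' r ∈ p' := by
        rw [← hcomap] at hr
        exact hr
      have h2 : algebraMap A₀ R' s * z ∈ p' := by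
        have := p'.add_mem hrs h1
        rwa [sub_add_cancel] at this
      rcases hp'prime.mem_or_mem h2 with h | h
      · exact hsp h
      · exact hzp h
    have hunit : IsUnit (ψ (algebraMap A₀ R' r)) := by
      rw [hψ]
      exact ((IsLocalization.map_units (Localization.AtPrime p) (⟨r, hr⟩ : p.primeCompl)).map _)
    refine not_mem_map_maximalIdeal_of_isUnit (Localization.AtPrime p) _ hunit ?_
    have h1 : ψ (algebraMap A₀ R' s * z) ∈ (maximalIdeal (Localization.AtPrime p)).map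
      (algebraMap (Localization.AtPrime p)
        (AdicCompletion (maximalIdeal (Localization.AtPrime p)) (Localization.AtPrime p))) := by
      rw [map_mul]
      exact Ideal.mul_mem_left _ _ hz
    have h2 := hψp _ hrs
    have h3 := Ideal.sub_mem _ h1 h2
    rw [← map_sub, sub_sub_cancel] at h3
    exact h3
  -- `Θ₂` on `𝔮`
  have hΘ₂𝔮 : ∀ b₀ ∈ 𝔮, Θ₂ b₀ ∈ (maximalIdeal (Localization.AtPrime p)).map
      (algebraMap (Localization.AtPrime p)
        (AdicCompletion (maximalIdeal (Localization.AtPrime p)) (Localization.AtPrime p))) := by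
    intro b₀ hb₀
    have h1 : algebraMap B₀ B b₀ ∈ maximalIdeal B :=
      (IsLocalization.AtPrime.to_map_mem_maximal_iff B 𝔮 b₀).mpr hb₀
    have h2 := hloc _ h1
    have h3 := kap_mem_pow p A 1 (φ (algebraMap B₀ B b₀)) (by rwa [pow_one])
    rw [pow_one] at h3
    exact h3
  have h𝔮 : p'.comap g = 𝔮 := by
    ext b₀
    rw [Ideal.mem_comap]
    constructor
    · intro hgb
      by_contra hb₀
      have hu : IsUnit (Θ₂ b₀) :=
        ((IsLocalization.map_units B (⟨b₀, hb₀⟩ : 𝔮.primeCompl)).map Θ₂')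
      refine not_mem_map_maximalIdeal_of_isUnit (Localization.AtPrime p) _ hu ?_
      have h1 : Θ₁ b₀ ∈ (maximalIdeal (Localization.AtPrime p)).map
        (algebraMap (Localization.AtPrime p)
          (AdicCompletion (maximalIdeal (Localization.AtPrime p)) (Localization.AtPrime p))) :=
        hψp _ hgb
      have h2 := hJle (hΘ b₀)
      have h3 := Ideal.sub_mem _ h1 h2
      rwa [sub_sub_cancel] at h3
    · intro hb₀
      apply hpre
      have h1 := hΘ₂𝔮 b₀ hb₀
      have h2 := hJle (hΘ b₀)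
      have h3 := Ideal.add_mem _ h2 h1
      rwa [sub_add_cancel] at h3
  refine ⟨R', inferInstance, inferInstance, hEt, p', hp'prime, g, hcomap, h𝔮, hgΛ, hfrac, ?_⟩
  intro b₀ t c₀ s bb c ht hs htb hsc hev
  apply hinj p p' hcomap hfrac ψ hψ hψp N
  -- `κφ(bb) ≡ of(σ c)` modulo `m^N`
  have h1 : φ bb - algebraMap A (AdicCompletion (maximalIdeal A) A) c ∈
      (maximalIdeal A ^ N).map (algebraMap A (AdicCompletion (maximalIdeal A) A)) := by
    apply Groth.Agent.Lib.Helper54.ComplFlat.mem_map_pow_of_evalₐ_eq_zero _ hfg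
    rw [map_sub, hev, AdicCompletion.algebraMap_apply, AdicCompletion.evalₐ_of,
      Algebra.algebraMap_self, RingHom.id_apply, sub_self]
  have h2 := kap_mem_pow p A N _ h1
  rw [map_sub, kap_algebraMap] at h2
  -- the identity
  have hofs : ∀ x : A₀, ψ (algebraMap A₀ R' x) =
      algebraMap (Localization.AtPrime p) _ (algebraMap A₀ (Localization.AtPrime p) x) := hψ
  have hb₀ : Θ₂ b₀ = Θ₂ t * kap p A (φ bb) := by
    show Θ₂' (algebraMap B₀ B b₀) = Θ₂' (algebraMap B₀ B t) * Θ₂' bb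
    rw [← map_mul, htb]
  have hc₀ : algebraMap (Localization.AtPrime p)
      (AdicCompletion (maximalIdeal (Localization.AtPrime p)) (Localization.AtPrime p))
        (algebraMap A₀ (Localization.AtPrime p) s) *
      algebraMap (Localization.AtPrime p) _ (sig p A c) =
      algebraMap (Localization.AtPrime p) _ (algebraMap A₀ (Localization.AtPrime p) c₀) := by
    rw [← map_mul, ← (sig p A).commutes s, ← map_mul, hsc, (sig p A).commutes]
  have key : ψ (g b₀ * algebraMap A₀ R' s - algebraMap A₀ R' c₀ * g t) =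
      (Θ₁ b₀ - Θ₂ b₀) * ψ (algebraMap A₀ R' s) - ψ (algebraMap A₀ R' c₀) * (Θ₁ t - Θ₂ t) +
        Θ₂ t * ψ (algebraMap A₀ R' s) *
          (kap p A (φ bb) - algebraMap (Localization.AtPrime p) _ (sig p A c)) := by
    rw [map_sub, map_mul, map_mul, hb₀]
    show Θ₁ b₀ * ψ (algebraMap A₀ R' s) - ψ (algebraMap A₀ R' c₀) * Θ₁ t = _
    have e1 : ψ (algebraMap A₀ R' c₀) = ψ (algebraMap A₀ R' s) *
        algebraMap (Localization.AtPrime p) _ (sig p A c) := by
      rw [hofs, hofs, hc₀]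
    rw [e1]
    ring
  rw [key]
  refine Ideal.add_mem _ (Ideal.sub_mem _ (Ideal.mul_mem_right _ _ (hΘ b₀))
    (Ideal.mul_mem_left _ _ (hΘ t))) (Ideal.mul_mem_left _ _ h2)

end Groth.Agent.Lib.Helper9.AA7202CORE
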