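import Mathlib
import Groth.Prelude.Def_Found
import Groth.Agent.Lib.Helper34.AA7202H
import Groth.Agent.Lib.Helper54.ComplFlat

/-!
# S7202 CORE (helper34's call, msg 4365), second seat: assembly against INJ as a hypothesis
-/

set_option autoImplicit false
universe u
open IsLocalRing CategoryTheory AlgebraicGeometry
open Groth.Agent.Lib.Helper34.AA7202H

namespace Groth.Agent.Lib.Helper9.AA7202CORE

/-- The statement of helper87's INJ lemma (msg 4391), as a hypothesis. -/
def INJ : Prop := ∀ {R R' : Type u} [CommRing R] [CommRing R'] [Algebra R R'] [Algebra.Etale R R']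
    (p : Ideal R) [p.IsPrime] (p' : Ideal R') [p'.IsPrime]
    (_ : p'.comap (algebraMap R R') = p)
    (_ : ∀ x : R', ∃ r s : R, s ∉ p ∧ algebraMap R R' s * x - algebraMap R R' r ∈ p')
    (ψ : R' →+* AdicCompletion (IsLocalRing.maximalIdeal (Localization.AtPrime p))
      (Localization.AtPrime p))
    (_ : ∀ r : R, ψ (algebraMap R R' r) =
      algebraMap (Localization.AtPrime p) _ (algebraMap R (Localization.AtPrime p) r))
    (_ : ∀ x ∈ p', ψ x ∈ (IsLocalRing.maximalIdeal (Localization.AtPrime p)).map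
      (algebraMap (Localization.AtPrime p)
        (AdicCompletion (IsLocalRing.maximalIdeal (Localization.AtPrime p))
          (Localization.AtPrime p))))
    (N : ℕ) (z : R')
    (_ : ψ z ∈ (IsLocalRing.maximalIdeal (Localization.AtPrime p) ^ N).map
      (algebraMap (Localization.AtPrime p)
        (AdicCompletion (IsLocalRing.maximalIdeal (Localization.AtPrime p))
          (Localization.AtPrime p)))),
    ∃ w : R', w ∉ p' ∧ w * z ∈ p' ^ N

/-- Two ring homs out of a polynomial ring agreeing modulo an ideal on constants and variables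
agree modulo that ideal everywhere. -/
theorem sub_mem_of_generators {Λ₀ T : Type u} [CommRing Λ₀] [CommRing T] {n : ℕ}
    (Θ₁ Θ₂ : MvPolynomial (Fin n) Λ₀ →+* T) (J : Ideal T)
    (hC : ∀ l : Λ₀, Θ₁ (MvPolynomial.C l) - Θ₂ (MvPolynomial.C l) ∈ J)
    (hX : ∀ i, Θ₁ (MvPolynomial.X i) - Θ₂ (MvPolynomial.X i) ∈ J)
    (P : MvPolynomial (Fin n) Λ₀) : Θ₁ P - Θ₂ P ∈ J := by
  induction P using MvPolynomial.induction_on with
  | C l => exact hC l
  | add P Q hP hQ =>
    have : Θ₁ (P + Q) - Θ₂ (P + Q) = (Θ₁ P - Θ₂ P) + (Θ₁ Q - Θ₂ Q) := by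
      rw [map_add, map_add]; ring
    rw [this]
    exact J.add_mem hP hQ
  | mul_X P i hP =>
    have : Θ₁ (P * MvPolynomial.X i) - Θ₂ (P * MvPolynomial.X i) =
        (Θ₁ P - Θ₂ P) * Θ₁ (MvPolynomial.X i) +
          Θ₂ P * (Θ₁ (MvPolynomial.X i) - Θ₂ (MvPolynomial.X i)) := by
      rw [map_mul, map_mul]; ring
    rw [this]
    exact J.add_mem (J.mul_mem_right _ hP) (J.mul_mem_left _ (hX i))

/-- A unit of the completion of a local ring is not in `m · L^`. -/
theorem not_mem_map_maximalIdeal_of_isUnit (L : Type u) [CommRing L] [IsLocalRing L]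
    (x : AdicCompletion (maximalIdeal L) L) (hx : IsUnit x) :
    x ∉ (maximalIdeal L).map (algebraMap L (AdicCompletion (maximalIdeal L) L)) := by
  intro hmem
  have hle : (maximalIdeal L).map (algebraMap L (AdicCompletion (maximalIdeal L) L)) ≤
      RingHom.ker (AdicCompletion.evalₐ (maximalIdeal L) 1).toRingHom := by
    rw [Ideal.map_le_iff_le_comap]
    intro y hy
    rw [Ideal.mem_comap, RingHom.mem_ker]
    show AdicCompletion.evalₐ (maximalIdeal L) 1 (algebraMap L _ y) = 0
    rw [AdicCompletion.algebraMap_apply, AdicCompletion.evalₐ_of, Algebra.algebraMap_self,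
      RingHom.id_apply, Ideal.Quotient.eq_zero_iff_mem, pow_one]
    exact hy
  have h0 : AdicCompletion.evalₐ (maximalIdeal L) 1 x = 0 := hle hmem
  have hu : IsUnit (AdicCompletion.evalₐ (maximalIdeal L) 1 x) := hx.map _
  rw [h0] at hu
  have hnt : Nontrivial (L ⧸ maximalIdeal L ^ 1) := by
    rw [pow_one]
    exact Ideal.Quotient.nontrivial_iff.mpr (IsLocalRing.maximalIdeal.isMaximal L).ne_top
  exact not_isUnit_zero hu

end Groth.Agent.Lib.Helper9.AA7202CORE
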