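import Groth.Agent.Lib.Helper9.AA7202COREa

/-!
# S7202 CORE, second seat: the assembly `core_of_inj`
-/

set_option autoImplicit false
universe u
open IsLocalRing CategoryTheory AlgebraicGeometry
open Groth.Agent.Lib.Helper34.AA7202H

namespace Groth.Agent.Lib.Helper9.AA7202CORE

/-- Finite presentation data in `Fin`-indexed form. -/
theorem exists_presentation {Λ₀ B₀ : Type u} [CommRing Λ₀] [CommRing B₀] [Algebra Λ₀ B₀]
    [IsNoetherianRing Λ₀] [Algebra.FiniteType Λ₀ B₀] :
    ∃ (n m : ℕ) (G : Fin m → MvPolynomial (Fin n) Λ₀)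
      (π : MvPolynomial (Fin n) Λ₀ →ₐ[Λ₀] B₀), Function.Surjective π ∧
      RingHom.ker π.toRingHom = Ideal.span (Set.range G) := by
  classical
  haveI : Algebra.FinitePresentation Λ₀ B₀ :=
    Algebra.FinitePresentation.of_finiteType.mp inferInstance
  obtain ⟨n, π, hπ, s, hs⟩ := Algebra.FinitePresentation.out (R := Λ₀) (A := B₀)
  refine ⟨n, s.card, fun j => (s.equivFin.symm j : MvPolynomial (Fin n) Λ₀), π, hπ, ?_⟩
  rw [← hs]
  congr 1
  ext x
  constructor
  · intro hx
    exact ⟨s.equivFin ⟨x, hx⟩, by simp⟩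
  · rintro ⟨j, rfl⟩
    exact (s.equivFin.symm j).2

/-- Lifting a polynomial evaluation through a presentation. -/
theorem exists_lift {Λ₀ B₀ R' : Type u} [CommRing Λ₀] [CommRing B₀] [Algebra Λ₀ B₀] [CommRing R']
    {n m : ℕ} (G : Fin m → MvPolynomial (Fin n) Λ₀) (π : MvPolynomial (Fin n) Λ₀ →ₐ[Λ₀] B₀)
    (hπ : Function.Surjective π) (hker : RingHom.ker π.toRingHom = Ideal.span (Set.range G))
    (f : Λ₀ →+* R') (b : Fin n → R') (hb : ∀ j, MvPolynomial.eval₂ f b (G j) = 0) :
    ∃ g : B₀ →+* R', (∀ P, g (π P) = MvPolynomial.eval₂ f b P) ∧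
      (∀ l : Λ₀, g (algebraMap Λ₀ B₀ l) = f l) := by
  have hle : RingHom.ker π.toRingHom ≤ RingHom.ker (MvPolynomial.eval₂Hom f b) := by
    rw [hker, Ideal.span_le]
    rintro _ ⟨j, rfl⟩
    exact hb j
  have hri : Function.RightInverse (Function.surjInv hπ) π.toRingHom :=
    Function.rightInverse_surjInv hπ
  refine ⟨π.toRingHom.liftOfRightInverse (Function.surjInv hπ) hri
    ⟨MvPolynomial.eval₂Hom f b, hle⟩, ?_, ?_⟩
  · intro P
    exact RingHom.liftOfRightInverse_comp_apply π.toRingHom (Function.surjInv hπ) hri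
      ⟨MvPolynomial.eval₂Hom f b, hle⟩ P
  · intro l
    have h1 : algebraMap Λ₀ B₀ l = π (MvPolynomial.C l) := by
      rw [← MvPolynomial.algebraMap_eq, AlgHom.commutes]
    rw [h1]
    have := RingHom.liftOfRightInverse_comp_apply π.toRingHom (Function.surjInv hπ) hri
      ⟨MvPolynomial.eval₂Hom f b, hle⟩ (MvPolynomial.C l)
    rw [show π.toRingHom (MvPolynomial.C l) = π (MvPolynomial.C l) from rfl] at this
    rw [this]
    show MvPolynomial.eval₂ f b (MvPolynomial.C l) = f l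
    rw [MvPolynomial.eval₂_C]

end Groth.Agent.Lib.Helper9.AA7202CORE
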