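import Groth.Agent.Lib.Helper9.AA7202COREb

/-!
# S7202 CORE, second seat: the assembly `core_of_inj`
-/

set_option autoImplicit false
universe u
open IsLocalRing CategoryTheory AlgebraicGeometry
open Groth.Agent.Lib.Helper34.AA7202H

namespace Groth.Agent.Lib.Helper9.AA7202CORE

section kappa

variable {A₀ : Type u} [CommRing A₀] (p : Ideal A₀) [p.IsPrime]
  (A : Type u) [CommRing A] [IsLocalRing A] [Algebra A₀ A] [IsLocalization.AtPrime A p]

/-- The comparison `A ≃ Localization.AtPrime p`. -/
noncomputable def sig : A ≃ₐ[A₀] Localization.AtPrime p :=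
  IsLocalization.algEquiv p.primeCompl A (Localization.AtPrime p)

theorem sig_mem_maximalIdeal (x : A) (hx : x ∈ maximalIdeal A) :
    sig p A x ∈ maximalIdeal (Localization.AtPrime p) := by
  rw [mem_maximalIdeal, mem_nonunits_iff] at hx ⊢
  intro hu
  apply hx
  have := hu.map (sig p A).symm
  rwa [AlgEquiv.symm_apply_apply] at this

theorem map_sig_le : (maximalIdeal A).map ((sig p A : A →+* Localization.AtPrime p)) ≤
    maximalIdeal (Localization.AtPrime p) := by
  rw [Ideal.map_le_iff_le_comap]
  intro x hx
  exact sig_mem_maximalIdeal p A x hx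

/-- The induced map on completions. -/
noncomputable def kap : AdicCompletion (maximalIdeal A) A →+*
    AdicCompletion (maximalIdeal (Localization.AtPrime p)) (Localization.AtPrime p) :=
  FSch.complMap (maximalIdeal A) (maximalIdeal (Localization.AtPrime p))
    (sig p A : A →+* Localization.AtPrime p) (map_sig_le p A)

theorem kap_algebraMap (a : A) :
    kap p A (algebraMap A (AdicCompletion (maximalIdeal A) A) a) =
      algebraMap (Localization.AtPrime p) _ (sig p A a) :=
  Groth.Agent.Lib.Helper54.ComplFlat.complMap_algebraMap _ _ _ (map_sig_le p A) a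

theorem kap_mem_pow (k : ℕ) (x : AdicCompletion (maximalIdeal A) A)
    (hx : x ∈ (maximalIdeal A ^ k).map (algebraMap A (AdicCompletion (maximalIdeal A) A))) :
    kap p A x ∈ (maximalIdeal (Localization.AtPrime p) ^ k).map
      (algebraMap (Localization.AtPrime p)
        (AdicCompletion (maximalIdeal (Localization.AtPrime p)) (Localization.AtPrime p))) := by
  have hle : (maximalIdeal A ^ k).map (algebraMap A (AdicCompletion (maximalIdeal A) A)) ≤
      ((maximalIdeal (Localization.AtPrime p) ^ k).map
        (algebraMap (Localization.AtPrime p)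
          (AdicCompletion (maximalIdeal (Localization.AtPrime p))
            (Localization.AtPrime p)))).comap (kap p A) := by
    rw [Ideal.map_le_iff_le_comap]
    intro y hy
    rw [Ideal.mem_comap, Ideal.mem_comap, kap_algebraMap]
    apply Ideal.mem_map_of_mem
    have h1 : (sig p A : A →+* Localization.AtPrime p) y ∈
        (maximalIdeal A ^ k).map (sig p A : A →+* Localization.AtPrime p) :=
      Ideal.mem_map_of_mem _ hy
    rw [Ideal.map_pow] at h1
    exact Ideal.pow_right_mono (map_sig_le p A) k h1
  exact hle hx

end kappa

end Groth.Agent.Lib.Helper9.AA7202CORE
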