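import Mathlib
import Groth.Agent.Lib.Helper9.HenselFactor

set_option autoImplicit false

namespace Groth.Agent.Lib.Helper9.HenselVal

open Polynomial IsLocalRing

universe u

open Groth.Agent.Lib.Helper9.HenselFactor

theorem newton_steps {R : Type u} [CommRing R] [IsLocalRing R] (f : R[X]) (a₀ : R)
    (hc : f.eval a₀ ∈ maximalIdeal R) (hu : IsUnit (f.derivative.eval a₀)) (k : ℕ) :
    ∃ a : R, a - a₀ ∈ Ideal.span {f.eval a₀} ∧ f.eval a ∈ Ideal.span {(f.eval a₀) ^ (k + 1)} := by
  induction k with
  | zero => exact ⟨a₀, by simp, by simp⟩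
  | succ k ih =>
    obtain ⟨a, ha, hfa⟩ := ih
    set c := f.eval a₀ with hcdef
    have hu' : IsUnit (f.derivative.eval a) := by
      have h1 : f.derivative.eval a - f.derivative.eval a₀ ∈ maximalIdeal R := by
        obtain ⟨w, hw⟩ := Polynomial.sub_dvd_eval_sub a a₀ f.derivative
        rw [hw]
        obtain ⟨z, hz⟩ := Ideal.mem_span_singleton.1 ha
        rw [hz]
        exact Ideal.mul_mem_right _ _ (Ideal.mul_mem_right _ _ hc)
      by_contra hnu
      have h2 : f.derivative.eval a ∈ maximalIdeal R := (mem_maximalIdeal _).2 hnu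
      have h3 : f.derivative.eval a₀ ∈ maximalIdeal R := by
        have := Ideal.sub_mem _ h2 h1
        simpa using this
      exact (mem_maximalIdeal _).1 h3 hu
    obtain ⟨u, hu1⟩ := hu'.exists_right_inv
    obtain ⟨y, hy⟩ := Ideal.mem_span_singleton.1 hfa
    obtain ⟨w, hw⟩ := Ideal.mem_span_singleton.1 ha
    obtain ⟨q, hq⟩ := Polynomial.binomExpansion f a (-(f.eval a) * u)
    refine ⟨a + -(f.eval a) * u, ?_, ?_⟩
    · rw [Ideal.mem_span_singleton]
      refine ⟨w - c ^ k * y * u, ?_⟩
      rw [hy] at *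
      linear_combination hw
    · rw [Ideal.mem_span_singleton, hq]
      refine ⟨q * u ^ 2 * y ^ 2 * c ^ k, ?_⟩
      have : f.eval a + f.derivative.eval a * (-(f.eval a) * u) = 0 := by
        linear_combination (-(f.eval a)) * hu1
      rw [this, hy]
      ring

theorem henselianLocalRing_of_henselianRing {R : Type u} [CommRing R] [IsLocalRing R]
    (I : Ideal R) [hI : HenselianRing R I] (hrad : ∀ x ∈ maximalIdeal R, ∃ n : ℕ, x ^ n ∈ I) :
    HenselianLocalRing R := by
  refine { is_henselian := ?_ }
  intro f hf a₀ h₁ h₂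
  obtain ⟨n, hn⟩ := hrad _ h₁
  obtain ⟨a, ha, hfa⟩ := newton_steps f a₀ h₁ h₂ n
  have hIle : I ≤ maximalIdeal R := by
    have := hI.jac
    rwa [IsLocalRing.jacobson_eq_maximalIdeal ⊥ bot_ne_top] at this
  have ha𝔪 : a - a₀ ∈ maximalIdeal R := by
    obtain ⟨w, hw⟩ := Ideal.mem_span_singleton.1 ha
    rw [hw]; exact Ideal.mul_mem_right _ _ h₁
  have hfaI : f.eval a ∈ I := by
    obtain ⟨y, hy⟩ := Ideal.mem_span_singleton.1 hfa
    rw [hy, pow_succ, mul_assoc]
    exact Ideal.mul_mem_right _ _ hn
  have hu' : IsUnit (f.derivative.eval a) := by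
    have h1 : f.derivative.eval a - f.derivative.eval a₀ ∈ maximalIdeal R := by
      obtain ⟨w, hw⟩ := Polynomial.sub_dvd_eval_sub a a₀ f.derivative
      rw [hw]
      exact Ideal.mul_mem_right _ _ ha𝔪
    by_contra hnu
    have h2 : f.derivative.eval a ∈ maximalIdeal R := (mem_maximalIdeal _).2 hnu
    have h3 : f.derivative.eval a₀ ∈ maximalIdeal R := by
      have := Ideal.sub_mem _ h2 h1
      simpa using this
    exact (mem_maximalIdeal _).1 h3 h₂
  obtain ⟨b, hb, hba⟩ := hI.is_henselian f hf a hfaI (hu'.map _)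
  refine ⟨b, hb, ?_⟩
  have : b - a₀ = (b - a) + (a - a₀) := by ring
  rw [this]
  exact Ideal.add_mem _ (hIle hba) ha𝔪

theorem henselianLocalRing_of_valuationRing {R : Type u} [CommRing R] [IsDomain R]
    [ValuationRing R] [Ring.KrullDimLE 1 R] (t : R) (ht : t ≠ 0)
    [IsAdicComplete (Ideal.span {t}) R] : HenselianLocalRing R := by
  have htm : t ∈ maximalIdeal R := by
    by_contra h
    have hu : IsUnit t := by
      by_contra hnu; exact h ((mem_maximalIdeal _).2 hnu)
    have htop : Ideal.span {t} = ⊤ := Ideal.span_singleton_eq_top.2 hu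
    have hH : IsHausdorff (Ideal.span {t}) R := inferInstance
    rw [htop] at hH
    have := hH.subsingleton
    exact absurd (Subsingleton.elim (1 : R) 0) one_ne_zero
  apply henselianLocalRing_of_henselianRing (Ideal.span {t})
  intro x hx
  have hrad : (Ideal.span {t}).radical = maximalIdeal R := by
    rw [Ideal.radical_eq_sInf]
    apply le_antisymm
    · apply sInf_le
      exact ⟨(Ideal.span_singleton_le_iff_mem _).2 htm, inferInstance⟩
    · apply le_sInf
      rintro P ⟨hP1, hP2⟩
      have hPne : P ≠ ⊥ := by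
        intro h
        rw [h] at hP1
        exact ht (by simpa using hP1 (Ideal.mem_span_singleton_self t))
      have := hP2.isMaximal_of_ne_bot hPne
      rw [IsLocalRing.eq_maximalIdeal this]
  rw [← hrad] at hx
  exact hx

theorem mem_maximalIdeal_of_valuation_lt {R : Type u} [CommRing R] [IsDomain R] [ValuationRing R]
    {K : Type*} [Field K] [Algebra R K] [IsFractionRing R K] (y : R)
    (hy : ValuationRing.valuation R K (algebraMap R K y) < 1) : y ∈ maximalIdeal R := by
  rw [mem_maximalIdeal, mem_nonunits_iff]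
  intro hu
  obtain ⟨z, hz⟩ := hu.exists_right_inv
  have h1 : ValuationRing.valuation R K (algebraMap R K y) *
      ValuationRing.valuation R K (algebraMap R K z) = 1 := by
    rw [← map_mul, ← map_mul, hz, map_one, map_one]
  have h2 : ValuationRing.valuation R K (algebraMap R K z) ≤ 1 := by
    rw [← Valuation.mem_integer_iff, ValuationRing.mem_integer_iff]; exact ⟨z, rfl⟩
  have h3 : ValuationRing.valuation R K (algebraMap R K y) *
      ValuationRing.valuation R K (algebraMap R K z) < 1 := by
    calc _ ≤ ValuationRing.valuation R K (algebraMap R K y) * 1 := by gcongr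
      _ = ValuationRing.valuation R K (algebraMap R K y) := mul_one _
      _ < 1 := hy
  rw [h1] at h3
  exact lt_irrefl _ h3

theorem coeff_mem_range_of_irreducible {R : Type u} [CommRing R] [IsDomain R] [ValuationRing R]
    (hR : HenselianLocalRing R) {K : Type*} [Field K] [Algebra R K] [IsFractionRing R K]
    (μ : K[X]) (hirr : Irreducible μ) (hm : μ.Monic)
    (h0 : μ.coeff 0 ∈ (algebraMap R K).range) :
    ∀ i, μ.coeff i ∈ (algebraMap R K).range := by
  classical
  set v := ValuationRing.valuation R K with hv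
  set n := μ.natDegree with hn
  obtain ⟨j, hj, hmax⟩ := Finset.exists_max_image (Finset.range (n + 1))
    (fun i => v (μ.coeff i)) ⟨0, by simp⟩
  have hrange : ∀ x : K, v x ≤ 1 ↔ x ∈ (algebraMap R K).range := by
    intro x
    rw [← Valuation.mem_integer_iff, ValuationRing.mem_integer_iff]; rfl
  by_cases hle : v (μ.coeff j) ≤ 1
  · intro i
    by_cases hi : i ∈ Finset.range (n + 1)
    · exact (hrange _).1 ((hmax i hi).trans hle)
    · rw [coeff_eq_zero_of_natDegree_lt (by simpa [hn] using hi)]
      exact zero_mem _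
  · exfalso
    rw [not_le] at hle
    set cj := μ.coeff j with hcj
    have hvcj0 : v cj ≠ 0 := fun h => by rw [h] at hle; exact not_lt_of_ge zero_le_one hle
    have hcj0 : cj ≠ 0 := fun h => hvcj0 (by rw [h, map_zero])
    set f : K[X] := C cj⁻¹ * μ with hf
    have hfc : ∀ i, f.coeff i = cj⁻¹ * μ.coeff i := fun i => by rw [hf, coeff_C_mul]
    have hvle : ∀ i, v (μ.coeff i) ≤ v cj := by
      intro i
      by_cases hi : i ∈ Finset.range (n + 1)
      · exact hmax i hi
      · rw [coeff_eq_zero_of_natDegree_lt (by simpa [hn] using hi), map_zero]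
        exact zero_le
    have hfcoeff : ∀ i, v (f.coeff i) ≤ 1 := by
      intro i
      rw [hfc, map_mul, map_inv₀, inv_mul_le_iff₀ (zero_lt_iff.2 hvcj0), mul_one]
      exact hvle i
    have hflift : f ∈ lifts (algebraMap R K) :=
      (lifts_iff_coeff_lifts _).2 (fun i => (hrange _).1 (hfcoeff i))
    obtain ⟨fR, hfR, hfRdeg⟩ := exists_natDegree_eq_of_mem_lifts hflift
    have hfRc : ∀ i, algebraMap R K (fR.coeff i) = cj⁻¹ * μ.coeff i := by
      intro i; rw [← hfc, ← hfR, coeff_map]
    have hfdeg : f.natDegree = n := by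
      rw [hf, natDegree_C_mul (inv_ne_zero hcj0)]
    have hlt : ∀ i, v (μ.coeff i) ≤ 1 → fR.coeff i ∈ maximalIdeal R := by
      intro i hi
      apply mem_maximalIdeal_of_valuation_lt (K := K)
      rw [hfRc, map_mul, map_inv₀, inv_mul_lt_iff₀ (zero_lt_iff.2 hvcj0), mul_one]
      exact lt_of_le_of_lt hi hle
    have hc0 : fR.coeff 0 ∈ maximalIdeal R := hlt 0 ((hrange _).2 h0)
    have hcn : fR.coeff n ∈ maximalIdeal R := by
      apply hlt n
      rw [hn, coeff_natDegree, hm.leadingCoeff, map_one]
    have hcjR : fR.coeff j = 1 := by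
      apply IsFractionRing.injective R K
      rw [hfRc, map_one, inv_mul_cancel₀ hcj0]
    set fb := fR.map (residue R) with hfb
    have hfbj : fb.coeff j = 1 := by rw [hfb, coeff_map, hcjR, map_one]
    have hfb0 : fb ≠ 0 := by
      intro h; rw [h, coeff_zero] at hfbj; exact zero_ne_one hfbj
    have hfbc0 : fb.coeff 0 = 0 := by
      rw [hfb, coeff_map]; exact (residue_eq_zero_iff _).2 hc0
    have hfbcn : fb.coeff n = 0 := by
      rw [hfb, coeff_map]; exact (residue_eq_zero_iff _).2 hcn
    set d := fb.natDegree with hd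
    have hdle : d ≤ n := by
      rw [hd, ← hfdeg, ← hfRdeg]; exact natDegree_map_le
    have hdn : d ≠ n := by
      intro h
      have : fb.leadingCoeff = 0 := by rw [leadingCoeff, ← hd, h]; exact hfbcn
      exact hfb0 (leadingCoeff_eq_zero.1 this)
    have hd0 : d ≠ 0 := by
      intro h
      have h1 := eq_C_of_natDegree_eq_zero (hd ▸ h)
      rw [hfbc0, C_0] at h1
      exact hfb0 h1
    obtain ⟨F, hFm, hFdvd, hFd⟩ := exists_monic_dvd fR hfb0
    set FK := F.map (algebraMap R K) with hFK
    have hFKm : FK.Monic := hFm.map _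
    have hFKd : FK.natDegree = d := by rw [hFK, hFm.natDegree_map, hFd]
    have hFKμ : FK ∣ μ := by
      have h1 : FK ∣ f := by
        rw [← hfR, hFK]; exact Polynomial.map_dvd _ hFdvd
      have h2 : μ = C cj * f := by
        rw [hf, ← mul_assoc, ← C_mul, mul_inv_cancel₀ hcj0, C_1, one_mul]
      rw [h2]; exact h1.mul_left _
    obtain ⟨q, hq⟩ := hFKμ
    rcases hirr.isUnit_or_isUnit hq with h | h
    · have := hFKm.eq_one_of_isUnit h
      rw [this, natDegree_one] at hFKd
      exact hd0 hFKd.symm
    · have hq0 : q ≠ 0 := h.ne_zero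
      have h1 := congrArg natDegree hq
      rw [natDegree_mul hFKm.ne_zero hq0, natDegree_eq_zero_of_isUnit h, add_zero, hFKd] at h1
      exact hdn h1.symm

end Groth.Agent.Lib.Helper9.HenselVal
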