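import Mathlib
import Groth.Prelude.Def_W4bk4boschfrg79
import Groth.Agent.Lib.Helper9.HenselVal

/-!
# Basic facts on admissible algebras over a complete height one valuation ring

Series limits in `t`-adically precomplete rings, closedness of saturated finitely generated ideals,
a complete version of Nakayama's lemma, and the fact that an algebraic element over the fraction
field of a henselian valuation ring is integral or has integral inverse.
-/

universe u

set_option linter.unusedSectionVars false

namespace Groth.Agent.Lib.Helper9.AdmBasic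

open IsLocalRing Polynomial

/-- limits of `τ`-adic series. -/
theorem exists_series_limit {T : Type*} [CommRing T] (τ : T) [IsPrecomplete (Ideal.span {τ}) T]
    (c : ℕ → T) :
    ∃ C : T, ∀ N, ∃ e : T, C = (∑ k ∈ Finset.range N, τ ^ k * c k) + τ ^ N * e := by
  have hc : ∀ {m n : ℕ}, m ≤ n →
      (∑ k ∈ Finset.range m, τ ^ k * c k) ≡ (∑ k ∈ Finset.range n, τ ^ k * c k)
        [SMOD ((Ideal.span {τ}) ^ m • ⊤ : Submodule T T)] := by
    intro m n hmn
    rw [SModEq.sub_mem, smul_eq_mul, Ideal.mul_top, Ideal.span_singleton_pow,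
      Ideal.mem_span_singleton]
    induction n, hmn using Nat.le_induction with
    | base => simp
    | succ n hmn ih =>
      rw [Finset.sum_range_succ]
      have h1 : τ ^ m ∣ τ ^ n * c n := Dvd.dvd.mul_right (pow_dvd_pow τ hmn) _
      have h2 : (∑ k ∈ Finset.range m, τ ^ k * c k) -
          ((∑ k ∈ Finset.range n, τ ^ k * c k) + τ ^ n * c n) =
          ((∑ k ∈ Finset.range m, τ ^ k * c k) - (∑ k ∈ Finset.range n, τ ^ k * c k)) -
            τ ^ n * c n := by ring
      rw [h2]
      exact dvd_sub ih h1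
  obtain ⟨L, hL⟩ := IsPrecomplete.prec ‹_› hc
  refine ⟨L, fun N => ?_⟩
  have h1 := hL N
  rw [SModEq.sub_mem, smul_eq_mul, Ideal.mul_top, Ideal.span_singleton_pow,
    Ideal.mem_span_singleton] at h1
  obtain ⟨e, he⟩ := h1
  exact ⟨-e, by linear_combination -he⟩

/-- a saturated finitely generated ideal of a `τ`-adically complete ring is closed. -/
theorem mem_of_saturated {T : Type*} [CommRing T] (τ : T) [IsPrecomplete (Ideal.span {τ}) T]
    [IsHausdorff (Ideal.span {τ}) T]
    (𝔞 : Ideal T) (hfg : 𝔞.FG) (hsat : ∀ x, τ * x ∈ 𝔞 → x ∈ 𝔞)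
    (x : T) (hx : ∀ k, ∃ y, x - τ ^ k * y ∈ 𝔞) : x ∈ 𝔞 := by
  classical
  obtain ⟨r, g, hg⟩ := Submodule.fg_iff_exists_fin_generating_family.1 hfg
  choose y hy using hx
  have hsatk : ∀ k x, τ ^ k * x ∈ 𝔞 → x ∈ 𝔞 := by
    intro k
    induction k with
    | zero => intro x h; simpa using h
    | succ k ih =>
      intro x h
      apply hsat
      apply ih
      have : τ ^ k * (τ * x) = τ ^ (k + 1) * x := by ring
      rw [this]; exact h
  have hd : ∀ k, y k - τ * y (k + 1) ∈ 𝔞 := by
    intro k
    apply hsatk k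
    have := 𝔞.sub_mem (hy (k + 1)) (hy k)
    have h2 : τ ^ k * (y k - τ * y (k + 1)) =
        (x - τ ^ (k + 1) * y (k + 1)) - (x - τ ^ k * y k) := by ring
    rw [h2]; exact this
  have hd' : ∀ k, ∃ c : Fin r → T, ∑ j, c j • g j = y k - τ * y (k + 1) := by
    intro k
    have := hd k
    rw [← hg] at this
    exact (Submodule.mem_span_range_iff_exists_fun T).1 this
  choose c hc using hd'
  have hlim : ∀ j, ∃ C : T, ∀ N, ∃ e, C = (∑ k ∈ Finset.range N, τ ^ k * c k j) + τ ^ N * e :=
    fun j => exists_series_limit τ (fun k => c k j)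
  choose C hC using hlim
  have hy0 : ∀ N, y 0 = (∑ k ∈ Finset.range N, τ ^ k * (y k - τ * y (k + 1))) + τ ^ N * y N := by
    intro N
    induction N with
    | zero => simp
    | succ N ih =>
      rw [Finset.sum_range_succ]
      linear_combination ih
  have hy0mem : y 0 ∈ 𝔞 := by
    have heq : y 0 = ∑ j, C j • g j := by
      rw [← sub_eq_zero]
      apply IsHausdorff.haus (I := Ideal.span {τ}) ‹_›
      intro N
      rw [SModEq.zero, smul_eq_mul, Ideal.mul_top, Ideal.span_singleton_pow,
        Ideal.mem_span_singleton]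
      choose e he using fun j => hC j N
      refine ⟨y N - ∑ j, e j * g j, ?_⟩
      have h1 : ∑ j, C j • g j =
          (∑ k ∈ Finset.range N, τ ^ k * (y k - τ * y (k + 1))) + τ ^ N * ∑ j, e j * g j := by
        have : ∀ j, C j • g j = (∑ k ∈ Finset.range N, τ ^ k * (c k j * g j)) +
            τ ^ N * (e j * g j) := by
          intro j
          rw [he j, smul_eq_mul, add_mul, Finset.sum_mul]
          congr 1
          · apply Finset.sum_congr rfl; intro k _; ring
          · ring
        rw [Finset.sum_congr rfl (fun j _ => this j), Finset.sum_add_distrib, Finset.sum_comm,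
          ← Finset.mul_sum]
        congr 1
        apply Finset.sum_congr rfl
        intro k _
        rw [← hc k, Finset.mul_sum]
        apply Finset.sum_congr rfl; intro j _; rw [smul_eq_mul]
      rw [h1, hy0 N]
      ring
    rw [heq]
    exact 𝔞.sum_mem (fun j _ => 𝔞.smul_mem _ (hg ▸ Submodule.subset_span ⟨j, rfl⟩))
  have h0 := hy 0
  rw [pow_zero, one_mul] at h0
  have : x = (x - y 0) + y 0 := by ring
  rw [this]
  exact 𝔞.add_mem h0 hy0mem

/-- the extension to a complete ring `T` of a saturated finitely generated ideal `𝔠` of a dense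
subring `P` contains every limit of elements of `𝔠`. -/
theorem mem_map_of_saturated {P T : Type*} [CommRing P] [CommRing T] (ι : P →+* T) (t : P)
    [IsPrecomplete (Ideal.span {ι t}) T] [IsHausdorff (Ideal.span {ι t}) T]
    (hPT : ∀ (k : ℕ) (p : P), ι p ∈ Ideal.span {ι t ^ k} → p ∈ Ideal.span {t ^ k})
    (𝔠 : Ideal P) (hfg : 𝔠.FG) (hsat : ∀ d, t * d ∈ 𝔠 → d ∈ 𝔠)
    (x : T) (hx : ∀ k, ∃ c ∈ 𝔠, ∃ y, x - ι c = ι t ^ k * y) : x ∈ 𝔠.map ι := by
  classical
  obtain ⟨r, g, hg⟩ := Submodule.fg_iff_exists_fin_generating_family.1 hfg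
  choose c hc y hy using hx
  have hsatk : ∀ k x, t ^ k * x ∈ 𝔠 → x ∈ 𝔠 := by
    intro k
    induction k with
    | zero => intro x h; simpa using h
    | succ k ih =>
      intro x h
      apply hsat
      apply ih
      have : t ^ k * (t * x) = t ^ (k + 1) * x := by ring
      rw [this]; exact h
  have hd0 : ∀ k, ∃ d, c (k + 1) - c k = t ^ k * d := by
    intro k
    have h1 : ι (c (k + 1) - c k) = ι t ^ k * (y k - ι t * y (k + 1)) := by
      rw [map_sub]
      linear_combination hy k - hy (k + 1)
    have h2 := hPT k _ (h1 ▸ Ideal.mem_span_singleton.2 ⟨_, rfl⟩)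
    exact Ideal.mem_span_singleton.1 h2
  choose d hd using hd0
  have hdmem : ∀ k, d k ∈ 𝔠 := by
    intro k
    apply hsatk k
    rw [← hd k]
    exact 𝔠.sub_mem (hc (k + 1)) (hc k)
  have hd' : ∀ k, ∃ h : Fin r → P, ∑ j, h j • g j = d k := by
    intro k
    have := hdmem k
    rw [← hg] at this
    exact (Submodule.mem_span_range_iff_exists_fun P).1 this
  choose h hh using hd'
  have hlim : ∀ j, ∃ H : T, ∀ N, ∃ e, H = (∑ k ∈ Finset.range N, ι t ^ k * ι (h k j)) +
      ι t ^ N * e := fun j => exists_series_limit (ι t) (fun k => ι (h k j))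
  choose H hH using hlim
  have hcN : ∀ N, c N = c 0 + ∑ k ∈ Finset.range N, t ^ k * d k := by
    intro N
    induction N with
    | zero => simp
    | succ N ih =>
      rw [Finset.sum_range_succ, ← add_assoc, ← ih, ← hd N]; ring
  have heq : x = ι (c 0) + ∑ j, H j * ι (g j) := by
    rw [← sub_eq_zero]
    apply IsHausdorff.haus (I := Ideal.span {ι t}) ‹_›
    intro N
    rw [SModEq.zero, smul_eq_mul, Ideal.mul_top, Ideal.span_singleton_pow,
      Ideal.mem_span_singleton]
    choose e he using fun j => hH j N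
    refine ⟨y N - ∑ j, e j * ι (g j), ?_⟩
    have h1 : ∑ j, H j * ι (g j) =
        ι (∑ k ∈ Finset.range N, t ^ k * d k) + ι t ^ N * ∑ j, e j * ι (g j) := by
      have : ∀ j, H j * ι (g j) = (∑ k ∈ Finset.range N, ι t ^ k * (ι (h k j) * ι (g j))) +
          ι t ^ N * (e j * ι (g j)) := by
        intro j
        rw [he j, add_mul, Finset.sum_mul]
        congr 1
        · apply Finset.sum_congr rfl; intro k _; ring
        · ring
      rw [Finset.sum_congr rfl (fun j _ => this j), Finset.sum_add_distrib, Finset.sum_comm,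
        ← Finset.mul_sum, map_sum]
      congr 1
      apply Finset.sum_congr rfl
      intro k _
      rw [map_mul, map_pow, ← hh k, map_sum, Finset.mul_sum]
      apply Finset.sum_congr rfl; intro j _; rw [smul_eq_mul, map_mul]
    have h2 := hy N
    rw [hcN N, map_add] at h2
    rw [h1]
    linear_combination h2
  rw [heq]
  refine Ideal.add_mem _ (Ideal.mem_map_of_mem ι (hc 0)) ?_
  exact Ideal.sum_mem _ (fun j _ => Ideal.mul_mem_left _ _
    (Ideal.mem_map_of_mem ι (hg ▸ Submodule.subset_span ⟨j, rfl⟩)))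

/-- complete Nakayama: a finitely generated submodule `N` with `M = N + t M` is everything, if `M`
is `t`-adically separated and `R` is `t`-adically precomplete. -/
theorem eq_top_of_sup_smul {R M : Type*} [CommRing R] [AddCommGroup M] [Module R M] (t : R)
    [IsPrecomplete (Ideal.span {t}) R]
    (hH : ∀ m : M, (∀ k, ∃ m', m = t ^ k • m') → m = 0)
    (N : Submodule R M) (hN : N.FG) (h : ∀ m : M, ∃ n ∈ N, ∃ m', m = n + t • m') : N = ⊤ := by
  classical
  obtain ⟨r, b, hb⟩ := Submodule.fg_iff_exists_fin_generating_family.1 hN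
  have h' : ∀ m : M, ∃ (c : Fin r → R) (m' : M), m = ∑ j, c j • b j + t • m' := by
    intro m
    obtain ⟨n, hn, m', hm⟩ := h m
    rw [← hb] at hn
    obtain ⟨c, hc⟩ := (Submodule.mem_span_range_iff_exists_fun R).1 hn
    exact ⟨c, m', by rw [hc]; exact hm⟩
  choose c nx hstep using h'
  rw [eq_top_iff]
  rintro m -
  have hms : ∀ k, nx^[k] m = ∑ j, c (nx^[k] m) j • b j + t • nx^[k + 1] m := by
    intro k
    rw [Function.iterate_succ_apply']
    exact hstep _
  have hlim := fun j => exists_series_limit t (fun k => c (nx^[k] m) j)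
  choose C hC using hlim
  have hm0 : ∀ N, m = ∑ k ∈ Finset.range N, t ^ k • ∑ j, c (nx^[k] m) j • b j +
      t ^ N • nx^[N] m := by
    intro N
    induction N with
    | zero => simp
    | succ N ih =>
      rw [Finset.sum_range_succ]
      nth_rewrite 1 [ih]
      nth_rewrite 1 [hms N]
      rw [smul_add, ← add_assoc, smul_smul, ← pow_succ]
  have heq : m = ∑ j, C j • b j := by
    rw [← sub_eq_zero]
    apply hH
    intro N
    choose e he using fun j => hC j N
    refine ⟨nx^[N] m - ∑ j, e j • b j, ?_⟩
    have h1 : ∑ j, C j • b j =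
        (∑ k ∈ Finset.range N, t ^ k • ∑ j, c (nx^[k] m) j • b j) + t ^ N • ∑ j, e j • b j := by
      have : ∀ j, C j • b j = (∑ k ∈ Finset.range N, t ^ k • (c (nx^[k] m) j • b j)) +
          t ^ N • (e j • b j) := by
        intro j
        rw [he j, add_smul, Finset.sum_smul, mul_smul]
        congr 1
        apply Finset.sum_congr rfl; intro k _; rw [mul_smul]
      rw [Finset.sum_congr rfl (fun j _ => this j), Finset.sum_add_distrib, Finset.sum_comm,
        ← Finset.smul_sum]
      congr 1
      apply Finset.sum_congr rfl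
      intro k _
      rw [Finset.smul_sum]
    rw [h1]
    nth_rewrite 1 [hm0 N]
    rw [smul_sub]
    abel
  rw [heq, ← hb]
  exact Submodule.sum_mem _ (fun j _ => Submodule.smul_mem _ _ (Submodule.subset_span ⟨j, rfl⟩))

end Groth.Agent.Lib.Helper9.AdmBasic
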