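import Mathlib
import Groth.Agent.Lib.Helper9.HenselVal

/-!
# Henselian valuation rings: an algebraic element or its inverse is integral
-/

universe u

set_option linter.unusedSectionVars false

namespace Groth.Agent.Lib.Helper9.AdmVal

open IsLocalRing Polynomial Groth.Agent.Lib.Helper9.HenselVal Groth.Agent.Lib.Helper9.HenselFactor

/-- over a henselian valued field the coefficients of an irreducible polynomial are bounded by the
extreme ones. -/
theorem coeff_le_max_of_irreducible {R : Type u} [CommRing R] [IsDomain R] [ValuationRing R]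
    (hR : HenselianLocalRing R) {K : Type*} [Field K] [Algebra R K] [IsFractionRing R K]
    (μ : K[X]) (hirr : Irreducible μ) :
    ∀ i, ValuationRing.valuation R K (μ.coeff i) ≤
      max (ValuationRing.valuation R K (μ.coeff 0))
        (ValuationRing.valuation R K μ.leadingCoeff) := by
  classical
  set v := ValuationRing.valuation R K with hv
  set n := μ.natDegree with hn
  obtain ⟨j, hj, hmax⟩ := Finset.exists_max_image (Finset.range (n + 1))
    (fun i => v (μ.coeff i)) ⟨0, by simp⟩
  have hrange : ∀ x : K, v x ≤ 1 ↔ x ∈ (algebraMap R K).range := by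
    intro x
    rw [← Valuation.mem_integer_iff, ValuationRing.mem_integer_iff]; rfl
  have hvle : ∀ i, v (μ.coeff i) ≤ v (μ.coeff j) := by
    intro i
    by_cases hi : i ∈ Finset.range (n + 1)
    · exact hmax i hi
    · rw [coeff_eq_zero_of_natDegree_lt (by simpa [hn] using hi), map_zero]
      exact zero_le
  by_cases hle : v (μ.coeff j) ≤ max (v (μ.coeff 0)) (v μ.leadingCoeff)
  · intro i
    exact (hvle i).trans hle
  · exfalso
    rw [not_le, max_lt_iff] at hle
    obtain ⟨hle0, hlen⟩ := hle
    set cj := μ.coeff j with hcj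
    have hvcj0 : v cj ≠ 0 := fun h => by rw [h] at hle0; exact not_lt_of_ge zero_le hle0
    have hcj0 : cj ≠ 0 := fun h => hvcj0 (by rw [h, map_zero])
    set f : K[X] := C cj⁻¹ * μ with hf
    have hfc : ∀ i, f.coeff i = cj⁻¹ * μ.coeff i := fun i => by rw [hf, coeff_C_mul]
    have hfcoeff : ∀ i, v (f.coeff i) ≤ 1 := by
      intro i
      rw [hfc, map_mul, map_inv₀, inv_mul_le_iff₀ (zero_lt_iff.2 hvcj0), mul_one]
      exact hvle i
    have hflift : f ∈ lifts (algebraMap R K) :=
      (lifts_iff_coeff_lifts _).2 (fun i => (hrange _).1 (hfcoeff i))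
    obtain ⟨fR, hfR, hfRdeg⟩ := exists_natDegree_eq_of_mem_lifts hflift
    have hfRc : ∀ i, algebraMap R K (fR.coeff i) = cj⁻¹ * μ.coeff i := by
      intro i; rw [← hfc, ← hfR, coeff_map]
    have hfdeg : f.natDegree = n := by
      rw [hf, natDegree_C_mul (inv_ne_zero hcj0)]
    have hlt : ∀ i, v (μ.coeff i) < v cj → fR.coeff i ∈ maximalIdeal R := by
      intro i hi
      apply mem_maximalIdeal_of_valuation_lt (K := K)
      rw [hfRc, map_mul, map_inv₀, inv_mul_lt_iff₀ (zero_lt_iff.2 hvcj0), mul_one]
      exact hi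
    have hc0 : fR.coeff 0 ∈ maximalIdeal R := hlt 0 hle0
    have hcn : fR.coeff n ∈ maximalIdeal R := by
      apply hlt n
      rw [hn, coeff_natDegree]
      exact hlen
    have hcjR : fR.coeff j = 1 := by
      apply IsFractionRing.injective R K
      rw [hfRc, map_one, inv_mul_cancel₀ hcj0]
    set fb := fR.map (residue R) with hfb
    have hfbj : fb.coeff j = 1 := by rw [hfb, coeff_map, hcjR, map_one]
    have hfb0 : fb ≠ 0 := by
      intro h; rw [h, coeff_zero] at hfbj; exact zero_ne_one hfbj
    have hfbc0 : fb.coeff 0 = 0 := by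
      rw [hfb, coeff_map]; exact (residue_eq_zero_iff _).2 hc0
    have hfbcn : fb.coeff n = 0 := by
      rw [hfb, coeff_map]; exact (residue_eq_zero_iff _).2 hcn
    set d := fb.natDegree with hd
    have hdle : d ≤ n := by
      rw [hd, ← hfdeg, ← hfRdeg]; exact natDegree_map_le
    have hdn : d ≠ n := by
      intro h
      have : fb.leadingCoeff = 0 := by rw [leadingCoeff, ← hd, h]; exact hfbcn
      exact hfb0 (leadingCoeff_eq_zero.1 this)
    have hd0 : d ≠ 0 := by
      intro h
      have h1 := eq_C_of_natDegree_eq_zero (hd ▸ h)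
      rw [hfbc0, C_0] at h1
      exact hfb0 h1
    obtain ⟨F, hFm, hFdvd, hFd⟩ := exists_monic_dvd fR hfb0
    set FK := F.map (algebraMap R K) with hFK
    have hFKm : FK.Monic := hFm.map _
    have hFKd : FK.natDegree = d := by rw [hFK, hFm.natDegree_map, hFd]
    have hFKμ : FK ∣ μ := by
      have h1 : FK ∣ f := by
        rw [← hfR, hFK]; exact Polynomial.map_dvd _ hFdvd
      have h2 : μ = C cj * f := by
        rw [hf, ← mul_assoc, ← C_mul, mul_inv_cancel₀ hcj0, C_1, one_mul]
      rw [h2]; exact h1.mul_left _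
    obtain ⟨q, hq⟩ := hFKμ
    rcases hirr.isUnit_or_isUnit hq with h | h
    · have := hFKm.eq_one_of_isUnit h
      rw [this, natDegree_one] at hFKd
      exact hd0 hFKd.symm
    · have hq0 : q ≠ 0 := h.ne_zero
      have h1 := congrArg natDegree hq
      rw [natDegree_mul hFKm.ne_zero hq0, natDegree_eq_zero_of_isUnit h, add_zero, hFKd] at h1
      exact hdn h1.symm

/-- an algebraic element over the fraction field of a henselian valuation ring is integral over the
valuation ring, or its inverse is. -/
theorem isIntegral_or_inv {R : Type u} [CommRing R] [IsDomain R] [ValuationRing R]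
    (hR : HenselianLocalRing R) {K L : Type*} [Field K] [Algebra R K] [IsFractionRing R K]
    [Field L] [Algebra K L] [Algebra R L] [IsScalarTower R K L] (x : L) (hx : IsAlgebraic K x) :
    IsIntegral R x ∨ IsIntegral R x⁻¹ := by
  classical
  by_cases hx0 : x = 0
  · left; rw [hx0]; exact isIntegral_zero
  have hxK : IsIntegral K x := hx.isIntegral
  set μ := minpoly K x with hμ
  have hirr : Irreducible μ := minpoly.irreducible hxK
  have hmon : μ.Monic := minpoly.monic hxK
  set v := ValuationRing.valuation R K with hv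
  have hrange : ∀ y : K, v y ≤ 1 ↔ y ∈ (algebraMap R K).range := by
    intro y
    rw [← Valuation.mem_integer_iff, ValuationRing.mem_integer_iff]; rfl
  have hbd := coeff_le_max_of_irreducible hR μ hirr
  rw [hmon.leadingCoeff, map_one] at hbd
  have ha0 : μ.coeff 0 ≠ 0 := minpoly.coeff_zero_ne_zero hxK hx0
  by_cases h0 : v (μ.coeff 0) ≤ 1
  · left
    have hall : ∀ i, μ.coeff i ∈ (algebraMap R K).range := fun i =>
      (hrange _).1 ((hbd i).trans (max_le h0 le_rfl))
    have hl : μ ∈ lifts (algebraMap R K) := (lifts_iff_coeff_lifts _).2 hall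
    obtain ⟨p, hp, -, hpm⟩ := lifts_and_degree_eq_and_monic hl hmon
    refine ⟨p, hpm, ?_⟩
    have h2 : aeval x (p.map (algebraMap R K)) = 0 := by
      rw [hp]; exact minpoly.aeval _ x
    rwa [aeval_map_algebraMap] at h2
  · right
    rw [not_le] at h0
    have hv0 : v (μ.coeff 0) ≠ 0 := fun h => by rw [h] at h0; exact not_lt_of_ge zero_le h0
    set f : K[X] := C (μ.coeff 0)⁻¹ * μ with hf
    have hfc : ∀ i, f.coeff i = (μ.coeff 0)⁻¹ * μ.coeff i := fun i => by rw [hf, coeff_C_mul]
    have hfcoeff : ∀ i, v (f.coeff i) ≤ 1 := by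
      intro i
      rw [hfc, map_mul, map_inv₀, inv_mul_le_iff₀ (zero_lt_iff.2 hv0), mul_one]
      exact (hbd i).trans (max_le le_rfl h0.le)
    have hflift : f ∈ lifts (algebraMap R K) :=
      (lifts_iff_coeff_lifts _).2 (fun i => (hrange _).1 (hfcoeff i))
    obtain ⟨fR, hfR⟩ := hflift
    have hfR0 : fR.coeff 0 = 1 := by
      apply IsFractionRing.injective R K
      have : (fR.map (algebraMap R K)).coeff 0 = f.coeff 0 := by
        change (Polynomial.mapRingHom (algebraMap R K) fR).coeff 0 = _
        rw [hfR]
      rw [coeff_map, hfc, inv_mul_cancel₀ ha0] at this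
      rw [this, map_one]
    have hfx : eval₂ (algebraMap R L) x fR = 0 := by
      have h1 : aeval x (fR.map (algebraMap R K)) = 0 := by
        change aeval x (Polynomial.mapRingHom (algebraMap R K) fR) = 0
        rw [hfR, hf, map_mul, minpoly.aeval, mul_zero]
      rwa [aeval_map_algebraMap, aeval_def] at h1
    haveI : Invertible x := invertibleOfNonzero hx0
    refine ⟨fR.reverse, ?_, ?_⟩
    · rw [Monic, reverse_leadingCoeff, trailingCoeff]
      have : fR.natTrailingDegree = 0 := by
        apply Nat.eq_zero_of_le_zero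
        apply natTrailingDegree_le_of_ne_zero
        rw [hfR0]; exact one_ne_zero
      rw [this, hfR0]
    · have := (eval₂_reverse_eq_zero_iff (algebraMap R L) x fR).2 hfx
      rwa [invOf_eq_inv] at this

end Groth.Agent.Lib.Helper9.AdmVal
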