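import Mathlib
import Groth.Prelude.Def_W4bk4boschfrg79
import Groth.Agent.Lib.Helper9.AdmBasic
import Groth.Agent.Lib.Helper9.AdmVal

/-!
# Restricted power series and admissible algebras over a complete height one valuation ring
-/

universe u

set_option linter.unusedSectionVars false

namespace Groth.Agent.Lib.Helper9.AdmRPow

open IsLocalRing Polynomial AdicRing Groth.Agent.Lib.Helper9.AdmBasic

section general

variable (R : Type u) [CommRing R] (t : R) (n : ℕ)

/-- the image of `t` in `R⟨ζ⟩`. -/
noncomputable abbrev τ : RPow R (Ideal.span {t}) n := algebraMap R (RPow R (Ideal.span {t}) n) t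

theorem map_map_eq :
    ((Ideal.span {t}).map (MvPolynomial.C : R →+* MvPolynomial (Fin n) R)).map
      (algebraMap (MvPolynomial (Fin n) R) (RPow R (Ideal.span {t}) n)) =
      Ideal.span {τ R t n} := by
  refine (Ideal.map_map _ _).trans ((Ideal.map_span _ _).trans ?_)
  rw [Set.image_singleton]
  rfl

theorem map_C_fg : ((Ideal.span {t}).map (MvPolynomial.C : R →+* MvPolynomial (Fin n) R)).FG := by
  rw [Ideal.map_span, Set.image_singleton]
  exact ⟨{MvPolynomial.C t}, by simp⟩

instance isAdicComplete_rPow : IsAdicComplete (Ideal.span {τ R t n}) (RPow R (Ideal.span {t}) n) := by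
  rw [← map_map_eq]
  exact AdicCompletion.isAdicComplete_self _ (map_C_fg R t n)

/-- every restricted power series is a polynomial modulo `t`. -/
theorem exists_poly_add (x : RPow R (Ideal.span {t}) n) :
    ∃ (p : MvPolynomial (Fin n) R) (y : RPow R (Ideal.span {t}) n),
      x = algebraMap (MvPolynomial (Fin n) R) (RPow R (Ideal.span {t}) n) p + τ R t n * y := by
  set I := (Ideal.span {t}).map (MvPolynomial.C : R →+* MvPolynomial (Fin n) R) with hI
  obtain ⟨p, hp⟩ := Ideal.Quotient.mk_surjective (AdicCompletion.evalOneₐ I x)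
  have h1 : x - algebraMap (MvPolynomial (Fin n) R) (RPow R (Ideal.span {t}) n) p ∈
      RingHom.ker (AdicCompletion.evalOneₐ I).toRingHom := by
    rw [RingHom.mem_ker, map_sub, sub_eq_zero]
    change AdicCompletion.evalOneₐ I x = AdicCompletion.evalOneₐ I (algebraMap _ _ p)
    rw [← hp]
    have := congrFun (congrArg DFunLike.coe (AdicCompletion.evalOneₐ_comp_algebraMap_eq_mk I)) p
    exact this.symm
  rw [AdicCompletion.ker_evalOneₐ_eq_map _ (map_C_fg R t n), map_map_eq,
    Ideal.mem_span_singleton] at h1
  obtain ⟨y, hy⟩ := h1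
  exact ⟨p, y, by linear_combination hy⟩

theorem map_C_eq : (Ideal.span {t}).map (MvPolynomial.C : R →+* MvPolynomial (Fin n) R) =
    Ideal.span {MvPolynomial.C t} := by
  rw [Ideal.map_span, Set.image_singleton]

/-- a polynomial divisible by `t ^ k` in `R⟨ζ⟩` is divisible by `t ^ k`. -/
theorem mem_span_of_algebraMap_mem (k : ℕ) (p : MvPolynomial (Fin n) R)
    (hp : algebraMap (MvPolynomial (Fin n) R) (RPow R (Ideal.span {t}) n) p ∈
      Ideal.span {τ R t n ^ k}) :
    p ∈ Ideal.span {(MvPolynomial.C t : MvPolynomial (Fin n) R) ^ k} := by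
  obtain ⟨y, hy⟩ := Ideal.mem_span_singleton.1 hp
  have h1 : algebraMap (MvPolynomial (Fin n) R) (RPow R (Ideal.span {t}) n) p ∈
      LinearMap.ker (AdicCompletion.eval
        ((Ideal.span {t}).map (MvPolynomial.C : R →+* MvPolynomial (Fin n) R))
        (MvPolynomial (Fin n) R) k) := by
    apply AdicCompletion.pow_smul_top_le_ker_eval
    rw [hy]
    have h2 : τ R t n ^ k * y = ((MvPolynomial.C t : MvPolynomial (Fin n) R) ^ k) • y := by
      rw [Algebra.smul_def, map_pow]; rfl
    rw [h2]
    refine Submodule.smul_mem_smul (Ideal.pow_mem_pow ?_ k) trivial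
    exact Ideal.mem_map_of_mem _ (Ideal.mem_span_singleton_self t)
  rw [LinearMap.mem_ker] at h1
  have h3 : AdicCompletion.eval
      ((Ideal.span {t}).map (MvPolynomial.C : R →+* MvPolynomial (Fin n) R))
      (MvPolynomial (Fin n) R) k (algebraMap (MvPolynomial (Fin n) R)
        (RPow R (Ideal.span {t}) n) p) = Submodule.mkQ _ p := by
    rw [AdicCompletion.algebraMap_apply, AdicCompletion.eval_of]
    rfl
  rw [h3, Submodule.mkQ_apply, Submodule.Quotient.mk_eq_zero, smul_eq_mul, Ideal.mul_top,
    map_C_eq, Ideal.span_singleton_pow] at h1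
  exact h1

end general

section completion

variable {R : Type u} [CommRing R] (t : R) (P : Type u) [CommRing P] [Algebra R P]

theorem map_map_eq' :
    ((Ideal.span {t}).map (algebraMap R P)).map
      (algebraMap P (AdicCompletion ((Ideal.span {t}).map (algebraMap R P)) P)) =
      Ideal.span {algebraMap R (AdicCompletion ((Ideal.span {t}).map (algebraMap R P)) P) t} := by
  refine (Ideal.map_map _ _).trans ((Ideal.map_span _ _).trans ?_)
  rw [Set.image_singleton]
  rfl

theorem map_fg' : ((Ideal.span {t}).map (algebraMap R P)).FG := by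
  rw [Ideal.map_span, Set.image_singleton]
  exact ⟨{algebraMap R P t}, by simp⟩

theorem exists_of_add_aux (I : Ideal P) (hfg : I.FG)
    (hI : I.map (algebraMap P (AdicCompletion I P)) =
      Ideal.span {algebraMap R (AdicCompletion I P) t}) (x : AdicCompletion I P) :
    ∃ (p : P) (y : AdicCompletion I P),
      x = algebraMap P (AdicCompletion I P) p + algebraMap R (AdicCompletion I P) t * y := by
  obtain ⟨p, hp⟩ := Ideal.Quotient.mk_surjective (AdicCompletion.evalOneₐ I x)
  have h1 : x - algebraMap P (AdicCompletion I P) p ∈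
      RingHom.ker (AdicCompletion.evalOneₐ I).toRingHom := by
    rw [RingHom.mem_ker, map_sub, sub_eq_zero]
    change AdicCompletion.evalOneₐ I x = AdicCompletion.evalOneₐ I (algebraMap _ _ p)
    rw [← hp]
    have := congrFun (congrArg DFunLike.coe (AdicCompletion.evalOneₐ_comp_algebraMap_eq_mk I)) p
    exact this.symm
  rw [AdicCompletion.ker_evalOneₐ_eq_map _ hfg, hI, Ideal.mem_span_singleton] at h1
  obtain ⟨y, hy⟩ := h1
  exact ⟨p, y, by linear_combination hy⟩

/-- every element of the `t`-adic completion comes from `P` modulo `t`. -/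
theorem exists_of_add (x : AdicCompletion ((Ideal.span {t}).map (algebraMap R P)) P) :
    ∃ (p : P) (y : AdicCompletion ((Ideal.span {t}).map (algebraMap R P)) P),
      x = algebraMap P (AdicCompletion ((Ideal.span {t}).map (algebraMap R P)) P) p +
        algebraMap R (AdicCompletion ((Ideal.span {t}).map (algebraMap R P)) P) t * y :=
  exists_of_add_aux t P _ (map_fg' t P) (map_map_eq' t P) x

end completion

end Groth.Agent.Lib.Helper9.AdmRPow
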