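import Mathlib
import Groth.Prelude.Def_W4bk4boschfrg79
import Groth.Agent.Lib.Helper9.AdmRPow

/-!
# Admissible algebras that are local domains of dimension one (Bosch FRG 8.3, Lemma 6)
-/

universe u

set_option linter.unusedSectionVars false

namespace Groth.Agent.Lib.Helper9.AdmLocal

open IsLocalRing Polynomial AdicRing Groth.Agent.Lib.Helper9.AdmBasic
  Groth.Agent.Lib.Helper9.AdmRPow Groth.Agent.Lib.Helper9.AdmVal
  Groth.Agent.Lib.Helper9.HenselVal

section topft

variable {R : Type u} [CommRing R] (t : R) {B : Type u} [CommRing B] [Algebra R B]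

theorem smul_pow_eq_zero (hB : NoPowTorsion (Ideal.span {t}) B) (b : B) (k : ℕ)
    (h : t ^ k • b = 0) : b = 0 := by
  apply hB b k
  intro a ha
  rw [Ideal.span_singleton_pow, Ideal.mem_span_singleton] at ha
  obtain ⟨c, rfl⟩ := ha
  rw [mul_comm, mul_smul, h, smul_zero]

theorem noPowTorsion_of (h : ∀ b : B, t • b = 0 → b = 0) : NoPowTorsion (Ideal.span {t}) B := by
  have key : ∀ (n : ℕ) (x : B), t ^ n • x = 0 → x = 0 := by
    intro n
    induction n with
    | zero => intro x hx; simpa using hx
    | succ n ih =>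
      intro x hx
      apply ih
      apply h
      rw [smul_smul, ← pow_succ']
      exact hx
  intro x n hx
  exact key n x (hx _ (Ideal.pow_mem_pow (Ideal.mem_span_singleton_self t) n))

theorem map_τ {n : ℕ} (φ : RPow R (Ideal.span {t}) n →ₐ[R] B) :
    φ (τ R t n) = algebraMap R B t := φ.commutes t

theorem isUnit_one_add_smul (hB : TopFiniteType R (Ideal.span {t}) B) (b : B) :
    IsUnit (1 + t • b) := by
  obtain ⟨n, φ, hφ⟩ := hB
  obtain ⟨x, rfl⟩ := hφ b
  have h1 : τ R t n ∈ (⊥ : Ideal (RPow R (Ideal.span {t}) n)).jacobson :=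
    IsAdicComplete.le_jacobson_bot (Ideal.span {τ R t n}) (Ideal.mem_span_singleton_self _)
  have h2 := Ideal.mem_jacobson_bot.1 h1 x
  have h3 := h2.map φ
  rw [map_add, map_mul, map_one, map_τ, add_comm, ← Algebra.smul_def] at h3
  exact h3

theorem hausdorff_of_admissible (hB : Admissible R (Ideal.span {t}) B) (b : B)
    (hb : ∀ k, ∃ b', b = t ^ k • b') : b = 0 := by
  obtain ⟨⟨n, φ, hφ, hker⟩, htf⟩ := hB
  obtain ⟨x, rfl⟩ := hφ b
  have hx : x ∈ RingHom.ker φ.toRingHom := by
    apply mem_of_saturated (τ R t n) _ hker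
    · intro y hy
      rw [RingHom.mem_ker] at hy ⊢
      have h1 : t • φ y = 0 := by
        rw [Algebra.smul_def, ← map_τ t φ, ← map_mul]; exact hy
      exact smul_pow_eq_zero t htf _ 1 (by simpa using h1)
    · intro k
      obtain ⟨b', hb'⟩ := hb k
      obtain ⟨y, rfl⟩ := hφ b'
      refine ⟨y, ?_⟩
      rw [RingHom.mem_ker, map_sub, sub_eq_zero]
      change φ x = φ (τ R t n ^ k * y)
      rw [hb', map_mul, map_pow, map_τ, Algebra.smul_def, map_pow]
  exact hx

theorem topFiniteType_of_admissible (hB : Admissible R (Ideal.span {t}) B) :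
    TopFiniteType R (Ideal.span {t}) B := by
  obtain ⟨⟨n, φ, hφ, -⟩, -⟩ := hB
  exact ⟨n, φ, hφ⟩

/-- every element is a polynomial in the images of the variables modulo `t`. -/
theorem exists_aeval_add {n : ℕ} (φ : RPow R (Ideal.span {t}) n →ₐ[R] B)
    (hφ : Function.Surjective φ) (b : B) :
    ∃ (p : MvPolynomial (Fin n) R) (b' : B),
      b = φ (algebraMap (MvPolynomial (Fin n) R) (RPow R (Ideal.span {t}) n) p) + t • b' := by
  obtain ⟨x, rfl⟩ := hφ b
  obtain ⟨p, y, hxy⟩ := exists_poly_add R t n x
  refine ⟨p, φ y, ?_⟩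
  rw [hxy, map_add, map_mul, map_τ, Algebra.smul_def]

end topft

section valring

variable {R : Type u} [CommRing R] [IsDomain R] [ValuationRing R] [Ring.KrullDimLE 1 R]
  (t : R) (ht : t ≠ 0) [IsAdicComplete (Ideal.span {t}) R]

include ht

theorem t_mem_maximalIdeal : t ∈ maximalIdeal R := by
  by_contra h
  have hu : IsUnit t := by
    by_contra hnu; exact h ((mem_maximalIdeal _).2 hnu)
  have htop : Ideal.span {t} = ⊤ := Ideal.span_singleton_eq_top.2 hu
  have hH : IsHausdorff (Ideal.span {t}) R := inferInstance
  rw [htop] at hH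
  have := hH.subsingleton
  exact absurd (Subsingleton.elim (1 : R) 0) one_ne_zero

theorem radical_span : (Ideal.span {t}).radical = maximalIdeal R := by
  rw [Ideal.radical_eq_sInf]
  apply le_antisymm
  · apply sInf_le
    exact ⟨(Ideal.span_singleton_le_iff_mem _).2 (t_mem_maximalIdeal t ht), inferInstance⟩
  · apply le_sInf
    rintro P ⟨hP1, hP2⟩
    have hPne : P ≠ ⊥ := by
      intro h
      rw [h] at hP1
      exact ht (by simpa using hP1 (Ideal.mem_span_singleton_self t))
    have := hP2.isMaximal_of_ne_bot hPne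
    rw [IsLocalRing.eq_maximalIdeal this]

theorem exists_dvd_pow (r : R) (hr : r ≠ 0) : ∃ m : ℕ, r ∣ t ^ m := by
  by_contra hcon
  push Not at hcon
  apply hr
  apply IsHausdorff.haus (I := Ideal.span {t}) inferInstance r
  intro k
  have h1 : t ^ k ∣ r := by
    obtain ⟨c, hc | hc⟩ := PreValuationRing.cond (t ^ k) r
    · exact ⟨c, by rw [hc]⟩
    · exact absurd ⟨c, by rw [hc]⟩ (hcon k)
  rw [SModEq.zero, smul_eq_mul, Ideal.mul_top, Ideal.span_singleton_pow,
    Ideal.mem_span_singleton]
  exact h1

variable {B : Type u} [CommRing B] [Algebra R B]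

theorem algebraMap_injective_of_noPowTorsion [Nontrivial B]
    (hB : NoPowTorsion (Ideal.span {t}) B) : Function.Injective (algebraMap R B) := by
  rw [injective_iff_map_eq_zero]
  intro r hr
  by_contra hr0
  obtain ⟨m, c, hc⟩ := exists_dvd_pow t ht r hr0
  have h1 : t ^ m • (1 : B) = 0 := by
    rw [Algebra.smul_def, mul_one, hc, map_mul, hr, zero_mul]
  exact one_ne_zero (smul_pow_eq_zero t hB 1 m h1)

variable [IsDomain B] [IsLocalRing B]

theorem algebraMap_t_mem (hB : TopFiniteType R (Ideal.span {t}) B) :
    algebraMap R B t ∈ maximalIdeal B := by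
  by_contra h
  have hu : IsUnit (algebraMap R B t) := by
    by_contra hnu; exact h ((mem_maximalIdeal _).2 hnu)
  obtain ⟨u, hu⟩ := hu.exists_right_inv
  have h1 := isUnit_one_add_smul t hB (-u)
  rw [Algebra.smul_def, mul_neg, hu, add_neg_cancel] at h1
  exact not_isUnit_zero h1

theorem algebraMap_t_ne_zero (hB : NoPowTorsion (Ideal.span {t}) B) : algebraMap R B t ≠ 0 := by
  intro h
  have h1 : t ^ 1 • (1 : B) = 0 := by rw [pow_one, Algebra.smul_def, h, zero_mul]
  exact one_ne_zero (smul_pow_eq_zero t hB 1 1 h1)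

theorem radical_span_B (hB : Admissible R (Ideal.span {t}) B) (hdim : ringKrullDim B = 1) :
    (Ideal.span {algebraMap R B t}).radical = maximalIdeal B := by
  haveI : Ring.KrullDimLE 1 B := Ring.krullDimLE_iff.2 (by rw [hdim]; rfl)
  rw [Ideal.radical_eq_sInf]
  apply le_antisymm
  · apply sInf_le
    exact ⟨(Ideal.span_singleton_le_iff_mem _).2
      (algebraMap_t_mem t ht (topFiniteType_of_admissible t hB)), inferInstance⟩
  · apply le_sInf
    rintro P ⟨hP1, hP2⟩
    have hPne : P ≠ ⊥ := by
      intro h
      rw [h] at hP1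
      exact algebraMap_t_ne_zero t ht hB.2
        (by simpa using hP1 (Ideal.mem_span_singleton_self _))
    have := hP2.isMaximal_of_ne_bot hPne
    rw [IsLocalRing.eq_maximalIdeal this]

/-- the residue field of `B` is finite over `R`. -/
theorem finite_residueField (hB : Admissible R (Ideal.span {t}) B) :
    Module.Finite R (ResidueField B) := by
  obtain ⟨n, φ, hφ⟩ := topFiniteType_of_admissible t hB
  have htm := algebraMap_t_mem t ht (topFiniteType_of_admissible t hB)
  have ht0 : algebraMap R (ResidueField B) t = 0 := by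
    rw [IsScalarTower.algebraMap_apply R B (ResidueField B)]
    exact (residue_eq_zero_iff _).2 htm
  let ψ : MvPolynomial (Fin n) R →ₐ[R] ResidueField B :=
    (IsScalarTower.toAlgHom R B (ResidueField B)).comp
      (φ.comp (IsScalarTower.toAlgHom R (MvPolynomial (Fin n) R) (RPow R (Ideal.span {t}) n)))
  have hψ : Function.Surjective ψ := by
    intro f
    obtain ⟨b, rfl⟩ := residue_surjective f
    obtain ⟨p, b', hb⟩ := exists_aeval_add t φ hφ b
    refine ⟨p, ?_⟩
    change residue B (φ (algebraMap _ _ p)) = residue B b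
    rw [hb, map_add, Algebra.smul_def, map_mul]
    have : residue B (algebraMap R B t) = 0 := (residue_eq_zero_iff _).2 htm
    rw [this, zero_mul, add_zero]
  haveI : Algebra.FiniteType R (ResidueField B) := Algebra.FiniteType.of_surjective ψ hψ
  haveI hloc : IsLocalHom (algebraMap R (ResidueField B)) := by
    constructor
    intro a ha
    by_contra hnu
    have ham : a ∈ maximalIdeal R := (mem_maximalIdeal _).2 hnu
    rw [← radical_span t ht] at ham
    obtain ⟨N, hN⟩ := ham
    obtain ⟨c, hc⟩ := Ideal.mem_span_singleton.1 hN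
    have h1 : algebraMap R (ResidueField B) a ^ N = 0 := by
      rw [← map_pow, hc, map_mul, ht0, zero_mul]
    exact ha.ne_zero (pow_eq_zero_iff (fun h => by
      rw [h, pow_zero] at h1; exact one_ne_zero h1) |>.1 h1)
  letI : Algebra (ResidueField R) (ResidueField B) :=
    (ResidueField.lift (algebraMap R (ResidueField B))).toAlgebra
  haveI : IsScalarTower R (ResidueField R) (ResidueField B) :=
    IsScalarTower.of_algebraMap_eq (fun x => by
      change _ = ResidueField.lift (algebraMap R (ResidueField B)) (residue R x)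
      rw [ResidueField.lift_residue_apply])
  haveI : Algebra.FiniteType (ResidueField R) (ResidueField B) :=
    Algebra.FiniteType.of_restrictScalars_finiteType R _ _
  haveI : Module.Finite (ResidueField R) (ResidueField B) :=
    finite_of_finite_type_of_isJacobsonRing _ _
  haveI : Module.Finite R (ResidueField R) :=
    Module.Finite.of_surjective (Algebra.linearMap R (ResidueField R)) residue_surjective
  exact Module.Finite.trans (ResidueField R) (ResidueField B)

/-- every element of `B` satisfies a monic polynomial over `R` modulo `t`. -/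
theorem exists_monic_aeval_eq_smul (hB : Admissible R (Ideal.span {t}) B)
    (hdim : ringKrullDim B = 1) (b : B) :
    ∃ q : R[X], q.Monic ∧ ∃ b' : B, aeval b q = t • b' := by
  haveI := finite_residueField t ht hB
  obtain ⟨p, hp, hpe⟩ := IsIntegral.of_finite R (residue B b)
  have h1 : aeval b p ∈ maximalIdeal B := by
    rw [← residue_eq_zero_iff]
    have := Polynomial.aeval_algHom_apply (IsScalarTower.toAlgHom R B (ResidueField B)) b p
    change aeval (residue B b) p = residue B (aeval b p) at this
    rw [← this, aeval_def]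
    exact hpe
  rw [← radical_span_B t ht hB hdim] at h1
  obtain ⟨N, hN⟩ := h1
  obtain ⟨c, hc⟩ := Ideal.mem_span_singleton.1 hN
  refine ⟨p ^ N, hp.pow N, c, ?_⟩
  rw [map_pow, hc, Algebra.smul_def]

theorem finite_of_local_domain (hB : Admissible R (Ideal.span {t}) B)
    (hdim : ringKrullDim B = 1) : Module.Finite R B := by
  classical
  obtain ⟨n, φ, hφ⟩ := topFiniteType_of_admissible t hB
  set J : Ideal B := Ideal.span {algebraMap R B t} with hJ
  let ψ : MvPolynomial (Fin n) R →ₐ[R] B ⧸ J :=
    (Ideal.Quotient.mkₐ R J).comp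
      (φ.comp (IsScalarTower.toAlgHom R (MvPolynomial (Fin n) R) (RPow R (Ideal.span {t}) n)))
  have hψ : Function.Surjective ψ := by
    intro f
    obtain ⟨b, rfl⟩ := Ideal.Quotient.mk_surjective f
    obtain ⟨p, b', hb⟩ := exists_aeval_add t φ hφ b
    refine ⟨p, ?_⟩
    change Ideal.Quotient.mk J (φ (algebraMap _ _ p)) = Ideal.Quotient.mk J b
    rw [hb, map_add, Algebra.smul_def, map_mul]
    have : Ideal.Quotient.mk J (algebraMap R B t) = 0 :=
      Ideal.Quotient.eq_zero_iff_mem.2 (Ideal.mem_span_singleton_self _)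
    rw [this, zero_mul, add_zero]
  have hint : ∀ i, IsIntegral R (ψ (MvPolynomial.X i)) := by
    intro i
    set zi : B := φ (algebraMap (MvPolynomial (Fin n) R) (RPow R (Ideal.span {t}) n)
      (MvPolynomial.X i)) with hzi
    obtain ⟨q, hq, b', hb'⟩ := exists_monic_aeval_eq_smul t ht hB hdim zi
    refine ⟨q, hq, ?_⟩
    have h1 := Polynomial.aeval_algHom_apply (Ideal.Quotient.mkₐ R J) zi q
    rw [← aeval_def]
    change aeval (Ideal.Quotient.mkₐ R J zi) q = 0
    rw [h1, hb', Algebra.smul_def, map_mul]
    have : Ideal.Quotient.mkₐ R J (algebraMap R B t) = 0 :=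
      Ideal.Quotient.eq_zero_iff_mem.2 (Ideal.mem_span_singleton_self _)
    rw [this, zero_mul]
  have hfinq : Module.Finite R (B ⧸ J) := by
    have h1 : Algebra.adjoin R (Set.range fun i => ψ (MvPolynomial.X i)) = ⊤ := by
      rw [Algebra.adjoin_range_eq_range_aeval]
      have := MvPolynomial.aeval_unique ψ
      change ψ = MvPolynomial.aeval (fun i => ψ (MvPolynomial.X i)) at this
      rw [← this]
      exact (AlgHom.range_eq_top ψ).2 hψ
    have h2 := fg_adjoin_of_finite (Set.finite_range fun i => ψ (MvPolynomial.X i))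
      (by rintro _ ⟨i, rfl⟩; exact hint i)
    rw [h1] at h2
    exact ⟨by simpa using h2⟩
  obtain ⟨r, s, hs⟩ := Module.Finite.exists_fin (R := R) (M := B ⧸ J)
  choose b hb using fun j => Ideal.Quotient.mk_surjective (s j)
  have hN : (Submodule.span R (Set.range b)).FG := Submodule.fg_span (Set.finite_range b)
  have hstep : ∀ m : B, ∃ x ∈ Submodule.span R (Set.range b), ∃ m', m = x + t • m' := by
    intro m
    have h1 : Ideal.Quotient.mk J m ∈ Submodule.span R (Set.range s) := by rw [hs]; trivial
    obtain ⟨c, hc⟩ := (Submodule.mem_span_range_iff_exists_fun R).1 h1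
    have h2 : m - ∑ j, c j • b j ∈ J := by
      rw [← Ideal.Quotient.eq_zero_iff_mem, map_sub, ← hc, map_sum, sub_eq_zero]
      apply Finset.sum_congr rfl
      intro j _
      rw [Algebra.smul_def, Algebra.smul_def, map_mul, hb j]
      rfl
    obtain ⟨m', hm'⟩ := Ideal.mem_span_singleton.1 h2
    refine ⟨∑ j, c j • b j, Submodule.sum_mem _ (fun j _ => Submodule.smul_mem _ _
      (Submodule.subset_span ⟨j, rfl⟩)), m', ?_⟩
    rw [Algebra.smul_def, ← hm']; ring
  have htop := eq_top_of_sup_smul t (hausdorff_of_admissible t hB) _ hN hstep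
  exact ⟨htop ▸ hN⟩

theorem valuationRing_integralClosure (hB : Admissible R (Ideal.span {t}) B)
    (hfin : Module.Finite R B) : ValuationRing (integralClosure B (FractionRing B)) := by
  have hR : HenselianLocalRing R := henselianLocalRing_of_valuationRing t ht
  have hinj : Function.Injective (algebraMap R B) :=
    algebraMap_injective_of_noPowTorsion t ht hB.2
  have hinjL : Function.Injective (algebraMap R (FractionRing B)) := by
    rw [IsScalarTower.algebraMap_eq R B (FractionRing B)]
    exact (IsFractionRing.injective B (FractionRing B)).comp hinj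
  haveI : FaithfulSMul R (FractionRing B) := (faithfulSMul_iff_algebraMap_injective R _).2 hinjL
  letI : Algebra (FractionRing R) (FractionRing B) := FractionRing.liftAlgebra R _
  haveI : IsScalarTower R (FractionRing R) (FractionRing B) :=
    FractionRing.isScalarTower_liftAlgebra R _
  haveI : Algebra.IsAlgebraic B (FractionRing B) :=
    (IsFractionRing.comap_isAlgebraic_iff (A := B) (K := FractionRing B)
      (C := FractionRing B)).2 inferInstance
  haveI : Algebra.IsAlgebraic R (FractionRing B) := Algebra.IsAlgebraic.trans R B _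
  haveI : Algebra.IsAlgebraic (FractionRing R) (FractionRing B) :=
    (IsFractionRing.comap_isAlgebraic_iff (A := R) (K := FractionRing R)
      (C := FractionRing B)).1 inferInstance
  haveI : IsFractionRing (integralClosure B (FractionRing B)) (FractionRing B) :=
    integralClosure.isFractionRing_of_algebraic (A := B) (L := FractionRing B)
      (fun x hx => IsFractionRing.injective B (FractionRing B) (by rw [hx, map_zero]))
  rw [ValuationRing.iff_isInteger_or_isInteger (integralClosure B (FractionRing B))
    (FractionRing B)]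
  intro x
  rcases isIntegral_or_inv hR (K := FractionRing R) x (Algebra.IsAlgebraic.isAlgebraic x)
    with h | h
  · left; exact ⟨⟨x, h.tower_top⟩, rfl⟩
  · right; exact ⟨⟨x⁻¹, h.tower_top⟩, rfl⟩

end valring

end Groth.Agent.Lib.Helper9.AdmLocal
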