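import Mathlib
import Groth.Prelude.Def_W4bk4boschfrg79
import Groth.Agent.Lib.Helper9.AdmLocal

/-!
# Maps from complete localizations onto admissible local domains of dimension one
(Bosch FRG 8.3, Lemma 7)
-/

universe u

set_option linter.unusedSectionVars false

namespace Groth.Agent.Lib.Helper9.AdmCLoc

open IsLocalRing Polynomial AdicRing Groth.Agent.Lib.Helper9.AdmBasic
  Groth.Agent.Lib.Helper9.AdmRPow Groth.Agent.Lib.Helper9.AdmLocal

theorem surjective_comp
    (R : Type u) [CommRing R] [IsDomain R] [ValuationRing R] [Ring.KrullDimLE 1 R]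
    (t : R) (ht : t ≠ 0) [IsAdicComplete (Ideal.span {t}) R]
    (A : Type u) [CommRing A] [Algebra R A] (f : A)
    (B : Type u) [CommRing B] [Algebra R B] [IsDomain B] [IsLocalRing B]
    (hB : AdicRing.Admissible R (Ideal.span {t}) B) (hdim : ringKrullDim B = 1)
    (u : AdicRing.CLoc (Ideal.span {t}) f →ₐ[R] B) (hu : Function.Surjective u) :
    Function.Surjective
      (u.toRingHom.comp (algebraMap A (AdicRing.CLoc (Ideal.span {t}) f))) := by
  haveI hfin : Module.Finite R B := finite_of_local_domain t ht hB hdim
  let ρ : A →ₐ[R] B := u.comp (IsScalarTower.toAlgHom R A (AdicRing.CLoc (Ideal.span {t}) f))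
  have hρ : ∀ a, ρ a = u (algebraMap A (AdicRing.CLoc (Ideal.span {t}) f) a) := fun a => rfl
  suffices hS : ρ.range = ⊤ by
    intro b
    have hb : b ∈ ρ.range := by rw [hS]; trivial
    obtain ⟨a, ha⟩ := hb
    exact ⟨a, ha⟩
  -- the image of `f` is a unit of `B`, hence of the range
  have hunitAf : IsUnit (algebraMap A (Localization.Away f) f) :=
    IsLocalization.Away.algebraMap_isUnit f
  have hunitB : IsUnit (ρ f) := by
    rw [hρ, IsScalarTower.algebraMap_apply A (Localization.Away f)
      (AdicRing.CLoc (Ideal.span {t}) f)]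
    exact (hunitAf.map _).map u
  haveI : Algebra.IsIntegral R B := Algebra.IsIntegral.of_finite R B
  have hint : (algebraMap ρ.range B).IsIntegral := by
    intro b
    exact (Algebra.IsIntegral.isIntegral (R := R) b).tower_top
  haveI hloc : IsLocalHom (algebraMap ρ.range B) :=
    hint.isLocalHom (by
      intro x y hxy
      exact Subtype.ext hxy)
  have hunitS : IsUnit (⟨ρ f, ⟨f, rfl⟩⟩ : ρ.range) := by
    apply hloc.map_nonunit
    exact hunitB
  obtain ⟨g, hg⟩ := hunitS.exists_right_inv
  have hg' : ρ f * (g : B) = 1 := by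
    have := congrArg (Subtype.val) hg
    simpa using this
  -- the image of the localization lies in the range
  have hAf : ∀ x : Localization.Away f,
      u (algebraMap (Localization.Away f) (AdicRing.CLoc (Ideal.span {t}) f) x) ∈ ρ.range := by
    intro x
    obtain ⟨n, a, hxa⟩ := IsLocalization.Away.surj f x
    have h1 : u (algebraMap (Localization.Away f) (AdicRing.CLoc (Ideal.span {t}) f) x) *
        ρ f ^ n = ρ a := by
      rw [hρ, hρ, IsScalarTower.algebraMap_apply A (Localization.Away f)
        (AdicRing.CLoc (Ideal.span {t}) f), IsScalarTower.algebraMap_apply A (Localization.Away f)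
        (AdicRing.CLoc (Ideal.span {t}) f), ← map_pow, ← map_pow, ← map_mul, ← map_mul, hxa]
    have h2 : u (algebraMap (Localization.Away f) (AdicRing.CLoc (Ideal.span {t}) f) x) =
        ρ a * (g : B) ^ n := by
      rw [← h1, mul_assoc, ← mul_pow, hg', one_pow, mul_one]
    rw [h2]
    exact ρ.range.mul_mem ⟨a, rfl⟩ (ρ.range.pow_mem g.2 n)
  -- Nakayama
  have htjac : Ideal.span {t} ≤ (⊥ : Ideal R).jacobson :=
    IsAdicComplete.le_jacobson_bot (Ideal.span {t})
  have hle : (⊤ : Submodule R B) ≤ Subalgebra.toSubmodule ρ.range := by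
    apply Submodule.le_of_le_smul_of_le_jacobson_bot (Module.Finite.fg_top) htjac
    rintro b -
    obtain ⟨y, rfl⟩ := hu b
    obtain ⟨x, y', hxy⟩ := exists_of_add t (Localization.Away f) y
    rw [hxy, map_add, map_mul, u.commutes]
    apply Submodule.add_mem_sup
    · exact hAf x
    · rw [← Algebra.smul_def]
      exact Submodule.smul_mem_smul (Ideal.mem_span_singleton_self t) trivial
  rw [eq_top_iff]
  intro b _
  exact hle trivial

end Groth.Agent.Lib.Helper9.AdmCLoc
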