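import Mathlib

/-!
# Extension of algebra maps to adic completions, completeness of finite projective modules

`extCompl` is copied from helper7's `Groth/Agent/S11545.lean`; the completeness of finite projective
modules over a complete ring is copied from helper28's `Groth/Agent/S17864.lean`.
-/

universe u

set_option linter.unusedSectionVars false

namespace Groth.Agent.Lib.Helper9.AdmExt

section Ext

variable {R : Type u} [CommRing R] (I : Ideal R) {C : Type u} [CommRing C] [Algebra R C]
  {B : Type u} [CommRing B] [Algebra R B]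

theorem map_pow_le_comap (g : C →ₐ[R] B) (n : ℕ) :
    (I.map (algebraMap R C)) ^ n ≤ Ideal.comap g ((I.map (algebraMap R B)) ^ n) := by
  have h1 : I.map (algebraMap R C) ≤ Ideal.comap g (I.map (algebraMap R B)) := by
    rw [Ideal.map_le_iff_le_comap]
    intro x hx
    rw [Ideal.mem_comap, Ideal.mem_comap, g.commutes]
    exact Ideal.mem_map_of_mem _ hx
  exact le_trans (Ideal.pow_right_mono h1 n) (Ideal.le_comap_pow _ n)

variable [IsAdicComplete (I.map (algebraMap R B)) B]

/-- the level-`n` map -/
noncomputable def hn (g : C →ₐ[R] B) (n : ℕ) :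
    AdicCompletion (I.map (algebraMap R C)) C →ₐ[R] B ⧸ (I.map (algebraMap R B)) ^ n :=
  (Ideal.quotientMapₐ ((I.map (algebraMap R B)) ^ n) g (map_pow_le_comap I g n)).comp
    ((AdicCompletion.evalₐ (I.map (algebraMap R C)) n).restrictScalars R)

theorem hn_mk (g : C →ₐ[R] B) (n : ℕ) (s : AdicCompletion.AdicCauchySequence (I.map (algebraMap R C)) C) :
    hn I g n (AdicCompletion.mk _ C s) = Ideal.Quotient.mk _ (g (s.val n)) := by
  unfold hn
  rw [AlgHom.comp_apply, AlgHom.restrictScalars_apply, AdicCompletion.evalₐ_mk]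
  rfl

theorem hn_compat (g : C →ₐ[R] B) {m n : ℕ} (hle : m ≤ n) :
    (Ideal.Quotient.factorₐ R (Ideal.pow_le_pow_right hle)).comp (hn I g n) = hn I g m := by
  ext x
  obtain ⟨s, rfl⟩ := AdicCompletion.mk_surjective _ _ x
  rw [AlgHom.comp_apply, hn_mk, hn_mk]
  change Ideal.Quotient.mk _ (g (s.val n)) = Ideal.Quotient.mk _ (g (s.val m))
  rw [Ideal.Quotient.eq, ← map_sub]
  have h1 : s.val n - s.val m ∈ (I.map (algebraMap R C)) ^ m := by
    have := s.2 hle
    rw [SModEq.sub_mem] at this
    have h2 : s.val m - s.val n ∈ (I.map (algebraMap R C)) ^ m := by simpa using this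
    have := neg_mem h2
    simpa using this
  exact map_pow_le_comap I g m h1

/-- extension of `g` to the completion -/
noncomputable def extCompl (g : C →ₐ[R] B) : AdicCompletion (I.map (algebraMap R C)) C →ₐ[R] B :=
  IsAdicComplete.liftAlgHom (I.map (algebraMap R B)) (hn I g) (hn_compat I g)

theorem mk_extCompl (g : C →ₐ[R] B) (n : ℕ) (x : AdicCompletion (I.map (algebraMap R C)) C) :
    Ideal.Quotient.mk ((I.map (algebraMap R B)) ^ n) (extCompl I g x) = hn I g n x :=
  IsAdicComplete.mk_liftAlgHom _ _ (hn_compat I g) n x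

theorem extCompl_of (g : C →ₐ[R] B) (c : C) :
    extCompl I g (AdicCompletion.of _ C c) = g c := by
  have := IsHausdorff.funext' (I.map (algebraMap R B))
    (f := fun c : C => extCompl I g (AdicCompletion.of _ C c)) (g := fun c => g c) (by
      intro n c
      rw [mk_extCompl]
      unfold hn
      rw [AlgHom.comp_apply, AlgHom.restrictScalars_apply, AdicCompletion.evalₐ_of]
      rfl)
  exact congrFun this c

end Ext

section helpers

variable {R : Type*} [CommRing R] (I : Ideal R)
variable {M : Type*} [AddCommGroup M] [Module R M]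
variable {N : Type*} [AddCommGroup N] [Module R N]

theorem smodEq_map (f : M →ₗ[R] N) (n : ℕ) {x y : M}
    (h : x ≡ y [SMOD (I ^ n • ⊤ : Submodule R M)]) :
    f x ≡ f y [SMOD (I ^ n • ⊤ : Submodule R N)] := by
  have hm : Submodule.map f (I ^ n • ⊤ : Submodule R M) ≤ (I ^ n • ⊤ : Submodule R N) := by
    rw [Submodule.map_smul'']
    exact smul_mono_right _ le_top
  exact SModEq.mono hm (SModEq.map h f)

theorem isHausdorff_of_retract [IsHausdorff I M] (i : N →ₗ[R] M) (p : M →ₗ[R] N)
    (hpi : p ∘ₗ i = LinearMap.id) : IsHausdorff I N := by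
  refine ⟨fun x hx => ?_⟩
  have h0 : i x = 0 := by
    apply IsHausdorff.haus ‹IsHausdorff I M›
    intro n
    have := smodEq_map I i n (hx n)
    rwa [map_zero] at this
  have : p (i x) = x := LinearMap.congr_fun hpi x
  rw [← this, h0, map_zero]

theorem isPrecomplete_of_retract [IsPrecomplete I M] (i : N →ₗ[R] M) (p : M →ₗ[R] N)
    (hpi : p ∘ₗ i = LinearMap.id) : IsPrecomplete I N := by
  refine ⟨fun f hf => ?_⟩
  obtain ⟨L, hL⟩ := IsPrecomplete.prec ‹IsPrecomplete I M› (f := fun n => i (f n))
    (fun {m n} hmn => smodEq_map I i m (hf hmn))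
  refine ⟨p L, fun n => ?_⟩
  have h1 := smodEq_map I p n (hL n)
  have h2 : p (i (f n)) = f n := LinearMap.congr_fun hpi (f n)
  rwa [h2] at h1

theorem mem_pow_of_smodEq_zero (n : ℕ) {a : R}
    (h : a ≡ 0 [SMOD (I ^ n • ⊤ : Submodule R R)]) : a ∈ I ^ n := by
  rw [SModEq.zero] at h
  simpa using h

theorem isHausdorff_pi (m : ℕ) [IsHausdorff I R] : IsHausdorff I (Fin m → R) := by
  refine ⟨fun x hx => ?_⟩
  funext j
  apply IsHausdorff.haus ‹IsHausdorff I R›
  intro n
  have := smodEq_map I (LinearMap.proj (R := R) (φ := fun _ : Fin m => R) j) n (hx n)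
  simpa using this

theorem mem_smul_top_pi (m : ℕ) (n : ℕ) (x : Fin m → R) (hx : ∀ j, x j ∈ I ^ n) :
    x ∈ (I ^ n • ⊤ : Submodule R (Fin m → R)) := by
  classical
  have hsum : x = ∑ j, x j • (Pi.single j (1 : R) : Fin m → R) := pi_eq_sum_univ' x
  rw [hsum]
  refine Submodule.sum_mem _ fun j _ => ?_
  exact Submodule.smul_mem_smul (hx j) Submodule.mem_top

theorem isPrecomplete_pi (m : ℕ) [IsPrecomplete I R] : IsPrecomplete I (Fin m → R) := by
  refine ⟨fun f hf => ?_⟩
  have hcoord : ∀ j : Fin m, ∃ L : R, ∀ n, f n j ≡ L [SMOD (I ^ n • ⊤ : Submodule R R)] := by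
    intro j
    apply IsPrecomplete.prec ‹IsPrecomplete I R› (f := fun n => f n j)
    intro a b hab
    have := smodEq_map I (LinearMap.proj (R := R) (φ := fun _ : Fin m => R) j) a (hf hab)
    simpa using this
  choose L hL using hcoord
  refine ⟨L, fun n => ?_⟩
  rw [SModEq.sub_mem]
  apply mem_smul_top_pi
  intro j
  have := hL j n
  rw [SModEq.sub_mem] at this
  simpa using this

theorem isAdicComplete_of_finite_projective [IsAdicComplete I R]
    [Module.Finite R N] [Module.Projective R N] : IsAdicComplete I N := by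
  obtain ⟨m, π, s, -, -, hs⟩ := Module.Finite.exists_comp_eq_id_of_projective R N
  have : IsHausdorff I (Fin m → R) := isHausdorff_pi I m
  have : IsPrecomplete I (Fin m → R) := isPrecomplete_pi I m
  have := isHausdorff_of_retract I s π hs
  have := isPrecomplete_of_retract I s π hs
  exact { }

end helpers

end Groth.Agent.Lib.Helper9.AdmExt
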