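import Mathlib
import Groth.Prelude.Def_W4bk4boschfrg79
import Groth.Agent.Lib.Helper9.AdmLocal

/-!
# Images of admissible algebras in admissible local domains of dimension one
(Bosch FRG 8.3, functoriality of rig-points)
-/

universe u

set_option linter.unusedSectionVars false

namespace Groth.Agent.Lib.Helper9.AdmImage

open IsLocalRing Polynomial AdicRing Groth.Agent.Lib.Helper9.AdmBasic
  Groth.Agent.Lib.Helper9.AdmRPow Groth.Agent.Lib.Helper9.AdmLocal

section general

variable (R : Type u) [CommRing R] (t : R) (n : ℕ)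

theorem exists_poly_add_pow (k : ℕ) (x : RPow R (Ideal.span {t}) n) :
    ∃ (p : MvPolynomial (Fin n) R) (y : RPow R (Ideal.span {t}) n),
      x = algebraMap (MvPolynomial (Fin n) R) (RPow R (Ideal.span {t}) n) p +
        τ R t n ^ k * y := by
  induction k with
  | zero => exact ⟨0, x, by simp⟩
  | succ k ih =>
    obtain ⟨p, y, hxy⟩ := ih
    obtain ⟨p', y', hy⟩ := exists_poly_add R t n y
    refine ⟨p + MvPolynomial.C t ^ k * p', y', ?_⟩
    have e : algebraMap (MvPolynomial (Fin n) R) (RPow R (Ideal.span {t}) n) (MvPolynomial.C t) =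
      τ R t n := rfl
    rw [hxy, hy, map_add, map_mul, map_pow, e]
    ring

end general

theorem admissible_range
    (R : Type u) [CommRing R] [IsDomain R] [ValuationRing R] [Ring.KrullDimLE 1 R]
    (t : R) (ht : t ≠ 0) [IsAdicComplete (Ideal.span {t}) R]
    (B' : Type u) [CommRing B'] [Algebra R B'] [IsDomain B'] [IsLocalRing B']
    (hB' : Admissible R (Ideal.span {t}) B') (hdim : ringKrullDim B' = 1)
    {n : ℕ} (ρ : RPow R (Ideal.span {t}) n →ₐ[R] B') :
    Admissible R (Ideal.span {t}) ρ.range ∧ IsLocalRing ρ.range ∧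
      ringKrullDim ρ.range = 1 := by
  classical
  haveI hfinB : Module.Finite R B' := finite_of_local_domain t ht hB' hdim
  haveI : Algebra.IsIntegral R B' := Algebra.IsIntegral.of_finite R B'
  -- torsion and separatedness
  have htfS : ∀ s : ρ.range, t • s = 0 → s = 0 := by
    intro s hs
    apply Subtype.ext
    apply smul_pow_eq_zero t hB'.2 _ 1
    rw [pow_one]
    have := congrArg Subtype.val hs
    simpa using this
  have hHaus : ∀ s : ρ.range, (∀ k, ∃ s', s = t ^ k • s') → s = 0 := by
    intro s hs
    apply Subtype.ext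
    apply hausdorff_of_admissible t hB'
    intro k
    obtain ⟨s', hs'⟩ := hs k
    exact ⟨s', by rw [hs']; rfl⟩
  -- the surjection
  let ψ : RPow R (Ideal.span {t}) n →ₐ[R] ρ.range := ρ.rangeRestrict
  have hψ : Function.Surjective ψ := AlgHom.rangeRestrict_surjective ρ
  haveI hintS : Algebra.IsIntegral R ρ.range :=
    ⟨fun s => (isIntegral_algHom_iff ρ.range.val Subtype.val_injective).1
      (Algebra.IsIntegral.isIntegral (s : B'))⟩
  let ψ₀ : MvPolynomial (Fin n) R →ₐ[R] ρ.range :=
    ψ.comp (IsScalarTower.toAlgHom R (MvPolynomial (Fin n) R) (RPow R (Ideal.span {t}) n))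
  have hψ₀ : ∀ p, ψ₀ p = ψ (algebraMap _ _ p) := fun p => rfl
  have hMfg : (Subalgebra.toSubmodule ψ₀.range).FG := by
    have h1 : ψ₀.range = Algebra.adjoin R (Set.range fun i => ψ₀ (MvPolynomial.X i)) := by
      rw [Algebra.adjoin_range_eq_range_aeval]
      have := MvPolynomial.aeval_unique ψ₀
      change ψ₀ = MvPolynomial.aeval (fun i => ψ₀ (MvPolynomial.X i)) at this
      rw [← this]
    rw [h1]
    exact fg_adjoin_of_finite (Set.finite_range _)
      (by rintro _ ⟨i, rfl⟩; exact Algebra.IsIntegral.isIntegral _)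
  have hstep : ∀ s : ρ.range, ∃ m ∈ Subalgebra.toSubmodule ψ₀.range, ∃ s', s = m + t • s' := by
    intro s
    obtain ⟨p, b', hb⟩ := exists_aeval_add t ψ hψ s
    exact ⟨ψ₀ p, ⟨p, rfl⟩, b', hb⟩
  have htop := eq_top_of_sup_smul t hHaus _ hMfg hstep
  haveI hfinS : Module.Finite R ρ.range := ⟨htop ▸ hMfg⟩
  have hψ₀s : Function.Surjective ψ₀ := by
    intro s
    have : s ∈ Subalgebra.toSubmodule ψ₀.range := by rw [htop]; trivial
    exact this
  -- flat, free, finitely presented
  haveI hflat : Module.Flat R ρ.range := by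
    rw [Module.Flat.flat_iff_torsion_eq_bot_of_isBezout, Submodule.eq_bot_iff]
    intro x hx
    rw [Submodule.mem_torsion_iff] at hx
    obtain ⟨⟨r, hr⟩, hrx⟩ := hx
    have hr0 : r ≠ 0 := nonZeroDivisors.ne_zero hr
    obtain ⟨m, c, hc⟩ := exists_dvd_pow t ht r hr0
    have h1 : t ^ m • x = 0 := by
      rw [hc, mul_comm, mul_smul]
      change c • (r • x) = 0
      rw [show r • x = 0 from hrx, smul_zero]
    exact smul_pow_eq_zero t (noPowTorsion_of t htfS) x m h1
  haveI : Module.Free R ρ.range := Module.free_of_flat_of_isLocalRing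
  haveI : Module.FinitePresentation R ρ.range := Module.finitePresentation_of_projective R _
  haveI : Algebra.FinitePresentation R ρ.range := inferInstance
  have hcfg : (RingHom.ker ψ₀.toRingHom).FG :=
    Algebra.FinitePresentation.ker_fG_of_surjective ψ₀ hψ₀s
  -- the kernel of `ψ` is generated by the kernel of `ψ₀`
  have e : algebraMap (MvPolynomial (Fin n) R) (RPow R (Ideal.span {t}) n) (MvPolynomial.C t) =
      τ R t n := rfl
  have hker : RingHom.ker ψ.toRingHom = (RingHom.ker ψ₀.toRingHom).map
      (algebraMap (MvPolynomial (Fin n) R) (RPow R (Ideal.span {t}) n)) := by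
    apply le_antisymm
    · intro x hx
      haveI : IsPrecomplete (Ideal.span {algebraMap (MvPolynomial (Fin n) R)
          (RPow R (Ideal.span {t}) n) (MvPolynomial.C t)}) (RPow R (Ideal.span {t}) n) := by
        rw [e]; infer_instance
      haveI : IsHausdorff (Ideal.span {algebraMap (MvPolynomial (Fin n) R)
          (RPow R (Ideal.span {t}) n) (MvPolynomial.C t)}) (RPow R (Ideal.span {t}) n) := by
        rw [e]; infer_instance
      apply mem_map_of_saturated (algebraMap (MvPolynomial (Fin n) R)
        (RPow R (Ideal.span {t}) n)) (MvPolynomial.C t)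
        (fun k p hp => mem_span_of_algebraMap_mem R t n k p (by rw [← e]; exact hp))
        _ hcfg
      · intro d hd
        rw [RingHom.mem_ker] at hd ⊢
        apply htfS
        change ψ₀ (MvPolynomial.C t * d) = 0 at hd
        rw [map_mul] at hd
        rw [Algebra.smul_def, ← hd]
        congr 1
        exact (ψ₀.commutes t).symm
      · intro k
        obtain ⟨p, y, hxy⟩ := exists_poly_add_pow R t n k x
        obtain ⟨q, hq⟩ := hψ₀s (ψ y)
        refine ⟨p + MvPolynomial.C t ^ k * q, ?_, y - algebraMap _ _ q, ?_⟩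
        · rw [RingHom.mem_ker]
          change ψ₀ (p + MvPolynomial.C t ^ k * q) = 0
          have h0 : ψ x = 0 := hx
          rw [hxy, map_add, map_mul, map_pow, map_τ] at h0
          rw [map_add, map_mul, map_pow, hq, hψ₀]
          have : ψ₀ (MvPolynomial.C t) = algebraMap R ρ.range t := ψ₀.commutes t
          rw [this]
          exact h0
        · rw [e, hxy, map_add, map_mul, map_pow, e]
          ring
    · rw [Ideal.map_le_iff_le_comap]
      intro p hp
      rw [Ideal.mem_comap, RingHom.mem_ker]
      exact hp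
  have hadm : Admissible R (Ideal.span {t}) ρ.range := by
    refine ⟨⟨n, ψ, hψ, ?_⟩, noPowTorsion_of t htfS⟩
    rw [hker]
    exact Ideal.FG.map hcfg _
  -- local
  have hint : (algebraMap ρ.range B').IsIntegral := by
    intro b
    exact (Algebra.IsIntegral.isIntegral (R := R) b).tower_top
  have hinjS : Function.Injective (algebraMap ρ.range B') := fun x y hxy => Subtype.ext hxy
  haveI hloc : IsLocalHom (algebraMap ρ.range B') := hint.isLocalHom hinjS
  haveI hlocal : IsLocalRing ρ.range := RingHom.domain_isLocalRing (algebraMap ρ.range B')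
  refine ⟨hadm, hlocal, ?_⟩
  -- dimension
  haveI : Algebra.IsIntegral ρ.range B' := ⟨hint⟩
  haveI : Ring.KrullDimLE 1 B' := Ring.krullDimLE_iff.2 (by rw [hdim]; rfl)
  rw [ringKrullDim_eq_one_iff_of_isLocalRing_isDomain]
  constructor
  · intro hF
    have htS0 : algebraMap R ρ.range t ≠ 0 := by
      intro h
      apply algebraMap_t_ne_zero t ht hB'.2
      have := congrArg Subtype.val h
      simpa using this
    obtain ⟨v, hv⟩ := hF.mul_inv_cancel htS0
    have h1 : algebraMap R B' t * (v : B') = 1 := by
      have := congrArg Subtype.val hv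
      simpa using this
    have hm := algebraMap_t_mem t ht (topFiniteType_of_admissible t hB')
    exact (mem_maximalIdeal _).1 hm (IsUnit.of_mul_eq_one _ h1)
  · intro x hx
    rw [Ideal.radical_eq_sInf]
    apply le_sInf
    rintro P ⟨hP1, hP2⟩
    haveI := hP2
    have hPne : P ≠ ⊥ := by
      intro h
      rw [h] at hP1
      exact hx (by simpa using hP1 (Ideal.mem_span_singleton_self x))
    obtain ⟨Q, -, hQp, hQc⟩ := Ideal.exists_ideal_over_prime_of_isIntegral P (⊥ : Ideal B')
      (by
        intro z hz
        rw [Ideal.mem_comap, Ideal.mem_bot] at hz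
        have : z = 0 := hinjS (by rw [hz, map_zero])
        rw [this]; exact P.zero_mem)
    have hQne : Q ≠ ⊥ := by
      intro h
      apply hPne
      rw [← hQc, h]
      ext z
      rw [Ideal.mem_comap, Ideal.mem_bot, Ideal.mem_bot]
      constructor
      · intro hz; exact hinjS (by rw [hz, map_zero])
      · intro hz; rw [hz, map_zero]
    haveI hQmax : Q.IsMaximal := hQp.isMaximal_of_ne_bot hQne
    have hPmax : P.IsMaximal := by
      rw [← hQc]
      exact Ideal.isMaximal_comap_of_isIntegral_of_isMaximal Q
    rw [IsLocalRing.eq_maximalIdeal hPmax]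

end Groth.Agent.Lib.Helper9.AdmImage
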