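import Mathlib

/-!
# Division with remainder in the last variable of a multivariate polynomial ring
-/

set_option linter.unusedSectionVars false

namespace Groth.Agent.Lib.Helper9.AdmPolyDiv

open MvPolynomial

variable {R S : Type*} [CommRing R] [CommRing S] (n : ℕ)

theorem finSuccEquiv_C (a : R) :
    finSuccEquiv R n (C a) = Polynomial.C (C a) := by
  rw [finSuccEquiv_apply, eval₂Hom_C]; rfl

theorem finSuccEquiv_map (f : R →+* S) (p : MvPolynomial (Fin (n + 1)) R) :
    finSuccEquiv S n (map f p) = Polynomial.map (map f) (finSuccEquiv R n p) := by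
  induction p using MvPolynomial.induction_on with
  | C a =>
    rw [map_C, finSuccEquiv_C, finSuccEquiv_C, Polynomial.map_C, map_C]
  | add p q hp hq => rw [map_add, map_add, map_add, Polynomial.map_add, hp, hq]
  | mul_X p i hp =>
    rw [map_mul, map_mul, map_mul, Polynomial.map_mul, hp, map_X]
    congr 1
    refine Fin.cases ?_ (fun j => ?_) i
    · rw [finSuccEquiv_X_zero, finSuccEquiv_X_zero, Polynomial.map_X]
    · rw [finSuccEquiv_X_succ, finSuccEquiv_X_succ, Polynomial.map_C, map_X]

theorem finSuccEquiv_rename_succ (c : MvPolynomial (Fin n) R) :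
    finSuccEquiv R n (rename Fin.succ c) = Polynomial.C c := by
  induction c using MvPolynomial.induction_on with
  | C a => rw [rename_C, finSuccEquiv_C]
  | add p q hp hq => rw [map_add, map_add, map_add, hp, hq]
  | mul_X p i hp =>
    rw [map_mul, map_mul, map_mul, hp, rename_X, finSuccEquiv_X_succ]

/-- division with remainder by a polynomial which is monic in the variable `X 0`. -/
theorem exists_div [Nontrivial R] (G₀ : MvPolynomial (Fin (n + 1)) R)
    (hG₀ : (finSuccEquiv R n G₀).Monic) (p : MvPolynomial (Fin (n + 1)) R) :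
    ∃ (q : MvPolynomial (Fin (n + 1)) R)
      (a : Fin (finSuccEquiv R n G₀).natDegree → MvPolynomial (Fin n) R),
      p = q * G₀ + ∑ i, rename Fin.succ (a i) * X 0 ^ (i : ℕ) := by
  classical
  set G₀' := finSuccEquiv R n G₀ with hG₀'
  set p' := finSuccEquiv R n p with hp'
  set s := G₀'.natDegree with hs
  have hdeg : (p' %ₘ G₀').degree < (s : WithBot ℕ) := by
    have := Polynomial.degree_modByMonic_lt p' hG₀
    rwa [Polynomial.degree_eq_natDegree hG₀.ne_zero] at this
  have hr : p' %ₘ G₀' = ∑ i : Fin s, Polynomial.monomial (i : ℕ) ((p' %ₘ G₀').coeff i) := by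
    rw [Polynomial.sum_fin (fun n a => Polynomial.monomial n a) (fun i => by simp) hdeg,
      Polynomial.sum_monomial_eq]
  refine ⟨(finSuccEquiv R n).symm (p' /ₘ G₀'), fun i => (p' %ₘ G₀').coeff i, ?_⟩
  apply (finSuccEquiv R n).injective
  rw [map_add, map_mul, AlgEquiv.apply_symm_apply, map_sum]
  have h1 : ∀ i : Fin s, finSuccEquiv R n (rename Fin.succ ((p' %ₘ G₀').coeff i) * X 0 ^ (i : ℕ)) =
      Polynomial.monomial (i : ℕ) ((p' %ₘ G₀').coeff i) := by
    intro i
    rw [map_mul, map_pow, finSuccEquiv_rename_succ, finSuccEquiv_X_zero,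
      Polynomial.C_mul_X_pow_eq_monomial]
  rw [Finset.sum_congr rfl (fun i _ => h1 i), ← hr]
  have := Polynomial.modByMonic_add_div p' G₀'
  rw [← hp', ← hG₀']
  conv_lhs => rw [← this]
  ring

end Groth.Agent.Lib.Helper9.AdmPolyDiv
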