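import Mathlib
import Groth.Prelude.Def_W4bk4boschfrg79
import Groth.Agent.Lib.Helper9.AdmLocal
import Groth.Agent.Lib.Helper9.AdmImage
import Groth.Agent.Lib.Helper9.AdmExt
import Groth.Agent.Lib.Helper9.AdmTower

/-!
# Universal property of restricted power series, reduction, primitive factorization
-/

universe u

set_option linter.unusedSectionVars false

namespace Groth.Agent.Lib.Helper9.AdmRPow2

open IsLocalRing AdicRing Groth.Agent.Lib.Helper9.AdmBasic
  Groth.Agent.Lib.Helper9.AdmRPow Groth.Agent.Lib.Helper9.AdmLocal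
  Groth.Agent.Lib.Helper9.AdmExt Groth.Agent.Lib.Helper9.AdmImage

section general

variable (R : Type u) [CommRing R] (t : R) (n : ℕ)

/-- the variables of `R⟨ζ⟩`. -/
noncomputable abbrev ζ (i : Fin n) : RPow R (Ideal.span {t}) n :=
  algebraMap (MvPolynomial (Fin n) R) (RPow R (Ideal.span {t}) n) (MvPolynomial.X i)

/-- the inclusion of polynomials as an `R`-algebra map. -/
noncomputable abbrev ιP : MvPolynomial (Fin n) R →ₐ[R] RPow R (Ideal.span {t}) n :=
  IsScalarTower.toAlgHom R (MvPolynomial (Fin n) R) (RPow R (Ideal.span {t}) n)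

theorem map_algebraMap_eq :
    (Ideal.span {t}).map (algebraMap R (RPow R (Ideal.span {t}) n)) = Ideal.span {τ R t n} := by
  refine (Ideal.map_span _ _).trans ?_
  rw [Set.image_singleton]

instance isAdicComplete_rPow' :
    IsAdicComplete ((Ideal.span {t}).map (algebraMap R (RPow R (Ideal.span {t}) n)))
      (RPow R (Ideal.span {t}) n) := by
  rw [map_algebraMap_eq]; infer_instance

variable {R t n}

/-- two algebra maps out of `R⟨ζ⟩` into a `t`-adically separated algebra agreeing on the variables
are equal. -/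
theorem algHom_ext_rPow {B : Type u} [CommRing B] [Algebra R B]
    (hH : ∀ b : B, (∀ k, ∃ b', b = t ^ k • b') → b = 0)
    (f g : RPow R (Ideal.span {t}) n →ₐ[R] B) (h : ∀ i, f (ζ R t n i) = g (ζ R t n i)) :
    f = g := by
  have h1 : f.comp (ιP R t n) = g.comp (ιP R t n) := MvPolynomial.algHom_ext h
  apply AlgHom.ext
  intro x
  rw [← sub_eq_zero]
  apply hH
  intro k
  obtain ⟨p, y, hxy⟩ := exists_poly_add_pow R t n k x
  refine ⟨f y - g y, ?_⟩
  have h2 : f (algebraMap _ _ p) = g (algebraMap _ _ p) :=
    congrFun (congrArg DFunLike.coe h1) p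
  rw [hxy, map_add, map_add, map_mul, map_mul, map_pow, map_pow, map_τ, map_τ, h2,
    Algebra.smul_def, map_pow]
  ring

/-- the algebra map out of `R⟨ζ⟩` to a complete algebra sending the variables to given elements. -/
noncomputable def liftR {B : Type u} [CommRing B] [Algebra R B]
    [IsAdicComplete ((Ideal.span {t}).map (algebraMap R B)) B] (z : Fin n → B) :
    RPow R (Ideal.span {t}) n →ₐ[R] B :=
  extCompl (Ideal.span {t}) (MvPolynomial.aeval z : MvPolynomial (Fin n) R →ₐ[R] B)

theorem liftR_algebraMap {B : Type u} [CommRing B] [Algebra R B]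
    [IsAdicComplete ((Ideal.span {t}).map (algebraMap R B)) B] (z : Fin n → B)
    (p : MvPolynomial (Fin n) R) :
    liftR (t := t) z (algebraMap (MvPolynomial (Fin n) R) (RPow R (Ideal.span {t}) n) p) =
      MvPolynomial.aeval z p :=
  extCompl_of (Ideal.span {t}) _ p

theorem liftR_ζ {B : Type u} [CommRing B] [Algebra R B]
    [IsAdicComplete ((Ideal.span {t}).map (algebraMap R B)) B] (z : Fin n → B) (i : Fin n) :
    liftR (t := t) z (ζ R t n i) = z i := by
  rw [ζ, liftR_algebraMap, MvPolynomial.aeval_X]

theorem hausdorff_rPow (x : RPow R (Ideal.span {t}) n) (hx : ∀ k, ∃ y, x = t ^ k • y) : x = 0 := by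
  apply IsHausdorff.haus (I := Ideal.span {τ R t n}) inferInstance x
  intro k
  rw [SModEq.zero, smul_eq_mul, Ideal.mul_top, Ideal.span_singleton_pow,
    Ideal.mem_span_singleton]
  obtain ⟨y, hy⟩ := hx k
  exact ⟨y, by rw [hy, Algebra.smul_def, map_pow]⟩

end general

section valring

variable (R : Type u) [CommRing R] [IsDomain R] [ValuationRing R] [Ring.KrullDimLE 1 R]
  (t : R) (ht : t ≠ 0) [IsAdicComplete (Ideal.span {t}) R] (n : ℕ)

include ht

theorem residue_t : algebraMap R (ResidueField R) t = 0 :=
  (residue_eq_zero_iff t).2 (t_mem_maximalIdeal t ht)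

theorem map_eq_bot :
    (Ideal.span {t}).map (algebraMap R (MvPolynomial (Fin n) (ResidueField R))) = ⊥ := by
  rw [Ideal.map_span, Set.image_singleton, Ideal.span_singleton_eq_bot,
    IsScalarTower.algebraMap_apply R (ResidueField R) (MvPolynomial (Fin n) (ResidueField R)),
    residue_t R t ht, map_zero]

theorem isAdicComplete_res :
    IsAdicComplete ((Ideal.span {t}).map (algebraMap R (MvPolynomial (Fin n) (ResidueField R))))
      (MvPolynomial (Fin n) (ResidueField R)) := by
  rw [map_eq_bot R t ht n]; infer_instance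

/-- reduction of restricted power series modulo the maximal ideal of `R`. -/
noncomputable def red : RPow R (Ideal.span {t}) n →ₐ[R] MvPolynomial (Fin n) (ResidueField R) :=
  haveI := isAdicComplete_res R t ht n
  liftR (t := t) (fun i => (MvPolynomial.X i : MvPolynomial (Fin n) (ResidueField R)))

theorem aeval_X_eq_map (p : MvPolynomial (Fin n) R) :
    MvPolynomial.aeval (fun i => (MvPolynomial.X i : MvPolynomial (Fin n) (ResidueField R))) p =
      MvPolynomial.map (algebraMap R (ResidueField R)) p := by
  induction p using MvPolynomial.induction_on with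
  | C a =>
    rw [MvPolynomial.aeval_C, MvPolynomial.map_C,
      IsScalarTower.algebraMap_apply R (ResidueField R) (MvPolynomial (Fin n) (ResidueField R))]
    rfl
  | add p q hp hq => rw [map_add, map_add, hp, hq]
  | mul_X p i hp => rw [map_mul, map_mul, hp, MvPolynomial.aeval_X, MvPolynomial.map_X]

theorem red_algebraMap (p : MvPolynomial (Fin n) R) :
    red R t ht n (algebraMap (MvPolynomial (Fin n) R) (RPow R (Ideal.span {t}) n) p) =
      MvPolynomial.map (algebraMap R (ResidueField R)) p := by
  haveI := isAdicComplete_res R t ht n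
  unfold red
  rw [liftR_algebraMap, aeval_X_eq_map R t ht n]

theorem red_ζ (i : Fin n) : red R t ht n (ζ R t n i) = MvPolynomial.X i := by
  rw [ζ, red_algebraMap, MvPolynomial.map_X]

theorem red_algebraMap_R (r : R) (hr : r ∈ maximalIdeal R) :
    red R t ht n (algebraMap R (RPow R (Ideal.span {t}) n) r) = 0 := by
  rw [AlgHom.commutes,
    IsScalarTower.algebraMap_apply R (ResidueField R) (MvPolynomial (Fin n) (ResidueField R))]
  have : algebraMap R (ResidueField R) r = 0 := (residue_eq_zero_iff r).2 hr
  rw [this, map_zero]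

/-- the kernel of the reduction consists of multiples of elements of the maximal ideal. -/
theorem exists_of_red_eq_zero (x : RPow R (Ideal.span {t}) n) (hx : red R t ht n x = 0) :
    ∃ ε ∈ maximalIdeal R, ∃ y, x = algebraMap R (RPow R (Ideal.span {t}) n) ε * y := by
  classical
  obtain ⟨p, y, hxy⟩ := exists_poly_add R t n x
  have htm := t_mem_maximalIdeal t ht
  have hp0 : MvPolynomial.map (algebraMap R (ResidueField R)) p = 0 := by
    have := hx
    rw [hxy, map_add, map_mul, red_algebraMap, red_algebraMap_R R t ht n t htm, zero_mul,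
      add_zero] at this
    exact this
  have hcoeff : ∀ ν, MvPolynomial.coeff ν p ∈ maximalIdeal R := by
    intro ν
    have := congrArg (MvPolynomial.coeff ν) hp0
    rw [MvPolynomial.coeff_map, MvPolynomial.coeff_zero] at this
    exact (residue_eq_zero_iff _).1 this
  by_cases hp : p = 0
  · exact ⟨t, htm, y, by rw [hxy, hp, map_zero, zero_add]⟩
  have hne : p.support.Nonempty := MvPolynomial.support_nonempty.2 hp
  obtain ⟨j, hj, hjs⟩ := AdmTower.exists_dvd_all p.support hne (fun ν => MvPolynomial.coeff ν p)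
  have hdvd : MvPolynomial.C (MvPolynomial.coeff j p) ∣ p := by
    rw [MvPolynomial.C_dvd_iff_dvd_coeff]
    intro ν
    by_cases hν : ν ∈ p.support
    · exact hjs ν hν
    · rw [MvPolynomial.notMem_support_iff.1 hν]; exact dvd_zero _
  obtain ⟨p', hp'⟩ := hdvd
  set ε₀ := MvPolynomial.coeff j p with hε₀
  have hιp : algebraMap (MvPolynomial (Fin n) R) (RPow R (Ideal.span {t}) n) p =
      algebraMap R (RPow R (Ideal.span {t}) n) ε₀ * algebraMap _ _ p' := by
    rw [hp', map_mul]; rfl
  rcases ValuationRing.dvd_total ε₀ t with ⟨c, hc⟩ | ⟨c, hc⟩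
  · refine ⟨ε₀, hcoeff j, algebraMap _ _ p' + algebraMap R _ c * y, ?_⟩
    have hτ : τ R t n = algebraMap R (RPow R (Ideal.span {t}) n) ε₀ * algebraMap R _ c := by
      rw [← map_mul, ← hc]
    rw [hxy, hιp, hτ]; ring
  · refine ⟨t, htm, algebraMap R _ c * algebraMap _ _ p' + y, ?_⟩
    have hε : algebraMap R (RPow R (Ideal.span {t}) n) ε₀ = τ R t n * algebraMap R _ c := by
      rw [← map_mul, ← hc]
    rw [hxy, hιp, hε]
    ring

/-- a nonzero restricted power series is a nonzero constant times a series with nonzero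
reduction. -/
theorem exists_primitive (g : RPow R (Ideal.span {t}) n) (hg : g ≠ 0) :
    ∃ (c : R) (g' : RPow R (Ideal.span {t}) n), c ≠ 0 ∧
      g = algebraMap R (RPow R (Ideal.span {t}) n) c * g' ∧ red R t ht n g' ≠ 0 := by
  classical
  have hk : ∃ k : ℕ, ¬ ∃ y, g = t ^ k • y := by
    by_contra hcon
    push Not at hcon
    exact hg (hausdorff_rPow g hcon)
  obtain ⟨k, hk⟩ := hk
  obtain ⟨p, y, hxy⟩ := exists_poly_add_pow R t n k g
  have hnd : ¬ ∀ ν, t ^ k ∣ MvPolynomial.coeff ν p := by
    intro hall
    obtain ⟨p', hp'⟩ := (MvPolynomial.C_dvd_iff_dvd_coeff _ _).2 hall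
    apply hk
    refine ⟨algebraMap _ _ p' + y, ?_⟩
    have : algebraMap (MvPolynomial (Fin n) R) (RPow R (Ideal.span {t}) n)
        (MvPolynomial.C (t ^ k)) = τ R t n ^ k := by
      rw [map_pow, map_pow]; rfl
    rw [hxy, hp', map_mul, this, Algebra.smul_def, map_pow]; ring
  have hp : p ≠ 0 := by
    intro h
    apply hnd
    intro ν
    rw [h, MvPolynomial.coeff_zero]; exact dvd_zero _
  have hne : p.support.Nonempty := MvPolynomial.support_nonempty.2 hp
  obtain ⟨j, hj, hjs⟩ := AdmTower.exists_dvd_all p.support hne (fun ν => MvPolynomial.coeff ν p)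
  set c := MvPolynomial.coeff j p with hc
  have hc0 : c ≠ 0 := MvPolynomial.mem_support_iff.1 hj
  have hall : ∀ ν, c ∣ MvPolynomial.coeff ν p := by
    intro ν
    by_cases hν : ν ∈ p.support
    · exact hjs ν hν
    · rw [MvPolynomial.notMem_support_iff.1 hν]; exact dvd_zero _
  obtain ⟨p', hp'⟩ := (MvPolynomial.C_dvd_iff_dvd_coeff _ _).2 hall
  have hcoeffj : MvPolynomial.coeff j p' = 1 := by
    have := congrArg (MvPolynomial.coeff j) hp'
    rw [MvPolynomial.coeff_C_mul] at this
    have h2 : c * 1 = c * MvPolynomial.coeff j p' := by rw [mul_one]; exact this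
    exact (mul_left_cancel₀ hc0 h2).symm
  have hntk : ¬ t ^ k ∣ c := fun h => hnd (fun ν => h.trans (hall ν))
  obtain ⟨e, he⟩ : c ∣ t ^ k := (ValuationRing.dvd_total c (t ^ k)).resolve_right hntk
  have hem : e ∈ maximalIdeal R := by
    rw [mem_maximalIdeal, mem_nonunits_iff]
    intro hu
    obtain ⟨e', he'⟩ := hu.exists_right_inv
    apply hntk
    exact ⟨e', by rw [he, mul_assoc, he', mul_one]⟩
  refine ⟨c, algebraMap _ _ p' + algebraMap R _ e * y, hc0, ?_, ?_⟩
  · rw [hxy, hp', map_mul]
    have h1 : algebraMap (MvPolynomial (Fin n) R) (RPow R (Ideal.span {t}) n)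
        (MvPolynomial.C c) = algebraMap R _ c := rfl
    have h2 : τ R t n ^ k = algebraMap R (RPow R (Ideal.span {t}) n) c * algebraMap R _ e := by
      rw [← map_mul, ← he, map_pow]
    rw [h1, h2]; ring
  · rw [map_add, map_mul, red_algebraMap, red_algebraMap_R R t ht n e hem, zero_mul, add_zero]
    intro h0
    have := congrArg (MvPolynomial.coeff j) h0
    rw [MvPolynomial.coeff_map, hcoeffj, map_one, MvPolynomial.coeff_zero] at this
    exact one_ne_zero this

end valring

end Groth.Agent.Lib.Helper9.AdmRPow2
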