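import Mathlib
import Groth.Prelude.Def_W4bk4boschfrg79
import Groth.Agent.Lib.Helper9.AdmRPow2
import Groth.Agent.Lib.Helper9.AdmPolyDiv

/-!
# Weierstrass finiteness for restricted power series over a complete height one valuation ring
-/

universe u

set_option linter.unusedSectionVars false

namespace Groth.Agent.Lib.Helper9.AdmWeier

open IsLocalRing AdicRing Groth.Agent.Lib.Helper9.AdmBasic
  Groth.Agent.Lib.Helper9.AdmRPow Groth.Agent.Lib.Helper9.AdmLocal
  Groth.Agent.Lib.Helper9.AdmExt Groth.Agent.Lib.Helper9.AdmImage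
  Groth.Agent.Lib.Helper9.AdmRPow2 Groth.Agent.Lib.Helper9.AdmPolyDiv

/-- a subset closed under `t`-adic series which generates modulo `t` is everything. -/
theorem mem_of_series_closed {R M : Type*} [CommRing R] [AddCommGroup M] [Module R M] (t : R)
    (hH : ∀ m : M, (∀ k, ∃ m', m = t ^ k • m') → m = 0) (S : Set M)
    (hclosed : ∀ w : ℕ → M, (∀ k, w k ∈ S) →
      ∃ L ∈ S, ∀ N, ∃ e, L = ∑ k ∈ Finset.range N, t ^ k • w k + t ^ N • e)
    (hstep : ∀ m, ∃ w ∈ S, ∃ m', m = w + t • m') (m : M) : m ∈ S := by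
  choose w hw nx hstep using hstep
  have hms : ∀ k, nx^[k] m = w (nx^[k] m) + t • nx^[k + 1] m := by
    intro k
    rw [Function.iterate_succ_apply']
    exact hstep _
  obtain ⟨L, hL, hLN⟩ := hclosed (fun k => w (nx^[k] m)) (fun k => hw _)
  have hm0 : ∀ N, m = ∑ k ∈ Finset.range N, t ^ k • w (nx^[k] m) + t ^ N • nx^[N] m := by
    intro N
    induction N with
    | zero => simp
    | succ N ih =>
      rw [Finset.sum_range_succ]
      nth_rewrite 1 [ih]
      nth_rewrite 1 [hms N]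
      rw [smul_add, ← add_assoc, smul_smul, ← pow_succ]
  have hmL : m = L := by
    rw [← sub_eq_zero]
    apply hH
    intro N
    obtain ⟨e, he⟩ := hLN N
    refine ⟨nx^[N] m - e, ?_⟩
    rw [he]
    nth_rewrite 1 [hm0 N]
    rw [smul_sub]
    abel
  rw [hmL]; exact hL

section valring

variable (R : Type u) [CommRing R] [IsDomain R] [ValuationRing R] [Ring.KrullDimLE 1 R]
  (t : R) (ht : t ≠ 0) [IsAdicComplete (Ideal.span {t}) R] (n : ℕ)

/-- the inclusion `R⟨ζ_1, …, ζ_n⟩ → R⟨ζ_0, …, ζ_n⟩`. -/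
noncomputable def jmap : RPow R (Ideal.span {t}) n →ₐ[R] RPow R (Ideal.span {t}) (n + 1) :=
  liftR (t := t) (fun i => ζ R t (n + 1) i.succ)

theorem jmap_algebraMap (a : MvPolynomial (Fin n) R) :
    jmap R t n (algebraMap _ _ a) =
      algebraMap (MvPolynomial (Fin (n + 1)) R) (RPow R (Ideal.span {t}) (n + 1))
        (MvPolynomial.rename Fin.succ a) := by
  unfold jmap
  rw [liftR_algebraMap]
  have h : (ιP R t (n + 1)).comp (MvPolynomial.rename Fin.succ) =
      MvPolynomial.aeval (fun i => ζ R t (n + 1) i.succ) := by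
    apply MvPolynomial.algHom_ext
    intro i
    rw [AlgHom.comp_apply, MvPolynomial.rename_X, MvPolynomial.aeval_X]
    rfl
  exact (congrFun (congrArg DFunLike.coe h) a).symm

theorem jmap_τ : jmap R t n (τ R t n) = τ R t (n + 1) := map_τ t _

include ht

theorem weierstrass (G : RPow R (Ideal.span {t}) (n + 1))
    (hG : (MvPolynomial.finSuccEquiv (ResidueField R) n (red R t ht (n + 1) G)).Monic)
    (f : RPow R (Ideal.span {t}) (n + 1)) :
    ∃ (q : RPow R (Ideal.span {t}) (n + 1)) (a : ℕ → RPow R (Ideal.span {t}) n),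
      f = q * G + ∑ i ∈ Finset.range
        (MvPolynomial.finSuccEquiv (ResidueField R) n (red R t ht (n + 1) G)).natDegree,
        jmap R t n (a i) * ζ R t (n + 1) 0 ^ i := by
  classical
  set gb := MvPolynomial.finSuccEquiv (ResidueField R) n (red R t ht (n + 1) G) with hgb
  set s := gb.natDegree with hs
  -- Step 1: a polynomial lift
  have hμ : Function.Surjective (MvPolynomial.map (algebraMap R (ResidueField R)) :
      MvPolynomial (Fin n) R →+* MvPolynomial (Fin n) (ResidueField R)) :=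
    MvPolynomial.map_surjective _ residue_surjective
  have hl : gb ∈ Polynomial.lifts (MvPolynomial.map (algebraMap R (ResidueField R)) :
      MvPolynomial (Fin n) R →+* MvPolynomial (Fin n) (ResidueField R)) := by
    rw [Polynomial.lifts_iff_coeff_lifts]
    intro i
    obtain ⟨c, hc⟩ := hμ (gb.coeff i)
    exact ⟨c, hc⟩
  obtain ⟨G₀', hmap, hdeg, hmon⟩ := Polynomial.lifts_and_degree_eq_and_monic hl hG
  set G₀ := (MvPolynomial.finSuccEquiv R n).symm G₀' with hG₀
  have hfse : MvPolynomial.finSuccEquiv R n G₀ = G₀' := AlgEquiv.apply_symm_apply _ _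
  have hred : red R t ht (n + 1) (algebraMap _ _ G₀) = red R t ht (n + 1) G := by
    rw [red_algebraMap]
    apply (MvPolynomial.finSuccEquiv (ResidueField R) n).injective
    rw [finSuccEquiv_map, hfse]
    exact hmap
  have hnat : (MvPolynomial.finSuccEquiv R n G₀).natDegree = s := by
    rw [hfse]; exact Polynomial.natDegree_eq_of_degree_eq hdeg
  have hmon₀ : (MvPolynomial.finSuccEquiv R n G₀).Monic := by rw [hfse]; exact hmon
  -- the error term
  obtain ⟨ε, hε, yG, hyG⟩ := exists_of_red_eq_zero R t ht (n + 1)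
    (G - algebraMap _ _ G₀) (by rw [map_sub, hred, sub_self])
  have htm := t_mem_maximalIdeal t ht
  obtain ⟨ε', hε', c₁, c₂, hc₁, hc₂⟩ : ∃ ε' ∈ maximalIdeal R, ∃ c₁ c₂ : R,
      t = ε' * c₁ ∧ ε = ε' * c₂ := by
    rcases ValuationRing.dvd_total ε t with ⟨c, hc⟩ | ⟨c, hc⟩
    · exact ⟨ε, hε, c, 1, hc, (mul_one _).symm⟩
    · exact ⟨t, htm, 1, c, (mul_one _).symm, hc⟩
  -- the Weierstrass set
  let 𝒲 : Set (RPow R (Ideal.span {t}) (n + 1)) := {x | ∃ (q : RPow R (Ideal.span {t}) (n + 1))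
    (a : ℕ → RPow R (Ideal.span {t}) n),
    x = q * G + ∑ i ∈ Finset.range s, jmap R t n (a i) * ζ R t (n + 1) 0 ^ i}
  have h𝒲add : ∀ x y, x ∈ 𝒲 → y ∈ 𝒲 → x + y ∈ 𝒲 := by
    rintro x y ⟨q, a, rfl⟩ ⟨q', a', rfl⟩
    refine ⟨q + q', fun i => a i + a' i, ?_⟩
    simp only [map_add, add_mul, Finset.sum_add_distrib]
    ring
  have h𝒲smul : ∀ (r : R) x, x ∈ 𝒲 → algebraMap R _ r * x ∈ 𝒲 := by
    rintro r x ⟨q, a, rfl⟩
    refine ⟨algebraMap R _ r * q, fun i => algebraMap R _ r * a i, ?_⟩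
    simp only [map_mul, AlgHom.commutes, mul_add, Finset.mul_sum]
    congr 1
    · ring
    · apply Finset.sum_congr rfl; intro i _; ring
  have h𝒲zero : (0 : RPow R (Ideal.span {t}) (n + 1)) ∈ 𝒲 :=
    ⟨0, fun _ => 0, by simp⟩
  have h𝒲poly : ∀ p : MvPolynomial (Fin (n + 1)) R, ∃ w ∈ 𝒲, ∃ y',
      algebraMap (MvPolynomial (Fin (n + 1)) R) (RPow R (Ideal.span {t}) (n + 1)) p =
        w + algebraMap R _ ε * y' := by
    intro p
    obtain ⟨q₀, a, hp⟩ := exists_div n G₀ hmon₀ p
    let a' : ℕ → MvPolynomial (Fin n) R := fun i =>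
      if h : i < (MvPolynomial.finSuccEquiv R n G₀).natDegree then a ⟨i, h⟩ else 0
    have ha' : ∑ i, MvPolynomial.rename Fin.succ (a i) * MvPolynomial.X 0 ^ (i : ℕ) =
        ∑ i ∈ Finset.range s, MvPolynomial.rename Fin.succ (a' i) * MvPolynomial.X 0 ^ i := by
      rw [← hnat, ← Fin.sum_univ_eq_sum_range
        (fun i => MvPolynomial.rename Fin.succ (a' i) * MvPolynomial.X 0 ^ i)]
      apply Finset.sum_congr rfl
      intro i _
      simp only [a', dif_pos i.2]
    refine ⟨algebraMap _ _ q₀ * G + ∑ i ∈ Finset.range s,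
      jmap R t n (algebraMap _ _ (a' i)) * ζ R t (n + 1) 0 ^ i,
      ⟨algebraMap _ _ q₀, fun i => algebraMap _ _ (a' i), rfl⟩, -(algebraMap _ _ q₀ * yG), ?_⟩
    have hG' : algebraMap (MvPolynomial (Fin (n + 1)) R) (RPow R (Ideal.span {t}) (n + 1)) G₀ =
        G - algebraMap R _ ε * yG := by rw [← hyG]; ring
    rw [hp, ha', map_add, map_mul, map_sum, hG']
    have : ∀ i ∈ Finset.range s,
        algebraMap (MvPolynomial (Fin (n + 1)) R) (RPow R (Ideal.span {t}) (n + 1))
          (MvPolynomial.rename Fin.succ (a' i) * MvPolynomial.X 0 ^ i) =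
        jmap R t n (algebraMap _ _ (a' i)) * ζ R t (n + 1) 0 ^ i := by
      intro i _
      rw [map_mul, map_pow, jmap_algebraMap]
    rw [Finset.sum_congr rfl this]
    ring
  have hstep1 : ∀ f : RPow R (Ideal.span {t}) (n + 1), ∃ w ∈ 𝒲, ∃ f',
      f = w + algebraMap R _ ε' * f' := by
    intro f
    obtain ⟨p, y, hfy⟩ := exists_poly_add R t (n + 1) f
    obtain ⟨w, hw, y', hy'⟩ := h𝒲poly p
    refine ⟨w, hw, algebraMap R _ c₂ * y' + algebraMap R _ c₁ * y, ?_⟩
    have h1 : τ R t (n + 1) = algebraMap R _ ε' * algebraMap R _ c₁ := by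
      rw [← map_mul, ← hc₁]
    have h2 : algebraMap R (RPow R (Ideal.span {t}) (n + 1)) ε =
        algebraMap R _ ε' * algebraMap R _ c₂ := by
      rw [← map_mul, ← hc₂]
    rw [hfy, hy', h1, h2]; ring
  have hstepN : ∀ (N : ℕ) (f : RPow R (Ideal.span {t}) (n + 1)), ∃ w ∈ 𝒲, ∃ f',
      f = w + algebraMap R _ (ε' ^ N) * f' := by
    intro N
    induction N with
    | zero => intro f; exact ⟨0, h𝒲zero, f, by simp⟩
    | succ N ih =>
      intro f
      obtain ⟨w, hw, f', hf'⟩ := ih f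
      obtain ⟨w', hw', f'', hf''⟩ := hstep1 f'
      refine ⟨w + algebraMap R _ (ε' ^ N) * w', h𝒲add _ _ hw (h𝒲smul _ _ hw'), f'', ?_⟩
      rw [hf', hf'', pow_succ, map_mul]; ring
  have hε'rad : ε' ∈ (Ideal.span {t}).radical := by rw [radical_span t ht]; exact hε'
  obtain ⟨N, hN⟩ := hε'rad
  obtain ⟨c, hc⟩ := Ideal.mem_span_singleton.1 hN
  have hstep : ∀ f : RPow R (Ideal.span {t}) (n + 1), ∃ w ∈ 𝒲, ∃ f', f = w + t • f' := by
    intro f
    obtain ⟨w, hw, f', hf'⟩ := hstepN N f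
    refine ⟨w, hw, algebraMap R _ c * f', ?_⟩
    rw [hf', hc, map_mul, Algebra.smul_def]; ring
  -- closedness under series
  have hclosed : ∀ w : ℕ → RPow R (Ideal.span {t}) (n + 1), (∀ k, w k ∈ 𝒲) →
      ∃ L ∈ 𝒲, ∀ N, ∃ e, L = ∑ k ∈ Finset.range N, t ^ k • w k + t ^ N • e := by
    intro w hw
    choose q a hqa using hw
    obtain ⟨Q, hQ⟩ := exists_series_limit (τ R t (n + 1)) q
    have hA := fun i => exists_series_limit (τ R t n) (fun k => a k i)
    choose A hA using hA
    refine ⟨Q * G + ∑ i ∈ Finset.range s, jmap R t n (A i) * ζ R t (n + 1) 0 ^ i,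
      ⟨Q, A, rfl⟩, fun N => ?_⟩
    obtain ⟨e, he⟩ := hQ N
    choose e' he' using fun i => hA i N
    refine ⟨e * G + ∑ i ∈ Finset.range s, jmap R t n (e' i) * ζ R t (n + 1) 0 ^ i, ?_⟩
    have hj : ∀ i, jmap R t n (A i) =
        ∑ k ∈ Finset.range N, τ R t (n + 1) ^ k * jmap R t n (a k i) +
          τ R t (n + 1) ^ N * jmap R t n (e' i) := by
      intro i
      rw [he' i, map_add, map_sum, map_mul, map_pow, jmap_τ]
      congr 1
      apply Finset.sum_congr rfl
      intro k _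
      rw [map_mul, map_pow, jmap_τ]
    have hsm : ∀ (k : ℕ) (x : RPow R (Ideal.span {t}) (n + 1)),
        t ^ k • x = τ R t (n + 1) ^ k * x := by
      intro k x; rw [Algebra.smul_def, map_pow]
    simp only [hsm]
    have hQG : Q * G = ∑ k ∈ Finset.range N, τ R t (n + 1) ^ k * (q k * G) +
        τ R t (n + 1) ^ N * (e * G) := by
      rw [he, add_mul, Finset.sum_mul]
      congr 1
      · apply Finset.sum_congr rfl; intro k _; ring
      · ring
    have hAi : ∀ i, jmap R t n (A i) * ζ R t (n + 1) 0 ^ i =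
        ∑ k ∈ Finset.range N, τ R t (n + 1) ^ k * (jmap R t n (a k i) * ζ R t (n + 1) 0 ^ i) +
          τ R t (n + 1) ^ N * (jmap R t n (e' i) * ζ R t (n + 1) 0 ^ i) := by
      intro i
      rw [hj i, add_mul, Finset.sum_mul]
      congr 1
      · apply Finset.sum_congr rfl; intro k _; ring
      · ring
    have hsum : ∑ i ∈ Finset.range s, jmap R t n (A i) * ζ R t (n + 1) 0 ^ i =
        ∑ k ∈ Finset.range N, τ R t (n + 1) ^ k *
          ∑ i ∈ Finset.range s, jmap R t n (a k i) * ζ R t (n + 1) 0 ^ i +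
        τ R t (n + 1) ^ N * ∑ i ∈ Finset.range s, jmap R t n (e' i) * ζ R t (n + 1) 0 ^ i := by
      rw [Finset.sum_congr rfl (fun i _ => hAi i), Finset.sum_add_distrib, Finset.sum_comm,
        ← Finset.mul_sum]
      congr 1
      apply Finset.sum_congr rfl
      intro k _
      rw [Finset.mul_sum]
    have hwk : ∑ k ∈ Finset.range N, τ R t (n + 1) ^ k * w k =
        ∑ k ∈ Finset.range N, τ R t (n + 1) ^ k * (q k * G) +
        ∑ k ∈ Finset.range N, τ R t (n + 1) ^ k *
          ∑ i ∈ Finset.range s, jmap R t n (a k i) * ζ R t (n + 1) 0 ^ i := by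
      rw [← Finset.sum_add_distrib]
      apply Finset.sum_congr rfl
      intro k _
      rw [hqa k, mul_add]
    rw [hQG, hsum, hwk]
    ring
  exact mem_of_series_closed t (fun x hx => hausdorff_rPow x hx) 𝒲 hclosed hstep f

end valring

end Groth.Agent.Lib.Helper9.AdmWeier
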