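import Mathlib
import Groth.Prelude.Def_W4bk4boschfrg79
import Groth.Agent.Lib.Helper9.AdmWeier
import Groth.Agent.Lib.Helper9.AdmNN

/-!
# The Nullstellensatz for restricted power series over a complete height one valuation ring

A domain `D` which is a quotient of `R⟨ζ_1, …, ζ_n⟩` and such that `D[1/t]` is a field is integral
over `R`.
-/

universe u

set_option linter.unusedSectionVars false

namespace Groth.Agent.Lib.Helper9.AdmNull

open IsLocalRing AdicRing Groth.Agent.Lib.Helper9.AdmBasic
  Groth.Agent.Lib.Helper9.AdmRPow Groth.Agent.Lib.Helper9.AdmLocal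
  Groth.Agent.Lib.Helper9.AdmExt Groth.Agent.Lib.Helper9.AdmImage
  Groth.Agent.Lib.Helper9.AdmRPow2 Groth.Agent.Lib.Helper9.AdmPolyDiv
  Groth.Agent.Lib.Helper9.AdmWeier

open Polynomial in
theorem exists_mul_eq_pow {A B : Type*} [CommRing A] [CommRing B] [Algebra A B]
    (hinj : Function.Injective (algebraMap A B)) (a u : A) (e : B) (he : IsIntegral A e)
    (h : algebraMap A B a * e = algebraMap A B u) : ∃ (a' : A) (r : ℕ), a * a' = u ^ r := by
  obtain ⟨P, hP, hPe⟩ := he
  set Q := Polynomial.scaleRoots P a with hQdef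
  have hQ : Q.Monic := (monic_scaleRoots_iff a).2 hP
  have h1 : aeval (algebraMap A B a * e) Q = 0 :=
    scaleRoots_aeval_eq_zero (by rw [aeval_def]; exact hPe)
  rw [h, aeval_algebraMap_apply] at h1
  have h2 : Q.eval u = 0 := hinj (by rw [map_zero]; simpa using h1)
  have hnat : Q.natDegree = P.natDegree := natDegree_scaleRoots P a
  set r := P.natDegree with hr
  have h3 := hQ.as_sum
  rw [hnat] at h3
  have h4 : u ^ r + ∑ i ∈ Finset.range r, Q.coeff i * u ^ i = 0 := by
    have := h2
    rw [h3, eval_add, eval_pow, eval_X, eval_finset_sum] at this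
    simpa [eval_mul, eval_C, eval_pow, eval_X] using this
  refine ⟨-∑ i ∈ Finset.range r, P.coeff i * a ^ (r - i - 1) * u ^ i, r, ?_⟩
  have h5 : ∀ i ∈ Finset.range r, Q.coeff i * u ^ i =
      a * (P.coeff i * a ^ (r - i - 1) * u ^ i) := by
    intro i hi
    rw [Finset.mem_range] at hi
    rw [hQdef, coeff_scaleRoots, ← hr]
    have : a ^ (r - i) = a * a ^ (r - i - 1) := by
      rw [← pow_succ']; congr 1; omega
    rw [this]; ring
  rw [Finset.sum_congr rfl h5, ← Finset.mul_sum] at h4
  rw [mul_neg]
  linear_combination -h4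

section valring

variable (R : Type u) [CommRing R] [IsDomain R] [ValuationRing R] [Ring.KrullDimLE 1 R]
  (t : R) (ht : t ≠ 0) [IsAdicComplete (Ideal.span {t}) R]

theorem isAdicComplete_self :
    IsAdicComplete ((Ideal.span {t}).map (algebraMap R R)) R := by
  rw [Algebra.algebraMap_self, Ideal.map_id]; infer_instance

include ht

theorem rPow_zero_surj (x : RPow R (Ideal.span {t}) 0) :
    ∃ r : R, x = algebraMap R _ r := by
  have hN : (Submodule.span R {(1 : RPow R (Ideal.span {t}) 0)}).FG :=
    Submodule.fg_span_singleton _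
  have hstep : ∀ m : RPow R (Ideal.span {t}) 0, ∃ x ∈ Submodule.span R {(1 :
      RPow R (Ideal.span {t}) 0)}, ∃ m', m = x + t • m' := by
    intro m
    obtain ⟨p, y, hmy⟩ := exists_poly_add R t 0 m
    refine ⟨algebraMap _ _ p, ?_, y, ?_⟩
    · rw [MvPolynomial.eq_C_of_isEmpty p, Submodule.mem_span_singleton]
      refine ⟨MvPolynomial.coeff 0 p, ?_⟩
      rw [Algebra.smul_def, mul_one]
      rfl
    · rw [hmy, Algebra.smul_def]
  have htop := eq_top_of_sup_smul t (fun m hm => hausdorff_rPow m hm) _ hN hstep
  have hx : x ∈ Submodule.span R {(1 : RPow R (Ideal.span {t}) 0)} := by rw [htop]; trivial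
  obtain ⟨r, hr⟩ := Submodule.mem_span_singleton.1 hx
  exact ⟨r, by rw [← hr, Algebra.smul_def, mul_one]⟩

theorem algebraMap_ne_zero_of_ne_zero {D : Type u} [CommRing D] [IsDomain D] [Algebra R D]
    (ht0 : algebraMap R D t ≠ 0) (c : R) (hc : c ≠ 0) : algebraMap R D c ≠ 0 := by
  intro h
  obtain ⟨M, d, hd⟩ := exists_dvd_pow t ht c hc
  apply pow_ne_zero M ht0
  rw [← map_pow, hd, map_mul, h, zero_mul]

/-- the Nullstellensatz. -/
theorem isIntegral_of_field (n : ℕ) : ∀ (D : Type u) [CommRing D] [IsDomain D] [Algebra R D]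
    (φ : RPow R (Ideal.span {t}) n →ₐ[R] D) (_ : Function.Surjective φ)
    (_ : algebraMap R D t ≠ 0)
    (_ : ∀ d : D, d ≠ 0 → ∃ (e : D) (k : ℕ), d * e = algebraMap R D t ^ k),
    Algebra.IsIntegral R D := by
  classical
  induction n with
  | zero =>
    intro D _ _ _ φ hφ _ _
    constructor
    intro d
    obtain ⟨x, rfl⟩ := hφ d
    obtain ⟨r, rfl⟩ := rPow_zero_surj R t ht x
    rw [AlgHom.commutes]
    exact isIntegral_algebraMap
  | succ n ih =>
    intro D _ _ _ φ hφ ht0 hfield
    by_cases hker : ∃ g, φ g = 0 ∧ g ≠ 0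
    · obtain ⟨g, hφg, hg⟩ := hker
      obtain ⟨c, g', hc0, hgg', hred⟩ := exists_primitive R t ht (n + 1) g hg
      have hφg' : φ g' = 0 := by
        rw [hgg', map_mul, AlgHom.commutes] at hφg
        rcases mul_eq_zero.1 hφg with h | h
        · exact absurd h (algebraMap_ne_zero_of_ne_zero R t ht ht0 c hc0)
        · exact h
      set fb := red R t ht (n + 1) g' with hfb
      -- the change of variables
      let z : ℤ → Fin (n + 1) → RPow R (Ideal.span {t}) (n + 1) := fun c i =>
        if i = 0 then ζ R t (n + 1) 0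
        else ζ R t (n + 1) i + (c : RPow R (Ideal.span {t}) (n + 1)) *
          ζ R t (n + 1) 0 ^ ((2 + fb.totalDegree) ^ i.1)
      let σ : RPow R (Ideal.span {t}) (n + 1) →ₐ[R] RPow R (Ideal.span {t}) (n + 1) :=
        liftR (t := t) (z 1)
      let ν : RPow R (Ideal.span {t}) (n + 1) →ₐ[R] RPow R (Ideal.span {t}) (n + 1) :=
        liftR (t := t) (z (-1))
      have hσζ : ∀ i, σ (ζ R t (n + 1) i) = z 1 i := fun i => liftR_ζ _ i
      have hνζ : ∀ i, ν (ζ R t (n + 1) i) = z (-1) i := fun i => liftR_ζ _ i
      have hνσ : ν.comp σ = AlgHom.id R _ := by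
        apply algHom_ext_rPow (fun x hx => hausdorff_rPow x hx)
        intro i
        rw [AlgHom.comp_apply, hσζ, AlgHom.id_apply]
        by_cases hi : i = 0
        · simp only [z, if_pos hi]
          rw [hνζ]; simp only [z, if_pos rfl, hi]
        · simp only [z, if_neg hi]
          rw [map_add, map_mul, map_pow, hνζ, hνζ]
          simp only [z, if_neg hi, if_pos rfl]
          simp
      have hHk : ∀ b : MvPolynomial (Fin (n + 1)) (ResidueField R),
          (∀ k, ∃ b', b = t ^ k • b') → b = 0 := by
        intro b hb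
        obtain ⟨b', hb'⟩ := hb 1
        rw [hb', pow_one, Algebra.smul_def,
          IsScalarTower.algebraMap_apply R (ResidueField R) (MvPolynomial _ _),
          residue_t R t ht, map_zero, zero_mul]
      have hredσ : (red R t ht (n + 1)).comp σ =
          ((AdmNN.T1 fb 1).restrictScalars R).comp (red R t ht (n + 1)) := by
        apply algHom_ext_rPow hHk
        intro i
        rw [AlgHom.comp_apply, AlgHom.comp_apply, hσζ, red_ζ, AlgHom.restrictScalars_apply,
          MvPolynomial.aeval_X]
        by_cases hi : i = 0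
        · simp only [z, if_pos hi]
          rw [red_ζ]
        · simp only [z, if_neg hi]
          rw [map_add, map_mul, map_pow, red_ζ, red_ζ]
          simp
      set G := σ g' with hGdef
      have hredG : red R t ht (n + 1) G = AdmNN.T1 fb 1 fb :=
        congrFun (congrArg DFunLike.coe hredσ) g'
      have hunit : IsUnit (MvPolynomial.finSuccEquiv (ResidueField R) n
          (red R t ht (n + 1) G)).leadingCoeff := by
        rw [hredG]
        exact AdmNN.T_leadingcoeff_isUnit fb hred
      -- normalize to a monic series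
      obtain ⟨u, hu, hlu⟩ := MvPolynomial.isUnit_iff_eq_C_of_isReduced.1 hunit
      obtain ⟨ũ, rfl⟩ := residue_surjective u
      have hũ : IsUnit ũ := by
        by_contra hnu
        have : residue R ũ = 0 := (residue_eq_zero_iff _).2 ((mem_maximalIdeal _).2 hnu)
        rw [this] at hu
        exact not_isUnit_zero hu
      obtain ⟨v, hv⟩ := hũ.exists_left_inv
      set G₁ := algebraMap R (RPow R (Ideal.span {t}) (n + 1)) v * G with hG₁
      have hG₁mon : (MvPolynomial.finSuccEquiv (ResidueField R) n
          (red R t ht (n + 1) G₁)).Monic := by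
        have h1 : red R t ht (n + 1) G₁ =
            MvPolynomial.C (residue R v) * red R t ht (n + 1) G := by
          rw [hG₁, map_mul, AlgHom.commutes,
            IsScalarTower.algebraMap_apply R (ResidueField R) (MvPolynomial _ _)]
          rfl
        rw [h1, map_mul, finSuccEquiv_C, Polynomial.Monic, Polynomial.leadingCoeff_mul, hlu,
          Polynomial.leadingCoeff_C, ← map_mul, ← map_mul, hv, map_one, map_one]
      -- the new presentation
      let φ' : RPow R (Ideal.span {t}) (n + 1) →ₐ[R] D := φ.comp ν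
      have hφ'σ : ∀ x, φ' (σ x) = φ x := by
        intro x
        change φ (ν (σ x)) = φ x
        have := congrFun (congrArg DFunLike.coe hνσ) x
        rw [AlgHom.comp_apply, AlgHom.id_apply] at this
        rw [this]
      have hφ'G₁ : φ' G₁ = 0 := by
        rw [hG₁, map_mul, hGdef, hφ'σ, hφg', mul_zero]
      set s := (MvPolynomial.finSuccEquiv (ResidueField R) n
          (red R t ht (n + 1) G₁)).natDegree with hs
      set w := φ' (ζ R t (n + 1) 0) with hw
      let ψ : RPow R (Ideal.span {t}) n →ₐ[R] D := φ'.comp (jmap R t n)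
      have hrepr : ∀ d : D, ∃ a : ℕ → RPow R (Ideal.span {t}) n,
          d = ∑ i ∈ Finset.range s, ψ (a i) * w ^ i := by
        intro d
        obtain ⟨x, rfl⟩ := hφ d
        obtain ⟨q, a, hqa⟩ := weierstrass R t ht n G₁ hG₁mon (σ x)
        refine ⟨a, ?_⟩
        rw [← hφ'σ x, hqa, map_add, map_mul, hφ'G₁, mul_zero, zero_add, map_sum]
        apply Finset.sum_congr rfl
        intro i _
        rw [map_mul, map_pow]
        rfl
      -- integrality over the image of `ψ`
      have hwint : IsIntegral ψ.range w := by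
        obtain ⟨a, ha⟩ := hrepr (w ^ s)
        let b : Fin s → ψ.range := fun i => ⟨ψ (a i), ⟨a i, rfl⟩⟩
        refine ⟨Polynomial.X ^ s - ∑ i : Fin s, Polynomial.C (b i) * Polynomial.X ^ (i : ℕ),
          Polynomial.monic_X_pow_sub (Polynomial.degree_sum_fin_lt _), ?_⟩
        rw [← Polynomial.aeval_def, map_sub, map_pow, Polynomial.aeval_X, map_sum, ha,
          ← Fin.sum_univ_eq_sum_range (fun i => ψ (a i) * w ^ i), sub_eq_zero]
        apply Finset.sum_congr rfl
        intro i _
        rw [map_mul, map_pow, Polynomial.aeval_X, Polynomial.aeval_C]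
        rfl
      haveI hDint : Algebra.IsIntegral ψ.range D := by
        constructor
        intro d
        obtain ⟨a, rfl⟩ := hrepr d
        refine IsIntegral.sum _ (fun i _ => IsIntegral.mul ?_ (hwint.pow i))
        have : ψ (a i) = algebraMap ψ.range D ⟨ψ (a i), ⟨a i, rfl⟩⟩ := rfl
        rw [this]
        exact isIntegral_algebraMap
      -- the induction hypothesis for the image
      have hinj₀ : Function.Injective (algebraMap ψ.range D) := fun x y hxy => Subtype.ext hxy
      have ht0' : algebraMap R ψ.range t ≠ 0 := by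
        intro h
        apply ht0
        have := congrArg Subtype.val h
        simpa using this
      have hfield' : ∀ d : ψ.range, d ≠ 0 →
          ∃ (e : ψ.range) (k : ℕ), d * e = algebraMap R ψ.range t ^ k := by
        intro d hd
        have hd' : (d : D) ≠ 0 := fun h => hd (Subtype.ext h)
        obtain ⟨e, k, hek⟩ := hfield (d : D) hd'
        obtain ⟨a', r, har⟩ := exists_mul_eq_pow hinj₀ d (algebraMap R ψ.range t ^ k) e
          (Algebra.IsIntegral.isIntegral e) (by
            rw [map_pow]
            exact hek)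
        exact ⟨a', k * r, by rw [har, pow_mul]⟩
      haveI := ih ψ.range ψ.rangeRestrict (AlgHom.rangeRestrict_surjective ψ) ht0' hfield'
      exact Algebra.IsIntegral.trans (R := R) ψ.range
    · -- `φ` is injective: impossible
      exfalso
      push Not at hker
      haveI := isAdicComplete_self R t
      let ev₁ : RPow R (Ideal.span {t}) (n + 1) →ₐ[R] R := liftR (t := t) (fun _ => 1)
      let ev₀ : RPow R (Ideal.span {t}) (n + 1) →ₐ[R] R := liftR (t := t) (fun _ => 0)
      have hζ0 : ζ R t (n + 1) 0 ≠ 0 := by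
        intro h
        have : ev₁ (ζ R t (n + 1) 0) = 1 := liftR_ζ _ 0
        rw [h, map_zero] at this
        exact zero_ne_one this
      have hφζ : φ (ζ R t (n + 1) 0) ≠ 0 := fun h => hζ0 (hker _ h)
      obtain ⟨e, k, hek⟩ := hfield _ hφζ
      obtain ⟨e', rfl⟩ := hφ e
      have h1 : φ (ζ R t (n + 1) 0 * e' - τ R t (n + 1) ^ k) = 0 := by
        rw [map_sub, map_mul, map_pow, map_τ, hek, sub_self]
      have h2 : ζ R t (n + 1) 0 * e' - τ R t (n + 1) ^ k = 0 := hker _ h1
      have h3 := congrArg ev₀ h2
      rw [map_sub, map_mul, map_pow, map_τ, map_zero] at h3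
      have h4 : ev₀ (ζ R t (n + 1) 0) = 0 := liftR_ζ _ 0
      rw [h4, zero_mul, zero_sub, neg_eq_zero] at h3
      exact ht (pow_eq_zero_iff (fun hk0 => by
        rw [hk0, pow_zero] at h3; exact one_ne_zero h3) |>.1 h3)

end valring

end Groth.Agent.Lib.Helper9.AdmNull
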