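import Mathlib
import Groth.Prelude.Def_W4bk4boschfrg79
import Groth.Agent.Lib.Helper9.AdmNull

/-!
# Rig-points of an admissible algebra and maximal ideals of its generic fibre
(Bosch FRG 8.3, Lemma 5)
-/

universe u

set_option linter.unusedSectionVars false

namespace Groth.Agent.Lib.Helper9.AdmRig

open scoped TensorProduct
open IsLocalRing AdicRing Groth.Agent.Lib.Helper9.AdmBasic
  Groth.Agent.Lib.Helper9.AdmRPow Groth.Agent.Lib.Helper9.AdmLocal
  Groth.Agent.Lib.Helper9.AdmNull

section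

variable (R : Type u) [CommRing R] [IsDomain R] [ValuationRing R] [Ring.KrullDimLE 1 R]
  (t : R) (ht : t ≠ 0) [IsAdicComplete (Ideal.span {t}) R]

include ht

theorem isLocalization_away : IsLocalization.Away t (FractionRing R) := by
  refine ⟨?_, ?_, ?_⟩
  · rintro ⟨_, k, rfl⟩
    rw [map_pow]
    exact (IsUnit.mk0 _ (by
      rw [Ne, IsFractionRing.to_map_eq_zero_iff]; exact ht)).pow k
  · intro z
    obtain ⟨⟨a, ⟨r, hr⟩⟩, hz⟩ := IsLocalization.surj (nonZeroDivisors R) z
    have hr0 : r ≠ 0 := nonZeroDivisors.ne_zero hr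
    obtain ⟨m, c, hc⟩ := exists_dvd_pow t ht r hr0
    refine ⟨⟨a * c, ⟨t ^ m, m, rfl⟩⟩, ?_⟩
    change z * algebraMap R _ (t ^ m) = algebraMap R _ (a * c)
    change z * algebraMap R _ r = algebraMap R _ a at hz
    rw [hc, map_mul, ← mul_assoc, hz, map_mul]
  · intro a b hab
    have : a = b := IsFractionRing.injective R (FractionRing R) hab
    exact ⟨1, by rw [this]⟩

variable (A : Type u) [CommRing A] [Algebra R A]

theorem algebraMap_tensor_eq :
    algebraMap A (A ⊗[R] FractionRing R) =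
      (Algebra.TensorProduct.includeLeftRingHom : A →+* A ⊗[R] FractionRing R) := rfl

theorem isLocalization_tensor :
    IsLocalization (Algebra.algebraMapSubmonoid A (Submonoid.powers t))
      (A ⊗[R] FractionRing R) := by
  haveI := isLocalization_away R t ht
  exact IsLocalization.tensor (FractionRing R) (Submonoid.powers t)

theorem mem_submonoid_iff (x : A) :
    x ∈ Algebra.algebraMapSubmonoid A (Submonoid.powers t) ↔ ∃ k : ℕ, x = algebraMap R A t ^ k := by
  constructor
  · rintro ⟨_, ⟨k, rfl⟩, rfl⟩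
    exact ⟨k, by rw [map_pow]⟩
  · rintro ⟨k, rfl⟩
    exact ⟨t ^ k, ⟨k, rfl⟩, by rw [map_pow]⟩

theorem disjoint_of_not_mem (p : Ideal A) [p.IsPrime] (hp : algebraMap R A t ∉ p) :
    Disjoint ((Algebra.algebraMapSubmonoid A (Submonoid.powers t) : Submonoid A) : Set A)
      (p : Set A) := by
  rw [Set.disjoint_left]
  intro x hx hxp
  obtain ⟨k, rfl⟩ := (mem_submonoid_iff R t ht A x).1 hx
  exact hp (Ideal.IsPrime.mem_of_pow_mem inferInstance k hxp)

/-- in a quotient of a topologically finitely generated algebra, `t` lies in every maximal ideal.-/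
theorem t_mem_of_isMaximal (hA : TopFiniteType R (Ideal.span {t}) A) (p : Ideal A)
    (𝔫 : Ideal (A ⧸ p)) [𝔫.IsMaximal] :
    Ideal.Quotient.mk p (algebraMap R A t) ∈ 𝔫 := by
  by_contra hnot
  obtain ⟨y, i, hi, hyi⟩ := Ideal.IsMaximal.exists_inv (I := 𝔫) inferInstance hnot
  obtain ⟨y', rfl⟩ := Ideal.Quotient.mk_surjective y
  have hu : IsUnit (1 + t • (-y')) := isUnit_one_add_smul t hA (-y')
  have hu' := hu.map (Ideal.Quotient.mk p)
  have : Ideal.Quotient.mk p (1 + t • (-y')) = i := by
    rw [map_add, map_one, Algebra.smul_def, map_mul, map_neg]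
    linear_combination -hyi
  rw [this] at hu'
  exact (Ideal.IsMaximal.ne_top inferInstance) (Ideal.eq_top_of_isUnit_mem _ hi hu')

theorem rig_part1 (hA : TopFiniteType R (Ideal.span {t}) A) (p : Ideal A) (hp : p.IsPrime)
    (htp : algebraMap R A t ∉ p) (hdim : ringKrullDim (A ⧸ p) = 1) :
    (p.map (Algebra.TensorProduct.includeLeftRingHom : A →+* A ⊗[R] FractionRing R)).IsMaximal ∧
      (p.map (Algebra.TensorProduct.includeLeftRingHom : A →+* A ⊗[R] FractionRing R)).comap
        (Algebra.TensorProduct.includeLeftRingHom : A →+* A ⊗[R] FractionRing R) = p := by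
  haveI := hp
  haveI hloc := isLocalization_tensor R t ht A
  rw [← algebraMap_tensor_eq R t ht A]
  have hd := disjoint_of_not_mem R t ht A p htp
  have hcm : (p.map (algebraMap A (A ⊗[R] FractionRing R))).comap
      (algebraMap A (A ⊗[R] FractionRing R)) = p :=
    IsLocalization.under_map_of_isPrime_disjoint
      (Algebra.algebraMapSubmonoid A (Submonoid.powers t)) (A ⊗[R] FractionRing R) hp hd
  refine ⟨?_, hcm⟩
  have hprime : (p.map (algebraMap A (A ⊗[R] FractionRing R))).IsPrime :=
    IsLocalization.isPrime_of_isPrime_disjoint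
      (Algebra.algebraMapSubmonoid A (Submonoid.powers t)) (A ⊗[R] FractionRing R) p hp hd
  obtain ⟨𝔐, h𝔐, hle⟩ := Ideal.exists_le_maximal _ hprime.ne_top
  haveI := h𝔐
  set p' := 𝔐.comap (algebraMap A (A ⊗[R] FractionRing R)) with hp'
  haveI hp'prime : p'.IsPrime := Ideal.comap_isPrime _ _
  have hpp' : p ≤ p' := by
    rw [← hcm]
    exact Ideal.comap_mono hle
  have htp' : algebraMap R A t ∉ p' := by
    intro h
    have hu : IsUnit (algebraMap A (A ⊗[R] FractionRing R) (algebraMap R A t)) :=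
      IsLocalization.map_units (A ⊗[R] FractionRing R)
        (⟨algebraMap R A t, (mem_submonoid_iff R t ht A _).2 ⟨1, (pow_one _).symm⟩⟩ :
          Algebra.algebraMapSubmonoid A (Submonoid.powers t))
    exact h𝔐.ne_top (Ideal.eq_top_of_isUnit_mem _ h hu)
  have hpeq : p' = p := by
    by_contra hne
    have hlt : ∃ a ∈ p', a ∉ p := by
      by_contra hcon
      push Not at hcon
      exact hne (le_antisymm hcon hpp')
    obtain ⟨a, hap', hap⟩ := hlt
    haveI : Ring.KrullDimLE 1 (A ⧸ p) := Ring.krullDimLE_iff.2 (by rw [hdim]; rfl)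
    have hker : RingHom.ker (Ideal.Quotient.mk p) ≤ p' := by
      rw [Ideal.mk_ker]; exact hpp'
    haveI hq : (p'.map (Ideal.Quotient.mk p)).IsPrime :=
      Ideal.map_isPrime_of_surjective Ideal.Quotient.mk_surjective hker
    have hqne : p'.map (Ideal.Quotient.mk p) ≠ ⊥ := by
      intro h
      have : Ideal.Quotient.mk p a ∈ p'.map (Ideal.Quotient.mk p) :=
        Ideal.mem_map_of_mem _ hap'
      rw [h, Ideal.mem_bot, Ideal.Quotient.eq_zero_iff_mem] at this
      exact hap this
    haveI hqmax : (p'.map (Ideal.Quotient.mk p)).IsMaximal := hq.isMaximal_of_ne_bot hqne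
    have htq := t_mem_of_isMaximal R t ht A hA p (p'.map (Ideal.Quotient.mk p))
    have : algebraMap R A t ∈ (p'.map (Ideal.Quotient.mk p)).comap (Ideal.Quotient.mk p) := htq
    rw [Ideal.comap_map_of_surjective _ Ideal.Quotient.mk_surjective, ← RingHom.ker_eq_comap_bot,
      Ideal.mk_ker, sup_eq_left.2 hpp'] at this
    exact htp' this
  have h𝔐eq : 𝔐 = p.map (algebraMap A (A ⊗[R] FractionRing R)) := by
    rw [← hpeq, hp']
    exact (IsLocalization.map_under
      (Algebra.algebraMapSubmonoid A (Submonoid.powers t)) (A ⊗[R] FractionRing R) 𝔐).symm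
  rw [← h𝔐eq]
  exact h𝔐

theorem rig_part2 (hA : TopFiniteType R (Ideal.span {t}) A)
    (m : Ideal (A ⊗[R] FractionRing R)) (hm : m.IsMaximal) :
    algebraMap R A t ∉ m.comap
        (Algebra.TensorProduct.includeLeftRingHom : A →+* A ⊗[R] FractionRing R) ∧
      ringKrullDim (A ⧸ m.comap
        (Algebra.TensorProduct.includeLeftRingHom : A →+* A ⊗[R] FractionRing R)) = 1 ∧
      (m.comap (Algebra.TensorProduct.includeLeftRingHom : A →+* A ⊗[R] FractionRing R)).map
        (Algebra.TensorProduct.includeLeftRingHom : A →+* A ⊗[R] FractionRing R) = m := by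
  classical
  haveI := hm
  haveI hloc := isLocalization_tensor R t ht A
  rw [← algebraMap_tensor_eq R t ht A]
  set q := m.comap (algebraMap A (A ⊗[R] FractionRing R)) with hq
  haveI hqprime : q.IsPrime := Ideal.comap_isPrime _ _
  have hu : IsUnit (algebraMap A (A ⊗[R] FractionRing R) (algebraMap R A t)) :=
    IsLocalization.map_units (A ⊗[R] FractionRing R)
      (⟨algebraMap R A t, (mem_submonoid_iff R t ht A _).2 ⟨1, (pow_one _).symm⟩⟩ :
        Algebra.algebraMapSubmonoid A (Submonoid.powers t))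
  have htq : algebraMap R A t ∉ q := by
    intro h
    exact hm.ne_top (Ideal.eq_top_of_isUnit_mem _ h hu)
  have hmap : q.map (algebraMap A (A ⊗[R] FractionRing R)) = m :=
    IsLocalization.map_under
      (Algebra.algebraMapSubmonoid A (Submonoid.powers t)) (A ⊗[R] FractionRing R) m
  refine ⟨htq, ?_, hmap⟩
  -- the Nullstellensatz
  obtain ⟨n, α, hα⟩ := hA
  let φ : RPow R (Ideal.span {t}) n →ₐ[R] A ⧸ q := (Ideal.Quotient.mkₐ R q).comp α
  have hφ : Function.Surjective φ := (Ideal.Quotient.mkₐ_surjective R q).comp hα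
  have ht0 : algebraMap R (A ⧸ q) t ≠ 0 := by
    rw [IsScalarTower.algebraMap_apply R A (A ⧸ q), Ne]
    change ¬ Ideal.Quotient.mk q (algebraMap R A t) = 0
    rw [Ideal.Quotient.eq_zero_iff_mem]
    exact htq
  have hfield : ∀ d : A ⧸ q, d ≠ 0 → ∃ (e : A ⧸ q) (k : ℕ), d * e = algebraMap R (A ⧸ q) t ^ k := by
    intro d hd
    obtain ⟨a, rfl⟩ := Ideal.Quotient.mk_surjective d
    have haq : a ∉ q := fun h => hd (Ideal.Quotient.eq_zero_iff_mem.2 h)
    have ham : algebraMap A (A ⊗[R] FractionRing R) a ∉ m := haq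
    obtain ⟨y, i, hi, hyi⟩ := Ideal.IsMaximal.exists_inv (I := m) hm ham
    obtain ⟨⟨b, ⟨c, hc⟩⟩, hbc⟩ := IsLocalization.surj
      (Algebra.algebraMapSubmonoid A (Submonoid.powers t)) y
    obtain ⟨k, rfl⟩ := (mem_submonoid_iff R t ht A c).1 hc
    change y * algebraMap A _ (algebraMap R A t ^ k) = algebraMap A _ b at hbc
    have h1 : algebraMap A (A ⊗[R] FractionRing R) (b * a - algebraMap R A t ^ k) ∈ m := by
      have : algebraMap A (A ⊗[R] FractionRing R) (b * a - algebraMap R A t ^ k) =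
          -(i * algebraMap A _ (algebraMap R A t ^ k)) := by
        rw [map_sub, map_mul, ← hbc]
        linear_combination (algebraMap A (A ⊗[R] FractionRing R) (algebraMap R A t ^ k)) * hyi
      rw [this]
      exact m.neg_mem (m.mul_mem_right _ hi)
    have h2 : b * a - algebraMap R A t ^ k ∈ q := h1
    refine ⟨Ideal.Quotient.mk q b, k, ?_⟩
    rw [IsScalarTower.algebraMap_apply R A (A ⧸ q)]
    change Ideal.Quotient.mk q a * Ideal.Quotient.mk q b = Ideal.Quotient.mk q (algebraMap R A t) ^ k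
    rw [← map_mul, ← map_pow, Ideal.Quotient.eq]
    have : a * b - algebraMap R A t ^ k = b * a - algebraMap R A t ^ k := by ring
    rw [this]; exact h2
  haveI hint : Algebra.IsIntegral R (A ⧸ q) := isIntegral_of_field R t ht n (A ⧸ q) φ hφ ht0 hfield
  -- dimension one
  have h1 : Ring.KrullDimLE 1 (A ⧸ q) := by
    rw [Ring.krullDimLE_one_iff_of_noZeroDivisors]
    intro 𝔭 h𝔭 h𝔭prime
    haveI := h𝔭prime
    have hc : 𝔭.comap (algebraMap R (A ⧸ q)) ≠ ⊥ := fun h => h𝔭 (Ideal.eq_bot_of_comap_eq_bot h)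
    haveI : (𝔭.comap (algebraMap R (A ⧸ q))).IsPrime := Ideal.comap_isPrime _ _
    have hmax : (𝔭.comap (algebraMap R (A ⧸ q))).IsMaximal :=
      Ideal.IsPrime.isMaximal_of_ne_bot inferInstance hc
    exact Ideal.isMaximal_of_isIntegral_of_isMaximal_comap (R := R) 𝔭 hmax
  have h2 : ¬ ringKrullDim (A ⧸ q) ≤ 0 := fun h => by
    have : Ring.KrullDimLE 0 (A ⧸ q) := Ring.krullDimLE_iff.mpr h
    have hF : IsField (A ⧸ q) := Ring.KrullDimLE.isField_of_isDomain
    obtain ⟨v, hv⟩ := hF.mul_inv_cancel ht0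
    obtain ⟨v', rfl⟩ := Ideal.Quotient.mk_surjective v
    have hu' : IsUnit (1 + t • (-v')) := isUnit_one_add_smul t ⟨n, α, hα⟩ (-v')
    have hmem : 1 + t • (-v') ∈ q := by
      rw [← Ideal.Quotient.eq_zero_iff_mem, map_add, map_one, Algebra.smul_def, map_mul, map_neg]
      rw [IsScalarTower.algebraMap_apply R A (A ⧸ q)] at hv
      change Ideal.Quotient.mk q (algebraMap R A t) * Ideal.Quotient.mk q v' = 1 at hv
      linear_combination -hv
    exact hqprime.ne_top (Ideal.eq_top_of_isUnit_mem _ hmem hu')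
  rw [Ring.krullDimLE_iff] at h1
  exact le_antisymm h1 (Order.succ_le_of_lt (lt_of_not_ge h2))

end

end Groth.Agent.Lib.Helper9.AdmRig
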