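import Mathlib
import Groth.Prelude.Def_W4bk4boschfrg79
import Groth.Agent.Lib.Helper9.AdmLocal
import Groth.Agent.Lib.Helper9.AdmExt
import Groth.Agent.Lib.Helper9.AdmTower

/-!
# Surjectivity of the specialization map for the formal affine space (Bosch FRG 8.3, Prop. 8)
-/

universe u

set_option linter.unusedSectionVars false

namespace Groth.Agent.Lib.Helper9.AdmSpec

open IsLocalRing Polynomial AdicRing Groth.Agent.Lib.Helper9.AdmBasic
  Groth.Agent.Lib.Helper9.AdmRPow Groth.Agent.Lib.Helper9.AdmLocal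
  Groth.Agent.Lib.Helper9.AdmExt Groth.Agent.Lib.Helper9.AdmTower

section

variable (R : Type u) [CommRing R] [IsDomain R] [ValuationRing R] [Ring.KrullDimLE 1 R]
  (t : R) (ht : t ≠ 0) [IsAdicComplete (Ideal.span {t}) R]

include ht

/-- a field of finite type over `R` in which `t` vanishes is finite over `R`, and `R → F` is
local. -/
theorem finite_of_field (F : Type u) [Field F] [Algebra R F] [Algebra.FiniteType R F]
    (ht0 : algebraMap R F t = 0) : IsLocalHom (algebraMap R F) ∧ Module.Finite R F := by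
  have hloc : IsLocalHom (algebraMap R F) := by
    constructor
    intro a ha
    by_contra hnu
    have ham : a ∈ maximalIdeal R := (mem_maximalIdeal _).2 hnu
    rw [← radical_span t ht] at ham
    obtain ⟨N, hN⟩ := ham
    obtain ⟨c, hc⟩ := Ideal.mem_span_singleton.1 hN
    have h1 : algebraMap R F a ^ N = 0 := by
      rw [← map_pow, hc, map_mul, ht0, zero_mul]
    exact ha.ne_zero (pow_eq_zero_iff (fun h => by
      rw [h, pow_zero] at h1; exact one_ne_zero h1) |>.1 h1)
  refine ⟨hloc, ?_⟩
  haveI := hloc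
  letI : Algebra (ResidueField R) F := (ResidueField.lift (algebraMap R F)).toAlgebra
  haveI : IsScalarTower R (ResidueField R) F :=
    IsScalarTower.of_algebraMap_eq (fun x => by
      change _ = ResidueField.lift (algebraMap R F) (residue R x)
      rw [ResidueField.lift_residue_apply])
  haveI : Algebra.FiniteType (ResidueField R) F :=
    Algebra.FiniteType.of_restrictScalars_finiteType R _ _
  haveI : Module.Finite (ResidueField R) F := finite_of_finite_type_of_isJacobsonRing _ _
  haveI : Module.Finite R (ResidueField R) :=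
    Module.Finite.of_surjective (Algebra.linearMap R (ResidueField R)) residue_surjective
  exact Module.Finite.trans (ResidueField R) F

/-- a local domain over `R` all of whose nonzero elements are `r * unit` has dimension one. -/
theorem ringKrullDim_eq_one_of_ru (B : Type u) [CommRing B] [IsDomain B] [IsLocalRing B]
    [Algebra R B] (hinj : Function.Injective (algebraMap R B))
    (hru : ∀ w : B, w ≠ 0 → ∃ (r : R) (u : Bˣ), w = algebraMap R B r * u)
    (htB : ¬ IsUnit (algebraMap R B t)) : ringKrullDim B = 1 := by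
  rw [ringKrullDim_eq_one_iff_of_isLocalRing_isDomain]
  constructor
  · intro hF
    have h0 : algebraMap R B t ≠ 0 := fun h => ht (hinj (by rw [h, map_zero]))
    obtain ⟨v, hv⟩ := hF.mul_inv_cancel h0
    exact htB (IsUnit.of_mul_eq_one _ hv)
  · intro x hx y hy
    by_cases hy0 : y = 0
    · rw [hy0]; exact Ideal.zero_mem _
    obtain ⟨r, u, hr⟩ := hru x hx
    obtain ⟨s, v, hs⟩ := hru y hy0
    have hr0 : r ≠ 0 := fun h => hx (by rw [hr, h, map_zero, zero_mul])
    have hsm : s ∈ maximalIdeal R := by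
      rw [mem_maximalIdeal, mem_nonunits_iff]
      intro hsu
      have : IsUnit y := by rw [hs]; exact (hsu.map _).mul v.isUnit
      exact (mem_maximalIdeal _).1 hy this
    rw [← radical_span t ht] at hsm
    obtain ⟨N, hN⟩ := hsm
    obtain ⟨c, hc⟩ := Ideal.mem_span_singleton.1 hN
    obtain ⟨M, d, hd⟩ := exists_dvd_pow t ht r hr0
    refine ⟨N * M, ?_⟩
    rw [Ideal.mem_span_singleton]
    refine ⟨((u⁻¹ : Bˣ) : B) * algebraMap R B (d * c ^ M) * (v : B) ^ (N * M), ?_⟩
    have h1 : s ^ (N * M) = r * (d * c ^ M) := by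
      rw [pow_mul, hc, mul_pow, hd]; ring
    have h2 : (u : B) * ((u⁻¹ : Bˣ) : B) = 1 := u.mul_inv
    rw [hs, mul_pow, ← map_pow, h1, hr, map_mul]
    linear_combination (-(algebraMap R B r * algebraMap R B (d * c ^ M) * (v : B) ^ (N * M))) * h2

theorem exists_prime_le_maximal
    (n : ℕ) (m : Ideal (RPow R (Ideal.span {t}) n)) [m.IsMaximal]
    (hm : algebraMap R (RPow R (Ideal.span {t}) n) t ∈ m) :
    ∃ p : Ideal (RPow R (Ideal.span {t}) n), p.IsPrime ∧ p ≤ m ∧
      algebraMap R (RPow R (Ideal.span {t}) n) t ∉ p ∧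
      ringKrullDim (RPow R (Ideal.span {t}) n ⧸ p) = 1 := by
  classical
  letI : Field (RPow R (Ideal.span {t}) n ⧸ m) := Ideal.Quotient.field m
  have ht0 : algebraMap R (RPow R (Ideal.span {t}) n ⧸ m) t = 0 := by
    rw [IsScalarTower.algebraMap_apply R (RPow R (Ideal.span {t}) n)
      (RPow R (Ideal.span {t}) n ⧸ m)]
    exact Ideal.Quotient.eq_zero_iff_mem.2 hm
  let ψ : MvPolynomial (Fin n) R →ₐ[R] RPow R (Ideal.span {t}) n ⧸ m :=
    (Ideal.Quotient.mkₐ R m).comp
      (IsScalarTower.toAlgHom R (MvPolynomial (Fin n) R) (RPow R (Ideal.span {t}) n))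
  have hmkτ : Ideal.Quotient.mk m (τ R t n) = 0 := Ideal.Quotient.eq_zero_iff_mem.2 hm
  have hψ : Function.Surjective ψ := by
    intro f
    obtain ⟨x, rfl⟩ := Ideal.Quotient.mk_surjective f
    obtain ⟨q, y, hxy⟩ := exists_poly_add R t n x
    refine ⟨q, ?_⟩
    change Ideal.Quotient.mk m (algebraMap _ _ q) = Ideal.Quotient.mk m x
    rw [hxy, map_add, map_mul, hmkτ, zero_mul, add_zero]
  haveI : Algebra.FiniteType R (RPow R (Ideal.span {t}) n ⧸ m) :=
    Algebra.FiniteType.of_surjective ψ hψ
  obtain ⟨hloc, hfinF⟩ := finite_of_field R t ht (RPow R (Ideal.span {t}) n ⧸ m) ht0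
  haveI := hloc
  haveI := hfinF
  obtain ⟨B, i1, i2, i3, i4, i5, i6, i7, hfin, hinj, hru, z, hz, hadj⟩ :=
    tower n R (RPow R (Ideal.span {t}) n ⧸ m) (fun i => ψ (MvPolynomial.X i))
      (fun i => IsIntegral.of_finite R _)
  -- completeness of `B`
  haveI hflat : Module.Flat R B := by
    rw [Module.Flat.flat_iff_torsion_eq_bot_of_isBezout, Submodule.eq_bot_iff]
    intro x hx
    rw [Submodule.mem_torsion_iff] at hx
    obtain ⟨⟨r, hr⟩, hrx⟩ := hx
    have hr0 : r ≠ 0 := nonZeroDivisors.ne_zero hr
    have h1 : algebraMap R B r * x = 0 := by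
      rw [← Algebra.smul_def]; exact hrx
    rcases mul_eq_zero.1 h1 with h | h
    · exact absurd (hinj (by rw [h, map_zero])) hr0
    · exact h
  haveI : Module.Free R B := Module.free_of_flat_of_isLocalRing
  haveI hcompl : IsAdicComplete (Ideal.span {t}) B :=
    isAdicComplete_of_finite_projective (Ideal.span {t})
  haveI hcomplB : IsAdicComplete ((Ideal.span {t}).map (algebraMap R B)) B :=
    (IsAdicComplete.map_algebraMap_iff _ _).mpr hcompl
  let ρ : RPow R (Ideal.span {t}) n →ₐ[R] B :=
    extCompl (Ideal.span {t}) (MvPolynomial.aeval z : MvPolynomial (Fin n) R →ₐ[R] B)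
  have hρι : ∀ q : MvPolynomial (Fin n) R,
      ρ (algebraMap (MvPolynomial (Fin n) R) (RPow R (Ideal.span {t}) n) q) =
        MvPolynomial.aeval z q := fun q => extCompl_of (Ideal.span {t}) _ q
  have hρs : Function.Surjective ρ := by
    intro b
    have hb : b ∈ Algebra.adjoin R (Set.range z) := by rw [hadj]; trivial
    rw [Algebra.adjoin_range_eq_range_aeval] at hb
    obtain ⟨q, rfl⟩ := hb
    exact ⟨algebraMap _ _ q, hρι q⟩
  -- compatibility with the residue field
  have hcompat : ∀ x : RPow R (Ideal.span {t}) n,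
      algebraMap B (RPow R (Ideal.span {t}) n ⧸ m) (ρ x) = Ideal.Quotient.mk m x := by
    intro x
    obtain ⟨q, y, hxy⟩ := exists_poly_add R t n x
    have h1 : algebraMap B (RPow R (Ideal.span {t}) n ⧸ m) (MvPolynomial.aeval z q) = ψ q := by
      have h2 : (IsScalarTower.toAlgHom R B (RPow R (Ideal.span {t}) n ⧸ m)).comp
          (MvPolynomial.aeval z) = ψ := by
        apply MvPolynomial.algHom_ext
        intro i
        rw [AlgHom.comp_apply, MvPolynomial.aeval_X]
        exact hz i
      exact congrFun (congrArg DFunLike.coe h2) q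
    rw [hxy, map_add, map_mul, hρι, map_add, map_mul, h1, map_add, map_mul, hmkτ, zero_mul,
      add_zero, map_τ, ← IsScalarTower.algebraMap_apply, ht0, zero_mul, add_zero]
    rfl
  haveI hlocB : IsLocalRing B :=
    RingHom.domain_isLocalRing (algebraMap B (RPow R (Ideal.span {t}) n ⧸ m))
  have htB : ¬ IsUnit (algebraMap R B t) := by
    intro hu
    have := hu.map (algebraMap B (RPow R (Ideal.span {t}) n ⧸ m))
    rw [← IsScalarTower.algebraMap_apply, ht0] at this
    exact not_isUnit_zero this
  refine ⟨RingHom.ker (ρ : RPow R (Ideal.span {t}) n →+* B), RingHom.ker_isPrime _, ?_, ?_, ?_⟩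
  · intro x hx
    rw [RingHom.mem_ker] at hx
    rw [← Ideal.Quotient.eq_zero_iff_mem, ← hcompat x]
    change algebraMap B _ (ρ x) = 0
    have : ρ x = 0 := hx
    rw [this, map_zero]
  · rw [RingHom.mem_ker]
    change ρ (τ R t n) ≠ 0
    rw [map_τ]
    exact fun h => ht (hinj (by rw [h, map_zero]))
  · have e := RingHom.quotientKerEquivOfSurjective
      (f := (ρ : RPow R (Ideal.span {t}) n →+* B)) hρs
    rw [ringKrullDim_eq_of_ringEquiv e]
    exact ringKrullDim_eq_one_of_ru R t ht B hinj hru htB

end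

end Groth.Agent.Lib.Helper9.AdmSpec
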