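import Mathlib
import Groth.Prelude.Def_Exal
import Groth.Prelude.Def_Exal2
import Groth.Prelude.Def_Exal3

set_option autoImplicit false
universe u v
set_option linter.unusedSectionVars false
open scoped TensorProduct

namespace Groth.Agent.Lib.Helper9.CharHom

open Exal Exal.Ext KaehlerDifferential TensorProduct

section General

variable (A : Type u) {B C L : Type v} [CommRing A] [CommRing B] [CommRing C] [Algebra A B] [Algebra B C]
  [Algebra A C] [IsScalarTower A B C] [AddCommGroup L] [Module C L] (X : Ext B C L)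

lemma algebraMap_charCarrier_C_apply (e : X.CharCarrier A) : algebraMap (X.CharCarrier A) C e = X.proj e := rfl

lemma incl_mul_incl (z z' : L) : X.incl z * X.incl z' = 0 := by
  rw [X.isExtension.mul_incl, (X.isExtension.exact (X.incl z)).2 ⟨z, rfl⟩, zero_smul, map_zero]

lemma ker_sq : RingHom.ker (algebraMap (X.CharCarrier A) C) ^ 2 = ⊥ := by
  rw [eq_bot_iff, pow_two, Ideal.mul_le]
  intro r hr s hs
  rw [RingHom.mem_ker, algebraMap_charCarrier_C_apply] at hr hs
  obtain ⟨z, rfl⟩ := (X.isExtension.exact r).1 hr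
  obtain ⟨z', rfl⟩ := (X.isExtension.exact s).1 hs
  rw [Ideal.mem_bot]
  exact incl_mul_incl X z z'

lemma surj : Function.Surjective (algebraMap (X.CharCarrier A) C) := X.isExtension.proj_surjective

lemma deltaL_injective (h : X.IsTrivialOver A) : Function.Injective (X.deltaL A) := by
  obtain ⟨s, hs⟩ := h
  let g : C →ₐ[A] X.CharCarrier A :=
    { toRingHom := s.toRingHom
      commutes' := fun a => s.commutes a }
  have hg : (IsScalarTower.toAlgHom A (X.CharCarrier A) C).comp g = AlgHom.id A C := by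
    ext c
    exact hs c
  obtain ⟨l, hl⟩ := (retractionKerToTensorEquivSection (R := A)
    (ker_sq A X) (surj A X)).symm ⟨g, hg⟩
  intro z z' hzz
  have hmem : ∀ w : L, X.inclC A w ∈ RingHom.ker (algebraMap (X.CharCarrier A) C) := fun w =>
    (X.isExtension.exact _).2 ⟨w, rfl⟩
  have key : ∀ w : L, (l (X.deltaL A w) : X.CharCarrier A) = X.inclC A w := by
    intro w
    have := LinearMap.congr_fun hl ⟨X.inclC A w, hmem w⟩
    simp only [LinearMap.coe_comp, Function.comp_apply, LinearMap.id_coe, id_eq] at this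
    have h2 : KaehlerDifferential.kerToTensor A (X.CharCarrier A) C ⟨X.inclC A w, hmem w⟩ = X.deltaL A w := rfl
    rw [h2] at this
    rw [this]
  apply X.isExtension.incl_injective
  have := key z
  rw [hzz, key z'] at this
  exact this.symm

end General

section Inf

variable (Λ : Type u) (A : Type v) {B : Type v} [CommRing Λ] [CommRing A] [CommRing B] [Algebra Λ A]
  [Algebra Λ B] [Algebra A B] [IsScalarTower Λ A B] (K : Ideal B)

noncomputable abbrev XK : Ext A (B ⧸ K) K.Cotangent := (Exal.Ext.infinitesimal K).restrictBase A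

abbrev PK : Type v := (XK A K).CharCarrier Λ

abbrev MK : Type v := (B ⧸ K) ⊗[B] Ω[B⁄Λ]

noncomputable instance algBP : Algebra B (PK Λ A K) := inferInstanceAs (Algebra B (B ⧸ K ^ 2))

instance : IsScalarTower B (PK Λ A K) (B ⧸ K) := IsScalarTower.of_algebraMap_eq (fun _ => rfl)

instance : IsScalarTower A B (PK Λ A K) := IsScalarTower.of_algebraMap_eq (fun _ => rfl)

instance : IsScalarTower Λ B (PK Λ A K) := IsScalarTower.of_algebraMap_eq (fun x => by
  change algebraMap B (B ⧸ K ^ 2) (algebraMap A B (algebraMap Λ A x)) = algebraMap B (B ⧸ K ^ 2) (algebraMap Λ B x)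
  rw [← IsScalarTower.algebraMap_apply Λ A B])

lemma algebraMap_B_PK_surjective : Function.Surjective (algebraMap B (PK Λ A K)) :=
  Ideal.Quotient.mk_surjective

lemma mk_eq_zero_of_mem {x : B} (hx : x ∈ K) : algebraMap B (B ⧸ K) x = 0 := by
  rw [Ideal.Quotient.algebraMap_eq, Ideal.Quotient.eq_zero_iff_mem]; exact hx

noncomputable def dFun : B ⧸ (K ^ 2).restrictScalars Λ →ₗ[Λ] MK Λ K :=
  Submodule.liftQ ((K ^ 2).restrictScalars Λ)
    (((TensorProduct.mk B (B ⧸ K) Ω[B⁄Λ] 1).restrictScalars Λ).comp (KaehlerDifferential.D Λ B).toLinearMap) (by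
    rintro x hx
    simp only [Submodule.restrictScalars_mem, pow_two] at hx
    simp only [LinearMap.mem_ker, LinearMap.coe_comp, LinearMap.coe_restrictScalars,
      Derivation.coeFn_coe, Function.comp_apply, mk_apply]
    refine Submodule.smul_induction_on hx ?_ ?_
    · intro x hx y hy
      simp only [smul_eq_mul, Derivation.leibniz, tmul_add, ← smul_tmul, Algebra.smul_def,
        mul_one, mk_eq_zero_of_mem K hx, mk_eq_zero_of_mem K hy, zero_tmul, zero_add]
    · intro x y hx hy; simp only [map_add, hx, hy, tmul_add, zero_add])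

noncomputable def dFun' (p : PK Λ A K) : MK Λ K := dFun Λ K p

lemma dFun'_mk (x : B) : dFun' Λ A K (algebraMap B (PK Λ A K) x) = 1 ⊗ₜ D Λ B x := rfl

noncomputable def derivPK : Derivation Λ (PK Λ A K) (MK Λ K) where
  toFun p := dFun' Λ A K p
  map_add' p q := map_add (dFun Λ K) p q
  map_smul' l p := by
    obtain ⟨b, rfl⟩ := algebraMap_B_PK_surjective Λ A K p
    have h : l • algebraMap B (PK Λ A K) b = algebraMap B (PK Λ A K) (l • b) :=
      (map_smul (IsScalarTower.toAlgHom Λ B (PK Λ A K)) l b).symm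
    rw [h, dFun'_mk, dFun'_mk, Derivation.map_smul, tmul_smul, RingHom.id_apply]
  map_one_eq_zero' := by
    change dFun' Λ A K (algebraMap B (PK Λ A K) 1) = 0
    rw [dFun'_mk]; simp
  leibniz' a b := by
    obtain ⟨a, rfl⟩ := algebraMap_B_PK_surjective Λ A K a
    obtain ⟨b, rfl⟩ := algebraMap_B_PK_surjective Λ A K b
    change dFun' Λ A K (algebraMap B (PK Λ A K) a * algebraMap B (PK Λ A K) b) =
      algebraMap B (PK Λ A K) a • dFun' Λ A K (algebraMap B (PK Λ A K) b) +
      algebraMap B (PK Λ A K) b • dFun' Λ A K (algebraMap B (PK Λ A K) a)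
    rw [← map_mul, dFun'_mk, dFun'_mk, dFun'_mk]
    simp only [IsScalarTower.algebraMap_smul,
      Derivation.leibniz, tmul_add, tmul_smul]

lemma derivPK_mk (x : B) : derivPK Λ A K (algebraMap B (PK Λ A K) x) = 1 ⊗ₜ D Λ B x := rfl

noncomputable def rho : (B ⧸ K) ⊗[PK Λ A K] Ω[PK Λ A K⁄Λ] →ₗ[B ⧸ K] MK Λ K :=
  AlgebraTensorModule.lift ((LinearMap.ringLmapEquivSelf (B ⧸ K) (B ⧸ K) _).symm
    (derivPK Λ A K).liftKaehlerDifferential)

lemma rho_tmul_D (c : B ⧸ K) (x : B) :
    rho Λ A K (c ⊗ₜ D Λ (PK Λ A K) (algebraMap B (PK Λ A K) x)) = c ⊗ₜ D Λ B x := by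
  change c • (derivPK Λ A K).liftKaehlerDifferential (D _ _ (algebraMap B (PK Λ A K) x)) = _
  rw [Derivation.liftKaehlerDifferential_comp_D, derivPK_mk, smul_tmul', smul_eq_mul, mul_one]

noncomputable def sigma : MK Λ K →ₗ[B ⧸ K] (B ⧸ K) ⊗[PK Λ A K] Ω[PK Λ A K⁄Λ] :=
  LinearMap.liftBaseChange (B ⧸ K)
    (((TensorProduct.mk (PK Λ A K) (B ⧸ K) Ω[PK Λ A K⁄Λ] 1).restrictScalars B).comp
      (KaehlerDifferential.map Λ Λ B (PK Λ A K)))

lemma sigma_tmul (c : B ⧸ K) (η : Ω[B⁄Λ]) :
    sigma Λ A K (c ⊗ₜ η) = c ⊗ₜ KaehlerDifferential.map Λ Λ B (PK Λ A K) η := by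
  rw [sigma, LinearMap.liftBaseChange_tmul]
  change c • ((1 : B ⧸ K) ⊗ₜ[PK Λ A K] _) = _
  rw [smul_tmul', smul_eq_mul, mul_one]

lemma rho_sigma (m : MK Λ K) : rho Λ A K (sigma Λ A K m) = m := by
  induction m using TensorProduct.induction_on with
  | zero => simp
  | add x y hx hy => rw [map_add, map_add, hx, hy]
  | tmul c η =>
    rw [sigma_tmul]
    have hη : η ∈ Submodule.span B (Set.range (D Λ B)) := by
      rw [KaehlerDifferential.span_range_derivation]; trivial
    revert c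
    refine Submodule.span_induction (p := fun η _ => ∀ c : B ⧸ K,
      rho Λ A K (c ⊗ₜ KaehlerDifferential.map Λ Λ B (PK Λ A K) η) = c ⊗ₜ η) ?_ ?_ ?_ ?_ hη
    · rintro _ ⟨x, rfl⟩ c
      rw [KaehlerDifferential.map_D, rho_tmul_D]
    · intro c; simp
    · intro x y _ _ hx hy c
      rw [map_add, tmul_add, map_add, hx, hy, tmul_add]
    · intro b x _ hx c
      rw [map_smul, ← IsScalarTower.algebraMap_smul (PK Λ A K) b, tmul_smul, smul_tmul', hx,
        tmul_smul, smul_tmul', IsScalarTower.algebraMap_smul]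

lemma sigma_rho (t : (B ⧸ K) ⊗[PK Λ A K] Ω[PK Λ A K⁄Λ]) : sigma Λ A K (rho Λ A K t) = t := by
  induction t using TensorProduct.induction_on with
  | zero => simp
  | add x y hx hy => rw [map_add, map_add, hx, hy]
  | tmul c ω =>
    have hω : ω ∈ Submodule.span (PK Λ A K) (Set.range (D Λ (PK Λ A K))) := by
      rw [KaehlerDifferential.span_range_derivation]; trivial
    revert c
    refine Submodule.span_induction (p := fun ω _ => ∀ c : B ⧸ K,
      sigma Λ A K (rho Λ A K (c ⊗ₜ ω)) = c ⊗ₜ ω) ?_ ?_ ?_ ?_ hω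
    · rintro _ ⟨x, rfl⟩ c
      obtain ⟨x, rfl⟩ := algebraMap_B_PK_surjective Λ A K x
      rw [rho_tmul_D, sigma_tmul, KaehlerDifferential.map_D]
    · intro c; simp
    · intro x y _ _ hx hy c
      rw [tmul_add, map_add, map_add, hx, hy]
    · intro p x _ hx c
      rw [tmul_smul, smul_tmul', hx]

lemma rho_injective : Function.Injective (rho Λ A K) :=
  Function.LeftInverse.injective (sigma_rho Λ A K)

noncomputable def tau : (B ⧸ K) ⊗[A] Ω[A⁄Λ] →ₗ[B ⧸ K] MK Λ K :=
  ((KaehlerDifferential.mapBaseChange Λ A B).baseChange (B ⧸ K)).comp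
    (TensorProduct.AlgebraTensorModule.cancelBaseChange A B (B ⧸ K) (B ⧸ K) Ω[A⁄Λ]).symm.toLinearMap

lemma tau_tmul (c : B ⧸ K) (ω : Ω[A⁄Λ]) :
    tau Λ A K (c ⊗ₜ ω) = c ⊗ₜ KaehlerDifferential.map Λ Λ A B ω := by
  rw [tau, LinearMap.comp_apply, LinearEquiv.coe_coe,
    TensorProduct.AlgebraTensorModule.cancelBaseChange_symm_tmul, LinearMap.baseChange_tmul,
    KaehlerDifferential.mapBaseChange_tmul, one_smul]

lemma rho_bctm (w : (B ⧸ K) ⊗[A] Ω[A⁄Λ]) :
    rho Λ A K ((XK A K).baseChangeToMiddle Λ w) = tau Λ A K w := by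
  induction w using TensorProduct.induction_on with
  | zero => simp
  | add x y hx hy => rw [map_add, map_add, map_add, hx, hy]
  | tmul c ω =>
    rw [tau_tmul]
    change rho Λ A K (c ⊗ₜ KaehlerDifferential.map Λ Λ A (PK Λ A K) ω) = _
    have hω : ω ∈ Submodule.span A (Set.range (D Λ A)) := by
      rw [KaehlerDifferential.span_range_derivation]; trivial
    revert c
    refine Submodule.span_induction (p := fun ω _ => ∀ c : B ⧸ K,
      rho Λ A K (c ⊗ₜ KaehlerDifferential.map Λ Λ A (PK Λ A K) ω) =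
        c ⊗ₜ KaehlerDifferential.map Λ Λ A B ω) ?_ ?_ ?_ ?_ hω
    · rintro _ ⟨x, rfl⟩ c
      rw [KaehlerDifferential.map_D, KaehlerDifferential.map_D,
        IsScalarTower.algebraMap_apply A B (PK Λ A K), rho_tmul_D]
    · intro c; simp
    · intro x y _ _ hx hy c
      rw [map_add, tmul_add, map_add, hx, hy, map_add, tmul_add]
    · intro a x _ hx c
      rw [map_smul, map_smul, ← IsScalarTower.algebraMap_smul (PK Λ A K) a, tmul_smul, smul_tmul', hx,
        ← IsScalarTower.algebraMap_smul B a (KaehlerDifferential.map Λ Λ A B x), tmul_smul,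
        smul_tmul', IsScalarTower.algebraMap_smul, IsScalarTower.algebraMap_smul]

lemma rho_deltaL (x : B) (hx : x ∈ K) :
    rho Λ A K ((XK A K).deltaL Λ (K.toCotangent ⟨x, hx⟩)) = 1 ⊗ₜ D Λ B x := by
  have h : (XK A K).inclC Λ (K.toCotangent ⟨x, hx⟩) = algebraMap B (PK Λ A K) x :=
    Ideal.toCotangent_to_quotient_square K ⟨x, hx⟩
  change rho Λ A K ((1 : B ⧸ K) ⊗ₜ D Λ (PK Λ A K) ((XK A K).inclC Λ (K.toCotangent ⟨x, hx⟩))) = _
  rw [h, rho_tmul_D]

end Inf

section Inf2

variable (Λ : Type u) (A : Type v) {B : Type v} [CommRing Λ] [CommRing A] [CommRing B] [Algebra Λ A]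
  [Algebra Λ B] [Algebra A B] [IsScalarTower Λ A B] (K : Ideal B)

lemma map_map (ω : Ω[A⁄Λ]) :
    KaehlerDifferential.map Λ Λ B (B ⧸ K) (KaehlerDifferential.map Λ Λ A B ω) =
      KaehlerDifferential.map Λ Λ A (B ⧸ K) ω := by
  have hω : ω ∈ Submodule.span A (Set.range (D Λ A)) := by
    rw [KaehlerDifferential.span_range_derivation]; trivial
  refine Submodule.span_induction (p := fun ω _ =>
    KaehlerDifferential.map Λ Λ B (B ⧸ K) (KaehlerDifferential.map Λ Λ A B ω) =
      KaehlerDifferential.map Λ Λ A (B ⧸ K) ω) ?_ ?_ ?_ ?_ hω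
  · rintro _ ⟨a, rfl⟩
    rw [KaehlerDifferential.map_D, KaehlerDifferential.map_D, KaehlerDifferential.map_D,
      ← IsScalarTower.algebraMap_apply]
  · simp
  · intro x y _ _ hx hy
    rw [map_add, map_add, map_add, hx, hy]
  · intro a x _ hx
    rw [map_smul, ← IsScalarTower.algebraMap_smul B a (KaehlerDifferential.map Λ Λ A B x), map_smul,
      IsScalarTower.algebraMap_smul, hx, map_smul]

lemma mapBaseChange_tau (w : (B ⧸ K) ⊗[A] Ω[A⁄Λ]) :
    KaehlerDifferential.mapBaseChange Λ B (B ⧸ K) (tau Λ A K w) =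
      KaehlerDifferential.mapBaseChange Λ A (B ⧸ K) w := by
  induction w using TensorProduct.induction_on with
  | zero => simp
  | add x y hx hy => rw [map_add, map_add, map_add, hx, hy]
  | tmul c ω =>
    rw [tau_tmul, KaehlerDifferential.mapBaseChange_tmul, KaehlerDifferential.mapBaseChange_tmul,
      map_map]

lemma exists_tau_eq (m : MK Λ K)
    (hm : (KaehlerDifferential.map Λ A B B).baseChange (B ⧸ K) m = 0) :
    ∃ w, tau Λ A K w = m := by
  have hex := KaehlerDifferential.exact_mapBaseChange_map Λ A B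
  have hex2 : Function.Exact ((KaehlerDifferential.mapBaseChange Λ A B).baseChange (B ⧸ K))
      ((KaehlerDifferential.map Λ A B B).baseChange (B ⧸ K)) := by
    have := lTensor_exact (B ⧸ K) hex (KaehlerDifferential.map_surjective Λ A B)
    intro y
    exact this y
  obtain ⟨t, ht⟩ := (hex2 m).mp hm
  refine ⟨TensorProduct.AlgebraTensorModule.cancelBaseChange A B (B ⧸ K) (B ⧸ K) Ω[A⁄Λ] t, ?_⟩
  rw [tau, LinearMap.comp_apply, LinearEquiv.coe_coe, LinearEquiv.symm_apply_apply, ht]

lemma map_baseChange_tau (w : (B ⧸ K) ⊗[A] Ω[A⁄Λ]) :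
    (KaehlerDifferential.map Λ A B B).baseChange (B ⧸ K) (tau Λ A K w) = 0 := by
  have hex := KaehlerDifferential.exact_mapBaseChange_map Λ A B
  rw [tau, LinearMap.comp_apply, ← LinearMap.comp_apply, ← LinearMap.baseChange_comp,
    hex.linearMap_comp_eq_zero, LinearMap.baseChange_zero, LinearMap.zero_apply]

end Inf2

end Groth.Agent.Lib.Helper9.CharHom
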