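import Mathlib
import Groth.Prelude.Def_EtRam
import Groth.Agent.Lib.Helper9.DvrExt

open TensorProduct

universe u

set_option linter.style.haveILetI false

namespace Groth.Agent.Lib.Helper9.DvrTower

open Groth.Agent.Lib.Helper9.DvrExt

theorem tmul_one_mem_nonZeroDivisors {B W C : Type*} [CommRing B] [CommRing W] [CommRing C]
    [Algebra B W] [Algebra B C] [IsDomain W] [Module.Flat B C] (w : W) (hw : w ≠ 0) :
    (w ⊗ₜ[B] (1 : C)) ∈ nonZeroDivisors (W ⊗[B] C) := by
  have hinj : Function.Injective (LinearMap.rTensor C (LinearMap.mulLeft B w)) :=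
    Module.Flat.rTensor_preserves_injective_linearMap _ (mul_right_injective₀ hw)
  have heq : ∀ x : W ⊗[B] C, LinearMap.rTensor C (LinearMap.mulLeft B w) x = (w ⊗ₜ[B] (1 : C)) * x := by
    intro x
    induction x using TensorProduct.induction_on with
    | zero => simp
    | tmul a c => simp [Algebra.TensorProduct.tmul_mul_tmul]
    | add a b ha hb => rw [map_add, ha, hb, mul_add]
  rw [mem_nonZeroDivisors_iff_right]
  intro x hx
  apply hinj
  rw [heq, map_zero, mul_comm]
  exact hx

theorem one_tmul_mem_nonZeroDivisors {B W C : Type*} [CommRing B] [CommRing W] [CommRing C]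
    [Algebra B W] [Algebra B C] [IsDomain C] [Module.Flat B W] (c : C) (hc : c ≠ 0) :
    ((1 : W) ⊗ₜ[B] c) ∈ nonZeroDivisors (W ⊗[B] C) := by
  have hinj : Function.Injective (LinearMap.lTensor W (LinearMap.mulLeft B c)) :=
    Module.Flat.lTensor_preserves_injective_linearMap _ (mul_right_injective₀ hc)
  have heq : ∀ x : W ⊗[B] C, LinearMap.lTensor W (LinearMap.mulLeft B c) x = ((1 : W) ⊗ₜ[B] c) * x := by
    intro x
    induction x using TensorProduct.induction_on with
    | zero => simp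
    | tmul a c => simp [Algebra.TensorProduct.tmul_mul_tmul]
    | add a b ha hb => rw [map_add, ha, hb, mul_add]
  rw [mem_nonZeroDivisors_iff_right]
  intro x hx
  apply hinj
  rw [heq, map_zero, mul_comm]
  exact hx

theorem exists_field_valuationSubring_of_primes {R₀ : Type u} [CommRing R₀] (𝔮₀ 𝔮 : Ideal R₀)
    [𝔮₀.IsPrime] [𝔮.IsPrime] (hle : 𝔮₀ ≤ 𝔮) :
    ∃ (M : Type u) (_ : Field M) (toM : R₀ →+* M) (W : ValuationSubring M),
      (∀ r, toM r = 0 ↔ r ∈ 𝔮₀) ∧ (∀ r, toM r ∈ W) ∧ (∀ r ∈ 𝔮, W.valuation (toM r) < 1) ∧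
      ∀ x : M, ∃ a b : R₀, toM b ≠ 0 ∧ x = toM a / toM b := by
  let toM : R₀ →+* FractionRing (R₀ ⧸ 𝔮₀) :=
    (algebraMap (R₀ ⧸ 𝔮₀) (FractionRing (R₀ ⧸ 𝔮₀))).comp (Ideal.Quotient.mk 𝔮₀)
  have htoM0 : ∀ r, toM r = 0 ↔ r ∈ 𝔮₀ := by
    intro r
    change algebraMap (R₀ ⧸ 𝔮₀) (FractionRing (R₀ ⧸ 𝔮₀)) (Ideal.Quotient.mk 𝔮₀ r) = 0 ↔ _
    rw [map_eq_zero_iff _ (IsFractionRing.injective (R₀ ⧸ 𝔮₀) (FractionRing (R₀ ⧸ 𝔮₀))),
      Ideal.Quotient.eq_zero_iff_mem]
  let ψ : Localization.AtPrime 𝔮 →+* FractionRing (R₀ ⧸ 𝔮₀) :=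
    IsLocalization.lift (M := 𝔮.primeCompl) (g := toM) (by
      rintro ⟨s, hs⟩
      rw [isUnit_iff_ne_zero, Ne, htoM0]
      exact fun h => hs (hle h))
  have hψ : ∀ r, ψ (algebraMap _ _ r) = toM r := fun r => IsLocalization.lift_eq _ r
  obtain ⟨W, hW, hloc⟩ := IsLocalRing.exists_factor_valuationRing ψ
  refine ⟨FractionRing (R₀ ⧸ 𝔮₀), inferInstance, toM, W, htoM0, fun r => hψ r ▸ hW _, ?_, ?_⟩
  · intro r hr
    have hmem : algebraMap R₀ (Localization.AtPrime 𝔮) r ∈
        IsLocalRing.maximalIdeal (Localization.AtPrime 𝔮) := by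
      rw [← Localization.AtPrime.map_eq_maximalIdeal]
      exact Ideal.mem_map_of_mem _ hr
    have h1 : ¬ IsUnit (algebraMap R₀ (Localization.AtPrime 𝔮) r) :=
      (IsLocalRing.mem_maximalIdeal _).1 hmem
    have h2 : ¬ IsUnit (ψ.codRestrict W.toSubring hW (algebraMap _ _ r)) := fun h =>
      h1 (hloc.map_nonunit _ h)
    rw [valuation_lt_one_iff']
    by_contra hcon
    push Not at hcon
    obtain ⟨hne, hinv⟩ := hcon
    apply h2
    refine isUnit_iff_exists_inv.2 ⟨⟨(toM r)⁻¹, hinv⟩, Subtype.ext ?_⟩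
    change ψ (algebraMap _ _ r) * (toM r)⁻¹ = 1
    rw [hψ, mul_inv_cancel₀ hne]
  · intro x
    obtain ⟨a, b, hb, rfl⟩ := IsFractionRing.div_surjective (A := R₀ ⧸ 𝔮₀) x
    obtain ⟨a, rfl⟩ := Ideal.Quotient.mk_surjective a
    obtain ⟨b, rfl⟩ := Ideal.Quotient.mk_surjective b
    refine ⟨a, b, ?_, rfl⟩
    change algebraMap (R₀ ⧸ 𝔮₀) (FractionRing (R₀ ⧸ 𝔮₀)) (Ideal.Quotient.mk 𝔮₀ b) ≠ 0
    rw [Ne, map_eq_zero_iff _ (IsFractionRing.injective (R₀ ⧸ 𝔮₀) (FractionRing (R₀ ⧸ 𝔮₀)))]
    exact nonZeroDivisors.ne_zero hb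

theorem exists_compositum
    {B C : Type u} [CommRing B] [IsDomain B] [IsDiscreteValuationRing B]
    [CommRing C] [IsDomain C] [IsDiscreteValuationRing C] [Algebra B C] [IsLocalHom (algebraMap B C)]
    (hinj : Function.Injective (algebraMap B C))
    {L M₀ M' : Type u} [Field L] [Field M₀] [Field M'] [Algebra B L] [IsFractionRing B L]
    [Algebra C M₀] [IsFractionRing C M₀] [Algebra L M₀] [Algebra B M₀] [IsScalarTower B C M₀]
    [IsScalarTower B L M₀] [Algebra L M'] (W' : ValuationSubring M') [IsDiscreteValuationRing W']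
    (hW' : EtRam.Dominates B ((algebraMap L M').comp (algebraMap B L)) W') :
    ∃ (M : Type u) (_ : Field M) (j₀ : M₀ →+* M) (j' : M' →+* M) (W : ValuationSubring M),
      j₀.comp (algebraMap L M₀) = j'.comp (algebraMap L M') ∧ W.comap j' = W' ∧
      EtRam.Dominates C (j₀.comp (algebraMap C M₀)) W ∧
      ∀ N : Subring M, (∀ x ∈ N, x⁻¹ ∈ N) → (∀ x, j₀ x ∈ N) → (∀ x, j' x ∈ N) → N = ⊤ := by
  classical
  letI algBW : Algebra B W' :=
    (RingHom.codRestrict ((algebraMap L M').comp (algebraMap B L)) W' hW'.1).toAlgebra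
  have hBW_apply : ∀ b : B, ((algebraMap B W' b : W') : M') = algebraMap L M' (algebraMap B L b) :=
    fun b => rfl
  have hlocBW : IsLocalHom (algebraMap B W') := isLocalHom_of_dominates _ W' hW'
  have hinjBW : Function.Injective (algebraMap B W') := by
    intro x y hxy
    have h1 := congrArg Subtype.val hxy
    rw [hBW_apply, hBW_apply] at h1
    exact IsFractionRing.injective B L ((algebraMap L M').injective h1)
  have : FaithfulSMul B W' := (faithfulSMul_iff_algebraMap_injective B W').2 hinjBW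
  have : FaithfulSMul B C := (faithfulSMul_iff_algebraMap_injective B C).2 hinj
  have : Module.FaithfullyFlat B C := Module.FaithfullyFlat.of_flat_of_isLocalHom
  -- Step 1
  obtain ⟨𝔮, h𝔮⟩ := PrimeSpectrum.comap_surjective_of_faithfullyFlat (A := W') (B := W' ⊗[B] C)
    (IsLocalRing.closedPoint W')
  have h𝔮W : 𝔮.asIdeal.comap (algebraMap W' (W' ⊗[B] C)) = IsLocalRing.maximalIdeal W' :=
    congrArg PrimeSpectrum.asIdeal h𝔮
  -- Step 2
  obtain ⟨𝔮₀, h𝔮₀min, h𝔮₀le⟩ := Ideal.exists_minimalPrimes_le (bot_le : ⊥ ≤ 𝔮.asIdeal)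
  have h𝔮₀prime : 𝔮₀.IsPrime := h𝔮₀min.1.1
  have hdisj := Ideal.disjoint_nonZeroDivisors_of_mem_minimalPrimes (R := W' ⊗[B] C) h𝔮₀min
  have hw_notin : ∀ w : W', w ≠ 0 → (w ⊗ₜ[B] (1 : C)) ∉ 𝔮₀ := fun w hw h =>
    Set.disjoint_left.1 hdisj h (tmul_one_mem_nonZeroDivisors w hw)
  have hc_notin : ∀ c : C, c ≠ 0 → ((1 : W') ⊗ₜ[B] c) ∉ 𝔮₀ := fun c hc h =>
    Set.disjoint_left.1 hdisj h (one_tmul_mem_nonZeroDivisors c hc)
  -- Step 3
  have h𝔮prime : 𝔮.asIdeal.IsPrime := 𝔮.isPrime
  obtain ⟨M, instM, toM, W, htoM0, hWmem, hWlt, hfrac⟩ :=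
    exists_field_valuationSubring_of_primes 𝔮₀ 𝔮.asIdeal h𝔮₀le
  let φ₁ : W' →+* M := toM.comp (algebraMap W' (W' ⊗[B] C))
  let φ₂ : C →+* M := toM.comp (Algebra.TensorProduct.includeRight : C →ₐ[B] W' ⊗[B] C).toRingHom
  have hφ₁ : ∀ w : W', φ₁ w = toM (w ⊗ₜ 1) := fun w => rfl
  have hφ₂ : ∀ c : C, φ₂ c = toM (1 ⊗ₜ c) := fun c => rfl
  have hφ₁inj : Function.Injective φ₁ := by
    rw [injective_iff_map_eq_zero]
    intro w hw
    by_contra hw0
    rw [hφ₁, htoM0] at hw
    exact hw_notin w hw0 hw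
  have hφ₂inj : Function.Injective φ₂ := by
    rw [injective_iff_map_eq_zero]
    intro c hc
    by_contra hc0
    rw [hφ₂, htoM0] at hc
    exact hc_notin c hc0 hc
  let j' : M' →+* M := IsFractionRing.lift (A := W') (K := M') hφ₁inj
  let j₀ : M₀ →+* M := IsFractionRing.lift (A := C) (K := M₀) hφ₂inj
  have hj' : ∀ w : W', j' (w : M') = φ₁ w := fun w => IsFractionRing.lift_algebraMap hφ₁inj w
  have hj₀ : ∀ c : C, j₀ (algebraMap C M₀ c) = φ₂ c := fun c =>
    IsFractionRing.lift_algebraMap hφ₂inj c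
  refine ⟨M, instM, j₀, j', W, ?_, ?_, ?_, ?_⟩
  · -- agreement on L
    apply IsLocalization.ringHom_ext (nonZeroDivisors B)
    refine RingHom.ext fun b => ?_
    simp only [RingHom.comp_apply]
    rw [← IsScalarTower.algebraMap_apply B L M₀, IsScalarTower.algebraMap_apply B C M₀, hj₀, hφ₂,
      ← hBW_apply, hj', hφ₁]
    congr 1
    rw [Algebra.algebraMap_eq_smul_one, Algebra.algebraMap_eq_smul_one, TensorProduct.smul_tmul]
  · -- W.comap j' = W'
    ext x
    rw [ValuationSubring.mem_comap]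
    constructor
    · intro hx
      by_contra hxW
      have hx0 : x ≠ 0 := fun h => hxW (h ▸ W'.zero_mem)
      have hinv : x⁻¹ ∈ W' := (W'.mem_or_inv_mem x).resolve_left hxW
      have hnu : (⟨x⁻¹, hinv⟩ : W') ∈ IsLocalRing.maximalIdeal W' := by
        rw [IsLocalRing.mem_maximalIdeal, mem_nonunits_iff]
        intro hu
        obtain ⟨y, hy⟩ := isUnit_iff_exists_inv.1 hu
        have h1 : x⁻¹ * (y : M') = 1 := congrArg Subtype.val hy
        have h2 : (y : M') = x := by
          field_simp at h1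
          exact h1
        exact hxW (h2 ▸ y.2)
      have hq : ((⟨x⁻¹, hinv⟩ : W') ⊗ₜ[B] (1 : C)) ∈ 𝔮.asIdeal := by
        have : (⟨x⁻¹, hinv⟩ : W') ∈ 𝔮.asIdeal.comap (algebraMap W' (W' ⊗[B] C)) := h𝔮W ▸ hnu
        exact this
      have hlt := hWlt _ hq
      rw [← hφ₁, ← hj'] at hlt
      have hle : W.valuation (j' x) ≤ 1 := (ValuationSubring.valuation_le_one_iff W _).2 hx
      have h1 : W.valuation (j' x) * W.valuation (j' ((⟨x⁻¹, hinv⟩ : W') : M')) = 1 := by
        rw [← map_mul, ← map_mul]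
        change W.valuation (j' (x * x⁻¹)) = 1
        rw [mul_inv_cancel₀ hx0, map_one, map_one]
      have h2 : W.valuation (j' x) * W.valuation (j' ((⟨x⁻¹, hinv⟩ : W') : M')) < 1 :=
        mul_lt_one_of_nonneg_of_lt_one_right hle zero_le hlt
      exact (ne_of_lt h2) h1
    · intro hx
      have := hj' ⟨x, hx⟩
      change j' x = _ at this
      rw [this, hφ₁]
      exact hWmem _
  · -- W dominates C
    have h𝔮C : 𝔮.asIdeal.comap
        (Algebra.TensorProduct.includeRight : C →ₐ[B] W' ⊗[B] C).toRingHom =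
        IsLocalRing.maximalIdeal C := by
      have hpr : (𝔮.asIdeal.comap
          (Algebra.TensorProduct.includeRight : C →ₐ[B] W' ⊗[B] C).toRingHom).IsPrime :=
        Ideal.comap_isPrime _ _
      apply IsLocalRing.eq_maximalIdeal
      apply Ideal.IsPrime.isMaximal hpr
      obtain ⟨b, hb0, hbm⟩ : ∃ b : B, b ≠ 0 ∧ b ∈ IsLocalRing.maximalIdeal B := by
        have hne : IsLocalRing.maximalIdeal B ≠ ⊥ := IsDiscreteValuationRing.not_a_field B
        obtain ⟨b, hb, hb0⟩ := Submodule.exists_mem_ne_zero_of_ne_bot hne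
        exact ⟨b, hb0, hb⟩
      intro hbot
      have hmem : algebraMap B C b ∈ 𝔮.asIdeal.comap
          (Algebra.TensorProduct.includeRight : C →ₐ[B] W' ⊗[B] C).toRingHom := by
        rw [Ideal.mem_comap]
        change (1 : W') ⊗ₜ[B] (algebraMap B C b) ∈ 𝔮.asIdeal
        have h1 : (1 : W') ⊗ₜ[B] (algebraMap B C b) = (algebraMap B W' b) ⊗ₜ[B] (1 : C) := by
          rw [Algebra.algebraMap_eq_smul_one, Algebra.algebraMap_eq_smul_one,
            TensorProduct.smul_tmul]
        rw [h1]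
        have h2 : algebraMap B W' b ∈ IsLocalRing.maximalIdeal W' := by
          rw [IsLocalRing.mem_maximalIdeal, mem_nonunits_iff]
          intro hu
          exact ((IsLocalRing.mem_maximalIdeal b).1 hbm) (hlocBW.map_nonunit b hu)
        have h3 : algebraMap B W' b ∈ 𝔮.asIdeal.comap (algebraMap W' (W' ⊗[B] C)) := h𝔮W ▸ h2
        exact h3
      rw [hbot, Ideal.mem_bot, map_eq_zero_iff _ hinj] at hmem
      exact hb0 hmem
    refine ⟨fun c => ?_, fun c hc => ?_⟩
    · rw [RingHom.comp_apply, hj₀, hφ₂]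
      exact hWmem _
    · rw [RingHom.comp_apply, hj₀, hφ₂]
      apply hWlt
      have : c ∈ 𝔮.asIdeal.comap
          (Algebra.TensorProduct.includeRight : C →ₐ[B] W' ⊗[B] C).toRingHom := h𝔮C ▸ hc
      exact this
  · -- generation
    intro N hNinv hN₀ hN'
    have htoMN : ∀ r : W' ⊗[B] C, toM r ∈ N := by
      intro r
      induction r using TensorProduct.induction_on with
      | zero => rw [map_zero]; exact N.zero_mem
      | tmul w c =>
        have : w ⊗ₜ[B] c = (w ⊗ₜ[B] (1 : C)) * ((1 : W') ⊗ₜ[B] c) := by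
          rw [Algebra.TensorProduct.tmul_mul_tmul, mul_one, one_mul]
        rw [this, map_mul, ← hφ₁, ← hφ₂, ← hj', ← hj₀]
        exact N.mul_mem (hN' _) (hN₀ _)
      | add a b ha hb => rw [map_add]; exact N.add_mem ha hb
    rw [eq_top_iff]
    intro x _
    obtain ⟨a, b, hb, rfl⟩ := hfrac x
    rw [div_eq_mul_inv]
    exact N.mul_mem (htoMN a) (hNinv _ (htoMN b))

theorem finiteDimensional_of_adjoin_eq_top {K L K₁ M : Type*} [Field K] [Field L] [Field K₁] [Field M]
    [Algebra K L] [Algebra K K₁] [Algebra K M] [Algebra L M] [Algebra K₁ M] [IsScalarTower K L M]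
    [IsScalarTower K K₁ M] [FiniteDimensional K K₁]
    (h : Algebra.adjoin L (Set.range (algebraMap K₁ M)) = ⊤) : FiniteDimensional L M := by
  classical
  let b := Module.finBasis K K₁
  let s : Set M := Set.range fun i => algebraMap K₁ M (b i)
  have hs : s.Finite := Set.finite_range _
  have hint : ∀ x ∈ s, IsIntegral L x := by
    rintro _ ⟨i, rfl⟩
    have h1 : IsIntegral K (b i) := Algebra.IsIntegral.isIntegral (b i)
    have h2 : IsIntegral K (algebraMap K₁ M (b i)) := h1.map (IsScalarTower.toAlgHom K K₁ M)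
    exact h2.tower_top
  have hle : Algebra.adjoin L (Set.range (algebraMap K₁ M)) ≤ Algebra.adjoin L s := by
    rw [Algebra.adjoin_le_iff]
    rintro _ ⟨k, rfl⟩
    rw [← b.sum_repr k, map_sum]
    refine Subalgebra.sum_mem _ fun i _ => ?_
    rw [Algebra.smul_def, map_mul, ← IsScalarTower.algebraMap_apply K K₁ M,
      IsScalarTower.algebraMap_apply K L M]
    exact Subalgebra.mul_mem _ (Subalgebra.algebraMap_mem _ _)
      (Algebra.subset_adjoin ⟨i, rfl⟩)
  have htop : Algebra.adjoin L s = ⊤ := eq_top_iff.2 (h ▸ hle)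
  have hfg := fg_adjoin_of_finite hs hint
  rw [htop] at hfg
  exact ⟨by simpa using hfg⟩

theorem mem_map_iff_of_valuationRing {A S : Type*} [CommRing A] [IsDomain A] [ValuationRing A]
    [CommRing S] (φ : A →+* S) (I : Ideal A) (y : S) :
    y ∈ I.map φ ↔ ∃ a ∈ I, ∃ w : S, y = φ a * w := by
  constructor
  · intro hy
    rw [Ideal.map] at hy
    induction hy using Submodule.span_induction with
    | mem y hy =>
      obtain ⟨a, ha, rfl⟩ := hy
      exact ⟨a, ha, 1, (mul_one _).symm⟩
    | zero => exact ⟨0, I.zero_mem, 0, by simp⟩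
    | add y z _ _ hy hz =>
      obtain ⟨a, ha, w, rfl⟩ := hy
      obtain ⟨a', ha', w', rfl⟩ := hz
      rcases ValuationRing.dvd_total a a' with ⟨c, rfl⟩ | ⟨c, rfl⟩
      · exact ⟨a, ha, w + φ c * w', by rw [map_mul]; ring⟩
      · exact ⟨a', ha', φ c * w + w', by rw [map_mul]; ring⟩
    | smul c y _ hy =>
      obtain ⟨a, ha, w, rfl⟩ := hy
      exact ⟨a, ha, c * w, by rw [smul_eq_mul]; ring⟩
  · rintro ⟨a, ha, w, rfl⟩
    exact Ideal.mul_mem_right _ _ (Ideal.mem_map_of_mem _ ha)

theorem isWeaklyUnramified_comap_iff {K₁ M : Type u} [Field K₁] [Field M] (W : ValuationSubring M)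
    (f : K₁ →+* M) :
    (letI : Algebra (W.comap f) W := (EtRam.inclOfComap W f).toAlgebra
     EtRam.IsWeaklyUnramified (W.comap f) W) ↔
    ∀ x : M, W.valuation x < 1 → ∃ a : K₁, W.valuation (f a) < 1 ∧ ∃ w ∈ W, x = f a * w := by
  letI : Algebra (W.comap f) W := (EtRam.inclOfComap W f).toAlgebra
  have halg : algebraMap (W.comap f) W = EtRam.inclOfComap W f := rfl
  have hmax : ∀ a : W.comap f, a ∈ IsLocalRing.maximalIdeal (W.comap f) ↔
      W.valuation (f (a : K₁)) < 1 := by
    intro a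
    rw [ValuationSubring.valuation_lt_one_iff, valuation_comap_lt_one_iff]
  unfold EtRam.IsWeaklyUnramified
  constructor
  · intro h x hx
    have hxW : x ∈ W := (ValuationSubring.valuation_le_one_iff W x).1 hx.le
    have hxm : (⟨x, hxW⟩ : W) ∈ IsLocalRing.maximalIdeal W :=
      (ValuationSubring.valuation_lt_one_iff W _).2 hx
    rw [← h, mem_map_iff_of_valuationRing] at hxm
    obtain ⟨a, ha, w, hw⟩ := hxm
    refine ⟨(a : K₁), (hmax a).1 ha, (w : M), w.2, ?_⟩
    have := congrArg Subtype.val hw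
    exact this
  · intro h
    apply le_antisymm
    · exact ((IsLocalRing.local_hom_TFAE (algebraMap (W.comap f) W)).out 0 2).1
        (halg ▸ EtRam.isLocalHom_inclOfComap W f)
    · intro y hy
      have hy' : W.valuation (y : M) < 1 := (ValuationSubring.valuation_lt_one_iff W y).1 hy
      obtain ⟨a, ha, w, hw, hyw⟩ := h _ hy'
      have haW : a ∈ W.comap f := (ValuationSubring.valuation_le_one_iff W _).1 ha.le
      rw [mem_map_iff_of_valuationRing]
      refine ⟨⟨a, haW⟩, (hmax ⟨a, haW⟩).2 ha, ⟨w, hw⟩, Subtype.ext ?_⟩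
      exact hyw


theorem forallLocalExt_tower (B C K L M₀ K₁ : Type u)
    [CommRing B] [IsDomain B] [IsDiscreteValuationRing B]
    [CommRing C] [IsDomain C] [IsDiscreteValuationRing C] [Algebra B C] [IsLocalHom (algebraMap B C)]
    (hinj : Function.Injective (algebraMap B C))
    [Field K] [Field L] [Field M₀] [Field K₁] [Algebra K L] [Algebra K M₀] [Algebra L M₀]
    [IsScalarTower K L M₀]
    [Algebra K K₁] [FiniteDimensional K K₁]
    [Algebra B L] [IsFractionRing B L]
    [Algebra C M₀] [IsFractionRing C M₀] [Algebra B M₀]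
    [IsScalarTower B C M₀] [IsScalarTower B L M₀]
    (P : ∀ (M : Type u) [Field M], ValuationSubring M → (K₁ →+* M) → Prop)
    (hP : ∀ (M' M : Type u) [Field M'] [Field M] (j' : M' →+* M) (W : ValuationSubring M)
      (f' : K₁ →+* M'), P M W (j'.comp f') → P M' (W.comap j') f') :
    EtRam.ForallLocalExt C K M₀ K₁ P → EtRam.ForallLocalExt B K L K₁ P := by
  intro hC M' _ _ _ _ _ _ hgen' W' hW'
  haveI : FiniteDimensional L M' := finiteDimensional_of_adjoin_eq_top (K := K) hgen'
  haveI : IsDiscreteValuationRing W' :=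
    isDiscreteValuationRing_of_dominates (A := B) (K := L) (L := M') W' hW'
  obtain ⟨M, instM, j₀, j', W, hagree, hWW', hdomC, hgenM⟩ := exists_compositum (C := C) (L := L) (M₀ := M₀) hinj W' hW'
  letI : Algebra M₀ M := j₀.toAlgebra
  letI : Algebra K₁ M := (j'.comp (algebraMap K₁ M')).toAlgebra
  letI : Algebra K M := (j₀.comp (algebraMap K M₀)).toAlgebra
  haveI : IsScalarTower K M₀ M := IsScalarTower.of_algebraMap_eq fun _ => rfl
  haveI : IsScalarTower K K₁ M := IsScalarTower.of_algebraMap_eq fun k => by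
    change j₀ (algebraMap K M₀ k) = j' (algebraMap K₁ M' (algebraMap K K₁ k))
    rw [IsScalarTower.algebraMap_apply K L M₀, ← IsScalarTower.algebraMap_apply K K₁ M',
      IsScalarTower.algebraMap_apply K L M']
    exact RingHom.congr_fun hagree _
  have hadj : Algebra.adjoin M₀ (Set.range (algebraMap K₁ M)) = ⊤ := by
    set S := Algebra.adjoin M₀ (Set.range (algebraMap K₁ M)) with hS
    have hint : S ≤ integralClosure M₀ M := by
      apply Algebra.adjoin_le
      rintro _ ⟨k, rfl⟩
      have h1 : IsIntegral K k := Algebra.IsIntegral.isIntegral k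
      have h2 : IsIntegral K (algebraMap K₁ M k) := h1.map (IsScalarTower.toAlgHom K K₁ M)
      exact h2.tower_top
    have hN := hgenM S.toSubring ?_ ?_ ?_
    · apply Subalgebra.toSubring_injective
      rw [hN]
      rfl
    · intro x hx
      have hx' : x ∈ S := hx
      have := Subalgebra.inv_mem_of_algebraic (A := S) (x := ⟨x, hx'⟩) (hint hx').isAlgebraic
      exact this
    · intro x
      exact S.algebraMap_mem x
    · intro x
      have hx : x ∈ (⊤ : Subalgebra L M') := Algebra.mem_top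
      rw [← hgen'] at hx
      induction hx using Algebra.adjoin_induction with
      | mem x hx =>
        obtain ⟨k, rfl⟩ := hx
        exact Algebra.subset_adjoin ⟨k, rfl⟩
      | algebraMap l =>
        have : j' (algebraMap L M' l) = algebraMap M₀ M (algebraMap L M₀ l) :=
          (RingHom.congr_fun hagree l).symm
        rw [this]
        exact S.algebraMap_mem _
      | add x y _ _ hx hy => rw [map_add]; exact S.add_mem hx hy
      | mul x y _ _ hx hy => rw [map_mul]; exact S.mul_mem hx hy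
  have hres := hC M hadj W hdomC
  subst hWW'
  exact hP M' M j' W (algebraMap K₁ M') hres

theorem isWeaklyUnramified_comap_of_comp {K₁ M' M : Type u} [Field K₁] [Field M'] [Field M]
    (j' : M' →+* M) (W : ValuationSubring M) (f' : K₁ →+* M')
    (h : letI : Algebra (W.comap (j'.comp f')) W := (EtRam.inclOfComap W (j'.comp f')).toAlgebra
      EtRam.IsWeaklyUnramified (W.comap (j'.comp f')) W) :
    letI : Algebra ((W.comap j').comap f') (W.comap j') :=
      (EtRam.inclOfComap (W.comap j') f').toAlgebra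
    EtRam.IsWeaklyUnramified ((W.comap j').comap f') (W.comap j') := by
  rw [isWeaklyUnramified_comap_iff] at h ⊢
  intro x' hx'
  rw [valuation_comap_lt_one_iff] at hx'
  obtain ⟨a, ha, w, hw, hxw⟩ := h _ hx'
  refine ⟨a, ?_, ?_⟩
  · rw [valuation_comap_lt_one_iff]
    exact ha
  · by_cases ha0 : f' a = 0
    · refine ⟨0, (W.comap j').zero_mem, ?_⟩
      rw [RingHom.comp_apply, ha0, map_zero, zero_mul, map_eq_zero] at hxw
      rw [hxw, mul_zero]
    · refine ⟨x' / f' a, ?_, ?_⟩
      · rw [ValuationSubring.mem_comap, map_div₀]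
        have : j' (f' a) ≠ 0 := by rwa [Ne, map_eq_zero]
        have hw' : w = j' x' / j' (f' a) := by
          rw [hxw, RingHom.comp_apply]
          field_simp
        rw [← hw']
        exact hw
      · field_simp

theorem isGeometricallyReduced_comap_of_comp {K₁ M' M : Type u} [Field K₁] [Field M'] [Field M]
    (j' : M' →+* M) (W : ValuationSubring M) (f' : K₁ →+* M')
    (h : @Algebra.IsGeometricallyReduced (IsLocalRing.ResidueField (W.comap (j'.comp f')))
        (IsLocalRing.ResidueField W) _ _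
        (IsLocalRing.ResidueField.map (EtRam.inclOfComap W (j'.comp f'))).toAlgebra) :
    @Algebra.IsGeometricallyReduced (IsLocalRing.ResidueField ((W.comap j').comap f'))
        (IsLocalRing.ResidueField (W.comap j')) _ _
        (IsLocalRing.ResidueField.map (EtRam.inclOfComap (W.comap j') f')).toAlgebra := by
  letI alg1 : Algebra (IsLocalRing.ResidueField ((W.comap j').comap f'))
      (IsLocalRing.ResidueField (W.comap j')) :=
    (IsLocalRing.ResidueField.map (EtRam.inclOfComap (W.comap j') f')).toAlgebra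
  letI alg2 : Algebra (IsLocalRing.ResidueField ((W.comap j').comap f'))
      (IsLocalRing.ResidueField W) :=
    (IsLocalRing.ResidueField.map (EtRam.inclOfComap W (j'.comp f'))).toAlgebra
  have h' : Algebra.IsGeometricallyReduced (IsLocalRing.ResidueField ((W.comap j').comap f'))
      (IsLocalRing.ResidueField W) := h
  let g : IsLocalRing.ResidueField (W.comap j') →ₐ[IsLocalRing.ResidueField ((W.comap j').comap f')]
      IsLocalRing.ResidueField W :=
    { IsLocalRing.ResidueField.map (EtRam.inclOfComap W j') with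
      commutes' := fun r => by
        change IsLocalRing.ResidueField.map (EtRam.inclOfComap W j')
          (IsLocalRing.ResidueField.map (EtRam.inclOfComap (W.comap j') f') r) =
          IsLocalRing.ResidueField.map (EtRam.inclOfComap W (j'.comp f')) r
        rw [IsLocalRing.ResidueField.map_map]
        rfl }
  exact Algebra.IsGeometricallyReduced.of_injective g (RingHom.injective g.toRingHom)

end Groth.Agent.Lib.Helper9.DvrTower
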