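import Mathlib
import Groth.Agent.Lib.Helper38.Tate

/-!
# Nagata descends along separable extensions of DVRs

`A → B` injective local hom of DVRs with `L/K` separable algebraic, `B` N-2 ⇒ `A` N-2 (hence Nagata).
-/

set_option autoImplicit false
universe u

namespace Groth.Agent.Lib.Helper9.DvrNagata

open CAlg

section Basic

/-- A domain that is a field is N-2. -/
theorem isN2_of_isField (R : Type u) [CommRing R] [IsDomain R] (hR : IsField R) : IsN2 R := by
  intro L _ _ _ _ hfd
  have hbij : Function.Bijective (algebraMap R (FractionRing R)) :=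
    IsField.localization_map_bijective (M := nonZeroDivisors R)
      (fun h => zero_notMem_nonZeroDivisors h) hR
  have h1 : Module.Finite R (FractionRing R) :=
    Module.Finite.of_surjective (Algebra.linearMap R (FractionRing R)) hbij.2
  have h2 : Module.Finite R L := Module.Finite.trans (FractionRing R) L
  have h3 : Algebra.IsIntegral R L := Algebra.IsIntegral.of_finite R L
  have h4 : integralClosure R L = ⊤ := integralClosure_eq_top_iff.mpr h3
  rw [h4]
  exact Module.Finite.equiv (Subalgebra.topEquiv (R := R) (A := L)).symm.toLinearEquiv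

/-- In a DVR, any nonzero element divides a power of any non-unit... -/
theorem exists_dvd_pow (B : Type*) [CommRing B] [IsDomain B] [IsDiscreteValuationRing B]
    (x b : B) (hx : ¬ IsUnit x) (hb : b ≠ 0) : ∃ m : ℕ, b ∣ x ^ m := by
  obtain ⟨ϖ, hϖ⟩ := IsDiscreteValuationRing.exists_irreducible B
  by_cases hx0 : x = 0
  · exact ⟨1, by rw [hx0, pow_one]; exact dvd_zero _⟩
  obtain ⟨n, u, hu⟩ := IsDiscreteValuationRing.eq_unit_mul_pow_irreducible hb hϖ
  obtain ⟨k, v, hv⟩ := IsDiscreteValuationRing.eq_unit_mul_pow_irreducible hx0 hϖ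
  have hk : k ≠ 0 := by
    rintro rfl
    apply hx
    rw [hv, pow_zero, mul_one]; exact v.isUnit
  refine ⟨n, ?_⟩
  have hkn : n ≤ k * n := Nat.le_mul_of_pos_left n (Nat.pos_of_ne_zero hk)
  rw [hv, hu, mul_pow, ← pow_mul]
  obtain ⟨j, hj⟩ := Nat.exists_eq_add_of_le hkn
  rw [hj, pow_add]
  refine ⟨(↑(v ^ n) : B) * ↑u⁻¹ * ϖ ^ j, ?_⟩
  have : (↑u : B) * ↑u⁻¹ = 1 := by simp
  calc (↑v : B) ^ n * (ϖ ^ n * ϖ ^ j) = ((↑u : B) * ↑u⁻¹) * (↑v ^ n * (ϖ ^ n * ϖ ^ j)) := by
        rw [this, one_mul]
    _ = ↑u * ϖ ^ n * (↑(v ^ n) * ↑u⁻¹ * ϖ ^ j) := by push_cast; ring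

end Basic

section Ext

variable (A B K L : Type u) [CommRing A] [IsDomain A] [IsDiscreteValuationRing A]
  [CommRing B] [IsDomain B] [IsDiscreteValuationRing B] [Algebra A B] [IsLocalHom (algebraMap A B)]
  [Field K] [Field L] [Algebra A K] [IsFractionRing A K] [Algebra B L] [IsFractionRing B L]
  [Algebra K L] [Algebra A L] [IsScalarTower A K L] [IsScalarTower A B L]

/-- `K ∩ B = A`. -/
theorem mem_range_of_mem_range (c : K) (b : B) (h : algebraMap K L c = algebraMap B L b) :
    ∃ a : A, algebraMap A K a = c := by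
  rcases ValuationRing.isInteger_or_isInteger A c with ⟨a, ha⟩ | ⟨a, ha⟩
  · exact ⟨a, ha⟩
  · by_cases hc : c = 0
    · exact ⟨0, by rw [hc, map_zero]⟩
    have hab : algebraMap A B a * b = 1 := by
      apply IsFractionRing.injective B L
      rw [map_mul, map_one, ← h, ← IsScalarTower.algebraMap_apply A B L,
        IsScalarTower.algebraMap_apply A K L, ha, ← map_mul, inv_mul_cancel₀ hc, map_one]
    have hu : IsUnit (algebraMap A B a) := IsUnit.of_mul_eq_one _ hab
    have hua : IsUnit a := isUnit_of_map_unit (algebraMap A B) a hu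
    obtain ⟨u, rfl⟩ := hua
    refine ⟨((u⁻¹ : Aˣ) : A), ?_⟩
    have h1 : algebraMap A K ((u⁻¹ : Aˣ) : A) * algebraMap A K (u : A) = 1 := by
      rw [← map_mul, Units.inv_mul, map_one]
    rw [ha] at h1
    exact (eq_inv_of_mul_eq_one_left h1).trans (inv_inv c)

end Ext

section Clear

variable (A B L : Type u) [CommRing A] [IsDomain A] [IsDiscreteValuationRing A]
  [CommRing B] [IsDomain B] [IsDiscreteValuationRing B] [Algebra A B] [IsLocalHom (algebraMap A B)]
  [Field L] [Algebra B L] [IsFractionRing B L] [Algebra A L] [IsScalarTower A B L]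

theorem exists_pow_mul_mem (ϖ : A) (hϖ : ¬ IsUnit ϖ) (l : L) :
    ∃ m : ℕ, ∀ m' : ℕ, m ≤ m' → algebraMap A L (ϖ ^ m') * l ∈ (algebraMap B L).range := by
  obtain ⟨b, b', hb', rfl⟩ := IsFractionRing.div_surjective (A := B) l
  have hb'0 : b' ≠ 0 := nonZeroDivisors.ne_zero hb'
  have hx : ¬ IsUnit (algebraMap A B ϖ) := fun h => hϖ (isUnit_of_map_unit (algebraMap A B) ϖ h)
  obtain ⟨m, q, hq⟩ := exists_dvd_pow B (algebraMap A B ϖ) b' hx hb'0
  refine ⟨m, fun m' hm' => ?_⟩
  obtain ⟨j, rfl⟩ := Nat.exists_eq_add_of_le hm'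
  refine ⟨q * algebraMap A B ϖ ^ j * b, ?_⟩
  have hb'L : algebraMap B L b' ≠ 0 := by
    rw [Ne, map_eq_zero_iff _ (IsFractionRing.injective B L)]; exact hb'0
  rw [IsScalarTower.algebraMap_apply A B L, map_pow, pow_add, hq]
  rw [map_mul, map_mul, map_mul, map_mul]
  field_simp

theorem exists_pow_mul_mem_finite {ι : Type*} [Finite ι] (ϖ : A) (hϖ : ¬ IsUnit ϖ) (f : ι → L) :
    ∃ m : ℕ, ∀ i, algebraMap A L (ϖ ^ m) * f i ∈ (algebraMap B L).range := by
  classical
  cases nonempty_fintype ι
  choose m hm using fun i => exists_pow_mul_mem A B L ϖ hϖ (f i)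
  exact ⟨Finset.univ.sup m, fun i => hm i _ (Finset.le_sup (Finset.mem_univ i))⟩

end Clear

section Core

variable (A B K L : Type u) [CommRing A] [IsDomain A] [IsDiscreteValuationRing A]
  [CommRing B] [IsDomain B] [IsDiscreteValuationRing B] [Algebra A B] [IsLocalHom (algebraMap A B)]
  [Field K] [Field L] [Algebra A K] [IsFractionRing A K] [Algebra B L] [IsFractionRing B L]
  [Algebra K L] [Algebra A L] [IsScalarTower A K L] [IsScalarTower A B L]

/-- linear independence of a `K`-basis of a purely inseparable `P` over the separable `L`,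
inside an extension `Ω` of both. -/
theorem linearIndependent_of_pi [Algebra.IsSeparable K L]
    (P : Type u) [Field P] [Algebra K P] [IsPurelyInseparable K P]
    (Ω : Type u) [Field Ω] [Algebra K Ω] [Algebra L Ω] [IsScalarTower K L Ω]
    [Algebra P Ω] [IsScalarTower K P Ω]
    {ι : Type*} (b : ι → P) (hb : LinearIndependent K b) :
    LinearIndependent L (fun i => algebraMap P Ω (b i)) := by
  let S : IntermediateField K Ω := (IsScalarTower.toAlgHom K L Ω).fieldRange
  haveI : Algebra.IsSeparable K S :=
    AlgEquiv.Algebra.isSeparable (AlgEquiv.ofInjectiveField (IsScalarTower.toAlgHom K L Ω))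
  have H : S.LinearDisjoint P := S.linearDisjoint_of_isPurelyInseparable_of_isSeparable P
  have H' := H.symm'
  have ha : LinearIndependent K
      (fun i => (⟨algebraMap P Ω (b i), ⟨b i, rfl⟩⟩ : (IsScalarTower.toAlgHom K P Ω).fieldRange)) := by
    have := hb.map' (AlgHom.rangeRestrict (IsScalarTower.toAlgHom K P Ω)).toLinearMap
      (LinearMap.ker_eq_bot_of_injective
        (AlgHom.injective_codRestrict _ _ _ |>.mpr (IsScalarTower.toAlgHom K P Ω).injective))
    exact this
  exact H'.linearIndependent_left ha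

/-- **Core**: the integral closure of `A` in a finite purely inseparable extension of `K` is finite,
if `B` is N-2 (in the form `hB`) and `L/K` is separable. -/
theorem finite_integralClosure_pi [Algebra.IsSeparable K L]
    (hB : ∀ (L' : Type u) [Field L'] [Algebra B L'] [Algebra L L'] [IsScalarTower B L L']
      [FiniteDimensional L L'], Module.Finite B (integralClosure B L'))
    (P : Type u) [Field P] [Algebra A P] [Algebra K P] [IsScalarTower A K P]
    [FiniteDimensional K P] [IsPurelyInseparable K P] :
    Module.Finite A (integralClosure A P) := by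
  classical
  let Ω := AlgebraicClosure L
  let σ : P →ₐ[K] Ω := IsAlgClosed.lift
  letI : Algebra P Ω := σ.toRingHom.toAlgebra
  haveI : IsScalarTower K P Ω := IsScalarTower.of_algebraMap_eq (fun c => (σ.commutes c).symm)
  haveI : IsScalarTower A P Ω := IsScalarTower.of_algebraMap_eq (fun a => by
    rw [IsScalarTower.algebraMap_apply A K Ω, IsScalarTower.algebraMap_apply A K P,
      IsScalarTower.algebraMap_apply K P Ω])
  obtain ⟨s, b, hb⟩ := FiniteDimensional.exists_is_basis_integral A K P
  let w : s → Ω := fun i => algebraMap P Ω (b i)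
  have hw : LinearIndependent L w := linearIndependent_of_pi K L P Ω b b.linearIndependent
  have hwint : ∀ i, IsIntegral B (w i) := fun i => (hb i).algebraMap.tower_top
  -- the compositum
  let L₁ : IntermediateField L Ω := IntermediateField.adjoin L (Set.range w)
  haveI : FiniteDimensional L L₁ := IntermediateField.finiteDimensional_adjoin (by
    rintro x ⟨i, rfl⟩
    exact ((hb i).algebraMap (B := Ω)).tower_top)
  have hfin : Module.Finite B (integralClosure B L₁) := hB L₁
  -- a finite set of generators, seen in Ω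
  obtain ⟨T₁, hT₁⟩ := hfin.fg_top
  haveI : IsScalarTower B L₁ Ω := IsScalarTower.of_algebraMap_eq (fun b => rfl)
  let ψ : integralClosure B L₁ →ₗ[B] Ω :=
    (IsScalarTower.toAlgHom B L₁ Ω).toLinearMap.comp (integralClosure B L₁).val.toLinearMap
  let T : Finset Ω := T₁.image ψ
  have hT : ∀ y : Ω, y ∈ L₁ → IsIntegral B y → y ∈ Submodule.span B (T : Set Ω) := by
    intro y hy hyint
    have h1 : IsIntegral B (⟨y, hy⟩ : L₁) := by
      rw [← isIntegral_algebraMap_iff (B := Ω) (algebraMap L₁ Ω).injective]
      exact hyint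
    have h2 : (⟨⟨y, hy⟩, h1⟩ : integralClosure B L₁) ∈ Submodule.span B (T₁ : Set _) := by
      rw [hT₁]; exact Submodule.mem_top
    have h3 := Submodule.apply_mem_span_image_of_mem_span ψ h2
    have h4 : ψ ⟨⟨y, hy⟩, h1⟩ = y := rfl
    rw [h4] at h3
    change y ∈ Submodule.span B ((T₁.image ψ : Finset Ω) : Set Ω)
    rwa [Finset.coe_image]
  -- coordinate functionals
  obtain ⟨g, hg⟩ := LinearMap.exists_leftInverse_of_injective (Finsupp.linearCombination L w)
    (linearIndependent_iff_ker.mp hw)
  -- the uniformizer and the exponent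
  obtain ⟨ϖ, hϖ⟩ := IsDiscreteValuationRing.exists_irreducible A
  obtain ⟨m, hm⟩ := exists_pow_mul_mem_finite A B L ϖ hϖ.not_isUnit
    (fun p : s × T => g (p.2 : Ω) p.1)
  have hclaim2 : ∀ y ∈ Submodule.span B (T : Set Ω), ∀ i,
      algebraMap A L (ϖ ^ m) * g y i ∈ (algebraMap B L).range := by
    intro y hy i
    induction hy using Submodule.span_induction with
    | mem y hy => exact hm (i, ⟨y, hy⟩)
    | zero => simp
    | add y y' _ _ ih ih' =>
      rw [map_add, Finsupp.add_apply, mul_add]
      exact add_mem ih ih'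
    | smul β y _ ih =>
      rw [← algebraMap_smul L β y, map_smul, Finsupp.smul_apply, smul_eq_mul, mul_left_comm]
      exact mul_mem ⟨β, rfl⟩ ih
  -- coordinates of integral elements
  have hclaim3 : ∀ x : P, IsIntegral A x → ∀ i,
      ∃ a : A, algebraMap A K a = algebraMap A K (ϖ ^ m) * b.repr x i := by
    intro x hx i
    have hy : algebraMap P Ω x =
        Finsupp.linearCombination L w ((b.repr x).mapRange (algebraMap K L) (map_zero _)) := by
      conv_lhs => rw [← b.sum_repr x]
      rw [map_sum, Finsupp.linearCombination_apply, Finsupp.sum_fintype _ _ (by simp)]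
      refine Finset.sum_congr rfl fun j _ => ?_
      rw [Finsupp.mapRange_apply, Algebra.smul_def, map_mul, ← IsScalarTower.algebraMap_apply K P Ω,
        IsScalarTower.algebraMap_apply K L Ω, ← Algebra.smul_def]
    have hyL₁ : algebraMap P Ω x ∈ L₁ := by
      rw [hy, Finsupp.linearCombination_apply, Finsupp.sum_fintype _ _ (by simp)]
      refine sum_mem fun j _ => ?_
      exact L₁.smul_mem (IntermediateField.subset_adjoin L _ ⟨j, rfl⟩)
    have hyint : IsIntegral B (algebraMap P Ω x) := (hx.algebraMap (B := Ω)).tower_top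
    have h1 := hclaim2 _ (hT _ hyL₁ hyint) i
    have h2 : g (algebraMap P Ω x) = (b.repr x).mapRange (algebraMap K L) (map_zero _) := by
      rw [hy]; exact LinearMap.congr_fun hg _
    rw [h2, Finsupp.mapRange_apply, IsScalarTower.algebraMap_apply A K L, ← map_mul] at h1
    obtain ⟨β, hβ⟩ := h1
    exact mem_range_of_mem_range A B K L _ β hβ.symm
  -- the embedding into the finite module
  let F : Submodule A P := Submodule.span A (Set.range b)
  haveI : Module.Finite A F := Module.Finite.span_of_finite A (Set.finite_range b)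
  have hmem : ∀ x : integralClosure A P, ϖ ^ m • (x : P) ∈ F := by
    intro x
    choose a ha using hclaim3 x x.2
    have : ϖ ^ m • (x : P) = ∑ i, a i • b i := by
      conv_lhs => rw [← b.sum_repr (x : P)]
      rw [Finset.smul_sum]
      refine Finset.sum_congr rfl fun i _ => ?_
      rw [← smul_assoc, ← algebraMap_smul K (a i) (b i), ha i, Algebra.smul_def (ϖ ^ m)]
    rw [this]
    exact sum_mem fun i _ => Submodule.smul_mem _ _ (Submodule.subset_span ⟨i, rfl⟩)
  let f : integralClosure A P →ₗ[A] F :=
    LinearMap.codRestrict F ((LinearMap.lsmul A P (ϖ ^ m)).comp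
      (integralClosure A P).val.toLinearMap) hmem
  have hinjAP : Function.Injective (algebraMap A P) := by
    rw [IsScalarTower.algebraMap_eq A K P]
    exact (algebraMap K P).injective.comp (IsFractionRing.injective A K)
  have hfinj : Function.Injective f := by
    intro x x' hxx'
    have h1 : ϖ ^ m • (x : P) = ϖ ^ m • (x' : P) := congrArg Subtype.val hxx'
    rw [Algebra.smul_def, Algebra.smul_def] at h1
    have h2 : algebraMap A P (ϖ ^ m) ≠ 0 := by
      rw [Ne, map_eq_zero_iff _ hinjAP]
      exact pow_ne_zero _ hϖ.ne_zero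
    exact Subtype.ext (mul_left_cancel₀ h2 h1)
  exact Module.Finite.of_injective f hfinj


/-- `B` N-2 ⇒ `A` N-2, for `A → B` an extension of DVRs with `L/K` separable. -/
theorem isN2_of_isN2 [Algebra.IsSeparable K L] (hB : IsN2 B) : IsN2 A := by
  -- N-2 of `B` in the convenient form
  have hB' : ∀ (L' : Type u) [Field L'] [Algebra B L'] [Algebra L L'] [IsScalarTower B L L']
      [FiniteDimensional L L'], Module.Finite B (integralClosure B L') := by
    intro L' _ _ _ _ _
    letI : Algebra (FractionRing B) L' :=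
      ((algebraMap L L').comp (FractionRing.algEquiv B L).toRingEquiv.toRingHom).toAlgebra
    haveI : IsScalarTower B (FractionRing B) L' := IsScalarTower.of_algebraMap_eq (fun b => by
      simp [RingHom.algebraMap_toAlgebra, IsScalarTower.algebraMap_apply B L L'])
    have hfd : FiniteDimensional (FractionRing B) L' :=
      Module.Finite.of_equiv_equiv (FractionRing.algEquiv B L).symm.toRingEquiv (RingEquiv.refl L')
        (by ext x; simp [RingHom.algebraMap_toAlgebra])
    exact hB L' hfd
  apply Groth.Agent.Lib.Helper38.InsepReduction.isN2_of_purelyInseparable A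
  intro P _ _ _ _ hfd hpi
  letI algFL : Algebra (FractionRing A) L :=
    ((algebraMap K L).comp (FractionRing.algEquiv A K).toRingEquiv.toRingHom).toAlgebra
  haveI : IsScalarTower A (FractionRing A) L := IsScalarTower.of_algebraMap_eq (fun a => by
    simp [RingHom.algebraMap_toAlgebra, IsScalarTower.algebraMap_apply A K L])
  haveI : Algebra.IsSeparable (FractionRing A) L :=
    Algebra.IsSeparable.of_equiv_equiv (FractionRing.algEquiv A K).symm.toRingEquiv
      (RingEquiv.refl L) (by ext x; simp [RingHom.algebraMap_toAlgebra])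
  exact finite_integralClosure_pi A B (FractionRing A) L hB' P

/-- `B` Nagata ⇒ `A` Nagata. -/
theorem isNagata_of_isNagata [Algebra.IsSeparable K L] (hB : IsNagata B) : IsNagata A := by
  have hB2 : IsN2 B :=
    Groth.Agent.Lib.Helper38.Tate.isN2_of_ringEquiv (RingEquiv.quotientBot B) (hB.2 ⊥)
  have hA2 : IsN2 A := isN2_of_isN2 A B K L hB2
  refine ⟨inferInstance, fun p hp => ?_⟩
  by_cases hp0 : p = ⊥
  · subst hp0
    exact Groth.Agent.Lib.Helper38.Tate.isN2_of_ringEquiv (RingEquiv.quotientBot A).symm hA2
  · have hmax : p.IsMaximal := hp.isMaximal hp0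
    exact isN2_of_isField _ ((Ideal.Quotient.maximal_ideal_iff_isField_quotient p).mp hmax)


end Core

end Groth.Agent.Lib.Helper9.DvrNagata
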