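import Mathlib
import Groth.Prelude.Def_EtRam
import Groth.Prelude.Def_Found
import Groth.Agent.Lib.Helper9.DvrExt
import Groth.Agent.Lib.Helper9.DvrNagata

/-!
# Purely inseparable degree `p` extensions of DVRs (Epp's trichotomy, local part)

`B ⊂ C` DVRs with fraction fields `L ⊂ M`, `M/L` purely inseparable of prime degree `p`.

* `pow_mem_B`: `c ^ p ∈ B` for `c ∈ C`.
* `dichotomy`: `e(C/B) = 1` or (`e(C/B) = p` and a uniformizer `c` of `C` has `c ^ p = ϖ u`).
* `residue_surj`: if `e = p` the residue field extension is trivial.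
* `mod_step`: improving the congruence `c ^ p = ϖ (1 + ϖ ^ k u₁)` when `u₁` is a `p`-th power
  modulo `ϖ`.
* `exists_root_of_forall`: if `B` is Nagata and the congruence can be solved for all `k`, then `ϖ`
  has a `p`-th root in `C`.
* `adjoin_eq_top`: `C = B[c]` for `c ^ p = ϖ`.
-/

set_option autoImplicit false
set_option linter.unusedSectionVars false
set_option linter.style.haveILetI false
set_option linter.overlappingInstances false

universe u

open Polynomial

namespace Groth.Agent.Lib.Helper9.EppInsep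

open Groth.Agent.Lib.Helper9.DvrExt

local notation "𝔪" => IsLocalRing.maximalIdeal
local notation "κ" => IsLocalRing.ResidueField

section Nagata

open CAlg in
/-- For a Nagata domain, the integral closure in a finite extension of the fraction field is a
finite module. -/
theorem finite_integralClosure_of_isNagata (B : Type u) [CommRing B] [IsDomain B]
    (hB : CAlg.IsNagata B) (L N : Type u) [Field L] [Algebra B L] [IsFractionRing B L]
    [Field N] [Algebra L N] [Algebra B N] [IsScalarTower B L N] [FiniteDimensional L N] :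
    Module.Finite B (integralClosure B N) := by
  haveI : (⊥ : Ideal B).IsPrime := Ideal.isPrime_bot
  have hN2 := hB.2 ⊥
  let e : (B ⧸ (⊥ : Ideal B)) ≃+* B := RingEquiv.quotientBot B
  have he : ∀ b : B, e (Ideal.Quotient.mk ⊥ b) = b := fun b => rfl
  letI algQN : Algebra (B ⧸ (⊥ : Ideal B)) N := ((algebraMap B N).comp e.toRingHom).toAlgebra
  letI algQL : Algebra (B ⧸ (⊥ : Ideal B)) L := ((algebraMap B L).comp e.toRingHom).toAlgebra
  haveI : IsScalarTower (B ⧸ (⊥ : Ideal B)) L N := IsScalarTower.of_algebraMap_eq (fun x => by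
    change algebraMap B N (e x) = algebraMap L N (algebraMap B L (e x))
    rw [← IsScalarTower.algebraMap_apply])
  haveI : IsScalarTower B (B ⧸ (⊥ : Ideal B)) N := IsScalarTower.of_algebraMap_eq (fun b => by
    change algebraMap B N b = algebraMap B N (e (Ideal.Quotient.mk ⊥ b))
    rw [he])
  have hinjQL : Function.Injective (algebraMap (B ⧸ (⊥ : Ideal B)) L) :=
    (IsFractionRing.injective B L).comp e.injective
  have hinjQN : Function.Injective (algebraMap (B ⧸ (⊥ : Ideal B)) N) := by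
    rw [IsScalarTower.algebraMap_eq (B ⧸ (⊥ : Ideal B)) L N]
    exact (algebraMap L N).injective.comp hinjQL
  haveI : FaithfulSMul (B ⧸ (⊥ : Ideal B)) L := (faithfulSMul_iff_algebraMap_injective _ _).2 hinjQL
  haveI : FaithfulSMul (B ⧸ (⊥ : Ideal B)) N := (faithfulSMul_iff_algebraMap_injective _ _).2 hinjQN
  letI := FractionRing.liftAlgebra (B ⧸ (⊥ : Ideal B)) L
  letI := FractionRing.liftAlgebra (B ⧸ (⊥ : Ideal B)) N
  haveI := FractionRing.isScalarTower_liftAlgebra (B ⧸ (⊥ : Ideal B)) L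
  haveI := FractionRing.isScalarTower_liftAlgebra (B ⧸ (⊥ : Ideal B)) N
  haveI : IsScalarTower (FractionRing (B ⧸ (⊥ : Ideal B))) L N := inferInstance
  have hsurj : Function.Surjective (algebraMap (FractionRing (B ⧸ (⊥ : Ideal B))) L) := by
    intro x
    obtain ⟨a, b, hb, rfl⟩ := IsFractionRing.div_surjective (A := B) x
    refine ⟨algebraMap (B ⧸ (⊥ : Ideal B)) (FractionRing (B ⧸ (⊥ : Ideal B))) (Ideal.Quotient.mk ⊥ a) /
      algebraMap (B ⧸ (⊥ : Ideal B)) (FractionRing (B ⧸ (⊥ : Ideal B))) (Ideal.Quotient.mk ⊥ b), ?_⟩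
    rw [map_div₀, ← IsScalarTower.algebraMap_apply, ← IsScalarTower.algebraMap_apply]
    rfl
  haveI : Module.Finite (FractionRing (B ⧸ (⊥ : Ideal B))) L :=
    Module.Finite.of_surjective (Algebra.linearMap (FractionRing (B ⧸ (⊥ : Ideal B))) L) hsurj
  haveI : FiniteDimensional (FractionRing (B ⧸ (⊥ : Ideal B))) N := Module.Finite.trans L N
  have hfin0 : Module.Finite (B ⧸ (⊥ : Ideal B)) (integralClosure (B ⧸ (⊥ : Ideal B)) N) :=
    hN2 N inferInstance
  have hqs : Function.Surjective (algebraMap B (B ⧸ (⊥ : Ideal B))) := Ideal.Quotient.mk_surjective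
  haveI : Module.Finite B (B ⧸ (⊥ : Ideal B)) :=
    Module.Finite.of_surjective (Algebra.linearMap B (B ⧸ (⊥ : Ideal B))) hqs
  haveI : Algebra.IsIntegral B (B ⧸ (⊥ : Ideal B)) := Algebra.IsIntegral.of_finite _ _
  have hfg : (integralClosure (B ⧸ (⊥ : Ideal B)) N).toSubmodule.FG := Module.Finite.iff_fg.1 hfin0
  have hfg2 := hfg.restrictScalars_of_surjective (R := B) hqs
  have heq : (integralClosure B N).toSubmodule =
      (integralClosure (B ⧸ (⊥ : Ideal B)) N).toSubmodule.restrictScalars B := by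
    ext x
    change IsIntegral B x ↔ IsIntegral (B ⧸ (⊥ : Ideal B)) x
    exact ⟨fun h => h.tower_top, fun h => isIntegral_trans x h⟩
  have hfg3 : (integralClosure B N).toSubmodule.FG := by rw [heq]; exact hfg2
  exact Module.Finite.iff_fg.2 hfg3

end Nagata

section Field

variable {L M : Type u} [Field L] [Field M] [Algebra L M] [IsPurelyInseparable L M]
  {p : ℕ} (hp : p.Prime) (hdeg : Module.finrank L M = p)

include hp hdeg in
theorem finiteDimensional : FiniteDimensional L M :=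
  Module.finite_of_finrank_pos (by rw [hdeg]; exact hp.pos)

include hp hdeg in
theorem expChar : ExpChar L p := by
  haveI := finiteDimensional hp hdeg
  haveI hq : ExpChar L (ringExpChar L) := ringExpChar.expChar L
  obtain ⟨n, hn⟩ := IsPurelyInseparable.finrank_eq_pow (F := L) M (ringExpChar L)
  rw [hdeg] at hn
  obtain ⟨h1, -⟩ := (hp.pow_eq_iff).1 hn.symm
  rw [← h1]
  exact hq

include hp hdeg in
theorem charP : CharP L p := by
  haveI := expChar hp hdeg
  rcases ‹ExpChar L p› with _ | ⟨hprime⟩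
  · exact absurd hp Nat.not_prime_one
  · assumption

include hp hdeg in
theorem pow_mem (x : M) : ∃ l : L, algebraMap L M l = x ^ p := by
  haveI := finiteDimensional hp hdeg
  haveI := expChar hp hdeg
  obtain ⟨n, y, hy⟩ := IsPurelyInseparable.minpoly_eq_X_pow_sub_C L p x
  have hint : IsIntegral L x := Algebra.IsIntegral.isIntegral x
  have hdvd := minpoly.degree_dvd hint
  have hnd : (minpoly L x).natDegree = p ^ n := by
    rw [hy, natDegree_X_pow_sub_C]
  rw [hnd, hdeg] at hdvd
  have hroot : x ^ p ^ n = algebraMap L M y := by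
    have := minpoly.aeval L x
    rw [hy, map_sub, map_pow, aeval_X, aeval_C, sub_eq_zero] at this
    exact this
  rcases (Nat.dvd_prime hp).1 hdvd with h1 | h1
  · rw [h1, pow_one] at hroot
    exact ⟨y ^ p, by rw [map_pow, hroot]⟩
  · rw [h1] at hroot
    exact ⟨y, hroot.symm⟩

end Field

section DVR

variable {B C L M : Type u} [CommRing B] [IsDomain B] [IsDiscreteValuationRing B]
  [CommRing C] [IsDomain C] [IsDiscreteValuationRing C] [Algebra B C] [IsLocalHom (algebraMap B C)]
  [Field L] [Field M] [Algebra B L] [IsFractionRing B L] [Algebra C M] [IsFractionRing C M]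
  [Algebra L M] [Algebra B M] [IsScalarTower B L M] [IsScalarTower B C M]
  [IsPurelyInseparable L M]
  {p : ℕ} (hp : p.Prime) (hdeg : Module.finrank L M = p)
  (hBC : Function.Injective (algebraMap B C))

include hp hdeg in
theorem charP_B : CharP B p := by
  haveI := charP hp hdeg
  exact (RingHom.charP_iff (algebraMap B L) (IsFractionRing.injective B L) p).2 inferInstance

include hp hdeg in
theorem charP_M : CharP M p := by
  haveI := charP hp hdeg
  exact charP_of_injective_algebraMap (algebraMap L M).injective p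

include hp hdeg in
theorem charP_C : CharP C p := by
  haveI := charP_M (L := L) (M := M) hp hdeg
  have h := (IsFractionRing.injective C M)
  exact (RingHom.charP_iff (algebraMap C M) h p).2 inferInstance

include hp hdeg in
theorem pow_mem_B (c : C) : ∃ b : B, algebraMap B C b = c ^ p := by
  obtain ⟨l, hl⟩ := pow_mem hp hdeg (algebraMap C M c)
  rw [← map_pow] at hl
  obtain ⟨b, hb⟩ := Groth.Agent.Lib.Helper9.DvrNagata.mem_range_of_mem_range B C L M l (c ^ p) hl
  refine ⟨b, IsFractionRing.injective C M ?_⟩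
  rw [← hl, ← hb, ← IsScalarTower.algebraMap_apply B C M, IsScalarTower.algebraMap_apply B L M]

include hp hdeg hBC in
/-- `e(C/B) ∈ {1, p}`; in the second case a uniformizer `c` of `C` has `c ^ p = ϖ u`. -/
theorem dichotomy {ϖ : B} (hϖ : Irreducible ϖ) :
    Ideal.ramificationIdx' (𝔪 B) (𝔪 C) = 1 ∨
      (Ideal.ramificationIdx' (𝔪 B) (𝔪 C) = p ∧
        ∃ (c : C) (u : B), Irreducible c ∧ IsUnit u ∧ c ^ p = algebraMap B C (ϖ * u)) := by
  obtain ⟨τ, hτ⟩ := IsDiscreteValuationRing.exists_irreducible C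
  obtain ⟨e, w, he, hw⟩ := exists_map_uniformizer hBC hϖ hτ
  rw [ramificationIdx'_eq_of_map_uniformizer hϖ hτ hw]
  obtain ⟨b₀, hb₀⟩ := pow_mem_B (B := B) hp hdeg τ
  have hb₀0 : b₀ ≠ 0 := by
    rintro rfl
    rw [map_zero] at hb₀
    exact hτ.ne_zero (pow_eq_zero_iff hp.ne_zero |>.1 hb₀.symm)
  obtain ⟨j, v, hv⟩ := IsDiscreteValuationRing.eq_unit_mul_pow_irreducible hb₀0 hϖ
  have hvC : IsUnit (algebraMap B C (v : B)) := v.isUnit.map _
  have key : ((1 : Cˣ) : C) * τ ^ p = ((hvC.unit * w ^ j : Cˣ) : C) * τ ^ (e * j) := by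
    rw [Units.val_one, one_mul, ← hb₀, hv, map_mul, map_pow, hw]
    push_cast
    rw [IsUnit.unit_spec]
    ring
  have hpe : p = e * j := IsDiscreteValuationRing.unit_mul_pow_congr_pow hτ hτ _ _ _ _ key
  rcases (Nat.dvd_prime hp).1 ⟨j, hpe⟩ with h1 | h1
  · exact Or.inl h1
  · right
    refine ⟨h1, τ, v, hτ, v.isUnit, ?_⟩
    have hj : j = 1 := by
      rw [h1] at hpe
      have := hp.pos
      nlinarith [Nat.eq_of_mul_eq_mul_left this (by rw [mul_one]; exact hpe : p * 1 = p * j)]
    rw [← hb₀, hv, hj, pow_one, mul_comm]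

include hp hdeg hBC in
/-- If `e(C/B) = p` the residue field extension is trivial. -/
theorem residue_surj (he : Ideal.ramificationIdx' (𝔪 B) (𝔪 C) = p) (x : C) :
    ∃ b : B, x - algebraMap B C b ∈ 𝔪 C := by
  haveI := finiteDimensional hp hdeg
  have h1 := ramificationIdx'_mul_finrank_le (K := L) (L := M) hBC
  haveI := finite_residueField (K := L) (L := M) hBC
  rw [he, hdeg] at h1
  have h2 : Module.finrank (κ B) (κ C) ≤ 1 := by
    by_contra hcon
    push Not at hcon
    have : p * 2 ≤ p := le_trans (Nat.mul_le_mul_left p hcon) h1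
    have := hp.pos
    omega
  have h3 : 0 < Module.finrank (κ B) (κ C) := Module.finrank_pos
  have h4 : Module.finrank (κ B) (κ C) = 1 := le_antisymm h2 h3
  have h5 : (⊥ : Subalgebra (κ B) (κ C)) = ⊤ := Subalgebra.bot_eq_top_of_finrank_eq_one h4
  have h6 : IsLocalRing.residue C x ∈ (⊥ : Subalgebra (κ B) (κ C)) := by rw [h5]; trivial
  obtain ⟨y, hy⟩ := Algebra.mem_bot.1 h6
  obtain ⟨b, rfl⟩ := IsLocalRing.residue_surjective y
  refine ⟨b, ?_⟩
  rw [← IsLocalRing.residue_eq_zero_iff, map_sub, sub_eq_zero, ← hy]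
  rfl

include hp hdeg in
/-- Improving the congruence. -/
theorem mod_step {ϖ : B} (hϖ : Irreducible ϖ) (k : ℕ) (c : C) (u₁ w : B)
    (hc : c ^ p = algebraMap B C (ϖ * (1 + ϖ ^ k * u₁))) (hu : IsUnit (1 + ϖ ^ k * u₁))
    (hw : IsLocalRing.residue B u₁ = IsLocalRing.residue B w ^ p) :
    ∃ (c' : C) (u₁' : B), c' ^ p = algebraMap B C (ϖ * (1 + ϖ ^ (k + 1) * u₁')) ∧
      IsUnit (1 + ϖ ^ (k + 1) * u₁') := by
  haveI := charP_B (B := B) (L := L) (M := M) hp hdeg
  haveI := charP_C (C := C) (L := L) (M := M) hp hdeg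
  haveI : Fact p.Prime := ⟨hp⟩
  set u := 1 + ϖ ^ k * u₁ with hu_def
  -- u₁ = w^p + ϖ t
  obtain ⟨t, ht⟩ : ∃ t, u₁ = w ^ p + ϖ * t := by
    have h1 : u₁ - w ^ p ∈ 𝔪 B := by
      rw [← IsLocalRing.residue_eq_zero_iff, map_sub, map_pow, hw, sub_self]
    rw [hϖ.maximalIdeal_eq, Ideal.mem_span_singleton'] at h1
    obtain ⟨t, ht⟩ := h1
    exact ⟨t, by linear_combination -ht⟩
  -- u^k = 1 + ϖ s'
  obtain ⟨s', hs'⟩ : ∃ s', u ^ k = 1 + ϖ * s' := by
    rcases Nat.eq_zero_or_pos k with rfl | hk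
    · exact ⟨0, by simp⟩
    · have h1 : u - 1 ∣ u ^ k - 1 ^ k := sub_dvd_pow_sub_pow u 1 k
      rw [one_pow] at h1
      have h2 : ϖ ∣ u - 1 := by
        rw [hu_def]
        exact ⟨ϖ ^ (k - 1) * u₁, by
          have : ϖ ^ k = ϖ * ϖ ^ (k - 1) := by
            rw [← pow_succ']; congr 1; omega
          rw [this]; ring⟩
      obtain ⟨s', hs'⟩ := h2.trans h1
      exact ⟨s', by linear_combination hs'⟩
  set d := 1 + ϖ ^ k * u ^ k * w ^ p with hd_def
  have hud : u = d + ϖ ^ (k + 1) * (t - s' * w ^ p) := by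
    rw [hd_def, hs', hu_def, ht]
    ring
  have hdunit : IsUnit d := by
    have h1 : d = u - ϖ ^ (k + 1) * (t - s' * w ^ p) := by rw [hud]; ring
    rw [h1]
    by_contra hnu
    have h2 : u - ϖ ^ (k + 1) * (t - s' * w ^ p) ∈ 𝔪 B := (IsLocalRing.mem_maximalIdeal _).2 hnu
    have h3 : ϖ ^ (k + 1) * (t - s' * w ^ p) ∈ 𝔪 B := by
      rw [hϖ.maximalIdeal_eq, pow_succ', mul_assoc]
      exact Ideal.mul_mem_right _ _ (Ideal.mem_span_singleton_self ϖ)
    have h4 : u ∈ 𝔪 B := by
      have := Ideal.add_mem _ h2 h3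
      rwa [sub_add_cancel] at this
    exact (IsLocalRing.mem_maximalIdeal _).1 h4 hu
  obtain ⟨du, hdu⟩ := hdunit
  -- D = 1 + c^k w in C, D^p = d
  set D : C := 1 + c ^ k * algebraMap B C w with hD_def
  have hDp : D ^ p = algebraMap B C d := by
    rw [hD_def, add_pow_char, one_pow, mul_pow, ← pow_mul, mul_comm k p, pow_mul, hc, hd_def]
    simp only [map_add, map_one, map_mul, map_pow]
    ring
  have hDunit : IsUnit D := by
    have : IsUnit (D ^ p) := by rw [hDp, ← hdu]; exact du.isUnit.map _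
    exact (isUnit_pow_iff hp.ne_zero).1 this
  obtain ⟨Du, hDu⟩ := hDunit
  refine ⟨c * ((Du⁻¹ : Cˣ) : C), (t - s' * w ^ p) * ((du⁻¹ : Bˣ) : B), ?_, ?_⟩
  · have h1 : (((Du⁻¹ : Cˣ) : C)) ^ p = algebraMap B C ((du⁻¹ : Bˣ) : B) := by
      have h2 : (((Du⁻¹ : Cˣ) : C)) ^ p * D ^ p = 1 := by
        rw [← mul_pow, ← hDu, Units.inv_mul, one_pow]
      have h3 : algebraMap B C ((du⁻¹ : Bˣ) : B) * D ^ p = 1 := by
        rw [hDp, ← hdu, ← map_mul, Units.inv_mul, map_one]
      have hDpu : IsUnit (D ^ p) := by rw [hDp, ← hdu]; exact du.isUnit.map _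
      exact hDpu.mul_right_cancel (h2.trans h3.symm)
    rw [mul_pow, hc, h1, ← map_mul]
    congr 1
    have h4 : u * ((du⁻¹ : Bˣ) : B) = 1 + ϖ ^ (k + 1) * ((t - s' * w ^ p) * ((du⁻¹ : Bˣ) : B)) := by
      have h5 : d * ((du⁻¹ : Bˣ) : B) = 1 := by rw [← hdu, Units.mul_inv]
      calc u * ((du⁻¹ : Bˣ) : B) = (d + ϖ ^ (k + 1) * (t - s' * w ^ p)) * ((du⁻¹ : Bˣ) : B) := by
            rw [← hud]
        _ = d * ((du⁻¹ : Bˣ) : B) + ϖ ^ (k + 1) * ((t - s' * w ^ p) * ((du⁻¹ : Bˣ) : B)) := by ring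
        _ = _ := by rw [h5]
    rw [← h4]
    ring
  · have h5 : d * ((du⁻¹ : Bˣ) : B) = 1 := by rw [← hdu, Units.mul_inv]
    have h4 : 1 + ϖ ^ (k + 1) * ((t - s' * w ^ p) * ((du⁻¹ : Bˣ) : B)) = u * ((du⁻¹ : Bˣ) : B) := by
      calc 1 + ϖ ^ (k + 1) * ((t - s' * w ^ p) * ((du⁻¹ : Bˣ) : B))
          = d * ((du⁻¹ : Bˣ) : B) + ϖ ^ (k + 1) * ((t - s' * w ^ p) * ((du⁻¹ : Bˣ) : B)) := by
            rw [h5]
        _ = (d + ϖ ^ (k + 1) * (t - s' * w ^ p)) * ((du⁻¹ : Bˣ) : B) := by ring
        _ = _ := by rw [← hud]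
    rw [h4]
    exact hu.mul (du⁻¹).isUnit

end DVR

theorem forall_or_exists_max (Q : ℕ → Prop) (h0 : Q 0) : (∀ k, Q k) ∨ ∃ k, Q k ∧ ¬ Q (k + 1) := by
  by_cases h : ∀ k, Q k
  · exact Or.inl h
  · right
    push Not at h
    classical
    have hk := Nat.find_spec h
    have hmin := fun m => Nat.find_min h (m := m)
    rcases hn : Nat.find h with _ | k
    · rw [hn] at hk; exact absurd h0 hk
    · refine ⟨k, ?_, by rw [hn] at hk; exact hk⟩
      by_contra hq
      exact hmin k (by omega) hq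

section Root

variable {B C L M : Type u} [CommRing B] [IsDomain B] [IsDiscreteValuationRing B]
  [CommRing C] [IsDomain C] [IsDiscreteValuationRing C] [Algebra B C] [IsLocalHom (algebraMap B C)]
  [Field L] [Field M] [Algebra B L] [IsFractionRing B L] [Algebra C M] [IsFractionRing C M]
  [Algebra L M] [Algebra B M] [IsScalarTower B L M] [IsScalarTower B C M]
  [IsPurelyInseparable L M]
  {p : ℕ} (hp : p.Prime) (hdeg : Module.finrank L M = p)
  (hBC : Function.Injective (algebraMap B C))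

include hp hdeg in
theorem isIntegral_of_pow_eq {N : Type u} [Field N] [Algebra B N] (y : N) (b : B)
    (hy : y ^ p = algebraMap B N b) : IsIntegral B y := by
  refine ⟨X ^ p - Polynomial.C b, monic_X_pow_sub_C b hp.ne_zero, ?_⟩
  rw [eval₂_sub, eval₂_pow, eval₂_X, eval₂_C, hy, sub_self]

include hp hdeg in
/-- If the congruence `c ^ p ≡ ϖ mod ϖ ^ (k + 1)` is solvable for all `k` and `B` is Nagata, then `ϖ`
is a `p`-th power in `M`. -/
theorem exists_root_M (hB : CAlg.IsNagata B) {ϖ : B} (hϖ : Irreducible ϖ)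
    (hall : ∀ k : ℕ, ∃ (c : C) (u₁ : B), c ^ p = algebraMap B C (ϖ * (1 + ϖ ^ k * u₁))) :
    ∃ ρ : M, ρ ^ p = algebraMap B M ϖ := by
  by_contra hcon
  push Not at hcon
  haveI := finiteDimensional hp hdeg
  haveI hcharM := charP_M (L := L) (M := M) hp hdeg
  haveI : Fact p.Prime := ⟨hp⟩
  have hirr : Irreducible (X ^ p - Polynomial.C (algebraMap B M ϖ) : M[X]) :=
    X_pow_sub_C_irreducible_of_prime hp hcon
  haveI : Fact (Irreducible (X ^ p - Polynomial.C (algebraMap B M ϖ) : M[X])) := ⟨hirr⟩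
  have hne : (X ^ p - Polynomial.C (algebraMap B M ϖ) : M[X]) ≠ 0 := hirr.ne_zero
  haveI : Module.Finite M (AdjoinRoot (X ^ p - Polynomial.C (algebraMap B M ϖ) : M[X])) :=
    (AdjoinRoot.powerBasis hne).finite
  haveI : FiniteDimensional L (AdjoinRoot (X ^ p - Polynomial.C (algebraMap B M ϖ) : M[X])) :=
    Module.Finite.trans M _
  haveI : CharP (AdjoinRoot (X ^ p - Polynomial.C (algebraMap B M ϖ) : M[X])) p :=
    charP_of_injective_algebraMap
      (algebraMap M (AdjoinRoot (X ^ p - Polynomial.C (algebraMap B M ϖ) : M[X]))).injective p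
  have hfinD := finite_integralClosure_of_isNagata B hB L
    (AdjoinRoot (X ^ p - Polynomial.C (algebraMap B M ϖ) : M[X]))
  set N := AdjoinRoot (X ^ p - Polynomial.C (algebraMap B M ϖ) : M[X]) with hN
  set ρ : N := AdjoinRoot.root _ with hρdef
  have hρ : ρ ^ p = algebraMap B N ϖ := by
    have h1 := AdjoinRoot.eval₂_root (X ^ p - Polynomial.C (algebraMap B M ϖ) : M[X])
    rw [eval₂_sub, eval₂_pow, eval₂_X, eval₂_C, sub_eq_zero] at h1
    rw [h1, IsScalarTower.algebraMap_apply B M N]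
    rfl
  have hϖN : algebraMap B N ϖ ≠ 0 := by
    rw [IsScalarTower.algebraMap_apply B L N, IsScalarTower.algebraMap_apply L M N]
    intro h0
    have h1 := (algebraMap M N).injective (h0.trans (map_zero _).symm)
    have h2 := (algebraMap L M).injective (h1.trans (map_zero _).symm)
    exact hϖ.ne_zero (IsFractionRing.injective B L (h2.trans (map_zero _).symm))
  have hρint : IsIntegral B ρ := isIntegral_of_pow_eq (L := L) (M := M) hp hdeg ρ ϖ hρ
  have hCint : ∀ c : C, algebraMap C N c ∈ integralClosure B N := by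
    intro c
    obtain ⟨b, hb⟩ := pow_mem_B (B := B) (L := L) (M := M) hp hdeg c
    refine isIntegral_of_pow_eq (L := L) (M := M) hp hdeg _ b ?_
    rw [← map_pow, ← hb, ← IsScalarTower.algebraMap_apply]
  let φ : C →ₗ[B] integralClosure B N :=
    ((IsScalarTower.toAlgHom B C N).codRestrict (integralClosure B N) hCint).toLinearMap
  have hKrull : (⨅ i : ℕ, (𝔪 B) ^ i • (⊤ : Submodule B ((integralClosure B N) ⧸ LinearMap.range φ))) = ⊥ :=
    Ideal.iInf_pow_smul_eq_bot_of_isLocalRing (𝔪 B) (IsLocalRing.maximalIdeal.isMaximal B).ne_top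
  have hmem : ∀ j : ℕ, (Submodule.Quotient.mk (⟨ρ, hρint⟩ : integralClosure B N) :
      (integralClosure B N) ⧸ LinearMap.range φ) ∈
        (𝔪 B) ^ j • (⊤ : Submodule B ((integralClosure B N) ⧸ LinearMap.range φ)) := by
    intro j
    obtain ⟨c, u₁, hc⟩ := hall (p * j)
    have hz : (algebraMap C N c - ρ) ^ p = algebraMap B N (ϖ ^ (p * j + 1) * u₁) := by
      rw [sub_pow_char, hρ, ← map_pow, hc, ← IsScalarTower.algebraMap_apply, ← map_sub]
      congr 1
      ring
    have hy : ((algebraMap C N c - ρ) / (algebraMap B N ϖ) ^ j) ^ p = algebraMap B N (ϖ * u₁) := by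
      rw [div_pow, hz, ← pow_mul, mul_comm j p, div_eq_iff (pow_ne_zero _ hϖN), ← map_pow, ← map_mul]
      congr 1
      ring
    have hyint : IsIntegral B ((algebraMap C N c - ρ) / (algebraMap B N ϖ) ^ j) :=
      isIntegral_of_pow_eq (L := L) (M := M) hp hdeg _ _ hy
    have heq : (⟨ρ, hρint⟩ : integralClosure B N) =
        φ c - ϖ ^ j • (⟨_, hyint⟩ : integralClosure B N) := by
      apply Subtype.ext
      change ρ = algebraMap C N c - ϖ ^ j • ((algebraMap C N c - ρ) / (algebraMap B N ϖ) ^ j)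
      rw [Algebra.smul_def, map_pow, mul_div_cancel₀ _ (pow_ne_zero _ hϖN)]
      ring
    rw [heq, Submodule.Quotient.mk_sub, Submodule.Quotient.mk_smul]
    have h0 : (Submodule.Quotient.mk (φ c) : (integralClosure B N) ⧸ LinearMap.range φ) = 0 :=
      (Submodule.Quotient.mk_eq_zero _).2 ⟨c, rfl⟩
    rw [h0, zero_sub]
    refine Submodule.neg_mem _ (Submodule.smul_mem_smul (Ideal.pow_mem_pow ?_ j) Submodule.mem_top)
    rw [hϖ.maximalIdeal_eq]
    exact Ideal.mem_span_singleton_self ϖ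
  have hzero : (Submodule.Quotient.mk (⟨ρ, hρint⟩ : integralClosure B N) :
      (integralClosure B N) ⧸ LinearMap.range φ) = 0 := by
    have : (Submodule.Quotient.mk (⟨ρ, hρint⟩ : integralClosure B N) :
        (integralClosure B N) ⧸ LinearMap.range φ) ∈
        (⨅ i : ℕ, (𝔪 B) ^ i • (⊤ : Submodule B ((integralClosure B N) ⧸ LinearMap.range φ))) :=
      (Submodule.mem_iInf _).2 hmem
    rw [hKrull] at this
    exact (Submodule.mem_bot B).1 this
  obtain ⟨c₀, hc₀⟩ := (Submodule.Quotient.mk_eq_zero _).1 hzero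
  have hc₀' : algebraMap C N c₀ = ρ := congrArg Subtype.val hc₀
  apply hcon (algebraMap C M c₀)
  apply (algebraMap M N).injective
  rw [map_pow, ← IsScalarTower.algebraMap_apply C M N, hc₀', hρ,
    ← IsScalarTower.algebraMap_apply B M N]

include hp hdeg in
theorem exists_root_C (hB : CAlg.IsNagata B) {ϖ : B} (hϖ : Irreducible ϖ)
    (hall : ∀ k : ℕ, ∃ (c : C) (u₁ : B), c ^ p = algebraMap B C (ϖ * (1 + ϖ ^ k * u₁))) :
    ∃ c : C, c ^ p = algebraMap B C ϖ := by
  obtain ⟨ρ, hρ⟩ := exists_root_M (L := L) hp hdeg hB hϖ hall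
  have hint : IsIntegral C ρ := by
    refine ⟨X ^ p - Polynomial.C (algebraMap B C ϖ), monic_X_pow_sub_C _ hp.ne_zero, ?_⟩
    rw [eval₂_sub, eval₂_pow, eval₂_X, eval₂_C, hρ, ← IsScalarTower.algebraMap_apply, sub_self]
  obtain ⟨c, hc⟩ := IsIntegrallyClosed.algebraMap_eq_of_integral hint
  refine ⟨c, IsFractionRing.injective C M ?_⟩
  rw [map_pow, hc, hρ, ← IsScalarTower.algebraMap_apply]

include hp hdeg hBC in
theorem adjoin_eq_top (hB : CAlg.IsNagata B) {ϖ : B} (hϖ : Irreducible ϖ)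
    (he : Ideal.ramificationIdx' (𝔪 B) (𝔪 C) = p) (c : C) (hc : c ^ p = algebraMap B C ϖ) :
    Algebra.adjoin B {c} = ⊤ := by
  haveI := finiteDimensional hp hdeg
  -- finiteness of C over B
  have hfinD := finite_integralClosure_of_isNagata B hB L M
  haveI : IsNoetherian B (integralClosure B M) := isNoetherian_of_isNoetherianRing_of_finite B _
  have hCint : ∀ c : C, algebraMap C M c ∈ integralClosure B M := by
    intro c
    obtain ⟨b, hb⟩ := pow_mem_B (B := B) (L := L) (M := M) hp hdeg c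
    refine isIntegral_of_pow_eq (L := L) (M := M) hp hdeg _ b ?_
    rw [← map_pow, ← hb, ← IsScalarTower.algebraMap_apply]
  let φ : C →ₗ[B] integralClosure B M :=
    ((IsScalarTower.toAlgHom B C M).codRestrict (integralClosure B M) hCint).toLinearMap
  have hφ : Function.Injective φ := by
    intro x y hxy
    exact IsFractionRing.injective C M (congrArg Subtype.val hxy)
  haveI : Module.Finite B C := Module.Finite.of_injective φ hφ
  -- c is a uniformizer
  obtain ⟨τ, hτ⟩ := IsDiscreteValuationRing.exists_irreducible C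
  obtain ⟨e, w, he0, hw⟩ := exists_map_uniformizer hBC hϖ hτ
  have hep : e = p := by rw [← he, ramificationIdx'_eq_of_map_uniformizer hϖ hτ hw]
  have hc0 : c ≠ 0 := by
    rintro rfl
    rw [zero_pow hp.ne_zero] at hc
    exact hϖ.ne_zero (hBC (hc.symm.trans (map_zero _).symm))
  obtain ⟨m, v, hv⟩ := IsDiscreteValuationRing.eq_unit_mul_pow_irreducible hc0 hτ
  have key : ((v ^ p : Cˣ) : C) * τ ^ (m * p) = (w : C) * τ ^ e := by
    rw [← hw, ← hc, hv, mul_pow, ← pow_mul]
    push_cast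
    ring
  have hmp : m * p = e := IsDiscreteValuationRing.unit_mul_pow_congr_pow hτ hτ _ _ _ _ key
  have hm : m = 1 := by
    rw [hep] at hmp
    have := hp.pos
    nlinarith [Nat.eq_of_mul_eq_mul_right this (by rw [one_mul]; exact hmp : m * p = 1 * p)]
  have hcirr : Irreducible c := by
    rw [hv, hm, pow_one]
    exact (irreducible_units_mul v).2 hτ
  -- every element is b + c y
  have hstep : ∀ x : C, ∃ (b : B) (y : C), x = algebraMap B C b + c * y := by
    intro x
    obtain ⟨b, hb⟩ := residue_surj (L := L) (M := M) hp hdeg hBC he x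
    rw [hcirr.maximalIdeal_eq, Ideal.mem_span_singleton'] at hb
    obtain ⟨y, hy⟩ := hb
    exact ⟨b, y, by linear_combination -hy⟩
  have hind : ∀ (n : ℕ) (x : C), ∃ s ∈ Algebra.adjoin B {c}, ∃ y : C, x = s + c ^ n * y := by
    intro n
    induction n with
    | zero => intro x; exact ⟨0, Subalgebra.zero_mem _, x, by simp⟩
    | succ n ih =>
      intro x
      obtain ⟨s, hs, y, hy⟩ := ih x
      obtain ⟨b, y', hy'⟩ := hstep y
      refine ⟨s + c ^ n * algebraMap B C b, ?_, y', ?_⟩
      · exact Subalgebra.add_mem _ hs (Subalgebra.mul_mem _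
          (Subalgebra.pow_mem _ (Algebra.subset_adjoin (Set.mem_singleton c)) n)
          (Subalgebra.algebraMap_mem _ b))
      · rw [hy, hy']; ring
  have hNN : (⊤ : Submodule B C) ≤ (Algebra.adjoin B {c}).toSubmodule ⊔ (𝔪 B) • (⊤ : Submodule B C) := by
    intro x _
    obtain ⟨s, hs, y, hy⟩ := hind p x
    rw [hy, hc, ← Algebra.smul_def]
    refine Submodule.add_mem_sup hs (Submodule.smul_mem_smul ?_ Submodule.mem_top)
    rw [hϖ.maximalIdeal_eq]
    exact Ideal.mem_span_singleton_self ϖ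
  have hle := Submodule.le_of_le_smul_of_le_jacobson_bot (Module.Finite.fg_top)
    (IsLocalRing.maximalIdeal_le_jacobson ⊥) hNN
  rw [eq_top_iff]
  intro x _
  exact hle Submodule.mem_top

end Root

end Groth.Agent.Lib.Helper9.EppInsep
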