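import Mathlib

open TensorProduct

universe u

set_option linter.unusedSectionVars false
set_option linter.style.haveILetI false
set_option linter.overlappingInstances false

namespace Groth.Agent.Lib.Helper9.DvrSmooth

local notation "𝔪" => IsLocalRing.maximalIdeal
local notation "κ" => IsLocalRing.ResidueField

theorem exists_notMem_mul_eq_zero {R : Type*} [CommRing R] [IsReduced R]
    (hmax : ∀ P : Ideal R, P.IsPrime → P.IsMaximal) (𝔮 : Ideal R) [h𝔮 : 𝔮.IsPrime] (y : R)
    (hy : y ∈ 𝔮) : ∃ s, s ∉ 𝔮 ∧ s * y = 0 := by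
  by_contra hcon
  push Not at hcon
  let S : Submonoid R := 𝔮.primeCompl ⊔ Submonoid.powers y
  have hS : ∀ x ∈ S, x ≠ 0 := by
    intro x hx hx0
    obtain ⟨s, hs, z, hz, rfl⟩ := Submonoid.mem_sup.1 hx
    obtain ⟨n, rfl⟩ := hz
    have h1 : (s * y) ^ (n + 1) = 0 := by
      rw [mul_pow, pow_succ, pow_succ]
      calc s ^ n * s * (y ^ n * y) = s ^ n * y * (s * y ^ n) := by ring
        _ = 0 := by rw [hx0, mul_zero]
    exact hcon s hs (IsReduced.eq_zero _ ⟨_, h1⟩)
  have hdisj : Disjoint ((⊥ : Ideal R) : Set R) (S : Set R) := by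
    rw [Set.disjoint_left]
    intro x hx hxS
    exact hS x hxS (by simpa using hx)
  obtain ⟨P, hP, -, hPS⟩ := Ideal.exists_le_prime_disjoint ⊥ S hdisj
  have hPle : P ≤ 𝔮 := by
    intro p hp
    by_contra hpq
    exact Set.disjoint_left.1 hPS hp (Submonoid.mem_sup_left hpq)
  have hyP : y ∉ P := fun h =>
    Set.disjoint_left.1 hPS h (Submonoid.mem_sup_right (Submonoid.mem_powers y))
  have := (hmax P hP).eq_of_le h𝔮.ne_top hPle
  exact hyP (this ▸ hy)

theorem isGeometricallyReduced_of_surjective {k R E : Type*} [Field k] [CommRing R] [Algebra k R]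
    [Field E] [Algebra k E] [Algebra.IsGeometricallyReduced k R] (ψ : R →ₐ[k] E)
    (hψ : Function.Surjective ψ) (hloc : ∀ y, ψ y = 0 → ∃ s, ψ s ≠ 0 ∧ s * y = 0) :
    Algebra.IsGeometricallyReduced k E := by
  rw [Algebra.isGeometricallyReduced_field_iff]
  have hred : IsReduced (AlgebraicClosure k ⊗[k] R) :=
    (Algebra.isGeometricallyReduced_field_iff k R).1 inferInstance
  let Ψ : AlgebraicClosure k ⊗[k] R →ₐ[k] AlgebraicClosure k ⊗[k] E :=
    Algebra.TensorProduct.map (AlgHom.id k (AlgebraicClosure k)) ψ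
  have hΨ : Function.Surjective Ψ :=
    Algebra.TensorProduct.map_surjective _ _ Function.surjective_id hψ
  have hker : RingHom.ker Ψ = (RingHom.ker ψ).map
      (Algebra.TensorProduct.includeRight : R →ₐ[k] AlgebraicClosure k ⊗[k] R) :=
    Algebra.TensorProduct.lTensor_ker ψ hψ
  -- every element of the kernel is killed by some `1 ⊗ s` with `ψ s ≠ 0`
  have hkill : ∀ z ∈ RingHom.ker Ψ, ∃ s : R, ψ s ≠ 0 ∧ ((1 : AlgebraicClosure k) ⊗ₜ[k] s) * z = 0 := by
    intro z hz
    rw [hker, Ideal.map] at hz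
    induction hz using Submodule.span_induction with
    | mem z hz =>
      obtain ⟨y, hy, rfl⟩ := hz
      obtain ⟨s, hs, hsy⟩ := hloc y hy
      refine ⟨s, hs, ?_⟩
      change (1 : AlgebraicClosure k) ⊗ₜ[k] s * ((1 : AlgebraicClosure k) ⊗ₜ[k] y) = 0
      rw [Algebra.TensorProduct.tmul_mul_tmul, hsy, tmul_zero]
    | zero => exact ⟨1, by simp, by simp⟩
    | add z w _ _ hz hw =>
      obtain ⟨s, hs, hsz⟩ := hz
      obtain ⟨t, ht, htw⟩ := hw
      refine ⟨s * t, by rw [map_mul]; exact mul_ne_zero hs ht, ?_⟩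
      have h1 : (1 : AlgebraicClosure k) ⊗ₜ[k] (s * t) =
          ((1 : AlgebraicClosure k) ⊗ₜ[k] s) * ((1 : AlgebraicClosure k) ⊗ₜ[k] t) := by
        rw [Algebra.TensorProduct.tmul_mul_tmul, mul_one]
      rw [h1, mul_add]
      have e1 : (1 : AlgebraicClosure k) ⊗ₜ[k] s * (1 : AlgebraicClosure k) ⊗ₜ[k] t * z =
          (1 : AlgebraicClosure k) ⊗ₜ[k] t * ((1 : AlgebraicClosure k) ⊗ₜ[k] s * z) := by ring
      have e2 : (1 : AlgebraicClosure k) ⊗ₜ[k] s * (1 : AlgebraicClosure k) ⊗ₜ[k] t * w =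
          (1 : AlgebraicClosure k) ⊗ₜ[k] s * ((1 : AlgebraicClosure k) ⊗ₜ[k] t * w) := by ring
      rw [e1, e2, hsz, htw, mul_zero, mul_zero, add_zero]
    | smul c z _ hz =>
      obtain ⟨s, hs, hsz⟩ := hz
      refine ⟨s, hs, ?_⟩
      rw [smul_eq_mul, mul_left_comm, hsz, mul_zero]
  constructor
  intro z hz
  obtain ⟨n, hn⟩ := hz
  obtain ⟨z', rfl⟩ := hΨ z
  have h1 : z' ^ n ∈ RingHom.ker Ψ := by
    rw [RingHom.mem_ker, map_pow]
    exact hn
  obtain ⟨s, hs, hsz⟩ := hkill _ h1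
  have h2 : (((1 : AlgebraicClosure k) ⊗ₜ[k] s) * z') ^ (n + 1) = 0 := by
    rw [mul_pow, pow_succ, pow_succ]
    calc ((1 : AlgebraicClosure k) ⊗ₜ[k] s) ^ n * ((1 : AlgebraicClosure k) ⊗ₜ[k] s) * (z' ^ n * z')
        = ((1 : AlgebraicClosure k) ⊗ₜ[k] s) ^ n * z' * (((1 : AlgebraicClosure k) ⊗ₜ[k] s) * z' ^ n) := by ring
      _ = 0 := by rw [hsz, mul_zero]
  have h3 : ((1 : AlgebraicClosure k) ⊗ₜ[k] s) * z' = 0 := IsReduced.eq_zero _ ⟨_, h2⟩
  have h4 : ((1 : AlgebraicClosure k) ⊗ₜ[k] ψ s) * Ψ z' = 0 := by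
    have := congrArg Ψ h3
    rw [map_mul, map_zero] at this
    exact this
  have h5 : ((1 : AlgebraicClosure k) ⊗ₜ[k] (ψ s)⁻¹) * ((1 : AlgebraicClosure k) ⊗ₜ[k] ψ s) = 1 := by
    rw [Algebra.TensorProduct.tmul_mul_tmul, mul_one, inv_mul_cancel₀ hs]
    rfl
  calc Ψ z' = (((1 : AlgebraicClosure k) ⊗ₜ[k] (ψ s)⁻¹) * ((1 : AlgebraicClosure k) ⊗ₜ[k] ψ s)) * Ψ z' := by
        rw [h5, one_mul]
    _ = 0 := by rw [mul_assoc, h4, mul_zero]

section Rbar

variable {k k' F : Type*} [Field k] [Field k'] [Field F] [Algebra k k'] [Algebra k F]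
  [Module.Finite k k'] [Algebra.IsGeometricallyReduced k F]

theorem isReduced_tensor : IsReduced (k' ⊗[k] F) := inferInstance

theorem isMaximal_of_isPrime_tensor (P : Ideal (k' ⊗[k] F)) [hP : P.IsPrime] : P.IsMaximal := by
  let e : k' ⊗[k] F ≃ₐ[k] F ⊗[k] k' := Algebra.TensorProduct.comm k k' F
  let P' : Ideal (F ⊗[k] k') := P.comap e.symm.toAlgHom.toRingHom
  have hP' : P'.IsPrime := Ideal.comap_isPrime _ _
  have hbot : (P'.comap (algebraMap F (F ⊗[k] k'))).IsMaximal := by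
    have hpr : (P'.comap (algebraMap F (F ⊗[k] k'))).IsPrime := Ideal.comap_isPrime _ _
    have : P'.comap (algebraMap F (F ⊗[k] k')) = ⊥ :=
      (Ideal.eq_bot_or_top _).resolve_right hpr.ne_top
    rw [this]
    exact Ideal.bot_isMaximal
  have hmax : P'.IsMaximal := Ideal.isMaximal_of_isIntegral_of_isMaximal_comap P' hbot
  have hPeq : P = P'.comap e.toAlgHom.toRingHom := by
    ext x
    simp only [P', Ideal.mem_comap]
    change x ∈ P ↔ e.symm (e x) ∈ P
    rw [AlgEquiv.symm_apply_apply]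
  rw [hPeq]
  exact Ideal.comap_isMaximal_of_surjective _ e.surjective

theorem isGeometricallyReduced_tensor : Algebra.IsGeometricallyReduced k' (k' ⊗[k] F) := by
  rw [Algebra.isGeometricallyReduced_field_iff]
  have : Algebra.IsAlgebraic k (AlgebraicClosure k') := Algebra.IsAlgebraic.trans k k' _
  let e : AlgebraicClosure k' ⊗[k'] (k' ⊗[k] F) ≃ₐ[k'] AlgebraicClosure k' ⊗[k] F :=
    Algebra.TensorProduct.cancelBaseChange k k' k' (AlgebraicClosure k') F
  exact isReduced_of_injective e e.injective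

end Rbar

section Core

variable {A B V W : Type u} [CommRing A] [IsLocalRing A]
  [CommRing B] [IsLocalRing B]
  [CommRing V] [IsLocalRing V]
  [CommRing W] [IsLocalRing W]
  [Algebra A B] [Algebra A V] [Algebra B W] [Algebra V W] [Algebra A W]
  [IsScalarTower A B W] [IsScalarTower A V W]
  [IsLocalHom (algebraMap A B)] [IsLocalHom (algebraMap A V)] [IsLocalHom (algebraMap B W)]
  [IsLocalHom (algebraMap V W)] [IsLocalHom (algebraMap A W)]

variable (A B V W) in
/-- The map `V ⊗[A] B → W`. -/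
noncomputable def phi : V ⊗[A] B →ₐ[A] W :=
  Algebra.TensorProduct.productMap (IsScalarTower.toAlgHom A V W) (IsScalarTower.toAlgHom A B W)

variable (A B V) in
/-- The reduction map `V ⊗[A] B → κ V ⊗[A] κ B`. -/
noncomputable def redA : V ⊗[A] B →ₐ[A] κ V ⊗[A] κ B :=
  Algebra.TensorProduct.map (IsScalarTower.toAlgHom A V (κ V)) (IsScalarTower.toAlgHom A B (κ B))

instance compat1 : TensorProduct.CompatibleSMul A (κ A) (κ V) (κ B) :=
  TensorProduct.CompatibleSMul.of_algebraMap_surjective _ _ IsLocalRing.residue_surjective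

variable (A B V) in
/-- `κ V ⊗[A] κ B ≃ κ V ⊗[κ A] κ B`. -/
noncomputable def iotaEquiv : κ V ⊗[A] κ B ≃ₐ[κ V] κ V ⊗[κ A] κ B :=
  Algebra.TensorProduct.equivOfCompatibleSMul (κ A) A (κ V) (κ V) (κ B)

variable (A B V W) in
/-- The map `κ V ⊗[κ A] κ B → κ W`. -/
noncomputable def psi : κ V ⊗[κ A] κ B →ₐ[κ V] κ W :=
  Algebra.TensorProduct.productLeftAlgHom (Algebra.ofId (κ V) (κ W))
    (IsScalarTower.toAlgHom (κ A) (κ B) (κ W))

variable (A B V) in
/-- The reduction map `V ⊗[A] B → κ V ⊗[κ A] κ B`. -/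
noncomputable def red : V ⊗[A] B →+* κ V ⊗[κ A] κ B :=
  (iotaEquiv A B V).toAlgHom.toRingHom.comp (redA A B V).toRingHom

theorem red_tmul (v : V) (b : B) :
    red A B V (v ⊗ₜ b) = IsLocalRing.residue V v ⊗ₜ IsLocalRing.residue B b := rfl

theorem psi_red (t : V ⊗[A] B) :
    psi A B V W (red A B V t) = IsLocalRing.residue W (phi A B V W t) := by
  induction t using TensorProduct.induction_on with
  | zero => simp
  | tmul v b =>
    rw [red_tmul]
    simp only [psi, phi, Algebra.TensorProduct.lift_tmul,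
      Algebra.TensorProduct.productMap_apply_tmul, IsScalarTower.coe_toAlgHom', map_mul]
    rfl
  | add x y hx hy => rw [map_add, map_add, hx, hy, map_add, map_add]

theorem red_surjective : Function.Surjective (red A B V) := by
  have h1 : Function.Surjective (redA A B V) :=
    Algebra.TensorProduct.map_surjective _ _ IsLocalRing.residue_surjective
      IsLocalRing.residue_surjective
  exact (iotaEquiv A B V).surjective.comp h1

theorem ker_red : RingHom.ker (red A B V) =
    (𝔪 V).map (Algebra.TensorProduct.includeLeft : V →ₐ[A] V ⊗[A] B) ⊔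
      (𝔪 B).map (Algebra.TensorProduct.includeRight : B →ₐ[A] V ⊗[A] B) := by
  have h1 : RingHom.ker (red A B V) = RingHom.ker (redA A B V) := by
    ext t
    rw [RingHom.mem_ker, RingHom.mem_ker]
    change (iotaEquiv A B V) (redA A B V t) = 0 ↔ _
    rw [map_eq_zero_iff _ (iotaEquiv A B V).injective]
  rw [h1, redA, Algebra.TensorProduct.map_ker _ _ IsLocalRing.residue_surjective
    IsLocalRing.residue_surjective]
  congr 2
  · exact IsLocalRing.ker_residue
  · exact IsLocalRing.ker_residue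


variable [IsDomain V] [IsDiscreteValuationRing V] [IsDomain W] [IsDiscreteValuationRing W]

theorem ker_red_le (hw : (𝔪 A).map (algebraMap A B) = 𝔪 B) {π₁ : V} (hπ₁ : Irreducible π₁) :
    RingHom.ker (red A B V) ≤ Ideal.span {(π₁ ⊗ₜ[A] (1 : B) : V ⊗[A] B)} := by
  have h1 : (𝔪 V).map (Algebra.TensorProduct.includeLeft : V →ₐ[A] V ⊗[A] B) =
      Ideal.span {(π₁ ⊗ₜ[A] (1 : B) : V ⊗[A] B)} := by
    rw [hπ₁.maximalIdeal_eq, Ideal.map_span, Set.image_singleton]
    rfl
  rw [ker_red, ← h1, sup_le_iff]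
  refine ⟨le_rfl, ?_⟩
  rw [← hw]
  have h2 : ((𝔪 A).map (algebraMap A B)).map
      (Algebra.TensorProduct.includeRight : B →ₐ[A] V ⊗[A] B) =
      ((𝔪 A).map (algebraMap A V)).map
        (Algebra.TensorProduct.includeLeft : V →ₐ[A] V ⊗[A] B) := by
    change ((𝔪 A).map (algebraMap A B)).map
      (Algebra.TensorProduct.includeRight : B →ₐ[A] V ⊗[A] B).toRingHom =
      ((𝔪 A).map (algebraMap A V)).map
        (Algebra.TensorProduct.includeLeft : V →ₐ[A] V ⊗[A] B).toRingHom
    rw [Ideal.map_map, Ideal.map_map]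
    congr 1
    ext a
    exact ((Algebra.TensorProduct.includeRight : B →ₐ[A] V ⊗[A] B).commutes a).trans
      ((Algebra.TensorProduct.includeLeft : V →ₐ[A] V ⊗[A] B).commutes a).symm
  rw [h2]
  apply Ideal.map_mono
  exact ((IsLocalRing.local_hom_TFAE (algebraMap A V)).out 0 2).1 ‹IsLocalHom (algebraMap A V)›

variable [Algebra.IsGeometricallyReduced (κ A) (κ B)] [Module.Finite (κ A) (κ V)]

theorem psi_loc (y : κ V ⊗[κ A] κ B) (hy : psi A B V W y = 0) :
    ∃ s, psi A B V W s ≠ 0 ∧ s * y = 0 := by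
  have hpr : (RingHom.ker (psi A B V W)).IsPrime := RingHom.ker_isPrime _
  have hred : IsReduced (κ V ⊗[κ A] κ B) := isReduced_tensor
  obtain ⟨s, hs, hsy⟩ := exists_notMem_mul_eq_zero
    (fun P hP => isMaximal_of_isPrime_tensor P) (RingHom.ker (psi A B V W)) y hy
  exact ⟨s, hs, hsy⟩

theorem star (hw : (𝔪 A).map (algebraMap A B) = 𝔪 B) {π₁ : V} (hπ₁ : Irreducible π₁)
    (t : V ⊗[A] B) (ht : phi A B V W t ∈ 𝔪 W) :
    ∃ s t', phi A B V W s ∉ 𝔪 W ∧ s * t = (π₁ ⊗ₜ[A] (1 : B)) * t' := by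
  have h0 : psi A B V W (red A B V t) = 0 := by
    rw [psi_red, IsLocalRing.residue_eq_zero_iff]
    exact ht
  obtain ⟨sb, hsb, hsby⟩ := psi_loc (W := W) _ h0
  obtain ⟨s, rfl⟩ := red_surjective sb
  have hst : s * t ∈ RingHom.ker (red A B V) := by
    rw [RingHom.mem_ker, map_mul]
    exact hsby
  obtain ⟨t', ht'⟩ := Ideal.mem_span_singleton'.1 (ker_red_le hw hπ₁ hst)
  refine ⟨s, t', ?_, ?_⟩
  · rw [psi_red] at hsb
    intro h
    exact hsb ((IsLocalRing.residue_eq_zero_iff _).2 h)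
  · rw [← ht', mul_comm]


theorem phi_pi (π₁ : V) : phi A B V W (π₁ ⊗ₜ[A] (1 : B)) = algebraMap V W π₁ := by
  simp [phi]

theorem claimA (hw : (𝔪 A).map (algebraMap A B) = 𝔪 B) {π₁ : V} (hπ₁ : Irreducible π₁) :
    ∀ w : W, w ≠ 0 → ∀ t : V ⊗[A] B, phi A B V W t = w →
      ∃ (n : ℕ) (s s' : V ⊗[A] B), phi A B V W s ∉ 𝔪 W ∧ phi A B V W s' ∉ 𝔪 W ∧
        phi A B V W s * w = phi A B V W s' * (algebraMap V W π₁) ^ n := by
  intro w
  induction w using WellFounded.induction (wellFounded_dvdNotUnit (α := W)) with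
  | _ w ih =>
    intro hw0 t ht
    by_cases hmem : w ∈ 𝔪 W
    · obtain ⟨s, t', hs, hst⟩ := star (W := W) hw hπ₁ t (ht ▸ hmem)
      have hsu : IsUnit (phi A B V W s) := by
        by_contra h
        exact hs ((IsLocalRing.mem_maximalIdeal _).2 h)
      have heq : phi A B V W s * w = algebraMap V W π₁ * phi A B V W t' := by
        rw [← ht, ← map_mul, hst, map_mul, phi_pi]
      have hle : (𝔪 V).map (algebraMap V W) ≤ 𝔪 W :=
        ((IsLocalRing.local_hom_TFAE (algebraMap V W)).out 0 2).1 ‹IsLocalHom (algebraMap V W)›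
      have hϖ : algebraMap V W π₁ ∈ 𝔪 W :=
        hle (Ideal.mem_map_of_mem _ ((IsLocalRing.mem_maximalIdeal _).2 hπ₁.not_isUnit))
      have ht'0 : phi A B V W t' ≠ 0 := by
        intro h0
        rw [h0, mul_zero] at heq
        exact hw0 ((hsu.mul_right_eq_zero).1 heq)
      obtain ⟨u, hu⟩ := hsu
      have hdvd : DvdNotUnit (phi A B V W t') w := by
        refine ⟨ht'0, algebraMap V W π₁ * ((u⁻¹ : Wˣ) : W), ?_, ?_⟩
        · intro hunit
          have : IsUnit (algebraMap V W π₁) := by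
            have := hunit.mul (u.isUnit)
            rwa [mul_assoc, Units.inv_mul, mul_one] at this
          exact ((IsLocalRing.mem_maximalIdeal _).1 hϖ) this
        · rw [← hu] at heq
          calc w = ((u⁻¹ : Wˣ) : W) * ((u : W) * w) := by rw [← mul_assoc, Units.inv_mul, one_mul]
            _ = phi A B V W t' * (algebraMap V W π₁ * ((u⁻¹ : Wˣ) : W)) := by rw [heq]; ring
      obtain ⟨n, s₁, s₁', hs₁, hs₁', h1⟩ := ih _ hdvd ht'0 t' rfl
      refine ⟨n + 1, s₁ * s, s₁', ?_, hs₁', ?_⟩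
      · rw [map_mul]
        intro hm
        rcases (IsLocalRing.maximalIdeal.isMaximal W).isPrime.mem_or_mem hm with h | h
        · exact hs₁ h
        · exact hs h
      · rw [map_mul, mul_assoc, heq, mul_left_comm, h1, pow_succ]
        ring
    · refine ⟨0, 1, t, ?_, ht ▸ hmem, ?_⟩
      · rw [map_one]
        exact fun h => (IsLocalRing.mem_maximalIdeal _).1 h isUnit_one
      · rw [map_one, one_mul, pow_zero, mul_one, ht]


theorem notMem_mul {x y : W} (hx : x ∉ 𝔪 W) (hy : y ∉ 𝔪 W) : x * y ∉ 𝔪 W := by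
  intro hm
  rcases (IsLocalRing.maximalIdeal.isMaximal W).isPrime.mem_or_mem hm with h | h
  · exact hx h
  · exact hy h

theorem claimA' (hw : (𝔪 A).map (algebraMap A B) = 𝔪 B)
    (hVW : Function.Injective (algebraMap V W))
    (hgen : ∀ w : W, ∃ x y : V ⊗[A] B, phi A B V W y ≠ 0 ∧ w * phi A B V W y = phi A B V W x)
    (w : W) : ∃ x s : V ⊗[A] B, phi A B V W s ∉ 𝔪 W ∧ w * phi A B V W s = phi A B V W x := by
  obtain ⟨π₁, hπ₁⟩ := IsDiscreteValuationRing.exists_irreducible V
  have hle : (𝔪 V).map (algebraMap V W) ≤ 𝔪 W :=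
    ((IsLocalRing.local_hom_TFAE (algebraMap V W)).out 0 2).1 ‹IsLocalHom (algebraMap V W)›
  have hϖ : algebraMap V W π₁ ∈ 𝔪 W :=
    hle (Ideal.mem_map_of_mem _ ((IsLocalRing.mem_maximalIdeal _).2 hπ₁.not_isUnit))
  have hϖ0 : algebraMap V W π₁ ≠ 0 := by
    rw [Ne, map_eq_zero_iff _ hVW]
    exact hπ₁.ne_zero
  by_cases hw0 : w = 0
  · refine ⟨0, 1, ?_, by rw [hw0, zero_mul, map_zero]⟩
    rw [map_one]
    exact fun h => (IsLocalRing.mem_maximalIdeal _).1 h isUnit_one
  obtain ⟨x, y, hy0, hxy⟩ := hgen w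
  have hx0 : phi A B V W x ≠ 0 := by
    rw [← hxy]
    exact mul_ne_zero hw0 hy0
  obtain ⟨n, s, s', hs, hs', h1⟩ := claimA hw hπ₁ _ hx0 x rfl
  obtain ⟨m, r, r', hr, hr', h2⟩ := claimA hw hπ₁ _ hy0 y rfl
  have key : w * (phi A B V W r' * phi A B V W s) * algebraMap V W π₁ ^ m =
      phi A B V W r * phi A B V W s' * algebraMap V W π₁ ^ n := by
    calc w * (phi A B V W r' * phi A B V W s) * algebraMap V W π₁ ^ m
        = w * phi A B V W s * (phi A B V W r' * algebraMap V W π₁ ^ m) := by ring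
      _ = w * phi A B V W s * (phi A B V W r * phi A B V W y) := by rw [h2]
      _ = phi A B V W r * (phi A B V W s * (w * phi A B V W y)) := by ring
      _ = phi A B V W r * (phi A B V W s' * algebraMap V W π₁ ^ n) := by rw [hxy, h1]
      _ = _ := by ring
  rcases le_or_gt m n with hmn | hmn
  · refine ⟨r * s' * (π₁ ⊗ₜ[A] (1 : B)) ^ (n - m), r' * s, ?_, ?_⟩
    · rw [map_mul]
      exact notMem_mul hr' hs
    · have hpow : algebraMap V W π₁ ^ n = algebraMap V W π₁ ^ (n - m) * algebraMap V W π₁ ^ m := by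
        rw [← pow_add, Nat.sub_add_cancel hmn]
      have key' : (w * (phi A B V W r' * phi A B V W s)) * algebraMap V W π₁ ^ m =
          (phi A B V W r * phi A B V W s' * algebraMap V W π₁ ^ (n - m)) *
            algebraMap V W π₁ ^ m := by
        rw [key, hpow]; ring
      have := mul_right_cancel₀ (pow_ne_zero m hϖ0) key'
      rw [map_mul, map_mul, map_mul, map_pow, phi_pi]
      exact this
  · exfalso
    have hpow : algebraMap V W π₁ ^ m = algebraMap V W π₁ ^ (m - n) * algebraMap V W π₁ ^ n := by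
      rw [← pow_add, Nat.sub_add_cancel hmn.le]
    have key' : (w * (phi A B V W r' * phi A B V W s) * algebraMap V W π₁ ^ (m - n)) *
        algebraMap V W π₁ ^ n = (phi A B V W r * phi A B V W s') * algebraMap V W π₁ ^ n := by
      rw [← key, hpow]; ring
    have h3 := mul_right_cancel₀ (pow_ne_zero n hϖ0) key'
    have h4 : phi A B V W r * phi A B V W s' ∉ 𝔪 W := notMem_mul hr hs'
    apply h4
    rw [← h3]
    apply Ideal.mul_mem_left
    have : m - n = (m - n - 1) + 1 := by omega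
    rw [this, pow_succ]
    exact Ideal.mul_mem_left _ _ hϖ

theorem core (hw : (𝔪 A).map (algebraMap A B) = 𝔪 B)
    (hVW : Function.Injective (algebraMap V W))
    (hgen : ∀ w : W, ∃ x y : V ⊗[A] B, phi A B V W y ≠ 0 ∧ w * phi A B V W y = phi A B V W x) :
    (𝔪 V).map (algebraMap V W) = 𝔪 W ∧ Algebra.IsGeometricallyReduced (κ V) (κ W) := by
  obtain ⟨π₁, hπ₁⟩ := IsDiscreteValuationRing.exists_irreducible V
  have hle : (𝔪 V).map (algebraMap V W) ≤ 𝔪 W :=
    ((IsLocalRing.local_hom_TFAE (algebraMap V W)).out 0 2).1 ‹IsLocalHom (algebraMap V W)›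
  constructor
  · apply le_antisymm hle
    intro w hwm
    obtain ⟨x, s, hs, hxs⟩ := claimA' hw hVW hgen w
    have hxm : phi A B V W x ∈ 𝔪 W := by
      rw [← hxs]
      exact Ideal.mul_mem_right _ _ hwm
    obtain ⟨s₁, t', hs₁, hst⟩ := star (W := W) hw hπ₁ x hxm
    have hu : IsUnit (phi A B V W s * phi A B V W s₁) := by
      by_contra h
      exact notMem_mul hs hs₁ ((IsLocalRing.mem_maximalIdeal _).2 h)
    obtain ⟨u, hu⟩ := hu
    have h1 : w * (u : W) = algebraMap V W π₁ * phi A B V W t' := by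
      rw [hu, ← mul_assoc, hxs, ← map_mul, mul_comm x, hst, map_mul, phi_pi]
    have h2 : w = algebraMap V W π₁ * (phi A B V W t' * ((u⁻¹ : Wˣ) : W)) := by
      rw [← mul_assoc, ← h1, mul_assoc, Units.mul_inv, mul_one]
    rw [h2]
    exact Ideal.mul_mem_right _ _
      (Ideal.mem_map_of_mem _ ((IsLocalRing.mem_maximalIdeal _).2 hπ₁.not_isUnit))
  · haveI : Algebra.IsGeometricallyReduced (κ V) (κ V ⊗[κ A] κ B) := isGeometricallyReduced_tensor
    refine isGeometricallyReduced_of_surjective (psi A B V W) ?_ (fun y hy => psi_loc y hy)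
    intro z
    obtain ⟨w, rfl⟩ := IsLocalRing.residue_surjective z
    obtain ⟨x, s, hs, hxs⟩ := claimA' hw hVW hgen w
    have hmaxk : (RingHom.ker (psi A B V W)).IsMaximal := by
      haveI : (RingHom.ker (psi A B V W)).IsPrime := RingHom.ker_isPrime _
      exact isMaximal_of_isPrime_tensor _
    have hs' : red A B V s ∉ RingHom.ker (psi A B V W) := by
      rw [RingHom.mem_ker, psi_red, IsLocalRing.residue_eq_zero_iff]
      exact hs
    obtain ⟨ub, i, hi, hub⟩ := hmaxk.exists_inv hs'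
    refine ⟨red A B V x * ub, ?_⟩
    have h1 : psi A B V W ub * psi A B V W (red A B V s) = 1 := by
      have := congrArg (psi A B V W) hub
      rw [map_add, map_mul, (RingHom.mem_ker).1 hi, add_zero, map_one] at this
      exact this
    rw [map_mul, psi_red, ← hxs, map_mul, ← psi_red, mul_assoc, mul_comm (psi A B V W _), h1,
      mul_one]

end Core

end Groth.Agent.Lib.Helper9.DvrSmooth
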