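import Mathlib
import Groth.Agent.Lib.Helper9.DvrSmooth

/-!
# Variant of `DvrSmooth.core` with an algebraic (not necessarily finite) residue extension `κ V / κ A`
(copy of the relevant part of `DvrSmooth` with `Module.Finite` weakened to `Algebra.IsAlgebraic`).
-/

open TensorProduct

universe u

set_option linter.unusedSectionVars false
set_option linter.style.haveILetI false
set_option linter.overlappingInstances false

namespace Groth.Agent.Lib.Helper9.DvrSmoothAlg

open Groth.Agent.Lib.Helper9.DvrSmooth hiding isReduced_tensor isMaximal_of_isPrime_tensor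
  isGeometricallyReduced_tensor psi_loc star claimA claimA' core phi_pi notMem_mul

local notation "𝔪" => IsLocalRing.maximalIdeal
local notation "κ" => IsLocalRing.ResidueField

section Rbar

variable {k k' F : Type*} [Field k] [Field k'] [Field F] [Algebra k k'] [Algebra k F]
  [Algebra.IsAlgebraic k k'] [Algebra.IsGeometricallyReduced k F]

theorem isReduced_tensor : IsReduced (k' ⊗[k] F) := inferInstance

theorem isMaximal_of_isPrime_tensor (P : Ideal (k' ⊗[k] F)) [hP : P.IsPrime] : P.IsMaximal := by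
  let e : k' ⊗[k] F ≃ₐ[k] F ⊗[k] k' := Algebra.TensorProduct.comm k k' F
  let P' : Ideal (F ⊗[k] k') := P.comap e.symm.toAlgHom.toRingHom
  have hP' : P'.IsPrime := Ideal.comap_isPrime _ _
  have hbot : (P'.comap (algebraMap F (F ⊗[k] k'))).IsMaximal := by
    have hpr : (P'.comap (algebraMap F (F ⊗[k] k'))).IsPrime := Ideal.comap_isPrime _ _
    have : P'.comap (algebraMap F (F ⊗[k] k')) = ⊥ :=
      (Ideal.eq_bot_or_top _).resolve_right hpr.ne_top
    rw [this]
    exact Ideal.bot_isMaximal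
  have hmax : P'.IsMaximal := Ideal.isMaximal_of_isIntegral_of_isMaximal_comap P' hbot
  have hPeq : P = P'.comap e.toAlgHom.toRingHom := by
    ext x
    simp only [P', Ideal.mem_comap]
    change x ∈ P ↔ e.symm (e x) ∈ P
    rw [AlgEquiv.symm_apply_apply]
  rw [hPeq]
  exact Ideal.comap_isMaximal_of_surjective _ e.surjective

theorem isGeometricallyReduced_tensor : Algebra.IsGeometricallyReduced k' (k' ⊗[k] F) := by
  rw [Algebra.isGeometricallyReduced_field_iff]
  have : Algebra.IsAlgebraic k (AlgebraicClosure k') := Algebra.IsAlgebraic.trans k k' _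
  let e : AlgebraicClosure k' ⊗[k'] (k' ⊗[k] F) ≃ₐ[k'] AlgebraicClosure k' ⊗[k] F :=
    Algebra.TensorProduct.cancelBaseChange k k' k' (AlgebraicClosure k') F
  exact isReduced_of_injective e e.injective

end Rbar

section Core

variable {A B V W : Type u} [CommRing A] [IsLocalRing A]
  [CommRing B] [IsLocalRing B]
  [CommRing V] [IsLocalRing V]
  [CommRing W] [IsLocalRing W]
  [Algebra A B] [Algebra A V] [Algebra B W] [Algebra V W] [Algebra A W]
  [IsScalarTower A B W] [IsScalarTower A V W]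
  [IsLocalHom (algebraMap A B)] [IsLocalHom (algebraMap A V)] [IsLocalHom (algebraMap B W)]
  [IsLocalHom (algebraMap V W)] [IsLocalHom (algebraMap A W)]

variable [IsDomain V] [IsDiscreteValuationRing V] [IsDomain W] [IsDiscreteValuationRing W]

variable [Algebra.IsGeometricallyReduced (κ A) (κ B)] [Algebra.IsAlgebraic (κ A) (κ V)]

theorem psi_loc (y : κ V ⊗[κ A] κ B) (hy : psi A B V W y = 0) :
    ∃ s, psi A B V W s ≠ 0 ∧ s * y = 0 := by
  have hpr : (RingHom.ker (psi A B V W)).IsPrime := RingHom.ker_isPrime _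
  have hred : IsReduced (κ V ⊗[κ A] κ B) := isReduced_tensor
  obtain ⟨s, hs, hsy⟩ := exists_notMem_mul_eq_zero
    (fun P hP => isMaximal_of_isPrime_tensor P) (RingHom.ker (psi A B V W)) y hy
  exact ⟨s, hs, hsy⟩

theorem star (hw : (𝔪 A).map (algebraMap A B) = 𝔪 B) {π₁ : V} (hπ₁ : Irreducible π₁)
    (t : V ⊗[A] B) (ht : phi A B V W t ∈ 𝔪 W) :
    ∃ s t', phi A B V W s ∉ 𝔪 W ∧ s * t = (π₁ ⊗ₜ[A] (1 : B)) * t' := by
  have h0 : psi A B V W (red A B V t) = 0 := by
    rw [psi_red, IsLocalRing.residue_eq_zero_iff]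
    exact ht
  obtain ⟨sb, hsb, hsby⟩ := psi_loc (W := W) _ h0
  obtain ⟨s, rfl⟩ := red_surjective sb
  have hst : s * t ∈ RingHom.ker (red A B V) := by
    rw [RingHom.mem_ker, map_mul]
    exact hsby
  obtain ⟨t', ht'⟩ := Ideal.mem_span_singleton'.1 (ker_red_le hw hπ₁ hst)
  refine ⟨s, t', ?_, ?_⟩
  · rw [psi_red] at hsb
    intro h
    exact hsb ((IsLocalRing.residue_eq_zero_iff _).2 h)
  · rw [← ht', mul_comm]


theorem phi_pi (π₁ : V) : phi A B V W (π₁ ⊗ₜ[A] (1 : B)) = algebraMap V W π₁ := by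
  simp [phi]

theorem claimA (hw : (𝔪 A).map (algebraMap A B) = 𝔪 B) {π₁ : V} (hπ₁ : Irreducible π₁) :
    ∀ w : W, w ≠ 0 → ∀ t : V ⊗[A] B, phi A B V W t = w →
      ∃ (n : ℕ) (s s' : V ⊗[A] B), phi A B V W s ∉ 𝔪 W ∧ phi A B V W s' ∉ 𝔪 W ∧
        phi A B V W s * w = phi A B V W s' * (algebraMap V W π₁) ^ n := by
  intro w
  induction w using WellFounded.induction (wellFounded_dvdNotUnit (α := W)) with
  | _ w ih =>
    intro hw0 t ht
    by_cases hmem : w ∈ 𝔪 W
    · obtain ⟨s, t', hs, hst⟩ := star (W := W) hw hπ₁ t (ht ▸ hmem)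
      have hsu : IsUnit (phi A B V W s) := by
        by_contra h
        exact hs ((IsLocalRing.mem_maximalIdeal _).2 h)
      have heq : phi A B V W s * w = algebraMap V W π₁ * phi A B V W t' := by
        rw [← ht, ← map_mul, hst, map_mul, phi_pi]
      have hle : (𝔪 V).map (algebraMap V W) ≤ 𝔪 W :=
        ((IsLocalRing.local_hom_TFAE (algebraMap V W)).out 0 2).1 ‹IsLocalHom (algebraMap V W)›
      have hϖ : algebraMap V W π₁ ∈ 𝔪 W :=
        hle (Ideal.mem_map_of_mem _ ((IsLocalRing.mem_maximalIdeal _).2 hπ₁.not_isUnit))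
      have ht'0 : phi A B V W t' ≠ 0 := by
        intro h0
        rw [h0, mul_zero] at heq
        exact hw0 ((hsu.mul_right_eq_zero).1 heq)
      obtain ⟨u, hu⟩ := hsu
      have hdvd : DvdNotUnit (phi A B V W t') w := by
        refine ⟨ht'0, algebraMap V W π₁ * ((u⁻¹ : Wˣ) : W), ?_, ?_⟩
        · intro hunit
          have : IsUnit (algebraMap V W π₁) := by
            have := hunit.mul (u.isUnit)
            rwa [mul_assoc, Units.inv_mul, mul_one] at this
          exact ((IsLocalRing.mem_maximalIdeal _).1 hϖ) this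
        · rw [← hu] at heq
          calc w = ((u⁻¹ : Wˣ) : W) * ((u : W) * w) := by rw [← mul_assoc, Units.inv_mul, one_mul]
            _ = phi A B V W t' * (algebraMap V W π₁ * ((u⁻¹ : Wˣ) : W)) := by rw [heq]; ring
      obtain ⟨n, s₁, s₁', hs₁, hs₁', h1⟩ := ih _ hdvd ht'0 t' rfl
      refine ⟨n + 1, s₁ * s, s₁', ?_, hs₁', ?_⟩
      · rw [map_mul]
        intro hm
        rcases (IsLocalRing.maximalIdeal.isMaximal W).isPrime.mem_or_mem hm with h | h
        · exact hs₁ h
        · exact hs h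
      · rw [map_mul, mul_assoc, heq, mul_left_comm, h1, pow_succ]
        ring
    · refine ⟨0, 1, t, ?_, ht ▸ hmem, ?_⟩
      · rw [map_one]
        exact fun h => (IsLocalRing.mem_maximalIdeal _).1 h isUnit_one
      · rw [map_one, one_mul, pow_zero, mul_one, ht]


theorem notMem_mul {x y : W} (hx : x ∉ 𝔪 W) (hy : y ∉ 𝔪 W) : x * y ∉ 𝔪 W := by
  intro hm
  rcases (IsLocalRing.maximalIdeal.isMaximal W).isPrime.mem_or_mem hm with h | h
  · exact hx h
  · exact hy h

theorem claimA' (hw : (𝔪 A).map (algebraMap A B) = 𝔪 B)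
    (hVW : Function.Injective (algebraMap V W))
    (hgen : ∀ w : W, ∃ x y : V ⊗[A] B, phi A B V W y ≠ 0 ∧ w * phi A B V W y = phi A B V W x)
    (w : W) : ∃ x s : V ⊗[A] B, phi A B V W s ∉ 𝔪 W ∧ w * phi A B V W s = phi A B V W x := by
  obtain ⟨π₁, hπ₁⟩ := IsDiscreteValuationRing.exists_irreducible V
  have hle : (𝔪 V).map (algebraMap V W) ≤ 𝔪 W :=
    ((IsLocalRing.local_hom_TFAE (algebraMap V W)).out 0 2).1 ‹IsLocalHom (algebraMap V W)›
  have hϖ : algebraMap V W π₁ ∈ 𝔪 W :=
    hle (Ideal.mem_map_of_mem _ ((IsLocalRing.mem_maximalIdeal _).2 hπ₁.not_isUnit))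
  have hϖ0 : algebraMap V W π₁ ≠ 0 := by
    rw [Ne, map_eq_zero_iff _ hVW]
    exact hπ₁.ne_zero
  by_cases hw0 : w = 0
  · refine ⟨0, 1, ?_, by rw [hw0, zero_mul, map_zero]⟩
    rw [map_one]
    exact fun h => (IsLocalRing.mem_maximalIdeal _).1 h isUnit_one
  obtain ⟨x, y, hy0, hxy⟩ := hgen w
  have hx0 : phi A B V W x ≠ 0 := by
    rw [← hxy]
    exact mul_ne_zero hw0 hy0
  obtain ⟨n, s, s', hs, hs', h1⟩ := claimA hw hπ₁ _ hx0 x rfl
  obtain ⟨m, r, r', hr, hr', h2⟩ := claimA hw hπ₁ _ hy0 y rfl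
  have key : w * (phi A B V W r' * phi A B V W s) * algebraMap V W π₁ ^ m =
      phi A B V W r * phi A B V W s' * algebraMap V W π₁ ^ n := by
    calc w * (phi A B V W r' * phi A B V W s) * algebraMap V W π₁ ^ m
        = w * phi A B V W s * (phi A B V W r' * algebraMap V W π₁ ^ m) := by ring
      _ = w * phi A B V W s * (phi A B V W r * phi A B V W y) := by rw [h2]
      _ = phi A B V W r * (phi A B V W s * (w * phi A B V W y)) := by ring
      _ = phi A B V W r * (phi A B V W s' * algebraMap V W π₁ ^ n) := by rw [hxy, h1]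
      _ = _ := by ring
  rcases le_or_gt m n with hmn | hmn
  · refine ⟨r * s' * (π₁ ⊗ₜ[A] (1 : B)) ^ (n - m), r' * s, ?_, ?_⟩
    · rw [map_mul]
      exact notMem_mul hr' hs
    · have hpow : algebraMap V W π₁ ^ n = algebraMap V W π₁ ^ (n - m) * algebraMap V W π₁ ^ m := by
        rw [← pow_add, Nat.sub_add_cancel hmn]
      have key' : (w * (phi A B V W r' * phi A B V W s)) * algebraMap V W π₁ ^ m =
          (phi A B V W r * phi A B V W s' * algebraMap V W π₁ ^ (n - m)) *
            algebraMap V W π₁ ^ m := by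
        rw [key, hpow]; ring
      have := mul_right_cancel₀ (pow_ne_zero m hϖ0) key'
      rw [map_mul, map_mul, map_mul, map_pow, phi_pi]
      exact this
  · exfalso
    have hpow : algebraMap V W π₁ ^ m = algebraMap V W π₁ ^ (m - n) * algebraMap V W π₁ ^ n := by
      rw [← pow_add, Nat.sub_add_cancel hmn.le]
    have key' : (w * (phi A B V W r' * phi A B V W s) * algebraMap V W π₁ ^ (m - n)) *
        algebraMap V W π₁ ^ n = (phi A B V W r * phi A B V W s') * algebraMap V W π₁ ^ n := by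
      rw [← key, hpow]; ring
    have h3 := mul_right_cancel₀ (pow_ne_zero n hϖ0) key'
    have h4 : phi A B V W r * phi A B V W s' ∉ 𝔪 W := notMem_mul hr hs'
    apply h4
    rw [← h3]
    apply Ideal.mul_mem_left
    have : m - n = (m - n - 1) + 1 := by omega
    rw [this, pow_succ]
    exact Ideal.mul_mem_left _ _ hϖ

theorem core (hw : (𝔪 A).map (algebraMap A B) = 𝔪 B)
    (hVW : Function.Injective (algebraMap V W))
    (hgen : ∀ w : W, ∃ x y : V ⊗[A] B, phi A B V W y ≠ 0 ∧ w * phi A B V W y = phi A B V W x) :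
    (𝔪 V).map (algebraMap V W) = 𝔪 W ∧ Algebra.IsGeometricallyReduced (κ V) (κ W) := by
  obtain ⟨π₁, hπ₁⟩ := IsDiscreteValuationRing.exists_irreducible V
  have hle : (𝔪 V).map (algebraMap V W) ≤ 𝔪 W :=
    ((IsLocalRing.local_hom_TFAE (algebraMap V W)).out 0 2).1 ‹IsLocalHom (algebraMap V W)›
  constructor
  · apply le_antisymm hle
    intro w hwm
    obtain ⟨x, s, hs, hxs⟩ := claimA' hw hVW hgen w
    have hxm : phi A B V W x ∈ 𝔪 W := by
      rw [← hxs]
      exact Ideal.mul_mem_right _ _ hwm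
    obtain ⟨s₁, t', hs₁, hst⟩ := star (W := W) hw hπ₁ x hxm
    have hu : IsUnit (phi A B V W s * phi A B V W s₁) := by
      by_contra h
      exact notMem_mul hs hs₁ ((IsLocalRing.mem_maximalIdeal _).2 h)
    obtain ⟨u, hu⟩ := hu
    have h1 : w * (u : W) = algebraMap V W π₁ * phi A B V W t' := by
      rw [hu, ← mul_assoc, hxs, ← map_mul, mul_comm x, hst, map_mul, phi_pi]
    have h2 : w = algebraMap V W π₁ * (phi A B V W t' * ((u⁻¹ : Wˣ) : W)) := by
      rw [← mul_assoc, ← h1, mul_assoc, Units.mul_inv, mul_one]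
    rw [h2]
    exact Ideal.mul_mem_right _ _
      (Ideal.mem_map_of_mem _ ((IsLocalRing.mem_maximalIdeal _).2 hπ₁.not_isUnit))
  · haveI : Algebra.IsGeometricallyReduced (κ V) (κ V ⊗[κ A] κ B) := isGeometricallyReduced_tensor
    refine isGeometricallyReduced_of_surjective (psi A B V W) ?_ (fun y hy => psi_loc y hy)
    intro z
    obtain ⟨w, rfl⟩ := IsLocalRing.residue_surjective z
    obtain ⟨x, s, hs, hxs⟩ := claimA' hw hVW hgen w
    have hmaxk : (RingHom.ker (psi A B V W)).IsMaximal := by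
      haveI : (RingHom.ker (psi A B V W)).IsPrime := RingHom.ker_isPrime _
      exact isMaximal_of_isPrime_tensor _
    have hs' : red A B V s ∉ RingHom.ker (psi A B V W) := by
      rw [RingHom.mem_ker, psi_red, IsLocalRing.residue_eq_zero_iff]
      exact hs
    obtain ⟨ub, i, hi, hub⟩ := hmaxk.exists_inv hs'
    refine ⟨red A B V x * ub, ?_⟩
    have h1 : psi A B V W ub * psi A B V W (red A B V s) = 1 := by
      have := congrArg (psi A B V W) hub
      rw [map_add, map_mul, (RingHom.mem_ker).1 hi, add_zero, map_one] at this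
      exact this
    rw [map_mul, psi_red, ← hxs, map_mul, ← psi_red, mul_assoc, mul_comm (psi A B V W _), h1,
      mul_one]

end Core

end Groth.Agent.Lib.Helper9.DvrSmoothAlg
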