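import Mathlib
import Groth.Agent.Lib.Helper9.DvrSmoothAlg

/-!
# Linear disjointness of a purely inseparable extension from a separable compositum

`L/K` geometrically reduced, `K ⊆ K₁ ⊆ K₂` with `K₂^p ⊆ K₁`, `F = L[K₁]`.  Then `K₂ ⊗_{K₁} F` is reduced
and any `α ∈ K₂ ∖ K₁` stays outside `F` in every common overfield.
-/

open TensorProduct

universe u

set_option linter.unusedSectionVars false
set_option linter.style.haveILetI false
set_option linter.overlappingInstances false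

namespace Groth.Agent.Lib.Helper9.PInsepIndep

/-- In a reduced ring all of whose primes are maximal, `x ∈ x² R`. -/
theorem exists_eq_sq_mul {R : Type*} [CommRing R] [IsReduced R]
    (hmax : ∀ P : Ideal R, P.IsPrime → P.IsMaximal) (x : R) : ∃ u : R, x = x * x * u := by
  classical
  let J : Ideal R := Ideal.span {x} ⊔ (Ideal.span {x}).annihilator
  have h1 : (1 : R) ∈ J := by
    by_contra hcon
    have hJ : J ≠ ⊤ := fun h => hcon (by rw [h]; trivial)
    obtain ⟨𝔪, h𝔪, hJ𝔪⟩ := Ideal.exists_le_maximal J hJ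
    have hpr : 𝔪.IsPrime := h𝔪.isPrime
    have hmin : 𝔪 ∈ minimalPrimes R := by
      refine ⟨⟨hpr, bot_le⟩, fun q hq hle => ?_⟩
      have hqmax := hmax q hq.1
      have : q = 𝔪 := hqmax.eq_of_le hpr.ne_top hle
      rw [this]
    have hx𝔪 : x ∈ 𝔪 := hJ𝔪 (Ideal.mem_sup_left (Ideal.subset_span rfl))
    have : Ring.KrullDimLE 0 (Localization.AtPrime 𝔪) := .of_isLocalization _ hmin _
    let _ : Field (Localization.AtPrime 𝔪) := Ring.KrullDimLE.isField_of_isReduced.toField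
    obtain ⟨⟨s, hs𝔪⟩, hs⟩ := (IsLocalization.map_eq_zero_iff 𝔪.primeCompl (Localization.AtPrime 𝔪)
      x).mp (by rw [← Ideal.mem_bot, ← IsLocalRing.maximalIdeal_eq_bot,
        ← Localization.AtPrime.map_eq_maximalIdeal]; exact Ideal.mem_map_of_mem _ hx𝔪)
    have hsann : s ∈ (Ideal.span {x}).annihilator := by
      rw [Submodule.mem_annihilator_span_singleton]
      simpa [mul_comm] using hs
    exact hs𝔪 (hJ𝔪 (Ideal.mem_sup_right hsann))
  obtain ⟨y, hy, z, hz, hyz⟩ := Submodule.mem_sup.1 h1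
  obtain ⟨a, rfl⟩ := Ideal.mem_span_singleton'.1 hy
  rw [Submodule.mem_annihilator_span_singleton] at hz
  refine ⟨a, ?_⟩
  have hz' : z * x = 0 := hz
  calc x = x * 1 := (mul_one x).symm
    _ = x * (a * x + z) := by rw [hyz]
    _ = x * x * a + x * z := by ring
    _ = x * x * a := by rw [mul_comm x z, hz', add_zero]

/-- quotients of reduced zero-dimensional rings are reduced. -/
theorem isReduced_of_surjective {R S : Type*} [CommRing R] [CommRing S] [IsReduced R]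
    (hmax : ∀ P : Ideal R, P.IsPrime → P.IsMaximal) (f : R →+* S) (hf : Function.Surjective f) :
    IsReduced S := by
  refine ⟨fun y hy => ?_⟩
  obtain ⟨x, rfl⟩ := hf y
  obtain ⟨u, hu⟩ := exists_eq_sq_mul hmax x
  have key : ∀ n : ℕ, x = x ^ (n + 1) * u ^ n := by
    intro n
    induction n with
    | zero => simp
    | succ n ih =>
      calc x = x * x * u := hu
        _ = (x ^ (n + 1) * u ^ n) * x * u := by rw [← ih]
        _ = x ^ (n + 1 + 1) * u ^ (n + 1) := by ring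
  obtain ⟨k, hk⟩ := hy
  have h2 := congrArg f (key k)
  rw [map_mul, map_pow, pow_succ, hk, zero_mul, zero_mul] at h2
  exact h2

section Main

variable {K L K₁ K₂ F Ω : Type u} [Field K] [Field L] [Field K₁] [Field K₂] [Field F] [Field Ω]
  [Algebra K L] [Algebra K K₁] [Algebra K K₂] [Algebra K₁ K₂] [IsScalarTower K K₁ K₂]
  [Algebra K F] [Algebra L F] [Algebra K₁ F] [IsScalarTower K L F] [IsScalarTower K K₁ F]

/-- `K₂ ⊗_{K₁} F` is reduced when `F = L[K₁]` with `L/K` geometrically reduced. -/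
theorem isReduced_tensor [Algebra.IsGeometricallyReduced K L] [Algebra.IsAlgebraic K K₂]
    (hgen : Algebra.adjoin L (Set.range (algebraMap K₁ F)) = ⊤) : IsReduced (K₂ ⊗[K₁] F) := by
  classical
  letI algKR : Algebra K (K₂ ⊗[K₁] F) :=
    ((algebraMap K₁ (K₂ ⊗[K₁] F)).comp (algebraMap K K₁)).toAlgebra
  have halgK : ∀ k : K, algebraMap K (K₂ ⊗[K₁] F) k = (algebraMap K K₂ k) ⊗ₜ[K₁] (1 : F) := by
    intro k
    change algebraMap K₁ (K₂ ⊗[K₁] F) (algebraMap K K₁ k) = _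
    rw [Algebra.TensorProduct.algebraMap_apply, ← IsScalarTower.algebraMap_apply K K₁ K₂]
  let g₂ : K₂ →ₐ[K] K₂ ⊗[K₁] F :=
    { toRingHom := (Algebra.TensorProduct.includeLeft : K₂ →ₐ[K₁] K₂ ⊗[K₁] F).toRingHom
      commutes' := fun k => by
        rw [halgK]
        rfl }
  let gL : L →ₐ[K] K₂ ⊗[K₁] F :=
    { toRingHom := ((Algebra.TensorProduct.includeRight : F →ₐ[K₁] K₂ ⊗[K₁] F).toRingHom).comp
        (algebraMap L F)
      commutes' := fun k => by
        rw [halgK]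
        change (1 : K₂) ⊗ₜ[K₁] (algebraMap L F (algebraMap K L k)) = _
        rw [← IsScalarTower.algebraMap_apply K L F, IsScalarTower.algebraMap_apply K K₁ F,
          IsScalarTower.algebraMap_apply K K₁ K₂, Algebra.algebraMap_eq_smul_one,
          Algebra.algebraMap_eq_smul_one (A := K₂), TensorProduct.smul_tmul] }
  let ψ : K₂ ⊗[K] L →ₐ[K] K₂ ⊗[K₁] F := Algebra.TensorProduct.productMap g₂ gL
  have hψ : ∀ (x : K₂) (ℓ : L), ψ (x ⊗ₜ ℓ) = x ⊗ₜ[K₁] (algebraMap L F ℓ) := by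
    intro x ℓ
    rw [Algebra.TensorProduct.productMap_apply_tmul]
    change (x ⊗ₜ[K₁] (1 : F)) * ((1 : K₂) ⊗ₜ[K₁] (algebraMap L F ℓ)) = _
    rw [Algebra.TensorProduct.tmul_mul_tmul, mul_one, one_mul]
  have hpure : ∀ f ∈ Algebra.adjoin L (Set.range (algebraMap K₁ F)), ∀ x : K₂,
      ∃ r, ψ r = x ⊗ₜ[K₁] f := by
    intro f hf
    induction hf using Algebra.adjoin_induction with
    | mem f hf =>
      obtain ⟨k, rfl⟩ := hf
      intro x
      refine ⟨(k • x) ⊗ₜ 1, ?_⟩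
      rw [hψ, map_one, Algebra.algebraMap_eq_smul_one, TensorProduct.smul_tmul]
    | algebraMap ℓ =>
      intro x
      exact ⟨x ⊗ₜ ℓ, hψ x ℓ⟩
    | add f g _ _ hf hg =>
      intro x
      obtain ⟨r₁, h₁⟩ := hf x
      obtain ⟨r₂, h₂⟩ := hg x
      exact ⟨r₁ + r₂, by rw [map_add, h₁, h₂, TensorProduct.tmul_add]⟩
    | mul f g _ _ hf hg =>
      intro x
      obtain ⟨r₁, h₁⟩ := hf x
      obtain ⟨r₂, h₂⟩ := hg 1
      refine ⟨r₁ * r₂, ?_⟩
      rw [map_mul, h₁, h₂, Algebra.TensorProduct.tmul_mul_tmul, mul_one]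
  have hsurj : Function.Surjective ψ := by
    intro r
    induction r using TensorProduct.induction_on with
    | zero => exact ⟨0, map_zero _⟩
    | tmul x f => exact hpure f (by rw [hgen]; trivial) x
    | add r s hr hs =>
      obtain ⟨r', rfl⟩ := hr
      obtain ⟨s', rfl⟩ := hs
      exact ⟨r' + s', map_add _ _ _⟩
  haveI : IsReduced (K₂ ⊗[K] L) := inferInstance
  exact isReduced_of_surjective
    (fun P hP => Groth.Agent.Lib.Helper9.DvrSmoothAlg.isMaximal_of_isPrime_tensor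
      (k := K) (k' := K₂) (F := L) P) ψ.toRingHom hsurj

variable [Algebra K₁ Ω] [Algebra K₂ Ω] [Algebra F Ω] [IsScalarTower K₁ K₂ Ω] [IsScalarTower K₁ F Ω]

/-- elements of `K₂ ∖ K₁` do not lie in `F = L[K₁]`. -/
theorem not_mem_range (p : ℕ) (hp : p.Prime) [CharP K p]
    [Algebra.IsGeometricallyReduced K L] [Algebra.IsAlgebraic K K₂]
    (hgen : Algebra.adjoin L (Set.range (algebraMap K₁ F)) = ⊤)
    (hpow : ∀ x : K₂, ∃ k : K₁, algebraMap K₁ K₂ k = x ^ p)
    (α : K₂) (hα : α ∉ Set.range (algebraMap K₁ K₂)) :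
    algebraMap K₂ Ω α ∉ Set.range (algebraMap F Ω) := by
  classical
  haveI : Fact p.Prime := ⟨hp⟩
  haveI hred : IsReduced (K₂ ⊗[K₁] F) := isReduced_tensor (K := K) (L := L) hgen
  let μ : K₂ ⊗[K₁] F →ₐ[K₁] Ω :=
    Algebra.TensorProduct.productMap (IsScalarTower.toAlgHom K₁ K₂ Ω) (IsScalarTower.toAlgHom K₁ F Ω)
  have hμ : ∀ (x : K₂) (f : F), μ (x ⊗ₜ f) = algebraMap K₂ Ω x * algebraMap F Ω f := by
    intro x f
    rw [Algebra.TensorProduct.productMap_apply_tmul]
    rfl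
  haveI : Nontrivial (K₂ ⊗[K₁] F) := by
    refine ⟨⟨0, 1, fun h => ?_⟩⟩
    have := congrArg μ h
    rw [map_zero, map_one] at this
    exact zero_ne_one this
  haveI : CharP K₁ p := charP_of_injective_algebraMap (algebraMap K K₁).injective p
  haveI : CharP (K₂ ⊗[K₁] F) p :=
    charP_of_injective_algebraMap (algebraMap K₁ (K₂ ⊗[K₁] F)).injective p
  have key : ∀ r : K₂ ⊗[K₁] F, ∃ z : F, r ^ p = (1 : K₂) ⊗ₜ[K₁] z := by
    intro r
    induction r using TensorProduct.induction_on with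
    | zero => exact ⟨0, by rw [zero_pow hp.ne_zero, TensorProduct.tmul_zero]⟩
    | tmul x f =>
      obtain ⟨k, hk⟩ := hpow x
      refine ⟨k • f ^ p, ?_⟩
      rw [Algebra.TensorProduct.tmul_pow, ← hk, Algebra.algebraMap_eq_smul_one,
        TensorProduct.smul_tmul]
    | add r s hr hs =>
      obtain ⟨z₁, h₁⟩ := hr
      obtain ⟨z₂, h₂⟩ := hs
      exact ⟨z₁ + z₂, by rw [add_pow_char, h₁, h₂, TensorProduct.tmul_add]⟩
  have hinj : Function.Injective μ := by
    rw [injective_iff_map_eq_zero]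
    intro r hr
    obtain ⟨z, hz⟩ := key r
    have h1 : μ (r ^ p) = 0 := by rw [map_pow, hr, zero_pow hp.ne_zero]
    rw [hz, hμ, map_one, one_mul, map_eq_zero] at h1
    rw [h1, TensorProduct.tmul_zero] at hz
    exact IsReduced.eq_zero _ ⟨p, hz⟩
  rintro ⟨y, hy⟩
  have heq : (α ⊗ₜ[K₁] (1 : F)) = (1 : K₂) ⊗ₜ[K₁] y := by
    apply hinj
    rw [hμ, hμ, map_one, map_one, mul_one, one_mul, hy]
  let P : Submodule K₁ K₂ := LinearMap.range (Algebra.linearMap K₁ K₂)
  have hαP : α ∉ P := by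
    rintro ⟨k, hk⟩
    exact hα ⟨k, hk⟩
  obtain ⟨lam, hlam, hP⟩ := Submodule.exists_le_ker_of_notMem hαP
  have h1P : (1 : K₂) ∈ P := ⟨1, by simp⟩
  have hlam1 : lam 1 = 0 := hP h1P
  let Λ : K₂ ⊗[K₁] F →ₗ[K₁] F := (TensorProduct.lid K₁ F).toLinearMap ∘ₗ (lam.rTensor F)
  have hΛ : ∀ (x : K₂) (f : F), Λ (x ⊗ₜ f) = lam x • f := by
    intro x f
    simp [Λ]
  have h2 := congrArg Λ heq
  rw [hΛ, hΛ, hlam1, zero_smul] at h2
  rw [smul_eq_zero] at h2
  rcases h2 with h2 | h2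
  · exact hlam h2
  · exact one_ne_zero h2

end Main

end Groth.Agent.Lib.Helper9.PInsepIndep
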