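import Mathlib
import Groth.Prelude.Def_EtRam
import Groth.Agent.Lib.Helper9.DvrExt

/-!
# Valuation rings dominating a DVR are "localizations of the integral closure" (Seidenberg's lemma)

`B` a DVR, `W` a valuation subring of a field `Ω` dominating `B`, `w ∈ W` algebraic over `B`.
Then there is `s` integral over `B`, a unit of `W`, with `s * w` integral over `B`.
-/

open Polynomial

universe u

set_option linter.unusedSectionVars false
set_option linter.style.haveILetI false
set_option linter.overlappingInstances false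

namespace Groth.Agent.Lib.Helper9.SeidenbergLoc

variable {B Ω : Type u} [CommRing B] [Field Ω] [Algebra B Ω]

/-- integral elements lie in any valuation subring containing the image of `B`. -/
theorem mem_of_isIntegral (W : ValuationSubring Ω) (hB : ∀ b : B, algebraMap B Ω b ∈ W)
    {x : Ω} (hx : IsIntegral B x) : x ∈ W := by
  obtain ⟨f, hfm, hf⟩ := hx
  by_contra hxW
  -- x ∉ W ⇒ x⁻¹ ∈ 𝔪_W
  have hx0 : x ≠ 0 := fun h => hxW (h ▸ W.zero_mem)
  have hv : 1 < W.valuation x := by
    by_contra h
    exact hxW ((W.valuation_le_one_iff x).1 (not_lt.1 h))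
  -- leading term dominates
  have hdeg : f.natDegree ≠ 0 := by
    intro h0
    have := eq_one_of_monic_natDegree_zero hfm h0
    rw [this] at hf
    simp at hf
  rw [eval₂_eq_sum_range] at hf
  have hsplit : ∑ i ∈ Finset.range (f.natDegree + 1), algebraMap B Ω (f.coeff i) * x ^ i =
      (∑ i ∈ Finset.range f.natDegree, algebraMap B Ω (f.coeff i) * x ^ i) + x ^ f.natDegree := by
    rw [Finset.sum_range_succ, hfm.coeff_natDegree, map_one, one_mul]
  rw [hsplit] at hf
  have hlt : W.valuation (∑ i ∈ Finset.range f.natDegree, algebraMap B Ω (f.coeff i) * x ^ i) <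
      W.valuation (x ^ f.natDegree) := by
    apply Valuation.map_sum_lt
    · rw [map_pow]
      exact pow_ne_zero _ (ne_of_gt (lt_trans zero_lt_one hv))
    · intro i hi
      rw [Finset.mem_range] at hi
      rw [map_mul, map_pow, map_pow]
      calc W.valuation (algebraMap B Ω (f.coeff i)) * W.valuation x ^ i
          ≤ 1 * W.valuation x ^ i :=
            mul_le_mul_left ((W.valuation_le_one_iff _).2 (hB _)) _
        _ = W.valuation x ^ i := one_mul _
        _ < W.valuation x ^ f.natDegree := pow_lt_pow_right₀ hv hi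
  have h2 := Valuation.map_add_eq_of_lt_right W.valuation hlt
  rw [hf, map_zero] at h2
  rw [map_pow] at h2
  exact (pow_ne_zero _ (ne_of_gt (lt_trans zero_lt_one hv))) h2.symm

/-- Seidenberg-type induction. -/
theorem exists_of_poly (W : ValuationSubring Ω) (hB : ∀ b : B, algebraMap B Ω b ∈ W)
    (w : Ω) (hw : w ∈ W) (f : (integralClosure B Ω)[X]) (hf : aeval w f = 0) (n : ℕ)
    (hn : W.valuation ((f.coeff n : integralClosure B Ω) : Ω) = 1) :
    ∃ s : Ω, IsIntegral B s ∧ W.valuation s = 1 ∧ IsIntegral B (s * w) := by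
  induction hm : f.natDegree using Nat.strong_induction_on generalizing f n with | h m IH =>
  have hC : ∀ c : integralClosure B Ω, W.valuation (c : Ω) ≤ 1 := fun c =>
    (W.valuation_le_one_iff _).2 (mem_of_isIntegral W hB c.2)
  obtain (_ | m) := m
  · obtain ⟨r, rfl⟩ := natDegree_eq_zero.mp hm
    rw [aeval_C] at hf
    have hr : r = 0 := by
      apply Subtype.ext
      exact hf
    rw [hr, map_zero, coeff_zero] at hn
    simp at hn
  by_cases Hlead : W.valuation ((f.leadingCoeff : integralClosure B Ω) : Ω) = 1
  · refine ⟨(f.leadingCoeff : Ω), f.leadingCoeff.2, Hlead, ?_⟩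
    have h1 : IsIntegral (integralClosure B Ω) (f.leadingCoeff • w) :=
      isIntegral_leadingCoeff_smul f w hf
    have h2 : IsIntegral B (f.leadingCoeff • w) := isIntegral_trans _ h1
    exact h2
  · have hleadlt : W.valuation ((f.leadingCoeff : integralClosure B Ω) : Ω) < 1 :=
      lt_of_le_of_ne (hC _) Hlead
    have h1 : IsIntegral (integralClosure B Ω) (f.leadingCoeff • w) :=
      isIntegral_leadingCoeff_smul f w hf
    have h2 : IsIntegral B (f.leadingCoeff • w) := isIntegral_trans _ h1
    let a : integralClosure B Ω := ⟨f.leadingCoeff • w, h2⟩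
    have ha : (a : Ω) = (f.leadingCoeff : Ω) * w := rfl
    have hav : W.valuation (a : Ω) < 1 := by
      rw [ha, map_mul]
      calc W.valuation (f.leadingCoeff : Ω) * W.valuation w
          ≤ W.valuation (f.leadingCoeff : Ω) * 1 :=
            mul_le_mul_right ((W.valuation_le_one_iff _).2 hw) _
        _ = W.valuation (f.leadingCoeff : Ω) := mul_one _
        _ < 1 := hleadlt
    have hnne : n ≠ f.natDegree := by
      rintro rfl
      rw [coeff_natDegree] at hn
      exact Hlead hn
    refine IH (f.eraseLead + C a * X ^ m).natDegree ?_ (f.eraseLead + C a * X ^ m) ?_ n ?_ rfl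
    · have h3 : f.eraseLead.natDegree ≤ m := (eraseLead_natDegree_le f).trans (by omega)
      have h4 : (C a * X ^ m).natDegree ≤ m := natDegree_C_mul_X_pow_le a m
      exact lt_of_le_of_lt ((natDegree_add_le _ _).trans (max_le h3 h4)) (Nat.lt_succ_self m)
    · have h5 : aeval w f = aeval w f.eraseLead + (f.leadingCoeff : Ω) * w ^ (m + 1) := by
        conv_lhs => rw [← eraseLead_add_C_mul_X_pow f]
        rw [map_add, map_mul, aeval_C, map_pow, aeval_X, hm]
        rfl
      rw [hf] at h5
      rw [map_add, map_mul, aeval_C, map_pow, aeval_X]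
      change aeval w f.eraseLead + (a : Ω) * w ^ m = 0
      rw [ha]
      have h6 : (f.leadingCoeff : Ω) * w * w ^ m = (f.leadingCoeff : Ω) * w ^ (m + 1) := by
        rw [pow_succ]
        ring
      rw [h6]
      exact h5.symm
    · rw [coeff_add, eraseLead_coeff, if_neg hnne, coeff_C_mul, coeff_X_pow]
      by_cases hnm : n = m
      · rw [if_pos hnm, mul_one]
        change W.valuation (((f.coeff n : integralClosure B Ω) : Ω) + (a : Ω)) = 1
        rw [Valuation.map_add_eq_of_lt_left _ (by rw [hn]; exact hav), hn]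
      · rw [if_neg hnm, mul_zero, add_zero]
        exact hn

variable [IsDomain B] [IsDiscreteValuationRing B]

/-- Main form. -/
theorem exists_integral_unit_mul (W : ValuationSubring Ω)
    (hW : EtRam.Dominates B (algebraMap B Ω) W) (hinj : Function.Injective (algebraMap B Ω))
    (w : Ω) (hw : w ∈ W) (halg : IsAlgebraic B w) :
    ∃ s : Ω, IsIntegral B s ∧ W.valuation s = 1 ∧ IsIntegral B (s * w) := by
  classical
  letI := UniqueFactorizationMonoid.normalizationMonoid (α := B)
  letI := UniqueFactorizationMonoid.toNormalizedGCDMonoid B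
  obtain ⟨f₀, hf₀, hf₀w⟩ := halg
  have hcont : f₀.content ≠ 0 := by
    rw [Ne, content_eq_zero_iff]
    exact hf₀
  have hprim : f₀.primPart.IsPrimitive := f₀.isPrimitive_primPart
  have hw1 : aeval w f₀.primPart = 0 := by
    have h1 := f₀.eq_C_content_mul_primPart
    rw [h1, map_mul, aeval_C] at hf₀w
    rcases mul_eq_zero.1 hf₀w with h | h
    · exact absurd ((injective_iff_map_eq_zero _).1 hinj _ h) hcont
    · exact h
  obtain ⟨ϖ, hϖ⟩ := IsDiscreteValuationRing.exists_irreducible B
  -- some coefficient of the primitive part is a unit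
  have hex : ∃ n, IsUnit (f₀.primPart.coeff n) := by
    by_contra hcon
    push Not at hcon
    have hdvd : C ϖ ∣ f₀.primPart := by
      rw [C_dvd_iff_dvd_coeff]
      intro i
      have hi : f₀.primPart.coeff i ∈ IsLocalRing.maximalIdeal B :=
        (IsLocalRing.mem_maximalIdeal _).2 (hcon i)
      rw [hϖ.maximalIdeal_eq, Ideal.mem_span_singleton] at hi
      exact hi
    exact hϖ.not_isUnit (hprim ϖ hdvd)
  obtain ⟨n, hn⟩ := hex
  have hB : ∀ b : B, algebraMap B Ω b ∈ W := hW.1
  have hunit : W.valuation (algebraMap B Ω (f₀.primPart.coeff n)) = 1 := by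
    obtain ⟨u, hu⟩ := hn
    rw [← hu]
    apply le_antisymm ((W.valuation_le_one_iff _).2 (hB _))
    have h1 : W.valuation (algebraMap B Ω ((u⁻¹ : Bˣ) : B)) ≤ 1 := (W.valuation_le_one_iff _).2 (hB _)
    have h2 : algebraMap B Ω (u : B) * algebraMap B Ω ((u⁻¹ : Bˣ) : B) = 1 := by
      rw [← map_mul, Units.mul_inv, map_one]
    have h3 := congrArg W.valuation h2
    rw [map_mul, map_one] at h3
    by_contra hlt
    push Not at hlt
    have : W.valuation (algebraMap B Ω (u : B)) * W.valuation (algebraMap B Ω ((u⁻¹ : Bˣ) : B)) < 1 :=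
      calc _ ≤ W.valuation (algebraMap B Ω (u : B)) * 1 := mul_le_mul_right h1 _
        _ = W.valuation (algebraMap B Ω (u : B)) := mul_one _
        _ < 1 := hlt
    exact (ne_of_lt this) h3
  refine exists_of_poly W hB w hw (f₀.primPart.map (algebraMap B (integralClosure B Ω))) ?_ n ?_
  · rw [aeval_map_algebraMap]
    exact hw1
  · rw [coeff_map]
    exact hunit

end Groth.Agent.Lib.Helper9.SeidenbergLoc
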