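import Mathlib
import Groth.Prelude.Def_EtRam
import Groth.Agent.Lib.Helper9.DvrExt
import Groth.Agent.Lib.Helper9.DvrTower
import Groth.Agent.Lib.Helper9.DvrSmooth

open TensorProduct

universe u

set_option linter.unusedSectionVars false
set_option linter.style.haveILetI false
set_option linter.overlappingInstances false

namespace Groth.Agent.Lib.Helper9.DvrSmoothApp

open Groth.Agent.Lib.Helper9.DvrExt Groth.Agent.Lib.Helper9.DvrTower
  Groth.Agent.Lib.Helper9.DvrSmooth

local notation "𝔪" => IsLocalRing.maximalIdeal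
local notation "κ" => IsLocalRing.ResidueField

theorem dominates_comp {A B : Type u} [CommRing A] [IsLocalRing A] [CommRing B] [IsLocalRing B]
    [Algebra A B] [IsLocalHom (algebraMap A B)] {F : Type u} [Field F] (g : B →+* F)
    (W : ValuationSubring F) (h : EtRam.Dominates B g W) :
    EtRam.Dominates A (g.comp (algebraMap A B)) W := by
  refine ⟨fun a => h.1 _, fun a ha => h.2 _ ?_⟩
  have hle : (𝔪 A).map (algebraMap A B) ≤ 𝔪 B :=
    ((IsLocalRing.local_hom_TFAE (algebraMap A B)).out 0 2).1 ‹IsLocalHom (algebraMap A B)›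
  exact hle (Ideal.mem_map_of_mem _ ha)

/-- Generation: every element of a field `M` generated over `L = Frac B` by the image of
`K₁ = Frac V` is a quotient of elements in the image of `V ⊗ B`. -/
theorem exists_quot_of_adjoin_eq_top {A B V L K₁ M : Type u} [CommRing A] [CommRing B] [CommRing V]
    [IsDomain B] [IsDomain V]
    [Algebra A B] [Algebra A V] [Field L] [Field K₁] [Field M] [Algebra B L] [IsFractionRing B L]
    [Algebra V K₁] [IsFractionRing V K₁] [Algebra L M] [Algebra K₁ M]
    (hgen : Algebra.adjoin L (Set.range (algebraMap K₁ M)) = ⊤)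
    (φM : V ⊗[A] B →+* M)
    (hφV : ∀ v : V, φM (v ⊗ₜ 1) = algebraMap K₁ M (algebraMap V K₁ v))
    (hφB : ∀ b : B, φM (1 ⊗ₜ b) = algebraMap L M (algebraMap B L b)) (m : M) :
    ∃ x y : V ⊗[A] B, φM y ≠ 0 ∧ m * φM y = φM x := by
  have hm : m ∈ (⊤ : Subalgebra L M) := Algebra.mem_top
  rw [← hgen] at hm
  induction hm using Algebra.adjoin_induction with
  | mem m hm =>
    obtain ⟨k, rfl⟩ := hm
    obtain ⟨a, b, hb, rfl⟩ := IsFractionRing.div_surjective (A := V) k
    have hb0 : algebraMap V K₁ b ≠ 0 := by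
      rw [Ne, map_eq_zero_iff _ (IsFractionRing.injective V K₁)]
      exact nonZeroDivisors.ne_zero hb
    refine ⟨a ⊗ₜ 1, b ⊗ₜ 1, ?_, ?_⟩
    · rw [hφV, Ne, map_eq_zero]
      exact hb0
    · rw [hφV, hφV, ← map_mul, div_mul_cancel₀ _ hb0]
  | algebraMap l =>
    obtain ⟨a, b, hb, rfl⟩ := IsFractionRing.div_surjective (A := B) l
    have hb0 : algebraMap B L b ≠ 0 := by
      rw [Ne, map_eq_zero_iff _ (IsFractionRing.injective B L)]
      exact nonZeroDivisors.ne_zero hb
    refine ⟨1 ⊗ₜ a, 1 ⊗ₜ b, ?_, ?_⟩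
    · rw [hφB, Ne, map_eq_zero]
      exact hb0
    · rw [hφB, hφB, ← map_mul, div_mul_cancel₀ _ hb0]
  | add m₁ m₂ _ _ h₁ h₂ =>
    obtain ⟨x₁, y₁, hy₁, e₁⟩ := h₁
    obtain ⟨x₂, y₂, hy₂, e₂⟩ := h₂
    refine ⟨x₁ * y₂ + x₂ * y₁, y₁ * y₂, ?_, ?_⟩
    · rw [map_mul]
      exact mul_ne_zero hy₁ hy₂
    · rw [map_add, map_mul, map_mul, map_mul, ← e₁, ← e₂]
      ring
  | mul m₁ m₂ _ _ h₁ h₂ =>
    obtain ⟨x₁, y₁, hy₁, e₁⟩ := h₁
    obtain ⟨x₂, y₂, hy₂, e₂⟩ := h₂
    refine ⟨x₁ * x₂, y₁ * y₂, ?_, ?_⟩
    · rw [map_mul]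
      exact mul_ne_zero hy₁ hy₂
    · rw [map_mul, map_mul, ← e₁, ← e₂]
      ring


theorem isSolution_local (A B K L : Type u) [CommRing A] [IsDomain A] [IsDiscreteValuationRing A]
    [CommRing B] [IsDomain B] [IsDiscreteValuationRing B] [Algebra A B] [IsLocalHom (algebraMap A B)]
    (hinj : Function.Injective (algebraMap A B))
    [Field K] [Field L] [Algebra A K] [IsFractionRing A K] [Algebra B L] [IsFractionRing B L]
    [Algebra K L] [Algebra A L] [IsScalarTower A K L] [IsScalarTower A B L]
    (hw : EtRam.IsWeaklyUnramified A B)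
    [Algebra.IsGeometricallyReduced (IsLocalRing.ResidueField A) (IsLocalRing.ResidueField B)]
    (K₁ : Type u) [Field K₁] [Algebra K K₁] [FiniteDimensional K K₁]
    (M : Type u) [Field M] [Algebra K M] [Algebra L M] [Algebra K₁ M] [IsScalarTower K L M]
    [IsScalarTower K K₁ M]
    (hgen : Algebra.adjoin L (Set.range (algebraMap K₁ M)) = ⊤)
    (W : ValuationSubring M)
    (hW : EtRam.Dominates B ((algebraMap L M).comp (algebraMap B L)) W) :
    letI : Algebra (W.comap (algebraMap K₁ M)) W :=
      (EtRam.inclOfComap W (algebraMap K₁ M)).toAlgebra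
    EtRam.IsWeaklyUnramified (W.comap (algebraMap K₁ M)) W ∧
      @Algebra.IsGeometricallyReduced (IsLocalRing.ResidueField (W.comap (algebraMap K₁ M)))
        (IsLocalRing.ResidueField W) _ _
        (IsLocalRing.ResidueField.map (EtRam.inclOfComap W (algebraMap K₁ M))).toAlgebra := by
  classical
  haveI : FiniteDimensional L M := finiteDimensional_of_adjoin_eq_top (K := K) hgen
  haveI : IsDiscreteValuationRing W :=
    isDiscreteValuationRing_of_dominates (A := B) (K := L) (L := M) W hW
  have hcompat : ∀ a : A, algebraMap K₁ M (algebraMap K K₁ (algebraMap A K a)) =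
      algebraMap L M (algebraMap B L (algebraMap A B a)) := by
    intro a
    rw [← IsScalarTower.algebraMap_apply K K₁ M, IsScalarTower.algebraMap_apply K L M,
      ← IsScalarTower.algebraMap_apply A K L, IsScalarTower.algebraMap_apply A B L]
  have hV : EtRam.Dominates A ((algebraMap K K₁).comp (algebraMap A K))
      (W.comap (algebraMap K₁ M)) := by
    rw [dominates_comap_iff]
    have h1 := dominates_comp (A := A) _ W hW
    refine ⟨fun a => ?_, fun a ha => ?_⟩
    · have := h1.1 a
      simp only [RingHom.comp_apply] at this ⊢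
      rw [hcompat]
      exact this
    · have := h1.2 a ha
      simp only [RingHom.comp_apply] at this ⊢
      rw [hcompat]
      exact this
  haveI : IsDiscreteValuationRing (W.comap (algebraMap K₁ M)) :=
    isDiscreteValuationRing_of_dominates (A := A) (K := K) (L := K₁) _ hV
  letI algAV : Algebra A (W.comap (algebraMap K₁ M)) :=
    (RingHom.codRestrict ((algebraMap K K₁).comp (algebraMap A K)) _ hV.1).toAlgebra
  letI algBW : Algebra B W :=
    (RingHom.codRestrict ((algebraMap L M).comp (algebraMap B L)) W hW.1).toAlgebra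
  letI algVW : Algebra (W.comap (algebraMap K₁ M)) W :=
    (EtRam.inclOfComap W (algebraMap K₁ M)).toAlgebra
  letI algAW : Algebra A W := ((algebraMap B W).comp (algebraMap A B)).toAlgebra
  haveI : IsScalarTower A B W := IsScalarTower.of_algebraMap_eq fun _ => rfl
  haveI : IsScalarTower A (W.comap (algebraMap K₁ M)) W := IsScalarTower.of_algebraMap_eq fun a =>
    Subtype.ext (hcompat a).symm
  haveI hlocBW : IsLocalHom (algebraMap B W) := isLocalHom_of_dominates _ W hW
  haveI hlocVW : IsLocalHom (algebraMap (W.comap (algebraMap K₁ M)) W) :=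
    EtRam.isLocalHom_inclOfComap W (algebraMap K₁ M)
  haveI hlocAV : IsLocalHom (algebraMap A (W.comap (algebraMap K₁ M))) :=
    isLocalHom_of_dominates _ _ hV
  haveI hlocAW : IsLocalHom (algebraMap A W) := by
    change IsLocalHom ((algebraMap B W).comp (algebraMap A B))
    exact RingHom.isLocalHom_comp _ _
  have hVW : Function.Injective (algebraMap (W.comap (algebraMap K₁ M)) W) := by
    intro x y hxy
    have := congrArg Subtype.val hxy
    exact Subtype.ext ((algebraMap K₁ M).injective this)
  -- finiteness of the residue field extension of `A → V`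
  letI algAK₁ : Algebra A K₁ := ((algebraMap K K₁).comp (algebraMap A K)).toAlgebra
  haveI : IsScalarTower A K K₁ := IsScalarTower.of_algebraMap_eq fun _ => rfl
  haveI : IsScalarTower A (W.comap (algebraMap K₁ M)) K₁ :=
    IsScalarTower.of_algebraMap_eq fun _ => rfl
  have hAV : Function.Injective (algebraMap A (W.comap (algebraMap K₁ M))) :=
    injective_codRestrict_of_dominates _ hV
  haveI : Module.Finite (κ A) (κ (W.comap (algebraMap K₁ M))) :=
    finite_residueField (K := K) (L := K₁) hAV
  -- generation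
  have hgen' : ∀ w : W, ∃ x y : (W.comap (algebraMap K₁ M)) ⊗[A] B,
      phi A B (W.comap (algebraMap K₁ M)) W y ≠ 0 ∧
        w * phi A B (W.comap (algebraMap K₁ M)) W y =
          phi A B (W.comap (algebraMap K₁ M)) W x := by
    intro w
    obtain ⟨x, y, hy, hxy⟩ := exists_quot_of_adjoin_eq_top (A := A) (B := B)
      (V := W.comap (algebraMap K₁ M)) hgen
      (W.subtype.comp (phi A B (W.comap (algebraMap K₁ M)) W).toRingHom)
      (fun v => by simp [phi]; rfl) (fun b => by simp [phi]; rfl) (w : M)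
    refine ⟨x, y, fun h => hy ?_, Subtype.ext hxy⟩
    change ((phi A B (W.comap (algebraMap K₁ M)) W y : W) : M) = 0
    rw [h]
    rfl
  obtain ⟨h1, h2⟩ := core (A := A) (B := B) (V := W.comap (algebraMap K₁ M)) (W := W) hw hVW hgen'
  refine ⟨h1, ?_⟩
  have halg : (IsLocalRing.ResidueField.map (EtRam.inclOfComap W (algebraMap K₁ M))).toAlgebra =
      (inferInstance : Algebra (κ (W.comap (algebraMap K₁ M))) (κ W)) := by
    apply Algebra.algebra_ext
    intro r
    obtain ⟨r, rfl⟩ := IsLocalRing.residue_surjective r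
    rfl
  rw [halg]
  exact h2

end Groth.Agent.Lib.Helper9.DvrSmoothApp
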