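import Mathlib
import Groth.Prelude.Def_EtRam
import Groth.Agent.Lib.Helper9.DvrSmoothApp
import Groth.Agent.Lib.Helper9.DvrTower

/-!
# Solutions persist under finite extensions

If `K₁/K` is a solution for an extension of DVRs `A ⊆ B` and `K₂/K₁` is finite then `K₂/K` is a
solution as well.
-/

universe u

set_option linter.unusedSectionVars false
set_option linter.style.haveILetI false

namespace Groth.Agent.Lib.Helper9.SolTower

open Groth.Agent.Lib.Helper9.DvrExt Groth.Agent.Lib.Helper9.DvrTower
  Groth.Agent.Lib.Helper9.DvrSmoothApp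

/-- The compositum `L·K₁` inside `M`, as an abstract field. -/
theorem exists_mid (K L K₁ M : Type u) [Field K] [Field L] [Field K₁] [Field M]
    [Algebra K L] [Algebra K K₁] [Algebra K M] [Algebra L M] [Algebra K₁ M]
    [IsScalarTower K L M] [IsScalarTower K K₁ M] [Algebra.IsAlgebraic K K₁] :
    ∃ (M₁ : Type u) (_ : Field M₁) (_ : Algebra L M₁) (_ : Algebra K₁ M₁) (_ : Algebra K M₁)
      (_ : Algebra M₁ M) (_ : IsScalarTower K L M₁) (_ : IsScalarTower K K₁ M₁)
      (_ : IsScalarTower L M₁ M) (_ : IsScalarTower K₁ M₁ M) (_ : IsScalarTower K M₁ M),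
      Algebra.adjoin L (Set.range (algebraMap K₁ M₁)) = ⊤ := by
  let S : IntermediateField L M := IntermediateField.adjoin L (Set.range (algebraMap K₁ M))
  let f₁ : K₁ →+* S := (algebraMap K₁ M).codRestrict S
    (fun x => IntermediateField.subset_adjoin L _ ⟨x, rfl⟩)
  letI a1 : Algebra K₁ S := f₁.toAlgebra
  letI a2 : Algebra K S := ((algebraMap L S).comp (algebraMap K L)).toAlgebra
  have h1 : IsScalarTower K L S := IsScalarTower.of_algebraMap_eq fun _ => rfl
  have h2 : IsScalarTower K K₁ S := IsScalarTower.of_algebraMap_eq fun k => by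
    apply Subtype.ext
    change algebraMap L M (algebraMap K L k) = algebraMap K₁ M (algebraMap K K₁ k)
    rw [← IsScalarTower.algebraMap_apply K L M, ← IsScalarTower.algebraMap_apply K K₁ M]
  have h3 : IsScalarTower K₁ S M := IsScalarTower.of_algebraMap_eq fun _ => rfl
  have h4 : IsScalarTower K S M := IsScalarTower.of_algebraMap_eq fun k => by
    change algebraMap K M k = algebraMap L M (algebraMap K L k)
    rw [← IsScalarTower.algebraMap_apply K L M]
  refine ⟨S, inferInstance, inferInstance, a1, a2, inferInstance, h1, h2, inferInstance, h3, h4, ?_⟩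
  have halg : ∀ x ∈ Set.range (algebraMap K₁ M), IsAlgebraic L x := by
    rintro _ ⟨k, rfl⟩
    have hk : IsAlgebraic K k := Algebra.IsAlgebraic.isAlgebraic k
    have : IsAlgebraic K (algebraMap K₁ M k) := hk.algebraMap
    exact this.tower_top L
  have hS : S.toSubalgebra = Algebra.adjoin L (Set.range (algebraMap K₁ M)) :=
    IntermediateField.adjoin_toSubalgebra_of_isAlgebraic halg
  apply Subalgebra.map_injective (f := S.val) Subtype.val_injective
  rw [AlgHom.map_adjoin, Algebra.map_top]
  have hr : S.val '' Set.range (algebraMap K₁ S) = Set.range (algebraMap K₁ M) := by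
    ext x
    constructor
    · rintro ⟨_, ⟨k, rfl⟩, rfl⟩
      exact ⟨k, rfl⟩
    · rintro ⟨k, rfl⟩
      exact ⟨algebraMap K₁ S k, ⟨k, rfl⟩, rfl⟩
  rw [hr, ← hS]
  ext x
  simp

/-- **Persistence of solutions.** -/
theorem isSolution_tower (A B K L : Type u) [CommRing A] [IsDomain A] [IsDiscreteValuationRing A]
    [CommRing B] [IsDomain B] [IsDiscreteValuationRing B] [Algebra A B] [IsLocalHom (algebraMap A B)]
    (hinj : Function.Injective (algebraMap A B))
    [Field K] [Field L] [Algebra A K] [IsFractionRing A K] [Algebra B L] [IsFractionRing B L]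
    [Algebra K L] [Algebra A L] [IsScalarTower A K L] [IsScalarTower A B L]
    (K₁ K₂ : Type u) [Field K₁] [Field K₂] [Algebra K K₁] [Algebra K K₂] [Algebra K₁ K₂]
    [IsScalarTower K K₁ K₂] [FiniteDimensional K K₁] [FiniteDimensional K₁ K₂]
    (h : EtRam.IsSolution B K L K₁) : EtRam.IsSolution B K L K₂ := by
  intro M _ _ _ _ _ _ hgen W hW
  classical
  letI : Algebra K₁ M := ((algebraMap K₂ M).comp (algebraMap K₁ K₂)).toAlgebra
  haveI : IsScalarTower K₁ K₂ M := IsScalarTower.of_algebraMap_eq fun _ => rfl
  haveI : IsScalarTower K K₁ M := IsScalarTower.of_algebraMap_eq fun k => by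
    change algebraMap K M k = algebraMap K₂ M (algebraMap K₁ K₂ (algebraMap K K₁ k))
    rw [← IsScalarTower.algebraMap_apply K K₁ K₂, ← IsScalarTower.algebraMap_apply K K₂ M]
  haveI : FiniteDimensional K K₂ := FiniteDimensional.trans K K₁ K₂
  obtain ⟨M₁, _, _, _, _, _, _, _, _, _, _, hgen₁⟩ := exists_mid K L K₁ M
  haveI : FiniteDimensional L M := finiteDimensional_of_adjoin_eq_top (K := K) hgen
  haveI : FiniteDimensional L M₁ := finiteDimensional_of_adjoin_eq_top (K := K) hgen₁
  set W₁ : ValuationSubring M₁ := W.comap (algebraMap M₁ M) with hW₁def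
  have hW₁ : EtRam.Dominates B ((algebraMap L M₁).comp (algebraMap B L)) W₁ := by
    rw [hW₁def, dominates_comap_iff]
    have : (algebraMap M₁ M).comp ((algebraMap L M₁).comp (algebraMap B L)) =
        (algebraMap L M).comp (algebraMap B L) := by
      ext b
      simp only [RingHom.comp_apply]
      rw [← IsScalarTower.algebraMap_apply L M₁ M]
    rw [this]
    exact hW
  have h1 := h M₁ hgen₁ W₁ hW₁
  set V₁ : ValuationSubring K₁ := W₁.comap (algebraMap K₁ M₁) with hV₁def
  have hcompat : ∀ a : A, algebraMap K₁ M₁ (algebraMap K K₁ (algebraMap A K a)) =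
      algebraMap L M₁ (algebraMap B L (algebraMap A B a)) := by
    intro a
    rw [← IsScalarTower.algebraMap_apply K K₁ M₁, IsScalarTower.algebraMap_apply K L M₁,
      ← IsScalarTower.algebraMap_apply A K L, IsScalarTower.algebraMap_apply A B L]
  have hV₁ : EtRam.Dominates A ((algebraMap K K₁).comp (algebraMap A K)) V₁ := by
    rw [hV₁def, dominates_comap_iff]
    have h1' := dominates_comp (A := A) _ W₁ hW₁
    refine ⟨fun a => ?_, fun a ha => ?_⟩
    · have := h1'.1 a
      simp only [RingHom.comp_apply] at this ⊢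
      rw [hcompat]
      exact this
    · have := h1'.2 a ha
      simp only [RingHom.comp_apply] at this ⊢
      rw [hcompat]
      exact this
  haveI : IsDiscreteValuationRing V₁ :=
    isDiscreteValuationRing_of_dominates (A := A) (K := K) (L := K₁) _ hV₁
  haveI : IsDiscreteValuationRing W₁ :=
    isDiscreteValuationRing_of_dominates (A := B) (K := L) (L := M₁) W₁ hW₁
  letI algVW : Algebra V₁ W₁ := (EtRam.inclOfComap W₁ (algebraMap K₁ M₁)).toAlgebra
  haveI : IsLocalHom (algebraMap V₁ W₁) := EtRam.isLocalHom_inclOfComap W₁ (algebraMap K₁ M₁)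
  have hinjVW : Function.Injective (algebraMap V₁ W₁) := by
    intro x y hxy
    have := congrArg Subtype.val hxy
    exact Subtype.ext ((algebraMap K₁ M₁).injective this)
  letI : Algebra V₁ M₁ := ((algebraMap K₁ M₁).comp (algebraMap V₁ K₁)).toAlgebra
  haveI : IsScalarTower V₁ K₁ M₁ := IsScalarTower.of_algebraMap_eq fun _ => rfl
  haveI : IsScalarTower V₁ W₁ M₁ := IsScalarTower.of_algebraMap_eq fun _ => rfl
  have halg : (IsLocalRing.ResidueField.map (EtRam.inclOfComap W₁ (algebraMap K₁ M₁))).toAlgebra =
      (inferInstance : Algebra (IsLocalRing.ResidueField V₁) (IsLocalRing.ResidueField W₁)) := by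
    apply Algebra.algebra_ext
    intro r
    obtain ⟨r, rfl⟩ := IsLocalRing.residue_surjective r
    rfl
  haveI hgr : Algebra.IsGeometricallyReduced (IsLocalRing.ResidueField V₁)
      (IsLocalRing.ResidueField W₁) := by
    have := h1.2
    rw [halg] at this
    exact this
  have hgen₂ : Algebra.adjoin M₁ (Set.range (algebraMap K₂ M)) = ⊤ := by
    have key : ∀ x ∈ Algebra.adjoin L (Set.range (algebraMap K₂ M)),
        x ∈ Algebra.adjoin M₁ (Set.range (algebraMap K₂ M)) := by
      intro x hx
      induction hx using Algebra.adjoin_induction with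
      | mem x hx => exact Algebra.subset_adjoin hx
      | algebraMap l =>
        rw [IsScalarTower.algebraMap_apply L M₁ M]
        exact Subalgebra.algebraMap_mem _ _
      | add x y _ _ hx hy => exact Subalgebra.add_mem _ hx hy
      | mul x y _ _ hx hy => exact Subalgebra.mul_mem _ hx hy
    rw [eq_top_iff]
    intro x _
    exact key x (by rw [hgen]; trivial)
  have hWdom : EtRam.Dominates W₁ ((algebraMap M₁ M).comp (algebraMap W₁ M₁)) W :=
    dominates_subtype (algebraMap M₁ M) W
  exact isSolution_local V₁ W₁ K₁ M₁ hinjVW h1.1 K₂ M hgen₂ W hWdom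

end Groth.Agent.Lib.Helper9.SolTower
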