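import Mathlib
import Groth.Prelude.Def_EtRam
import Groth.Prelude.Def_CAlg
import Groth.Agent.Lib.Helper9.PInsepIndep
import Groth.Agent.Lib.Helper9.SeidenbergLoc
import Groth.Agent.Lib.Helper9.SolTower
import Groth.Agent.Lib.Helper9.EppInsep1
import Groth.Agent.Lib.Helper9.DvrTower
import Groth.Agent.Lib.Helper9.DvrExt

/-!
# The conductor bound for a purely inseparable degree `p` step

`F = L[K₁] ⊆ E = L[K₂] = F(θ)` inside an ambient field `Ω`, with `B` Nagata: the powers
`1, θ, …, θ^{p-1}` are independent over `F` and there is a nonzero `d ∈ B` such that for every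
valuation ring `W` of `Ω` dominating `B`, `∑ fᵢ θⁱ ∈ W` forces `d fᵢ ∈ W`.
-/

open Polynomial

universe u

set_option linter.unusedSectionVars false
set_option linter.style.haveILetI false
set_option linter.overlappingInstances false

namespace Groth.Agent.Lib.Helper9.CondBound

open Groth.Agent.Lib.Helper9.DvrExt Groth.Agent.Lib.Helper9.DvrTower

/-- Representation of polynomial expressions modulo a monic polynomial. -/
theorem rep_of_monic {R S : Type*} [CommRing R] [CommRing S] [Algebra R S] (θ : S) (h : R[X])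
    (hm : h.Monic) (hdeg : h.natDegree ≠ 0) (hθ : aeval θ h = 0) (q : R[X]) :
    ∃ f : ℕ → R, aeval θ q = ∑ i ∈ Finset.range h.natDegree, algebraMap R S (f i) * θ ^ i := by
  have hne1 : h ≠ 1 := by
    rintro rfl
    simp at hdeg
  refine ⟨(q %ₘ h).coeff, ?_⟩
  have h1 : aeval θ q = aeval θ (q %ₘ h) := by
    conv_lhs => rw [← modByMonic_add_div q h]
    rw [map_add, map_mul, hθ, zero_mul, add_zero]
  rw [h1, aeval_eq_sum_range' (natDegree_modByMonic_lt q hm hne1)]
  exact Finset.sum_congr rfl (fun i _ => by rw [Algebra.smul_def])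

/-- comap and valuation one -/
theorem valuation_comap_eq_one {L M : Type*} [Field L] [Field M] (W : ValuationSubring M)
    (f : L →+* M) (x : L) (h : (W.comap f).valuation x = 1) : W.valuation (f x) = 1 := by
  apply le_antisymm
  · rw [ValuationSubring.valuation_le_one_iff]
    have : x ∈ W.comap f := (ValuationSubring.valuation_le_one_iff _ _).1 h.le
    exact this
  · rw [← not_lt, ← valuation_comap_lt_one_iff, h]
    exact lt_irrefl _

set_option maxHeartbeats 1600000 in
/-- Independence and the conductor bound in an ambient field. -/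
theorem cond_amb (p : ℕ) (hp : p.Prime) (B K L K₁ K₂ Ω : Type u) [CommRing B] [IsDomain B]
    [IsDiscreteValuationRing B]
    [Field K] [Field L] [Field K₁] [Field K₂] [Field Ω]
    [Algebra B L] [IsFractionRing B L] [Algebra K L] [CharP K p]
    [Algebra.IsGeometricallyReduced K L]
    [Algebra K K₁] [Algebra K K₂] [Algebra K₁ K₂] [IsScalarTower K K₁ K₂] [FiniteDimensional K K₁]
    [FiniteDimensional K₁ K₂]
    [Algebra K Ω] [Algebra L Ω] [IsScalarTower K L Ω] [Algebra K₁ Ω] [Algebra K₂ Ω]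
    [IsScalarTower K K₁ Ω] [IsScalarTower K K₂ Ω] [IsScalarTower K₁ K₂ Ω]
    [Algebra B Ω] [IsScalarTower B L Ω]
    (hB : CAlg.IsNagata B)
    (hpow : ∀ x : K₂, ∃ k : K₁, algebraMap K₁ K₂ k = x ^ p)
    (α : K₂) (hα : α ∉ Set.range (algebraMap K₁ K₂))
    (hgenα : ∀ y : K₂, ∃ q : K₁[X], aeval α q = y) :
    (∀ f : ℕ → Ω, (∀ i, f i ∈ Algebra.adjoin L (Set.range (algebraMap K₁ Ω))) →
        ∑ i ∈ Finset.range p, f i * (algebraMap K₂ Ω α) ^ i = 0 → ∀ i < p, f i = 0) ∧
    ∃ d : B, d ≠ 0 ∧ ∀ W : ValuationSubring Ω, EtRam.Dominates B (algebraMap B Ω) W →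
      ∀ f : ℕ → Ω, (∀ i, f i ∈ Algebra.adjoin L (Set.range (algebraMap K₁ Ω))) →
        ∑ i ∈ Finset.range p, f i * (algebraMap K₂ Ω α) ^ i ∈ W →
        ∀ i < p, algebraMap B Ω d * f i ∈ W := by
  classical
  haveI : Fact p.Prime := ⟨hp⟩
  haveI : FiniteDimensional K K₂ := FiniteDimensional.trans K K₁ K₂
  haveI : CharP Ω p := charP_of_injective_algebraMap (algebraMap K Ω).injective p
  haveI : ExpChar Ω p := ExpChar.prime hp
  -- the abstract field `F = L[K₁]`
  obtain ⟨F, _, _, _, _, _, _, _, _, _, _, hgenF⟩ := SolTower.exists_mid K L K₁ Ω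
  have hFrange : Algebra.adjoin L (Set.range (algebraMap K₁ Ω)) =
      (IsScalarTower.toAlgHom L F Ω).range := by
    have h := AlgHom.map_adjoin (IsScalarTower.toAlgHom L F Ω) (Set.range (algebraMap K₁ F))
    rw [hgenF, Algebra.map_top] at h
    rw [h]
    congr 1
    ext x
    constructor
    · rintro ⟨k, rfl⟩
      exact ⟨algebraMap K₁ F k, ⟨k, rfl⟩, (IsScalarTower.algebraMap_apply K₁ F Ω k).symm⟩
    · rintro ⟨_, ⟨k, rfl⟩, rfl⟩
      exact ⟨k, IsScalarTower.algebraMap_apply K₁ F Ω k⟩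
  have memF : ∀ x : Ω, x ∈ Algebra.adjoin L (Set.range (algebraMap K₁ Ω)) ↔
      ∃ g : F, algebraMap F Ω g = x := by
    intro x
    rw [hFrange]
    exact Iff.rfl
  set θ : Ω := algebraMap K₂ Ω α with hθ
  obtain ⟨a, ha⟩ := hpow α
  set aF : F := algebraMap K₁ F a with haF
  have hθp : θ ^ p = algebraMap F Ω aF := by
    rw [hθ, ← map_pow, ← ha, ← IsScalarTower.algebraMap_apply K₁ K₂ Ω, haF,
      ← IsScalarTower.algebraMap_apply K₁ F Ω]
  have hnot : θ ∉ Set.range (algebraMap F Ω) :=
    PInsepIndep.not_mem_range (K := K) (L := L) p hp hgenF hpow α hα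
  have hirr : Irreducible (X ^ p - C aF : F[X]) := by
    apply X_pow_sub_C_irreducible_of_prime hp
    intro b hb
    apply hnot
    refine ⟨b, ?_⟩
    apply frobenius_inj Ω p
    simp only [frobenius_def]
    rw [← map_pow, hb, hθp]
  have hmonic : (X ^ p - C aF : F[X]).Monic := monic_X_pow_sub_C aF hp.ne_zero
  have hroot : aeval θ (X ^ p - C aF : F[X]) = 0 := by
    rw [map_sub, map_pow, aeval_X, aeval_C, hθp, sub_self]
  have hmin : minpoly F θ = X ^ p - C aF :=
    (minpoly.eq_of_irreducible_of_monic hirr hroot hmonic).symm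
  have hnatdeg : (X ^ p - C aF : F[X]).natDegree = p := natDegree_X_pow_sub_C
  -- independence over `F`
  have hindF : ∀ g : ℕ → F, ∑ i ∈ Finset.range p, algebraMap F Ω (g i) * θ ^ i = 0 →
      ∀ i < p, g i = 0 := by
    intro g hg i hi
    set q : F[X] := ∑ j ∈ Finset.range p, C (g j) * X ^ j with hq
    have haev : aeval θ q = 0 := by
      rw [hq, map_sum, ← hg]
      exact Finset.sum_congr rfl (fun j _ => by rw [map_mul, aeval_C, map_pow, aeval_X])
    have hdeg : q.degree < p := by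
      rw [← mem_degreeLT]
      exact Submodule.sum_mem _ (fun j hj => mem_degreeLT.2
        (lt_of_le_of_lt (degree_C_mul_X_pow_le j _) (by exact_mod_cast Finset.mem_range.1 hj)))
    have hq0 : q = 0 := by
      by_contra hne
      have h1 := minpoly.degree_le_of_ne_zero F θ hne haev
      rw [hmin, degree_X_pow_sub_C hp.pos] at h1
      exact absurd h1 (not_le.2 hdeg)
    have hcoeff : q.coeff i = g i := by
      rw [hq, finset_sum_coeff]
      rw [Finset.sum_eq_single i]
      · rw [coeff_C_mul_X_pow, if_pos rfl]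
      · intro j _ hji
        rw [coeff_C_mul_X_pow, if_neg (Ne.symm hji)]
      · intro hni
        exact absurd (Finset.mem_range.2 hi) hni
    rw [← hcoeff, hq0, coeff_zero]
  refine ⟨?_, ?_⟩
  · intro f hf hsum i hi
    choose g hg using fun i => (memF (f i)).1 (hf i)
    have := hindF g (by simpa only [hg] using hsum) i hi
    rw [← hg i, this, map_zero]
  -- the abstract field `E = L[K₂]`
  obtain ⟨E, _, _, _, _, _, _, _, _, _, _, hgenE⟩ := SolTower.exists_mid K L K₂ Ω
  haveI : FiniteDimensional L E := finiteDimensional_of_adjoin_eq_top (K := K) hgenE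
  haveI : FiniteDimensional L F := finiteDimensional_of_adjoin_eq_top (K := K) hgenF
  letI algBE : Algebra B E := ((algebraMap L E).comp (algebraMap B L)).toAlgebra
  haveI : IsScalarTower B L E := IsScalarTower.of_algebraMap_eq (fun _ => rfl)
  haveI tBEΩ : IsScalarTower B E Ω := IsScalarTower.of_algebraMap_eq (fun b => by
    show algebraMap B Ω b = algebraMap E Ω (algebraMap L E (algebraMap B L b))
    rw [← IsScalarTower.algebraMap_apply L E Ω, ← IsScalarTower.algebraMap_apply B L Ω])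
  letI algBF : Algebra B F := ((algebraMap L F).comp (algebraMap B L)).toAlgebra
  haveI : IsScalarTower B L F := IsScalarTower.of_algebraMap_eq (fun _ => rfl)
  haveI tBFΩ : IsScalarTower B F Ω := IsScalarTower.of_algebraMap_eq (fun b => by
    show algebraMap B Ω b = algebraMap F Ω (algebraMap L F (algebraMap B L b))
    rw [← IsScalarTower.algebraMap_apply L F Ω, ← IsScalarTower.algebraMap_apply B L Ω])
  haveI : Algebra.IsAlgebraic B E :=
    (IsFractionRing.comap_isAlgebraic_iff (A := B) (K := L) (C := E)).2 inferInstance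
  haveI : Algebra.IsAlgebraic B F :=
    (IsFractionRing.comap_isAlgebraic_iff (A := B) (K := L) (C := F)).2 inferInstance
  have hfin : Module.Finite B (integralClosure B E) :=
    EppInsep.finite_integralClosure_of_isNagata B hB L E
  have hErange : Algebra.adjoin L (Set.range (algebraMap K₂ Ω)) =
      (IsScalarTower.toAlgHom L E Ω).range := by
    have h := AlgHom.map_adjoin (IsScalarTower.toAlgHom L E Ω) (Set.range (algebraMap K₂ E))
    rw [hgenE, Algebra.map_top] at h
    rw [h]
    congr 1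
    ext x
    constructor
    · rintro ⟨k, rfl⟩
      exact ⟨algebraMap K₂ E k, ⟨k, rfl⟩, (IsScalarTower.algebraMap_apply K₂ E Ω k).symm⟩
    · rintro ⟨_, ⟨k, rfl⟩, rfl⟩
      exact ⟨k, IsScalarTower.algebraMap_apply K₂ E Ω k⟩
  -- representation of elements of `E`
  have hrepE : ∀ e : E, ∃ g : ℕ → F,
      algebraMap E Ω e = ∑ i ∈ Finset.range p, algebraMap F Ω (g i) * θ ^ i := by
    intro e
    have hmem : algebraMap E Ω e ∈ Algebra.adjoin L (Set.range (algebraMap K₂ Ω)) := by
      rw [hErange]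
      exact ⟨e, rfl⟩
    have hle : Algebra.adjoin L (Set.range (algebraMap K₂ Ω)) ≤
        ((aeval θ : F[X] →ₐ[F] Ω).restrictScalars L).range := by
      apply Algebra.adjoin_le
      rintro _ ⟨y, rfl⟩
      obtain ⟨q, rfl⟩ := hgenα y
      refine ⟨q.map (algebraMap K₁ F), ?_⟩
      show aeval θ (q.map (algebraMap K₁ F)) = _
      rw [aeval_map_algebraMap, hθ, aeval_algebraMap_apply]
    obtain ⟨Q, hQ⟩ := hle hmem
    have hQ' : aeval θ Q = algebraMap E Ω e := hQ
    obtain ⟨g, hg⟩ := rep_of_monic θ (X ^ p - C aF : F[X]) hmonic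
      (by rw [hnatdeg]; exact hp.ne_zero) hroot Q
    rw [hnatdeg] at hg
    exact ⟨g, by rw [← hQ', hg]⟩
  -- `p`-th powers of elements of `E` lie in `F`
  have hpowE : ∀ e : E, ∃ g : F, algebraMap F Ω g = (algebraMap E Ω e) ^ p := by
    intro e
    obtain ⟨g, hg⟩ := hrepE e
    refine ⟨∑ i ∈ Finset.range p, (g i) ^ p * aF ^ i, ?_⟩
    rw [hg, sum_pow_char, map_sum]
    refine Finset.sum_congr rfl (fun i _ => ?_)
    rw [map_mul, map_pow, map_pow, ← hθp, mul_pow, ← pow_mul, ← pow_mul, mul_comm i p]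
  -- generators of the integral closure and the common denominator
  obtain ⟨G, hG⟩ := hfin.fg_top
  choose γ hγ using fun c : integralClosure B E => hrepE (c : E)
  choose bb hbb0 hbb using fun (c : integralClosure B E) (i : ℕ) =>
    (Algebra.IsAlgebraic.isAlgebraic (R := B) (γ c i)).exists_integral_multiple
  set d : B := ∏ c ∈ G, ∏ i ∈ Finset.range p, bb c i with hd
  have hd0 : d ≠ 0 := by
    rw [hd, Finset.prod_ne_zero_iff]
    intro c _
    rw [Finset.prod_ne_zero_iff]
    intro i _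
    exact hbb0 c i
  have hdint : ∀ c ∈ G, ∀ i < p, IsIntegral B (d • γ c i) := by
    intro c hc i hi
    have h1 : bb c i ∣ d := by
      rw [hd]
      exact (Finset.dvd_prod_of_mem (fun i => bb c i) (Finset.mem_range.2 hi)).trans
        (Finset.dvd_prod_of_mem (fun c => ∏ i ∈ Finset.range p, bb c i) hc)
    obtain ⟨d', hd'⟩ := h1
    rw [hd', mul_comm, mul_smul]
    exact (hbb c i).smul d'
  refine ⟨d, hd0, ?_⟩
  intro W hW f hf hu i hi
  choose g hg using fun i => (memF (f i)).1 (hf i)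
  -- `u` lies in `E`
  have hK₁K₂ : Set.range (algebraMap K₁ Ω) ⊆ Set.range (algebraMap K₂ Ω) := by
    rintro _ ⟨k, rfl⟩
    exact ⟨algebraMap K₁ K₂ k, (IsScalarTower.algebraMap_apply K₁ K₂ Ω k).symm⟩
  have huE : ∑ i ∈ Finset.range p, f i * θ ^ i ∈ (IsScalarTower.toAlgHom L E Ω).range := by
    rw [← hErange]
    refine Subalgebra.sum_mem _ (fun i _ => Subalgebra.mul_mem _ ?_ (Subalgebra.pow_mem _ ?_ i))
    · exact Algebra.adjoin_mono hK₁K₂ (hf i)
    · exact Algebra.subset_adjoin ⟨α, rfl⟩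
  obtain ⟨u', hu'⟩ := huE
  have hu'' : algebraMap E Ω u' = ∑ i ∈ Finset.range p, f i * θ ^ i := hu'
  set W_E : ValuationSubring E := W.comap (algebraMap E Ω) with hW_E
  have hdomE : EtRam.Dominates B (algebraMap B E) W_E := by
    rw [hW_E, dominates_comap_iff]
    have : (algebraMap E Ω).comp (algebraMap B E) = algebraMap B Ω := by
      ext b
      exact (IsScalarTower.algebraMap_apply B E Ω b).symm
    rw [this]
    exact hW
  have hu'W : u' ∈ W_E := by
    rw [hW_E, ValuationSubring.mem_comap, hu'']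
    exact hu
  have hinjE : Function.Injective (algebraMap B E) :=
    (algebraMap L E).injective.comp (IsFractionRing.injective B L)
  obtain ⟨s, hs_int, hs1, hsu⟩ := SeidenbergLoc.exists_integral_unit_mul W_E hdomE hinjE u' hu'W
    (Algebra.IsAlgebraic.isAlgebraic u')
  have hspu : IsIntegral B (s ^ p * u') := by
    obtain ⟨m, hm⟩ := Nat.exists_eq_succ_of_ne_zero hp.ne_zero
    rw [hm, pow_succ, mul_assoc]
    exact (hs_int.pow m).mul hsu
  set c₀ : integralClosure B E := ⟨s ^ p * u', hspu⟩ with hc₀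
  have hc₀mem : c₀ ∈ Submodule.span B (G : Set (integralClosure B E)) := by
    rw [hG]
    trivial
  obtain ⟨β, -, hβ⟩ := Submodule.mem_span_finset.1 hc₀mem
  obtain ⟨σF, hσF⟩ := hpowE s
  -- compare the two expansions
  have hexp1 : algebraMap E Ω (s ^ p * u') =
      ∑ i ∈ Finset.range p, algebraMap F Ω (σF * g i) * θ ^ i := by
    rw [map_mul, map_pow, ← hσF, hu'', Finset.mul_sum]
    refine Finset.sum_congr rfl (fun i _ => ?_)
    rw [map_mul, hg i, mul_assoc]
  have hexp2 : algebraMap E Ω (s ^ p * u') =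
      ∑ i ∈ Finset.range p, algebraMap F Ω (∑ c ∈ G, β c • γ c i) * θ ^ i := by
    have h1 : (s ^ p * u' : E) = ((c₀ : integralClosure B E) : E) := rfl
    rw [h1, ← hβ]
    have h2 : ((∑ c ∈ G, β c • c : integralClosure B E) : E) = ∑ c ∈ G, β c • (c : E) := by
      rw [← Subalgebra.coe_val, map_sum]
      rfl
    rw [h2, map_sum]
    have h3 : ∀ c ∈ G, algebraMap E Ω (β c • (c : E)) =
        ∑ i ∈ Finset.range p, algebraMap F Ω (β c • γ c i) * θ ^ i := by
      intro c _
      rw [Algebra.smul_def, map_mul, hγ c, Finset.mul_sum,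
        ← IsScalarTower.algebraMap_apply B E Ω]
      refine Finset.sum_congr rfl (fun i _ => ?_)
      rw [Algebra.smul_def, map_mul, ← IsScalarTower.algebraMap_apply B F Ω, mul_assoc]
    rw [Finset.sum_congr rfl h3, Finset.sum_comm]
    refine Finset.sum_congr rfl (fun i _ => ?_)
    rw [map_sum, Finset.sum_mul]
  have hcmp : ∀ i < p, σF * g i = ∑ c ∈ G, β c • γ c i := by
    intro i hi
    have h0 := hindF (fun i => σF * g i - ∑ c ∈ G, β c • γ c i) (by
      have : ∀ i ∈ Finset.range p,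
          algebraMap F Ω (σF * g i - ∑ c ∈ G, β c • γ c i) * θ ^ i =
          algebraMap F Ω (σF * g i) * θ ^ i -
            algebraMap F Ω (∑ c ∈ G, β c • γ c i) * θ ^ i := fun i _ => by
        rw [map_sub, sub_mul]
      rw [Finset.sum_congr rfl this, Finset.sum_sub_distrib, ← hexp1, ← hexp2, sub_self]) i hi
    exact sub_eq_zero.1 h0
  have hint : IsIntegral B (d • (σF * g i)) := by
    rw [hcmp i hi, Finset.smul_sum]
    refine IsIntegral.sum _ (fun c hc => ?_)
    rw [smul_comm]
    exact (hdint c hc i hi).smul (β c)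
  have hmemW : algebraMap F Ω (d • (σF * g i)) ∈ W :=
    SeidenbergLoc.mem_of_isIntegral W hW.1 hint.algebraMap
  have hvσ : W.valuation (algebraMap F Ω σF) = 1 := by
    rw [hσF, map_pow, valuation_comap_eq_one W (algebraMap E Ω) s hs1, one_pow]
  have h1 : algebraMap F Ω (d • (σF * g i)) =
      algebraMap B Ω d * (algebraMap F Ω σF * f i) := by
    rw [Algebra.smul_def, map_mul, ← IsScalarTower.algebraMap_apply B F Ω, map_mul, hg i]
  rw [h1] at hmemW
  rw [← ValuationSubring.valuation_le_one_iff] at hmemW ⊢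
  rw [map_mul, map_mul, hvσ, one_mul] at hmemW
  rw [map_mul]
  exact hmemW

set_option maxHeartbeats 800000 in
/-- The conductor bound, uniformly over all `K`-embeddings of `K₂` into a fixed field `Ω`. -/
theorem cond_uniform (p : ℕ) (hp : p.Prime) (B K L K₁ K₂ Ω : Type u) [CommRing B] [IsDomain B]
    [IsDiscreteValuationRing B]
    [Field K] [Field L] [Field K₁] [Field K₂] [Field Ω]
    [Algebra B L] [IsFractionRing B L] [Algebra K L] [CharP K p]
    [Algebra.IsGeometricallyReduced K L]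
    [Algebra K K₁] [Algebra K K₂] [Algebra K₁ K₂] [IsScalarTower K K₁ K₂] [FiniteDimensional K K₁]
    [FiniteDimensional K₁ K₂]
    [Algebra K Ω] [Algebra L Ω] [IsScalarTower K L Ω]
    [Algebra B Ω] [IsScalarTower B L Ω]
    (hB : CAlg.IsNagata B)
    (hpow : ∀ x : K₂, ∃ k : K₁, algebraMap K₁ K₂ k = x ^ p)
    (α : K₂) (hα : α ∉ Set.range (algebraMap K₁ K₂))
    (hgenα : ∀ y : K₂, ∃ q : K₁[X], aeval α q = y) :
    ∃ d : B, d ≠ 0 ∧ ∀ σ : K₂ →ₐ[K] Ω,
      (∀ f : ℕ → Ω,
        (∀ i, f i ∈ Algebra.adjoin L (Set.range (σ.toRingHom.comp (algebraMap K₁ K₂)))) →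
        ∑ i ∈ Finset.range p, f i * (σ α) ^ i = 0 → ∀ i < p, f i = 0) ∧
      ∀ W : ValuationSubring Ω, EtRam.Dominates B (algebraMap B Ω) W →
        ∀ f : ℕ → Ω,
          (∀ i, f i ∈ Algebra.adjoin L (Set.range (σ.toRingHom.comp (algebraMap K₁ K₂)))) →
          ∑ i ∈ Finset.range p, f i * (σ α) ^ i ∈ W →
          ∀ i < p, algebraMap B Ω d * f i ∈ W := by
  classical
  haveI : FiniteDimensional K K₂ := FiniteDimensional.trans K K₁ K₂
  have key : ∀ σ : K₂ →ₐ[K] Ω,
      (∀ f : ℕ → Ω,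
        (∀ i, f i ∈ Algebra.adjoin L (Set.range (σ.toRingHom.comp (algebraMap K₁ K₂)))) →
        ∑ i ∈ Finset.range p, f i * (σ α) ^ i = 0 → ∀ i < p, f i = 0) ∧
      ∃ d : B, d ≠ 0 ∧ ∀ W : ValuationSubring Ω, EtRam.Dominates B (algebraMap B Ω) W →
        ∀ f : ℕ → Ω,
          (∀ i, f i ∈ Algebra.adjoin L (Set.range (σ.toRingHom.comp (algebraMap K₁ K₂)))) →
          ∑ i ∈ Finset.range p, f i * (σ α) ^ i ∈ W →
          ∀ i < p, algebraMap B Ω d * f i ∈ W := by
    intro σ
    letI : Algebra K₂ Ω := σ.toRingHom.toAlgebra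
    letI : Algebra K₁ Ω := (σ.toRingHom.comp (algebraMap K₁ K₂)).toAlgebra
    haveI : IsScalarTower K₁ K₂ Ω := IsScalarTower.of_algebraMap_eq (fun _ => rfl)
    haveI : IsScalarTower K K₂ Ω := IsScalarTower.of_algebraMap_eq (fun k => (σ.commutes k).symm)
    haveI : IsScalarTower K K₁ Ω := IsScalarTower.of_algebraMap_eq (fun k => by
      show algebraMap K Ω k = σ (algebraMap K₁ K₂ (algebraMap K K₁ k))
      rw [← IsScalarTower.algebraMap_apply K K₁ K₂, σ.commutes])
    exact cond_amb p hp B K L K₁ K₂ Ω hB hpow α hα hgenα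
  choose hind dσ hdσ0 hdσ using key
  haveI : Fintype (K₂ →ₐ[K] Ω) := Fintype.ofFinite _
  refine ⟨∏ σ, dσ σ, Finset.prod_ne_zero_iff.2 (fun σ _ => hdσ0 σ), fun σ => ⟨hind σ, ?_⟩⟩
  intro W hW f hf hu i hi
  obtain ⟨d', hd'⟩ := Finset.dvd_prod_of_mem dσ (Finset.mem_univ σ)
  rw [hd', mul_comm (dσ σ) d', map_mul, mul_assoc]
  exact W.mul_mem _ _ (hW.1 d') (hdσ σ W hW f hf hu i hi)

end Groth.Agent.Lib.Helper9.CondBound
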