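import Mathlib

/-!
# The decomposition ring: `B_p → (R^H)_{q'}` induces an isomorphism on completions

For a finite group `G` acting on `R` with `B = R^G` Noetherian and `R` finite over `B`, a prime `q`
of `R` and a subgroup `H` containing the decomposition group of `q`.
-/

open scoped Pointwise

universe u

set_option linter.unusedSectionVars false

namespace Groth.Agent.Lib.Helper9.DecompRing

section Local

variable {B₀ R₀ : Type*} [CommRing B₀] [CommRing R₀] (f : B₀ →+* R₀) (q' : Ideal R₀) [q'.IsPrime]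
  (τ : R₀ →+ B₀) (hτ : ∀ b s, τ (f b * s) = b * τ s) (e : R₀) (he : e ∉ q')
  (hτe : ∀ s, f (τ s) - e * s ∈ q')
  (hb : ∀ x ∈ q', ∃ t, t ∉ q' ∧ t * x ∈ Ideal.map f (Ideal.comap f q'))

local notation "S" => Localization.AtPrime (Ideal.comap f q')
local notation "S'" => Localization.AtPrime q'
local notation "φ" => Localization.localRingHom (Ideal.comap f q') q' f rfl

include he hτe in
theorem tau_not_mem (t : R₀) (ht : t ∉ q') : τ t ∉ Ideal.comap f q' := by
  intro h
  rw [Ideal.mem_comap] at h
  have h1 : e * t ∈ q' := by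
    have := q'.sub_mem h (hτe t)
    rwa [sub_sub_cancel] at this
  rcases (Ideal.IsPrime.mem_or_mem inferInstance h1) with h2 | h2
  · exact he h2
  · exact ht h2

include hτ in
theorem tau_mem_of_mem_map (I : Ideal B₀) (z : R₀) (hz : z ∈ Ideal.map f I) : τ z ∈ I := by
  suffices h : ∀ r : R₀, τ (r * z) ∈ I by simpa using h 1
  unfold Ideal.map at hz
  induction hz using Submodule.span_induction with
  | mem x hx =>
    obtain ⟨i, hi, rfl⟩ := hx
    intro r
    rw [mul_comm, hτ]
    exact I.mul_mem_right _ hi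
  | zero => intro r; simp
  | add x y _ _ hx hy =>
    intro r
    rw [mul_add, map_add]
    exact I.add_mem (hx r) (hy r)
  | smul a x _ hx =>
    intro r
    rw [smul_eq_mul, ← mul_assoc]
    exact hx (r * a)

theorem map_phi_map (I : Ideal B₀) :
    Ideal.map φ (Ideal.map (algebraMap B₀ S) I) = Ideal.map (algebraMap R₀ S') (Ideal.map f I) := by
  rw [Ideal.map_map, Ideal.map_map]
  congr 1
  ext b
  simp [Localization.localRingHom_to_map]

include hb in
theorem maximalIdeal_eq_map :
    IsLocalRing.maximalIdeal S' = Ideal.map φ (IsLocalRing.maximalIdeal S) := by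
  rw [← Localization.AtPrime.map_eq_maximalIdeal (I := Ideal.comap f q'), map_phi_map,
    ← Localization.AtPrime.map_eq_maximalIdeal (I := q')]
  apply le_antisymm
  · rw [Ideal.map_le_iff_le_comap]
    intro x hx
    obtain ⟨t, ht, htx⟩ := hb x hx
    rw [Ideal.mem_comap]
    have hu : IsUnit (algebraMap R₀ S' t) :=
      IsLocalization.map_units S' (⟨t, ht⟩ : q'.primeCompl)
    have h1 : algebraMap R₀ S' (t * x) ∈
        Ideal.map (algebraMap R₀ S') (Ideal.map f (Ideal.comap f q')) :=
      Ideal.mem_map_of_mem _ htx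
    rw [map_mul] at h1
    exact (Ideal.unit_mul_mem_iff_mem _ hu).1 h1
  · exact Ideal.map_mono Ideal.map_comap_le

include he hτe in
theorem exists_sub_mem (y : S') : ∃ b : S, y - φ b ∈ IsLocalRing.maximalIdeal S' := by
  obtain ⟨s, ⟨t, ht⟩, rfl⟩ := IsLocalization.exists_mk'_eq q'.primeCompl y
  have hτt : τ t ∈ (Ideal.comap f q').primeCompl := tau_not_mem f q' τ e he hτe t ht
  refine ⟨IsLocalization.mk' S (τ s) ⟨τ t, hτt⟩, ?_⟩
  rw [Localization.localRingHom_mk']
  have hft : f (τ t) ∈ q'.primeCompl := hτt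
  have hu : IsUnit (algebraMap R₀ S' (t * f (τ t))) :=
    IsLocalization.map_units S' (⟨t * f (τ t), q'.primeCompl.mul_mem ht hft⟩ : q'.primeCompl)
  rw [← Ideal.mul_unit_mem_iff_mem _ hu]
  have hnum : s * f (τ t) - f (τ s) * t ∈ q' := by
    have h1 := q'.mul_mem_left s (hτe t)
    have h2 := q'.mul_mem_left t (hτe s)
    have := q'.sub_mem h1 h2
    have e1 : s * (f (τ t) - e * t) - t * (f (τ s) - e * s) = s * f (τ t) - f (τ s) * t := by ring
    rwa [e1] at this
  have h3 : (IsLocalization.mk' S' s ⟨t, ht⟩ - IsLocalization.mk' S' (f (τ s)) ⟨f (τ t), hft⟩) *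
      algebraMap R₀ S' (t * f (τ t)) = algebraMap R₀ S' (s * f (τ t) - f (τ s) * t) := by
    rw [sub_mul, map_mul, map_sub, map_mul, map_mul]
    have e1 := IsLocalization.mk'_spec S' s (⟨t, ht⟩ : q'.primeCompl)
    have e2 := IsLocalization.mk'_spec S' (f (τ s)) (⟨f (τ t), hft⟩ : q'.primeCompl)
    simp only at e1 e2
    rw [← mul_assoc, e1, mul_comm (algebraMap R₀ S' t) (algebraMap R₀ S' (f (τ t))), ← mul_assoc,
      e2]
  rw [h3, ← Localization.AtPrime.map_eq_maximalIdeal (I := q')]
  exact Ideal.mem_map_of_mem _ hnum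

include hτ he hτe in
theorem comap_map_pow_le (n : ℕ) :
    Ideal.comap φ (Ideal.map φ (IsLocalRing.maximalIdeal S ^ n)) ≤ IsLocalRing.maximalIdeal S ^ n := by
  rw [← Localization.AtPrime.map_eq_maximalIdeal (I := Ideal.comap f q'), ← Ideal.map_pow,
    map_phi_map]
  intro x hx
  rw [Ideal.mem_comap] at hx
  obtain ⟨b, ⟨s, hs⟩, rfl⟩ := IsLocalization.exists_mk'_eq (Ideal.comap f q').primeCompl x
  rw [Localization.localRingHom_mk'] at hx
  have hfs : f s ∈ q'.primeCompl := hs
  -- `f b / 1 ∈ J'`
  have h1 : algebraMap R₀ S' (f b) ∈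
      Ideal.map (algebraMap R₀ S') (Ideal.map f (Ideal.comap f q' ^ n)) := by
    have := Ideal.mul_mem_right (algebraMap R₀ S' (f s)) _ hx
    have e2 := IsLocalization.mk'_spec S' (f b) (⟨f s, hfs⟩ : q'.primeCompl)
    simp only at e2
    rwa [e2] at this
  rw [IsLocalization.mem_map_algebraMap_iff q'.primeCompl] at h1
  obtain ⟨⟨⟨i, hi⟩, ⟨t, ht⟩⟩, h2⟩ := h1
  simp only at h2
  rw [← map_mul, IsLocalization.eq_iff_exists q'.primeCompl] at h2
  obtain ⟨⟨c, hc⟩, h3⟩ := h2
  simp only at h3
  -- `c * (f b * t) = c * i ∈ map f (p^n)`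
  have h4 : f b * (c * t) ∈ Ideal.map f (Ideal.comap f q' ^ n) := by
    have : f b * (c * t) = c * (f b * t) := by ring
    rw [this, h3]
    exact Ideal.mul_mem_left _ _ hi
  have h5 := tau_mem_of_mem_map f τ hτ _ _ h4
  rw [hτ] at h5
  have hct : τ (c * t) ∈ (Ideal.comap f q').primeCompl :=
    tau_not_mem f q' τ e he hτe _ (q'.primeCompl.mul_mem hc ht)
  have hu : IsUnit (algebraMap B₀ S (τ (c * t))) :=
    IsLocalization.map_units S (⟨_, hct⟩ : (Ideal.comap f q').primeCompl)
  have hus : IsUnit (algebraMap B₀ S s) :=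
    IsLocalization.map_units S (⟨s, hs⟩ : (Ideal.comap f q').primeCompl)
  have h6 : algebraMap B₀ S b ∈ Ideal.map (algebraMap B₀ S) (Ideal.comap f q' ^ n) := by
    have := Ideal.mem_map_of_mem (algebraMap B₀ S) h5
    rw [map_mul] at this
    exact (Ideal.mul_unit_mem_iff_mem _ hu).1 this
  have e3 := IsLocalization.mk'_spec S b (⟨s, hs⟩ : (Ideal.comap f q').primeCompl)
  simp only at e3
  rw [← Ideal.mul_unit_mem_iff_mem _ hus, e3]
  exact h6

include hτ he hτe hb in
theorem exists_sub_mem_pow (n : ℕ) (y : S') :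
    ∃ b : S, y - φ b ∈ IsLocalRing.maximalIdeal S' ^ n := by
  induction n generalizing y with
  | zero => exact ⟨0, by simp⟩
  | succ n ih =>
    obtain ⟨b, hb'⟩ := ih y
    have hpow : IsLocalRing.maximalIdeal S' ^ n = Ideal.map φ (IsLocalRing.maximalIdeal S ^ n) := by
      rw [maximalIdeal_eq_map f q' hb, Ideal.map_pow]
    rw [hpow] at hb'
    suffices h : ∀ z ∈ Ideal.map φ (IsLocalRing.maximalIdeal S ^ n),
        ∃ b'' ∈ IsLocalRing.maximalIdeal S ^ n, z - φ b'' ∈
          Ideal.map φ (IsLocalRing.maximalIdeal S ^ n) * IsLocalRing.maximalIdeal S' by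
      obtain ⟨b'', -, hb''⟩ := h _ hb'
      refine ⟨b + b'', ?_⟩
      rw [pow_succ, hpow, map_add, ← sub_sub]
      exact hb''
    intro z hz
    unfold Ideal.map at hz
    induction hz using Submodule.span_induction with
    | mem x hx =>
      obtain ⟨i, hi, rfl⟩ := hx
      exact ⟨i, hi, by simp⟩
    | zero => exact ⟨0, zero_mem _, by simp⟩
    | add x y _ _ hx hy =>
      obtain ⟨b₁, hb₁, h₁⟩ := hx
      obtain ⟨b₂, hb₂, h₂⟩ := hy
      refine ⟨b₁ + b₂, Ideal.add_mem _ hb₁ hb₂, ?_⟩
      have : x + y - φ (b₁ + b₂) = (x - φ b₁) + (y - φ b₂) := by rw [map_add]; ring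
      rw [this]
      exact Ideal.add_mem _ h₁ h₂
    | smul a x hxmem hx =>
      obtain ⟨b₁, hb₁, h₁⟩ := hx
      obtain ⟨c, hc⟩ := exists_sub_mem f q' τ e he hτe a
      refine ⟨c * b₁, Ideal.mul_mem_left _ _ hb₁, ?_⟩
      have hxmem' : x ∈ Ideal.map φ (IsLocalRing.maximalIdeal S ^ n) := hxmem
      have : a • x - φ (c * b₁) = φ c * (x - φ b₁) + x * (a - φ c) := by
        rw [smul_eq_mul, map_mul]; ring
      rw [this]
      exact Ideal.add_mem _ (Ideal.mul_mem_left _ _ h₁) (Ideal.mul_mem_mul hxmem' hc)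

include hτ he hτe hb in
/-- the abstract local statement. -/
theorem local_main (n : ℕ) :
    Function.Surjective ((Ideal.Quotient.mk (IsLocalRing.maximalIdeal S' ^ n)).comp φ) ∧
      Ideal.comap φ (IsLocalRing.maximalIdeal S' ^ n) = IsLocalRing.maximalIdeal S ^ n := by
  constructor
  · intro y
    obtain ⟨y, rfl⟩ := Ideal.Quotient.mk_surjective y
    obtain ⟨b, hb'⟩ := exists_sub_mem_pow f q' τ hτ e he hτe hb n y
    refine ⟨b, ?_⟩
    rw [RingHom.comp_apply, Ideal.Quotient.eq, ← neg_sub]
    exact neg_mem hb'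
  · have hpow : IsLocalRing.maximalIdeal S' ^ n = Ideal.map φ (IsLocalRing.maximalIdeal S ^ n) := by
      rw [maximalIdeal_eq_map f q' hb, Ideal.map_pow]
    rw [hpow]
    exact le_antisymm (comap_map_pow_le f q' τ hτ e he hτe n) Ideal.le_comap_map

end Local

section Transfer

variable {G R : Type u} [Group G] [Finite G] [CommRing R] [MulSemiringAction G R]
  (H : Subgroup G)

instance isInvariant_fixedPoints : Algebra.IsInvariant (FixedPoints.subring R G) R G :=
  ⟨fun b hb => ⟨⟨b, hb⟩, rfl⟩⟩

theorem mem_fixed_iff (x : R) : x ∈ FixedPoints.subring R H ↔ ∀ h ∈ H, h • x = x :=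
  ⟨fun hx h hh => hx ⟨h, hh⟩, fun hx h => hx h h.2⟩

/-- coset transfer `R^H → R^G`. -/
noncomputable def transfer (x : R) : R :=
  letI : Fintype (G ⧸ H) := Fintype.ofFinite _
  ∑ c : G ⧸ H, (Quotient.out c) • x

theorem transfer_add (x y : R) : transfer H (x + y) = transfer H x + transfer H y := by
  unfold transfer
  simp only [smul_add, Finset.sum_add_distrib]

theorem transfer_zero : transfer H (0 : R) = 0 := by
  unfold transfer
  simp

theorem smul_out_eq {x : R} (hx : x ∈ FixedPoints.subring R H) (g : G) (c : G ⧸ H) :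
    (g * Quotient.out c) • x = Quotient.out (g • c) • x := by
  have h1 : ((g * Quotient.out c : G) : G ⧸ H) = ((Quotient.out (g • c) : G) : G ⧸ H) := by
    rw [QuotientGroup.out_eq', ← MulAction.Quotient.coe_smul_out, smul_eq_mul]
  have h2 : (Quotient.out (g • c))⁻¹ * (g * Quotient.out c) ∈ H := QuotientGroup.eq.1 h1.symm
  have h3 := (mem_fixed_iff H x).1 hx _ h2
  calc (g * Quotient.out c) • x
      = (Quotient.out (g • c) * ((Quotient.out (g • c))⁻¹ * (g * Quotient.out c))) • x := by
        rw [mul_inv_cancel_left]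
    _ = Quotient.out (g • c) • x := by rw [mul_smul, h3]

theorem transfer_mem {x : R} (hx : x ∈ FixedPoints.subring R H) :
    transfer H x ∈ FixedPoints.subring R G := by
  intro g
  unfold transfer
  letI : Fintype (G ⧸ H) := Fintype.ofFinite _
  rw [Finset.smul_sum]
  simp only [← mul_smul, smul_out_eq H hx]
  exact Fintype.sum_equiv (MulAction.toPerm g) _ _ (fun c => rfl)

theorem transfer_mul {b : R} (hb : b ∈ FixedPoints.subring R G) (x : R) :
    transfer H (b * x) = b * transfer H x := by
  unfold transfer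
  letI : Fintype (G ⧸ H) := Fintype.ofFinite _
  rw [Finset.mul_sum]
  refine Finset.sum_congr rfl fun c _ => ?_
  rw [smul_mul', hb]

theorem out_one_mem : Quotient.out ((1 : G) : G ⧸ H) ∈ H := by
  have h1 : ((Quotient.out ((1 : G) : G ⧸ H) : G) : G ⧸ H) = ((1 : G) : G ⧸ H) :=
    QuotientGroup.out_eq' _
  have := QuotientGroup.eq.1 h1
  rw [mul_one] at this
  exact (inv_mem_iff).1 this

theorem out_not_mem {c : G ⧸ H} (hc : c ≠ ((1 : G) : G ⧸ H)) : Quotient.out c ∉ H := by
  intro h
  apply hc
  rw [← QuotientGroup.out_eq' c, QuotientGroup.eq, mul_one]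
  exact inv_mem h

/-- the terms of the transfer other than the one of the trivial coset. -/
noncomputable def rest (x : R) : R :=
  letI : Fintype (G ⧸ H) := Fintype.ofFinite _
  open Classical in
  ∑ c ∈ (Finset.univ : Finset (G ⧸ H)).erase ((1 : G) : G ⧸ H), (Quotient.out c) • x

theorem transfer_eq {x : R} (hx : x ∈ FixedPoints.subring R H) :
    transfer H x = x + rest H x := by
  classical
  unfold transfer rest
  letI : Fintype (G ⧸ H) := Fintype.ofFinite _
  rw [← Finset.add_sum_erase _ _ (Finset.mem_univ ((1 : G) : G ⧸ H)),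
    (mem_fixed_iff H x).1 hx _ (out_one_mem H)]

/-- if every term lies in an ideal, so does `rest`. -/
theorem rest_mem (J : Ideal R) (x : R) (hx : ∀ g : G, g ∉ H → g • x ∈ J) : rest H x ∈ J := by
  classical
  unfold rest
  letI : Fintype (G ⧸ H) := Fintype.ofFinite _
  refine J.sum_mem fun c hc => ?_
  exact hx _ (out_not_mem H (Finset.ne_of_mem_erase hc))

theorem mul_rest (y x : R) :
    y * rest H x =
      letI : Fintype (G ⧸ H) := Fintype.ofFinite _
      open Classical in
      ∑ c ∈ (Finset.univ : Finset (G ⧸ H)).erase ((1 : G) : G ⧸ H), y * (Quotient.out c) • x := by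
  classical
  unfold rest
  letI : Fintype (G ⧸ H) := Fintype.ofFinite _
  rw [Finset.mul_sum]

end Transfer

section Elem

variable {G R : Type u} [Group G] [Finite G] [CommRing R] [MulSemiringAction G R]
  (H : Subgroup G) (q : Ideal R) [q.IsPrime] (hD : MulAction.stabilizer G q ≤ H)

include hD in
theorem exists_x : ∃ x : R, (∀ g : G, g ∉ H → g • x ∈ q) ∧ ∀ h ∈ H, h • x ∉ q := by
  classical
  letI : Fintype G := Fintype.ofFinite G
  have hnot : ¬ (((Finset.univ.filter (fun g : G => g ∉ H)).inf (fun g => g⁻¹ • q) : Ideal R) : Set R) ⊆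
      ⋃ h ∈ ((Finset.univ.filter (fun g : G => g ∈ H) : Finset G) : Set G),
        ((h⁻¹ • q : Ideal R) : Set R) := by
    rw [Ideal.subset_union_prime 1 1 (fun h _ _ _ => Ideal.IsPrime.smul h⁻¹)]
    rintro ⟨h, hh, hle⟩
    rw [Ideal.IsPrime.inf_le' (Ideal.IsPrime.smul h⁻¹)] at hle
    obtain ⟨g, hg, hgle⟩ := hle
    rw [Finset.mem_filter] at hh hg
    have h1 : q ≤ (g * h⁻¹) • q := by
      have := (Ideal.pointwise_smul_le_pointwise_smul_iff (a := g)).2 hgle
      rwa [smul_inv_smul, ← mul_smul] at this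
    have h2 : (g * h⁻¹) • q = q := smul_eq_of_le_smul h1
    have h3 : g * h⁻¹ ∈ H := hD h2
    have h4 : g ∈ H := by
      have := H.mul_mem h3 hh.2
      rwa [inv_mul_cancel_right] at this
    exact hg.2 h4
  rw [Set.not_subset] at hnot
  obtain ⟨x, hxJ, hxU⟩ := hnot
  refine ⟨x, ?_, ?_⟩
  · intro g hg
    have h1 : ((Finset.univ.filter (fun g : G => g ∉ H)).inf (fun g => g⁻¹ • q) : Ideal R) ≤
        g⁻¹ • q := Finset.inf_le (Finset.mem_filter.2 ⟨Finset.mem_univ _, hg⟩)
    exact Ideal.mem_inv_pointwise_smul_iff.1 (h1 hxJ)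
  · intro h hh hmem
    apply hxU
    simp only [Set.mem_iUnion]
    exact ⟨h, by simpa using hh, Ideal.mem_inv_pointwise_smul_iff.2 hmem⟩

include hD in
theorem exists_e : ∃ e : R, e ∈ FixedPoints.subring R H ∧ e ∉ q ∧ ∀ g : G, g ∉ H → g • e ∈ q := by
  classical
  obtain ⟨x, hx1, hx2⟩ := exists_x H q hD
  letI : Fintype H := Fintype.ofFinite H
  refine ⟨∏ h : H, h • x, ?_, ?_, ?_⟩
  · intro h
    exact Finset.smul_prod_perm x h
  · rw [Ideal.IsPrime.prod_mem_iff]
    push_neg
    intro h _
    exact hx2 h h.2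
  · intro g hg
    rw [Finset.smul_prod', Ideal.IsPrime.prod_mem_iff]
    refine ⟨1, Finset.mem_univ _, ?_⟩
    rw [one_smul]
    exact hx1 g hg

/-- an element lying in all conjugates of `q` has a power in `p R`. -/
theorem pow_card_mem (z : R) (hz : ∀ g : G, g • z ∈ q) :
    z ^ Nat.card G ∈ Ideal.map (algebraMap (FixedPoints.subring R G) R)
      (Ideal.comap (algebraMap (FixedPoints.subring R G) R) q) := by
  classical
  letI : Fintype G := Fintype.ofFinite G
  obtain ⟨P, hP1, hP2, hP3⟩ := Polynomial.lifts_and_natDegree_eq_and_monic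
    (Algebra.IsInvariant.charpoly_mem_lifts (FixedPoints.subring R G) R G z)
    (MulSemiringAction.monic_charpoly G z)
  haveI : Nontrivial R := nontrivial_of_ne (0 : R) 1 (fun h =>
    (Ideal.IsPrime.ne_top (inferInstance : q.IsPrime)) ((Ideal.eq_top_iff_one q).2 (h ▸ q.zero_mem)))
  have hdeg : P.natDegree = Nat.card G := by
    rw [hP2, MulSemiringAction.charpoly_eq, Polynomial.natDegree_prod_of_monic _ _
      (fun g _ => Polynomial.monic_X_sub_C _)]
    simp [Nat.card_eq_fintype_card]
  -- the lower coefficients lie in `q`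
  have hcoeff : ∀ j < Nat.card G, P.coeff j ∈
      Ideal.comap (algebraMap (FixedPoints.subring R G) R) q := by
    intro j hj
    rw [Ideal.mem_comap, ← Polynomial.coeff_map, hP1, ← Ideal.Quotient.eq_zero_iff_mem,
      ← Polynomial.coeff_map, MulSemiringAction.charpoly_eq, Polynomial.map_prod]
    have : ∀ g : G, Polynomial.map (Ideal.Quotient.mk q) (Polynomial.X - Polynomial.C (g • z)) =
        Polynomial.X := by
      intro g
      rw [Polynomial.map_sub, Polynomial.map_X, Polynomial.map_C,
        Ideal.Quotient.eq_zero_iff_mem.2 (hz g), map_zero, sub_zero]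
    simp only [this, Finset.prod_const, Finset.card_univ, Polynomial.coeff_X_pow]
    rw [if_neg]
    rw [← Nat.card_eq_fintype_card]
    exact hj.ne
  have heval : Polynomial.eval₂ (algebraMap (FixedPoints.subring R G) R) z P = 0 := by
    rw [← Polynomial.eval_map, hP1, MulSemiringAction.eval_charpoly]
  rw [hP3.as_sum, Polynomial.eval₂_add, Polynomial.eval₂_pow, Polynomial.eval₂_X,
    Polynomial.eval₂_finset_sum, hdeg] at heval
  have h2 : z ^ Nat.card G = - ∑ i ∈ Finset.range (Nat.card G),
      Polynomial.eval₂ (algebraMap (FixedPoints.subring R G) R) z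
        (Polynomial.C (P.coeff i) * Polynomial.X ^ i) := eq_neg_of_add_eq_zero_left heval
  rw [h2]
  refine neg_mem (Ideal.sum_mem _ fun i hi => ?_)
  rw [Polynomial.eval₂_mul, Polynomial.eval₂_C]
  exact Ideal.mul_mem_right _ _ (Ideal.mem_map_of_mem _ (hcoeff i (Finset.mem_range.1 hi)))

end Elem

section Main

variable {G R : Type u} [Group G] [Finite G] [CommRing R] [MulSemiringAction G R]
  (H : Subgroup G) (hle : FixedPoints.subring R G ≤ FixedPoints.subring R H)

/-- `R^H` as an `R^G`-submodule of `R`. -/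
def fixedSubmodule : Submodule (FixedPoints.subring R G) R where
  carrier := {x | x ∈ FixedPoints.subring R H}
  add_mem' := (FixedPoints.subring R H).add_mem
  zero_mem' := (FixedPoints.subring R H).zero_mem
  smul_mem' := fun b x hx => by
    rw [Algebra.smul_def]
    exact (FixedPoints.subring R H).mul_mem (hle b.2) hx

variable [IsNoetherianRing (FixedPoints.subring R G)] [Module.Finite (FixedPoints.subring R G) R]

/-- Artin–Rees for `R^H ⊆ R` over `R^G`. -/
theorem artinRees (I : Ideal (FixedPoints.subring R G)) : ∃ k : ℕ, ∀ z : R,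
    z ∈ FixedPoints.subring R H →
    z ∈ Ideal.map (algebraMap (FixedPoints.subring R G) R) (I ^ (k + 1)) →
    ∃ hz : z ∈ FixedPoints.subring R H,
      (⟨z, hz⟩ : FixedPoints.subring R H) ∈ Ideal.map (Subring.inclusion hle) I := by
  obtain ⟨k, hk⟩ := Ideal.exists_pow_inf_eq_pow_smul I (fixedSubmodule H hle)
  refine ⟨k, fun z hz hzI => ?_⟩
  have h1 : z ∈ I ^ (k + 1) • (⊤ : Submodule (FixedPoints.subring R G) R) ⊓ fixedSubmodule H hle := by
    refine ⟨?_, hz⟩
    rw [Ideal.smul_top_eq_map]
    exact hzI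
  rw [hk (k + 1) (Nat.le_succ k)] at h1
  have h2 : k + 1 - k = 1 := by omega
  rw [h2, pow_one] at h1
  have h3 : z ∈ I • fixedSubmodule H hle := (smul_mono_right I inf_le_right : I • (_ ⊓ fixedSubmodule H hle) ≤ I • fixedSubmodule H hle) h1
  refine Submodule.smul_induction_on h3 ?_ ?_
  · intro r hr n hn
    have hn' : n ∈ FixedPoints.subring R H := hn
    have hmem : r • n ∈ FixedPoints.subring R H := (fixedSubmodule H hle).smul_mem r hn
    refine ⟨hmem, ?_⟩
    have : (⟨r • n, hmem⟩ : FixedPoints.subring R H) = Subring.inclusion hle r * ⟨n, hn'⟩ := by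
      apply Subtype.ext
      exact Algebra.smul_def r n
    rw [this]
    exact Ideal.mul_mem_right _ _ (Ideal.mem_map_of_mem _ hr)
  · rintro x y ⟨hx, hx'⟩ ⟨hy, hy'⟩
    refine ⟨(FixedPoints.subring R H).add_mem hx hy, ?_⟩
    have : (⟨x + y, (FixedPoints.subring R H).add_mem hx hy⟩ : FixedPoints.subring R H) =
        ⟨x, hx⟩ + ⟨y, hy⟩ := rfl
    rw [this]
    exact Ideal.add_mem _ hx' hy'

variable (q : Ideal R) [q.IsPrime] (hD : MulAction.stabilizer G q ≤ H)

include hD in
/-- the main theorem. -/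
theorem main (n : ℕ) :
    let q' : Ideal (FixedPoints.subring R H) := Ideal.comap (FixedPoints.subring R H).subtype q
    let φ := Localization.localRingHom (Ideal.comap (Subring.inclusion hle) q') q'
      (Subring.inclusion hle) rfl
    Function.Surjective ((Ideal.Quotient.mk
      (IsLocalRing.maximalIdeal (Localization.AtPrime q') ^ n)).comp φ) ∧
      Ideal.comap φ (IsLocalRing.maximalIdeal (Localization.AtPrime q') ^ n) =
        IsLocalRing.maximalIdeal
          (Localization.AtPrime (Ideal.comap (Subring.inclusion hle) q')) ^ n := by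
  intro q' φ
  obtain ⟨e, heH, heq, heg⟩ := exists_e H q hD
  -- the transfer map
  let τ : FixedPoints.subring R H →+ FixedPoints.subring R G :=
    { toFun := fun s => ⟨transfer H (e * s),
        transfer_mem H ((FixedPoints.subring R H).mul_mem heH s.2)⟩
      map_zero' := by
        apply Subtype.ext
        simp [transfer_zero]
      map_add' := fun s t => by
        apply Subtype.ext
        simp [mul_add, transfer_add] }
  have hτ : ∀ b s, τ (Subring.inclusion hle b * s) = b * τ s := by
    intro b s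
    apply Subtype.ext
    show transfer H (e * ((b : R) * (s : R))) = (b : R) * transfer H (e * (s : R))
    rw [← transfer_mul H b.2, mul_left_comm]
  have hrest : ∀ s : R, rest H (e * s) ∈ q := by
    intro s
    apply rest_mem
    intro g hg
    rw [smul_mul']
    exact Ideal.mul_mem_right _ _ (heg g hg)
  have hτe : ∀ s, Subring.inclusion hle (τ s) - (⟨e, heH⟩ : FixedPoints.subring R H) * s ∈ q' := by
    intro s
    show transfer H (e * (s : R)) - e * (s : R) ∈ q
    rw [transfer_eq H ((FixedPoints.subring R H).mul_mem heH s.2), add_sub_cancel_left]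
    exact hrest s
  have he' : (⟨e, heH⟩ : FixedPoints.subring R H) ∉ q' := heq
  refine local_main (Subring.inclusion hle) q' τ hτ ⟨e, heH⟩ he' hτe ?_ n
  -- (H_b)
  intro x hx
  have hxq : (x : R) ∈ q := hx
  obtain ⟨k, hk⟩ := artinRees H hle (Ideal.comap (Subring.inclusion hle) q')
  have hcard : 0 < Nat.card G := Nat.card_pos
  set N := Nat.card G * (k + 1) with hN
  have hNpos : 0 < N := Nat.mul_pos hcard (Nat.succ_pos k)
  have heN : e ^ N ∈ FixedPoints.subring R H := (FixedPoints.subring R H).pow_mem heH N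
  have hexH : e ^ N * (x : R) ∈ FixedPoints.subring R H :=
    (FixedPoints.subring R H).mul_mem heN x.2
  have hT := transfer_eq H hexH
  have hTB : transfer H (e ^ N * (x : R)) ∈ FixedPoints.subring R G := transfer_mem H hexH
  -- `rest ∈ q`
  have hyq : rest H (e ^ N * (x : R)) ∈ q := by
    apply rest_mem
    intro g hg
    rw [smul_mul', smul_pow']
    exact Ideal.mul_mem_right _ _ (Ideal.pow_mem_of_mem _ (heg g hg) _ hNpos)
  have hTq : transfer H (e ^ N * (x : R)) ∈ q := by
    rw [hT]
    exact q.add_mem (q.mul_mem_left _ hxq) hyq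
  have hyH : rest H (e ^ N * (x : R)) ∈ FixedPoints.subring R H := by
    have : rest H (e ^ N * (x : R)) = transfer H (e ^ N * (x : R)) - e ^ N * (x : R) := by
      rw [hT, add_sub_cancel_left]
    rw [this]
    exact (FixedPoints.subring R H).sub_mem (hle hTB) hexH
  -- `e^N * rest ∈ map (p^(k+1))`
  have hp_eq : Ideal.comap (algebraMap (FixedPoints.subring R G) R) q =
      Ideal.comap (Subring.inclusion hle) q' := rfl
  have hz : ∀ g : G, g ∉ H → (e * g • e) ^ N ∈
      Ideal.map (algebraMap (FixedPoints.subring R G) R)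
        (Ideal.comap (Subring.inclusion hle) q' ^ (k + 1)) := by
    intro g hg
    have h1 : ∀ g' : G, g' • (e * g • e) ∈ q := by
      intro g'
      rw [smul_mul', smul_smul]
      by_cases hg' : g' ∈ H
      · apply Ideal.mul_mem_left
        apply heg
        intro h
        apply hg
        have := H.mul_mem (H.inv_mem hg') h
        rwa [inv_mul_cancel_left] at this
      · exact Ideal.mul_mem_right _ _ (heg g' hg')
    have h2 := pow_card_mem q (e * g • e) h1
    rw [hp_eq] at h2
    rw [hN, pow_mul, Ideal.map_pow]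
    exact Ideal.pow_mem_pow h2 _
  have hey : e ^ N * rest H (e ^ N * (x : R)) ∈
      Ideal.map (algebraMap (FixedPoints.subring R G) R)
        (Ideal.comap (Subring.inclusion hle) q' ^ (k + 1)) := by
    classical
    rw [mul_rest]
    refine Ideal.sum_mem _ fun c hc => ?_
    have hc' := out_not_mem H (Finset.ne_of_mem_erase hc)
    have : e ^ N * Quotient.out c • (e ^ N * (x : R)) =
        (e * Quotient.out c • e) ^ N * Quotient.out c • (x : R) := by
      rw [smul_mul', smul_pow', mul_pow, mul_assoc]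
    rw [this]
    exact Ideal.mul_mem_right _ _ (hz _ hc')
  obtain ⟨hmem, hAR⟩ := hk _ ((FixedPoints.subring R H).mul_mem heN hyH) hey
  -- conclusion
  refine ⟨⟨e ^ N * e ^ N, (FixedPoints.subring R H).mul_mem heN heN⟩, ?_, ?_⟩
  · show e ^ N * e ^ N ∉ q
    intro h
    rw [← pow_add] at h
    exact heq (Ideal.IsPrime.mem_of_pow_mem inferInstance _ h)
  · have hb₀ : (⟨transfer H (e ^ N * (x : R)), hTB⟩ : FixedPoints.subring R G) ∈
        Ideal.comap (Subring.inclusion hle) q' := hTq
    have e1 : (⟨e ^ N * e ^ N, (FixedPoints.subring R H).mul_mem heN heN⟩ :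
        FixedPoints.subring R H) * x =
        ⟨e ^ N, heN⟩ * Subring.inclusion hle ⟨transfer H (e ^ N * (x : R)), hTB⟩ -
          ⟨e ^ N * rest H (e ^ N * (x : R)), hmem⟩ := by
      apply Subtype.ext
      show e ^ N * e ^ N * (x : R) = e ^ N * transfer H (e ^ N * (x : R)) -
        e ^ N * rest H (e ^ N * (x : R))
      rw [hT]
      ring
    rw [e1]
    exact Ideal.sub_mem _ (Ideal.mul_mem_left _ _ (Ideal.mem_map_of_mem _ hb₀)) hAR

end Main

end Groth.Agent.Lib.Helper9.DecompRing
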