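import Mathlib
import Groth.Agent.Lib.Helper9.DvrSmooth

open TensorProduct Polynomial

universe u

set_option linter.unusedSectionVars false
set_option linter.style.haveILetI false
set_option linter.overlappingInstances false

namespace Groth.Agent.Lib.Helper9.DvrAbs

open Groth.Agent.Lib.Helper9.DvrSmooth

local notation "𝔪" => IsLocalRing.maximalIdeal
local notation "κ" => IsLocalRing.ResidueField

section Abs

variable {E R W : Type*} [CommRing E] [CommRing R] [CommRing W] [IsDomain W]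
  [IsDiscreteValuationRing W]
  (φ : E →+* W) (red : E →+* R) (ψ : R →+* κ W)
  (hcomp : ∀ t, ψ (red t) = IsLocalRing.residue W (φ t))
  (hsurj : Function.Surjective red) [IsReduced R]
  (hmax : ∀ P : Ideal R, P.IsPrime → P.IsMaximal)
  (ϖ : W) (hϖ : ϖ ∈ 𝔪 W) (hϖ0 : ϖ ≠ 0) (p₁ : E) (hp₁ : φ p₁ = ϖ)
  (hker : ∀ t, red t = 0 → ∃ t', φ t = ϖ * φ t')

include hmax in
theorem psi_loc (y : R) (hy : ψ y = 0) : ∃ s, ψ s ≠ 0 ∧ s * y = 0 := by
  have hpr : (RingHom.ker ψ).IsPrime := RingHom.ker_isPrime _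
  exact exists_notMem_mul_eq_zero hmax (RingHom.ker ψ) y hy

include hcomp hsurj hmax hker in
theorem star (t : E) (ht : φ t ∈ 𝔪 W) :
    ∃ s t', φ s ∉ 𝔪 W ∧ φ s * φ t = ϖ * φ t' := by
  have h0 : ψ (red t) = 0 := by
    rw [hcomp, IsLocalRing.residue_eq_zero_iff]
    exact ht
  obtain ⟨sb, hsb, hsby⟩ := psi_loc ψ hmax _ h0
  obtain ⟨s, rfl⟩ := hsurj sb
  obtain ⟨t', ht'⟩ := hker (s * t) (by rw [map_mul]; exact hsby)
  refine ⟨s, t', ?_, ?_⟩
  · rw [hcomp] at hsb
    intro h
    exact hsb ((IsLocalRing.residue_eq_zero_iff _).2 h)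
  · rw [← map_mul, ht']

theorem notMem_mul {x y : W} (hx : x ∉ 𝔪 W) (hy : y ∉ 𝔪 W) : x * y ∉ 𝔪 W := by
  intro hm
  rcases (IsLocalRing.maximalIdeal.isMaximal W).isPrime.mem_or_mem hm with h | h
  · exact hx h
  · exact hy h

include hcomp hsurj hmax hker hϖ in
theorem claimA : ∀ w : W, w ≠ 0 → ∀ t : E, φ t = w →
      ∃ (n : ℕ) (s s' : E), φ s ∉ 𝔪 W ∧ φ s' ∉ 𝔪 W ∧ φ s * w = φ s' * ϖ ^ n := by
  intro w
  induction w using WellFounded.induction (wellFounded_dvdNotUnit (α := W)) with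
  | _ w ih =>
    intro hw0 t ht
    by_cases hmem : w ∈ 𝔪 W
    · obtain ⟨s, t', hs, hst⟩ := star φ red ψ hcomp hsurj hmax ϖ hker t (ht ▸ hmem)
      have hsu : IsUnit (φ s) := by
        by_contra h
        exact hs ((IsLocalRing.mem_maximalIdeal _).2 h)
      have heq : φ s * w = ϖ * φ t' := by rw [← ht, hst]
      have ht'0 : φ t' ≠ 0 := by
        intro h0
        rw [h0, mul_zero] at heq
        exact hw0 ((hsu.mul_right_eq_zero).1 heq)
      obtain ⟨u, hu⟩ := hsu
      have hdvd : DvdNotUnit (φ t') w := by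
        refine ⟨ht'0, ϖ * ((u⁻¹ : Wˣ) : W), ?_, ?_⟩
        · intro hunit
          have : IsUnit ϖ := by
            have := hunit.mul (u.isUnit)
            rwa [mul_assoc, Units.inv_mul, mul_one] at this
          exact ((IsLocalRing.mem_maximalIdeal _).1 hϖ) this
        · rw [← hu] at heq
          calc w = ((u⁻¹ : Wˣ) : W) * ((u : W) * w) := by rw [← mul_assoc, Units.inv_mul, one_mul]
            _ = φ t' * (ϖ * ((u⁻¹ : Wˣ) : W)) := by rw [heq]; ring
      obtain ⟨n, s₁, s₁', hs₁, hs₁', h1⟩ := ih _ hdvd ht'0 t' rfl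
      refine ⟨n + 1, s₁ * s, s₁', ?_, hs₁', ?_⟩
      · rw [map_mul]
        exact notMem_mul hs₁ hs
      · rw [map_mul, mul_assoc, heq, mul_left_comm, h1, pow_succ]
        ring
    · refine ⟨0, 1, t, ?_, ht ▸ hmem, ?_⟩
      · rw [map_one]
        exact fun h => (IsLocalRing.mem_maximalIdeal _).1 h isUnit_one
      · rw [map_one, one_mul, pow_zero, mul_one, ht]

include hcomp hsurj hmax hker hϖ hϖ0 hp₁ in
theorem claimA'
    (hgen : ∀ w : W, ∃ x y : E, φ y ≠ 0 ∧ w * φ y = φ x)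
    (w : W) : ∃ x s : E, φ s ∉ 𝔪 W ∧ w * φ s = φ x := by
  by_cases hw0 : w = 0
  · refine ⟨0, 1, ?_, by rw [hw0, zero_mul, map_zero]⟩
    rw [map_one]
    exact fun h => (IsLocalRing.mem_maximalIdeal _).1 h isUnit_one
  obtain ⟨x, y, hy0, hxy⟩ := hgen w
  have hx0 : φ x ≠ 0 := by
    rw [← hxy]
    exact mul_ne_zero hw0 hy0
  obtain ⟨n, s, s', hs, hs', h1⟩ := claimA φ red ψ hcomp hsurj hmax ϖ hϖ hker _ hx0 x rfl
  obtain ⟨m, r, r', hr, hr', h2⟩ := claimA φ red ψ hcomp hsurj hmax ϖ hϖ hker _ hy0 y rfl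
  have key : w * (φ r' * φ s) * ϖ ^ m = φ r * φ s' * ϖ ^ n := by
    calc w * (φ r' * φ s) * ϖ ^ m
        = w * φ s * (φ r' * ϖ ^ m) := by ring
      _ = w * φ s * (φ r * φ y) := by rw [h2]
      _ = φ r * (φ s * (w * φ y)) := by ring
      _ = φ r * (φ s' * ϖ ^ n) := by rw [hxy, h1]
      _ = _ := by ring
  rcases le_or_gt m n with hmn | hmn
  · refine ⟨r * s' * p₁ ^ (n - m), r' * s, ?_, ?_⟩
    · rw [map_mul]
      exact notMem_mul hr' hs
    · have hpow : ϖ ^ n = ϖ ^ (n - m) * ϖ ^ m := by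
        rw [← pow_add, Nat.sub_add_cancel hmn]
      have key' : (w * (φ r' * φ s)) * ϖ ^ m = (φ r * φ s' * ϖ ^ (n - m)) * ϖ ^ m := by
        rw [key, hpow]; ring
      have := mul_right_cancel₀ (pow_ne_zero m hϖ0) key'
      rw [map_mul, map_mul, map_mul, map_pow, hp₁]
      exact this
  · exfalso
    have hpow : ϖ ^ m = ϖ ^ (m - n) * ϖ ^ n := by
      rw [← pow_add, Nat.sub_add_cancel hmn.le]
    have key' : (w * (φ r' * φ s) * ϖ ^ (m - n)) * ϖ ^ n = (φ r * φ s') * ϖ ^ n := by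
      rw [← key, hpow]; ring
    have h3 := mul_right_cancel₀ (pow_ne_zero n hϖ0) key'
    have h4 : φ r * φ s' ∉ 𝔪 W := notMem_mul hr hs'
    apply h4
    rw [← h3]
    apply Ideal.mul_mem_left
    have : m - n = (m - n - 1) + 1 := by omega
    rw [this, pow_succ]
    exact Ideal.mul_mem_left _ _ hϖ

include hcomp hsurj hmax hker hϖ hϖ0 hp₁ in
theorem abstractCore
    (hgen : ∀ w : W, ∃ x y : E, φ y ≠ 0 ∧ w * φ y = φ x) :
    𝔪 W = Ideal.span {ϖ} ∧ Function.Surjective ψ := by
  constructor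
  · apply le_antisymm
    · intro w hwm
      obtain ⟨x, s, hs, hxs⟩ :=
        claimA' φ red ψ hcomp hsurj hmax ϖ hϖ hϖ0 p₁ hp₁ hker hgen w
      have hxm : φ x ∈ 𝔪 W := by
        rw [← hxs]
        exact Ideal.mul_mem_right _ _ hwm
      obtain ⟨s₁, t', hs₁, hst⟩ := star φ red ψ hcomp hsurj hmax ϖ hker x hxm
      have hu : IsUnit (φ s * φ s₁) := by
        by_contra h
        exact notMem_mul hs hs₁ ((IsLocalRing.mem_maximalIdeal _).2 h)
      obtain ⟨u, hu⟩ := hu
      have h1 : w * (u : W) = ϖ * φ t' := by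
        rw [hu, ← mul_assoc, hxs, mul_comm (φ x), hst]
      have h2 : w = ϖ * (φ t' * ((u⁻¹ : Wˣ) : W)) := by
        rw [← mul_assoc, ← h1, mul_assoc, Units.mul_inv, mul_one]
      rw [h2]
      exact Ideal.mul_mem_right _ _ (Ideal.mem_span_singleton_self ϖ)
    · rw [Ideal.span_singleton_le_iff_mem]
      exact hϖ
  · intro z
    obtain ⟨w, rfl⟩ := IsLocalRing.residue_surjective z
    obtain ⟨x, s, hs, hxs⟩ := claimA' φ red ψ hcomp hsurj hmax ϖ hϖ hϖ0 p₁ hp₁ hker hgen w
    have hmaxk : (RingHom.ker ψ).IsMaximal := by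
      haveI : (RingHom.ker ψ).IsPrime := RingHom.ker_isPrime _
      exact hmax _ inferInstance
    have hs' : red s ∉ RingHom.ker ψ := by
      rw [RingHom.mem_ker, hcomp, IsLocalRing.residue_eq_zero_iff]
      exact hs
    obtain ⟨ub, i, hi, hub⟩ := hmaxk.exists_inv hs'
    refine ⟨red x * ub, ?_⟩
    have h1 : ψ ub * ψ (red s) = 1 := by
      have := congrArg ψ hub
      rw [map_add, map_mul, (RingHom.mem_ker).1 hi, add_zero, map_one] at this
      exact this
    rw [map_mul, hcomp, ← hxs, map_mul, ← hcomp, mul_assoc, mul_comm (ψ _), h1, mul_one]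

end Abs


theorem isReduced_adjoinRoot_of_separable_field {F : Type*} [Field F] (f : F[X]) (hf : f.Separable) :
    IsReduced (AdjoinRoot f) := by
  have h1 : IsRadical f := hf.squarefree.isRadical
  have h2 : (Ideal.span {f}).IsRadical := isRadical_iff_span_singleton.1 h1
  exact (Ideal.isRadical_iff_quotient_reduced _).1 h2

theorem isReduced_adjoinRoot_pow_sub_C {S : Type*} [CommRing S] [IsReduced S] (e : ℕ) (he0 : 0 < e)
    (he : IsUnit (e : S)) (η : S) (hη : IsUnit η) :
    IsReduced (AdjoinRoot (X ^ e - C η : S[X])) := by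
  classical
  rcases subsingleton_or_nontrivial S with hS | hS
  · constructor
    intro z _
    obtain ⟨g, rfl⟩ := AdjoinRoot.mk_surjective z
    have : g = 0 := Subsingleton.elim _ _
    rw [this, map_zero]
  constructor
  intro z hz
  have hmonic : (X ^ e - C η : S[X]).Monic := monic_X_pow_sub_C η he0.ne'
  obtain ⟨g, rfl⟩ := AdjoinRoot.mk_surjective (g := (X ^ e - C η : S[X])) z
  set f : S[X] := X ^ e - C η with hfdef
  have hg : AdjoinRoot.mk f g = AdjoinRoot.mk f (g %ₘ f) := by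
    rw [AdjoinRoot.mk_eq_mk]
    refine ⟨g /ₘ f, ?_⟩
    have := Polynomial.modByMonic_add_div g f
    linear_combination -this
  rw [hg] at hz ⊢
  set g' := g %ₘ f with hg'
  have hdeg : g'.degree < f.degree := Polynomial.degree_modByMonic_lt g hmonic
  obtain ⟨n, hn⟩ := hz
  rw [← map_pow, AdjoinRoot.mk_eq_zero] at hn
  have hcoeff : ∀ i, g'.coeff i = 0 := by
    intro i
    apply IsReduced.eq_zero
    rw [nilpotent_iff_mem_prime]
    intro 𝔭 h𝔭
    have hsep : (f.map (algebraMap S 𝔭.ResidueField)).Separable := by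
      rw [hfdef, Polynomial.map_sub, Polynomial.map_pow, Polynomial.map_X, Polynomial.map_C]
      apply Polynomial.separable_X_pow_sub_C
      · have := he.map (algebraMap S 𝔭.ResidueField)
        rw [map_natCast] at this
        exact this.ne_zero
      · exact (hη.map (algebraMap S 𝔭.ResidueField)).ne_zero
    have hrad : IsRadical (f.map (algebraMap S 𝔭.ResidueField)) := hsep.squarefree.isRadical
    have hdvd : f.map (algebraMap S 𝔭.ResidueField) ∣ (g'.map (algebraMap S 𝔭.ResidueField)) ^ n := by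
      rw [← Polynomial.map_pow]
      exact Polynomial.map_dvd _ hn
    have hdvd' := hrad n _ hdvd
    have hzero : g'.map (algebraMap S 𝔭.ResidueField) = 0 := by
      apply Polynomial.eq_zero_of_dvd_of_degree_lt hdvd'
      calc (g'.map (algebraMap S 𝔭.ResidueField)).degree ≤ g'.degree := Polynomial.degree_map_le
        _ < f.degree := hdeg
        _ = (f.map (algebraMap S 𝔭.ResidueField)).degree :=
          (hmonic.degree_map (algebraMap S 𝔭.ResidueField)).symm
    have := congrArg (fun q => q.coeff i) hzero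
    simp only [Polynomial.coeff_map, Polynomial.coeff_zero] at this
    exact (Ideal.algebraMap_residueField_eq_zero).1 this
  have : g' = 0 := Polynomial.ext fun i => by rw [hcoeff i, Polynomial.coeff_zero]
  rw [this, map_zero]

/-- In a valuation domain, if `x ^ e * a = y ^ e * b` with `a b` units, `y ≠ 0`, `0 < e`, then `x = θ * y`
with `θ ^ e * a = b`. -/
theorem exists_theta {W : Type*} [CommRing W] [IsDomain W] [ValuationRing W] (x y a b : W) (e : ℕ)
    (he : 0 < e) (ha : IsUnit a) (hb : IsUnit b) (hy : y ≠ 0) (h : x ^ e * a = y ^ e * b) :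
    ∃ θ : W, x = θ * y ∧ θ ^ e * a = b := by
  have hx : x ≠ 0 := by
    rintro rfl
    rw [zero_pow he.ne', zero_mul] at h
    exact (mul_ne_zero (pow_ne_zero e hy) hb.ne_zero) h.symm
  rcases ValuationRing.dvd_total x y with ⟨t, rfl⟩ | ⟨t, rfl⟩
  · -- y = x * t
    have h1 : x ^ e * a = x ^ e * (t ^ e * b) := by rw [h]; ring
    have h2 : a = t ^ e * b := mul_left_cancel₀ (pow_ne_zero e hx) h1
    have htu : IsUnit (t ^ e) := by
      obtain ⟨b', rfl⟩ := hb
      have : t ^ e = a * ((b'⁻¹ : Wˣ) : W) := by rw [h2, mul_assoc, Units.mul_inv, mul_one]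
      rw [this]
      exact ha.mul (Units.isUnit _)
    have ht : IsUnit t := (isUnit_pow_iff he.ne').1 htu
    obtain ⟨t', rfl⟩ := ht
    refine ⟨((t'⁻¹ : Wˣ) : W), ?_, ?_⟩
    · rw [mul_comm x, ← mul_assoc, Units.inv_mul, one_mul]
    · rw [h2, ← mul_assoc, ← mul_pow, Units.inv_mul, one_pow, one_mul]
  · -- x = y * t
    refine ⟨t, mul_comm _ _, ?_⟩
    have h1 : y ^ e * (t ^ e * a) = y ^ e * b := by rw [← h]; ring
    exact mul_left_cancel₀ (pow_ne_zero e hy) h1

end Groth.Agent.Lib.Helper9.DvrAbs
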