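import Mathlib
import Groth.Agent.Lib.Helper9.DvrExt
import Groth.Agent.Lib.Helper9.HenselSplit

open Polynomial

universe u

set_option linter.unusedSectionVars false
set_option linter.style.haveILetI false
set_option linter.overlappingInstances false

namespace Groth.Agent.Lib.Helper9.DvrEisenstein

open Groth.Agent.Lib.Helper9.DvrExt

local notation "𝔪" => IsLocalRing.maximalIdeal
local notation "κ" => IsLocalRing.ResidueField

section EisRing

variable {A : Type u} [CommRing A] [IsDomain A] [IsDiscreteValuationRing A]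
  (f : A[X]) (hmon : f.Monic) (hE : f.IsEisensteinAt (𝔪 A)) (hdeg : 0 < f.natDegree)

include hE hdeg in
theorem coeff_zero_mem : f.coeff 0 ∈ 𝔪 A := hE.mem hdeg

/-- The character `A[x]/(f) → κ A`, `x ↦ 0`. -/
noncomputable def chi : AdjoinRoot f →+* κ A :=
  AdjoinRoot.lift (IsLocalRing.residue A) 0 (by
    rw [Polynomial.eval₂_at_zero, IsLocalRing.residue_eq_zero_iff]
    exact coeff_zero_mem f hE hdeg)

theorem chi_of (a : A) : chi f hE hdeg (AdjoinRoot.of _ a) = IsLocalRing.residue A a := by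
  simp [chi]

theorem chi_root : chi f hE hdeg (AdjoinRoot.root _) = 0 := by
  simp [chi]

theorem chi_mk (p : A[X]) : chi f hE hdeg (AdjoinRoot.mk _ p) = IsLocalRing.residue A (p.coeff 0) := by
  rw [chi, AdjoinRoot.lift_mk, Polynomial.eval₂_at_zero]

theorem chi_surjective : Function.Surjective (chi f hE hdeg) := by
  intro x
  obtain ⟨a, rfl⟩ := IsLocalRing.residue_surjective x
  exact ⟨AdjoinRoot.of _ a, chi_of f hE hdeg a⟩

omit [IsDomain A] [IsDiscreteValuationRing A] in
theorem mk_sub_of_coeff_zero_mem (p : A[X]) :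
    AdjoinRoot.mk f p - AdjoinRoot.of _ (p.coeff 0) ∈ Ideal.span {AdjoinRoot.root f} := by
  have h1 : p = p.divX * X + C (p.coeff 0) := (Polynomial.divX_mul_X_add p).symm
  have h3 : AdjoinRoot.mk f p =
      AdjoinRoot.mk _ p.divX * AdjoinRoot.root _ + AdjoinRoot.of _ (p.coeff 0) := by
    conv_lhs => rw [h1]
    rw [map_add, map_mul, AdjoinRoot.mk_X, AdjoinRoot.mk_C]
  rw [h3, add_sub_cancel_right]
  exact Ideal.mul_mem_left _ _ (Ideal.mem_span_singleton_self _)

omit [IsDomain A] [IsDiscreteValuationRing A] in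
theorem of_coeff_zero_mem : AdjoinRoot.of f (f.coeff 0) ∈ Ideal.span {AdjoinRoot.root f} := by
  have h := mk_sub_of_coeff_zero_mem f f
  rw [AdjoinRoot.mk_self, zero_sub] at h
  have := Ideal.neg_mem_iff (Ideal.span {AdjoinRoot.root f}) |>.1 h
  exact this

include hE hdeg in
theorem of_mem_of_mem_maximalIdeal {a : A} (ha : a ∈ 𝔪 A) :
    AdjoinRoot.of f a ∈ Ideal.span {AdjoinRoot.root f} := by
  obtain ⟨π, hπ⟩ := IsDiscreteValuationRing.exists_irreducible A
  have h0 := coeff_zero_mem f hE hdeg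
  rw [hπ.maximalIdeal_eq] at h0 ha
  obtain ⟨c, hc⟩ := Ideal.mem_span_singleton'.1 h0
  obtain ⟨a', rfl⟩ := Ideal.mem_span_singleton'.1 ha
  have hcu : IsUnit c := by
    by_contra hnu
    have hcm : c ∈ 𝔪 A := (IsLocalRing.mem_maximalIdeal c).2 hnu
    rw [hπ.maximalIdeal_eq] at hcm
    obtain ⟨c', rfl⟩ := Ideal.mem_span_singleton'.1 hcm
    apply hE.notMem
    rw [hπ.maximalIdeal_eq, Ideal.span_singleton_pow, ← hc]
    exact Ideal.mem_span_singleton'.2 ⟨c', by ring⟩
  obtain ⟨cu, rfl⟩ := hcu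
  have h1 : AdjoinRoot.of f π = AdjoinRoot.of f ((cu⁻¹ : Aˣ) : A) * AdjoinRoot.of f (f.coeff 0) := by
    rw [← map_mul, ← hc, ← mul_assoc, Units.inv_mul, one_mul]
  rw [map_mul, h1]
  exact Ideal.mul_mem_left _ _ (Ideal.mul_mem_left _ _ (of_coeff_zero_mem f))

include hE hdeg in
theorem ker_chi : RingHom.ker (chi f hE hdeg) = Ideal.span {AdjoinRoot.root f} := by
  apply le_antisymm
  · intro x hx
    obtain ⟨p, rfl⟩ := AdjoinRoot.mk_surjective x
    rw [RingHom.mem_ker, chi_mk, IsLocalRing.residue_eq_zero_iff] at hx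
    have h1 := mk_sub_of_coeff_zero_mem f p
    have h2 := of_mem_of_mem_maximalIdeal f hE hdeg hx
    have := Ideal.add_mem _ h1 h2
    rwa [sub_add_cancel] at this
  · rw [Ideal.span_singleton_le_iff_mem, RingHom.mem_ker]
    exact chi_root f hE hdeg

include hE hdeg in
theorem isMaximal_span_root : (Ideal.span {AdjoinRoot.root f}).IsMaximal := by
  rw [← ker_chi f hE hdeg]
  exact RingHom.ker_isMaximal_of_surjective _ (chi_surjective f hE hdeg)

include hmon hE in
theorem root_pow_mem :
    AdjoinRoot.root f ^ f.natDegree ∈ (𝔪 A).map (algebraMap A (AdjoinRoot f)) := by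
  have h1 : AdjoinRoot.mk f (f - X ^ f.natDegree) ∈ (𝔪 A).map (algebraMap A (AdjoinRoot f)) := by
    apply Groth.Agent.Lib.Helper9.mk_mem_map_of_coeff_mem
    intro k
    rw [coeff_sub, coeff_X_pow]
    rcases lt_trichotomy k f.natDegree with h | h | h
    · rw [if_neg h.ne, sub_zero]
      exact hE.mem h
    · rw [if_pos h, h, hmon.coeff_natDegree, sub_self]
      exact Ideal.zero_mem _
    · rw [if_neg h.ne', sub_zero, coeff_eq_zero_of_natDegree_lt h]
      exact Ideal.zero_mem _
  rw [map_sub, AdjoinRoot.mk_self, zero_sub, map_pow, AdjoinRoot.mk_X] at h1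
  exact (Ideal.neg_mem_iff _).1 h1

include hmon hE hdeg in
theorem isLocalRing_adjoinRoot : IsLocalRing (AdjoinRoot f) := by
  haveI : Module.Finite A (AdjoinRoot f) := hmon.finite_adjoinRoot
  haveI : Algebra.IsIntegral A (AdjoinRoot f) := inferInstance
  have hmax := isMaximal_span_root f hE hdeg
  refine IsLocalRing.of_unique_max_ideal ⟨_, hmax, fun M hM => ?_⟩
  have h1 : (M.comap (algebraMap A (AdjoinRoot f))).IsMaximal :=
    Ideal.isMaximal_comap_of_isIntegral_of_isMaximal M
  have h2 : M.comap (algebraMap A (AdjoinRoot f)) = 𝔪 A := IsLocalRing.eq_maximalIdeal h1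
  have h3 : (𝔪 A).map (algebraMap A (AdjoinRoot f)) ≤ M := by
    rw [Ideal.map_le_iff_le_comap, h2]
  have h4 : AdjoinRoot.root f ^ f.natDegree ∈ M := h3 (root_pow_mem f hmon hE)
  have h5 : AdjoinRoot.root f ∈ M := hM.isPrime.mem_of_pow_mem _ h4
  have h6 : Ideal.span {AdjoinRoot.root f} ≤ M := (Ideal.span_singleton_le_iff_mem _).2 h5
  exact (hmax.eq_of_le hM.ne_top h6).symm

include hE hdeg in
theorem maximalIdeal_adjoinRoot [IsLocalRing (AdjoinRoot f)] :
    𝔪 (AdjoinRoot f) = Ideal.span {AdjoinRoot.root f} :=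
  (IsLocalRing.eq_maximalIdeal (isMaximal_span_root f hE hdeg)).symm

include hE hdeg in
theorem isLocalHom_of [IsLocalRing (AdjoinRoot f)] :
    IsLocalHom (algebraMap A (AdjoinRoot f)) := by
  constructor
  intro a ha
  by_contra hna
  have h2 := of_mem_of_mem_maximalIdeal f hE hdeg ((IsLocalRing.mem_maximalIdeal a).2 hna)
  rw [← maximalIdeal_adjoinRoot f hE hdeg] at h2
  exact h2 ha

include hE hdeg in
theorem residue_surjective_of [IsLocalRing (AdjoinRoot f)] (x : κ (AdjoinRoot f)) :
    ∃ a : A, IsLocalRing.residue _ (AdjoinRoot.of f a) = x := by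
  obtain ⟨y, rfl⟩ := IsLocalRing.residue_surjective x
  obtain ⟨p, rfl⟩ := AdjoinRoot.mk_surjective y
  refine ⟨p.coeff 0, ?_⟩
  have h1 := mk_sub_of_coeff_zero_mem f p
  rw [← maximalIdeal_adjoinRoot f hE hdeg, ← IsLocalRing.residue_eq_zero_iff, map_sub,
    sub_eq_zero] at h1
  exact h1.symm

include hmon hE hdeg in
theorem irreducible_of_eisenstein : Irreducible f :=
  hE.irreducible (IsLocalRing.maximalIdeal.isMaximal A).isPrime hmon.isPrimitive hdeg

include hmon hE hdeg in
theorem isDomain_adjoinRoot : IsDomain (AdjoinRoot f) :=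
  AdjoinRoot.isDomain_of_prime
    (UniqueFactorizationMonoid.irreducible_iff_prime.1 (irreducible_of_eisenstein f hmon hE hdeg))

include hdeg in
theorem of_injective : Function.Injective (AdjoinRoot.of f) :=
  AdjoinRoot.of.injective_of_degree_ne_zero (by
    intro h0
    have := natDegree_eq_zero_iff_degree_le_zero.2 h0.le
    omega)

include hmon hE hdeg in
theorem isDiscreteValuationRing_adjoinRoot [IsDomain (AdjoinRoot f)] :
    IsDiscreteValuationRing (AdjoinRoot f) := by
  haveI : Module.Finite A (AdjoinRoot f) := hmon.finite_adjoinRoot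
  haveI : IsNoetherianRing (AdjoinRoot f) := IsNoetherianRing.of_finite A (AdjoinRoot f)
  haveI : IsLocalRing (AdjoinRoot f) := isLocalRing_adjoinRoot f hmon hE hdeg
  have hnf : ¬ IsField (AdjoinRoot f) := by
    intro hF
    haveI : Algebra.IsIntegral A (AdjoinRoot f) := inferInstance
    exact IsDiscreteValuationRing.not_isField A
      (isField_of_isIntegral_of_isField (of_injective f hdeg) hF)
  refine ((IsDiscreteValuationRing.TFAE (AdjoinRoot f) hnf).out 0 4).2 ?_
  rw [maximalIdeal_adjoinRoot f hE hdeg]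
  exact ⟨⟨_, rfl⟩⟩

include hmon hE hdeg in
/-- `x ^ q = w * π` with `w` a unit of `A[x]/(f)`. -/
theorem exists_unit_root_pow {π : A} (hπ : Irreducible π) :
    ∃ w : (AdjoinRoot f)ˣ, AdjoinRoot.root f ^ f.natDegree = w * AdjoinRoot.of f π := by
  haveI : IsLocalRing (AdjoinRoot f) := isLocalRing_adjoinRoot f hmon hE hdeg
  have hg : f - X ^ f.natDegree ∈ Ideal.map (C : A →+* A[X]) (Ideal.span {π}) := by
    rw [Ideal.mem_map_C_iff]
    intro k
    rw [← hπ.maximalIdeal_eq, coeff_sub, coeff_X_pow]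
    rcases lt_trichotomy k f.natDegree with h | h | h
    · rw [if_neg h.ne, sub_zero]
      exact hE.mem h
    · rw [if_pos h, h, hmon.coeff_natDegree, sub_self]
      exact Ideal.zero_mem _
    · rw [if_neg h.ne', sub_zero, coeff_eq_zero_of_natDegree_lt h]
      exact Ideal.zero_mem _
  rw [Ideal.map_span, Set.image_singleton] at hg
  obtain ⟨g', hg'⟩ := Ideal.mem_span_singleton'.1 hg
  have hc0 : f.coeff 0 = g'.coeff 0 * π := by
    have := congrArg (fun p => p.coeff 0) hg'
    simp only [coeff_sub, coeff_X_pow, mul_coeff_zero, coeff_C_zero] at this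
    rw [if_neg hdeg.ne, sub_zero] at this
    exact this.symm
  have hg'0 : g'.coeff 0 ∉ 𝔪 A := by
    intro hm
    rw [hπ.maximalIdeal_eq] at hm
    obtain ⟨c', hc'⟩ := Ideal.mem_span_singleton'.1 hm
    apply hE.notMem
    rw [hπ.maximalIdeal_eq, Ideal.span_singleton_pow, hc0, ← hc']
    exact Ideal.mem_span_singleton'.2 ⟨c', by ring⟩
  have hunit : IsUnit (AdjoinRoot.mk f g') := by
    by_contra hnu
    have h1 : AdjoinRoot.mk f g' ∈ 𝔪 (AdjoinRoot f) := (IsLocalRing.mem_maximalIdeal _).2 hnu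
    rw [maximalIdeal_adjoinRoot f hE hdeg, ← ker_chi f hE hdeg, RingHom.mem_ker, chi_mk,
      IsLocalRing.residue_eq_zero_iff] at h1
    exact hg'0 h1
  obtain ⟨w, hw⟩ := hunit
  refine ⟨-w, ?_⟩
  have h2 := congrArg (AdjoinRoot.mk f) hg'
  rw [map_sub, AdjoinRoot.mk_self, zero_sub, map_pow, AdjoinRoot.mk_X, map_mul, AdjoinRoot.mk_C]
    at h2
  rw [Units.val_neg, hw, neg_mul, h2, neg_neg]

end EisRing

section Frac

variable {A : Type u} [CommRing A] [IsDomain A] [IsDiscreteValuationRing A]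
  (f : A[X]) (hmon : f.Monic) (hE : f.IsEisensteinAt (𝔪 A)) (hdeg : 0 < f.natDegree)
  (K : Type u) [Field K] [Algebra A K] [IsFractionRing A K]

include hmon hE hdeg in
theorem irreducible_map : Irreducible (f.map (algebraMap A K)) :=
  (hmon.irreducible_iff_irreducible_map_fraction_map).1 (irreducible_of_eisenstein f hmon hE hdeg)

/-- The map `A[x]/(f) → K[x]/(f)`. -/
noncomputable def toL : AdjoinRoot f →+* AdjoinRoot (f.map (algebraMap A K)) :=
  AdjoinRoot.map (algebraMap A K) f _ dvd_rfl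

theorem toL_of (a : A) : toL f K (AdjoinRoot.of f a) = AdjoinRoot.of _ (algebraMap A K a) := by
  simp [toL]

theorem toL_root : toL f K (AdjoinRoot.root f) = AdjoinRoot.root _ := by
  simp [toL]

theorem toL_mk (p : A[X]) :
    toL f K (AdjoinRoot.mk f p) = AdjoinRoot.mk _ (p.map (algebraMap A K)) := by
  induction p using Polynomial.induction_on' with
  | add p q hp hq => rw [map_add, map_add, hp, hq, Polynomial.map_add, map_add]
  | monomial n a =>
    rw [← Polynomial.C_mul_X_pow_eq_monomial, map_mul, map_pow, AdjoinRoot.mk_C, AdjoinRoot.mk_X,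
      map_mul, map_pow, toL_of, toL_root, Polynomial.map_mul, Polynomial.map_pow, Polynomial.map_C,
      Polynomial.map_X, map_mul, map_pow, AdjoinRoot.mk_C, AdjoinRoot.mk_X]

include hmon hE hdeg in
theorem toL_injective [Fact (Irreducible (f.map (algebraMap A K)))] :
    Function.Injective (toL f K) := by
  haveI := isDomain_adjoinRoot f hmon hE hdeg
  haveI := isDiscreteValuationRing_adjoinRoot f hmon hE hdeg
  rw [RingHom.injective_iff_ker_eq_bot]
  by_contra hne
  have hprime : (RingHom.ker (toL f K)).IsPrime := RingHom.ker_isPrime _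
  have hmax : (RingHom.ker (toL f K)).IsMaximal := hprime.isMaximal hne
  have heq := IsLocalRing.eq_maximalIdeal hmax
  obtain ⟨π, hπ⟩ := IsDiscreteValuationRing.exists_irreducible A
  have h1 : AdjoinRoot.of f π ∈ 𝔪 (AdjoinRoot f) := by
    rw [maximalIdeal_adjoinRoot f hE hdeg]
    exact of_mem_of_mem_maximalIdeal f hE hdeg
      ((IsLocalRing.mem_maximalIdeal π).2 hπ.not_isUnit)
  rw [← heq, RingHom.mem_ker, toL_of] at h1
  have h2 : algebraMap A K π = 0 :=
    (AdjoinRoot.of (f.map (algebraMap A K))).injective (h1.trans (map_zero _).symm)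
  exact hπ.ne_zero (IsFractionRing.injective A K (h2.trans (map_zero _).symm))

include hmon hE hdeg in
theorem isFractionRing_toL [Fact (Irreducible (f.map (algebraMap A K)))] :
    letI : Algebra (AdjoinRoot f) (AdjoinRoot (f.map (algebraMap A K))) := (toL f K).toAlgebra
    IsFractionRing (AdjoinRoot f) (AdjoinRoot (f.map (algebraMap A K))) := by
  letI : Algebra (AdjoinRoot f) (AdjoinRoot (f.map (algebraMap A K))) := (toL f K).toAlgebra
  haveI : FaithfulSMul (AdjoinRoot f) (AdjoinRoot (f.map (algebraMap A K))) :=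
    (faithfulSMul_iff_algebraMap_injective _ _).2 (toL_injective f hmon hE hdeg K)
  apply IsFractionRing.of_field
  intro z
  obtain ⟨p, rfl⟩ := AdjoinRoot.mk_surjective z
  obtain ⟨b, hbM, hb⟩ := IsLocalization.integerNormalization_spec (nonZeroDivisors A) p
  have hb0 : algebraMap A K b ≠ 0 := by
    rw [Ne, map_eq_zero_iff _ (IsFractionRing.injective A K)]
    exact nonZeroDivisors.ne_zero hbM
  refine ⟨AdjoinRoot.mk f (IsLocalization.integerNormalization (nonZeroDivisors A) p),
    AdjoinRoot.of f b, ?_⟩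
  change _ = toL f K _ / toL f K _
  have hb' : (b • p : K[X]) = C (algebraMap A K b) * p := by
    rw [Algebra.smul_def]; rfl
  rw [toL_mk, toL_of, hb, hb', map_mul, AdjoinRoot.mk_C, mul_div_assoc, mul_comm, div_mul_cancel₀]
  rw [Ne, map_eq_zero]
  exact hb0

end Frac

end Groth.Agent.Lib.Helper9.DvrEisenstein
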