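import Mathlib
import Groth.Agent.Lib.Helper9.DvrExt
import Groth.Agent.Lib.Helper9.DvrSmooth
import Groth.Agent.Lib.Helper9.DvrAbs

open TensorProduct Polynomial

universe u

set_option linter.unusedSectionVars false
set_option linter.style.haveILetI false
set_option linter.overlappingInstances false

namespace Groth.Agent.Lib.Helper9.DvrTame

open Groth.Agent.Lib.Helper9.DvrSmooth Groth.Agent.Lib.Helper9.DvrExt Groth.Agent.Lib.Helper9.DvrAbs

local notation "𝔪" => IsLocalRing.maximalIdeal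
local notation "κ" => IsLocalRing.ResidueField

section Rbar'

variable {k k' F : Type*} [Field k] [Field k'] [Field F] [Algebra k k'] [Algebra k F]
  [Module.Finite k k'] [Algebra.IsGeometricallyReduced k F]

/-- All primes of `AdjoinRoot f` over a ring all of whose primes are maximal are maximal, for monic `f`. -/
theorem isMaximal_of_isPrime_adjoinRoot {S : Type*} [CommRing S]
    (hmax : ∀ P : Ideal S, P.IsPrime → P.IsMaximal) (f : S[X]) (hf : f.Monic)
    (P : Ideal (AdjoinRoot f)) [hP : P.IsPrime] : P.IsMaximal := by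
  haveI : Algebra.IsIntegral S (AdjoinRoot f) := by
    haveI : Module.Finite S (AdjoinRoot f) := hf.finite_adjoinRoot
    infer_instance
  have hpr : (P.comap (algebraMap S (AdjoinRoot f))).IsPrime := Ideal.comap_isPrime _ _
  exact Ideal.isMaximal_of_isIntegral_of_isMaximal_comap P (hmax _ hpr)

theorem isUnit_natCast_tensor (e : ℕ) (he : (e : k) ≠ 0) : IsUnit ((e : ℕ) : k' ⊗[k] F) := by
  have : ((e : ℕ) : k' ⊗[k] F) = algebraMap k (k' ⊗[k] F) (e : k) := by rw [map_natCast]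
  rw [this]
  exact (isUnit_iff_ne_zero.2 he).map _

theorem isReduced_adjoinRoot_tensor (e : ℕ) (he0 : 0 < e) (he : (e : k) ≠ 0) (η : k' ⊗[k] F)
    (hη : IsUnit η) : IsReduced (AdjoinRoot (X ^ e - C η : (k' ⊗[k] F)[X])) := by
  haveI : IsReduced (k' ⊗[k] F) := isReduced_tensor
  exact isReduced_adjoinRoot_pow_sub_C e he0 (isUnit_natCast_tensor e he) η hη

theorem isGeometricallyReduced_adjoinRoot_tensor (e : ℕ) (he0 : 0 < e) (he : (e : k) ≠ 0)
    (η : k' ⊗[k] F) (hη : IsUnit η) :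
    Algebra.IsGeometricallyReduced k' (AdjoinRoot (X ^ e - C η : (k' ⊗[k] F)[X])) := by
  rw [Algebra.isGeometricallyReduced_field_iff]
  haveI hgr : Algebra.IsGeometricallyReduced k' (k' ⊗[k] F) := isGeometricallyReduced_tensor
  haveI hred : IsReduced (AlgebraicClosure k' ⊗[k'] (k' ⊗[k] F)) :=
    (Algebra.isGeometricallyReduced_field_iff k' (k' ⊗[k] F)).1 hgr
  let q : (AlgebraicClosure k' ⊗[k'] (k' ⊗[k] F))[X] :=
    X ^ e - C ((1 : AlgebraicClosure k') ⊗ₜ[k'] η)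
  have hq : (X ^ e - C η : (k' ⊗[k] F)[X]).map
      (Algebra.TensorProduct.includeRight :
        (k' ⊗[k] F) →ₐ[k'] AlgebraicClosure k' ⊗[k'] (k' ⊗[k] F)).toRingHom = q := by
    simp only [q, Polynomial.map_sub, Polynomial.map_pow, Polynomial.map_X, Polynomial.map_C]
    rfl
  let eq := AdjoinRoot.tensorAlgEquiv (R := k') (T := AlgebraicClosure k')
    (X ^ e - C η : (k' ⊗[k] F)[X]) q hq
  have hunit_e : IsUnit ((e : ℕ) : AlgebraicClosure k' ⊗[k'] (k' ⊗[k] F)) := by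
    have : ((e : ℕ) : AlgebraicClosure k' ⊗[k'] (k' ⊗[k] F)) =
        algebraMap k (AlgebraicClosure k' ⊗[k'] (k' ⊗[k] F)) (e : k) := by rw [map_natCast]
    rw [this]
    exact (isUnit_iff_ne_zero.2 he).map _
  have hunit_η : IsUnit ((1 : AlgebraicClosure k') ⊗ₜ[k'] η) :=
    hη.map (Algebra.TensorProduct.includeRight :
        (k' ⊗[k] F) →ₐ[k'] AlgebraicClosure k' ⊗[k'] (k' ⊗[k] F))
  haveI : IsReduced (AdjoinRoot q) :=
    isReduced_adjoinRoot_pow_sub_C e he0 hunit_e _ hunit_η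
  exact isReduced_of_injective eq.toAlgHom eq.injective

end Rbar'


section Core

variable {A B V W : Type u} [CommRing A] [IsDomain A] [IsDiscreteValuationRing A]
  [CommRing B] [IsDomain B] [IsDiscreteValuationRing B]
  [CommRing V] [IsDomain V] [IsDiscreteValuationRing V]
  [CommRing W] [IsDomain W] [IsDiscreteValuationRing W]
  [Algebra A B] [Algebra A V] [Algebra B W] [Algebra V W] [Algebra A W]
  [IsScalarTower A B W] [IsScalarTower A V W]
  [IsLocalHom (algebraMap A B)] [IsLocalHom (algebraMap A V)] [IsLocalHom (algebraMap B W)]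
  [IsLocalHom (algebraMap V W)] [IsLocalHom (algebraMap A W)]

theorem tameCore (hAB : Function.Injective (algebraMap A B))
    (hAV : Function.Injective (algebraMap A V)) (hBW : Function.Injective (algebraMap B W))
    (hVW : Function.Injective (algebraMap V W))
    (he : ((Ideal.ramificationIdx' (𝔪 A) (𝔪 B) : ℕ) : κ A) ≠ 0)
    (hdvd : Ideal.ramificationIdx' (𝔪 A) (𝔪 B) ∣ Ideal.ramificationIdx' (𝔪 A) (𝔪 V))
    [Algebra.IsGeometricallyReduced (κ A) (κ B)] [Module.Finite (κ A) (κ V)]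
    (hgen : ∀ w : W, ∃ x y : V ⊗[A] B, phi A B V W y ≠ 0 ∧ w * phi A B V W y = phi A B V W x) :
    (𝔪 V).map (algebraMap V W) = 𝔪 W ∧ Algebra.IsGeometricallyReduced (κ V) (κ W) := by
  classical
  obtain ⟨π, hπ⟩ := IsDiscreteValuationRing.exists_irreducible A
  obtain ⟨πB, hπB⟩ := IsDiscreteValuationRing.exists_irreducible B
  obtain ⟨π₁, hπ₁⟩ := IsDiscreteValuationRing.exists_irreducible V
  obtain ⟨e, uB, he0, huB⟩ := exists_map_uniformizer hAB hπ hπB
  obtain ⟨e₁, u₁, he₁0, hu₁⟩ := exists_map_uniformizer hAV hπ hπ₁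
  rw [ramificationIdx'_eq_of_map_uniformizer hπ hπB huB] at he hdvd
  rw [ramificationIdx'_eq_of_map_uniformizer hπ hπ₁ hu₁] at hdvd
  obtain ⟨e₁', rfl⟩ := hdvd
  have he₁'0 : 0 < e₁' := Nat.pos_of_ne_zero (fun h => he₁0 (by rw [h, mul_zero]))
  have he0' : 0 < e := Nat.pos_of_ne_zero he0
  -- θ
  have hrel : (algebraMap V W π₁ ^ e₁') ^ e * algebraMap V W (u₁ : V) =
      (algebraMap B W πB) ^ e * algebraMap B W (uB : B) := by
    have h1 : algebraMap A W π = algebraMap B W (algebraMap A B π) :=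
      IsScalarTower.algebraMap_apply A B W π
    have h2 : algebraMap A W π = algebraMap V W (algebraMap A V π) :=
      IsScalarTower.algebraMap_apply A V W π
    rw [huB, map_mul, map_pow] at h1
    rw [hu₁, map_mul, map_pow] at h2
    rw [← pow_mul, mul_comm e₁' e, mul_comm _ (algebraMap V W (u₁ : V)), ← h2, h1, mul_comm]
  have hyB : algebraMap B W πB ≠ 0 := by
    rw [Ne, map_eq_zero_iff _ hBW]; exact hπB.ne_zero
  obtain ⟨θ, hθ1, hθ2⟩ := exists_theta (algebraMap V W π₁ ^ e₁') (algebraMap B W πB)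
    (algebraMap V W (u₁ : V)) (algebraMap B W (uB : B)) e he0' (u₁.isUnit.map _) (uB.isUnit.map _)
    hyB hrel
  -- the unit `η`
  let ηt : V ⊗[A] B := ((u₁⁻¹ : Vˣ) : V) ⊗ₜ[A] (uB : B)
  let ηt' : V ⊗[A] B := (u₁ : V) ⊗ₜ[A] ((uB⁻¹ : Bˣ) : B)
  have hηt : ηt * ηt' = 1 := by
    simp only [ηt, ηt', Algebra.TensorProduct.tmul_mul_tmul, Units.inv_mul, Units.mul_inv]
    rfl
  have hφηt : phi A B V W ηt = θ ^ e := by
    have h1 : phi A B V W ηt = algebraMap V W ((u₁⁻¹ : Vˣ) : V) * algebraMap B W (uB : B) := by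
      simp [ηt, phi]
    rw [h1, ← hθ2]
    have h2 : algebraMap V W ((u₁⁻¹ : Vˣ) : V) * algebraMap V W (u₁ : V) = 1 := by
      rw [← map_mul, Units.inv_mul, map_one]
    calc algebraMap V W ((u₁⁻¹ : Vˣ) : V) * (θ ^ e * algebraMap V W (u₁ : V))
        = θ ^ e * (algebraMap V W ((u₁⁻¹ : Vˣ) : V) * algebraMap V W (u₁ : V)) := by ring
      _ = θ ^ e := by rw [h2, mul_one]
  have hφηt' : phi A B V W ηt' * θ ^ e = 1 := by
    rw [← hφηt, ← map_mul, mul_comm, hηt, map_one]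
  have hηb : IsUnit (red A B V ηt) := by
    refine isUnit_iff_exists_inv.2 ⟨red A B V ηt', ?_⟩
    rw [← map_mul, hηt, map_one]
  -- the maps
  let φ' : (V ⊗[A] B)[X] →+* W := Polynomial.eval₂RingHom (phi A B V W).toRingHom θ
  have hφ'C : ∀ t : V ⊗[A] B, φ' (C t) = phi A B V W t := fun t => by
    simp [φ']
  have hφ'X : φ' X = θ := by simp [φ']
  let red' : (V ⊗[A] B)[X] →+* AdjoinRoot (X ^ e - C (red A B V ηt) : (κ V ⊗[κ A] κ B)[X]) :=
    (AdjoinRoot.mk _).comp (Polynomial.mapRingHom (red A B V))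
  have hroot : (X ^ e - C (red A B V ηt) : (κ V ⊗[κ A] κ B)[X]).eval₂ (psi A B V W)
      (IsLocalRing.residue W θ) = 0 := by
    rw [Polynomial.eval₂_sub, Polynomial.eval₂_pow, Polynomial.eval₂_X, Polynomial.eval₂_C]
    change _ - psi A B V W (red A B V ηt) = 0
    rw [psi_red, hφηt, map_pow, sub_self]
  let ψ' : AdjoinRoot (X ^ e - C (red A B V ηt) : (κ V ⊗[κ A] κ B)[X]) →ₐ[κ V] κ W :=
    AdjoinRoot.liftAlgHom _ (psi A B V W) (IsLocalRing.residue W θ) hroot
  have hcomp : ∀ t, ψ'.toRingHom (red' t) = IsLocalRing.residue W (φ' t) := by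
    intro t
    change AdjoinRoot.liftAlgHom _ (psi A B V W) (IsLocalRing.residue W θ) hroot
      (AdjoinRoot.mk _ (t.map (red A B V))) = IsLocalRing.residue W (t.eval₂ (phi A B V W).toRingHom θ)
    rw [AdjoinRoot.liftAlgHom_mk, Polynomial.eval₂_map, Polynomial.hom_eval₂]
    congr 1
    exact RingHom.ext fun x => psi_red x
  have hsurj : Function.Surjective red' :=
    AdjoinRoot.mk_surjective.comp (Polynomial.map_surjective _ red_surjective)
  -- the ideal of elements mapping into `ϖ • range φ'`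
  let J : Ideal (V ⊗[A] B)[X] :=
    { carrier := {t | ∃ t', φ' t = algebraMap V W π₁ * φ' t'}
      add_mem' := by
        rintro a b ⟨a', ha⟩ ⟨b', hb⟩
        exact ⟨a' + b', by rw [map_add, ha, hb, map_add, mul_add]⟩
      zero_mem' := ⟨0, by simp⟩
      smul_mem' := by
        rintro c a ⟨a', ha⟩
        exact ⟨c * a', by rw [smul_eq_mul, map_mul, ha, map_mul]; ring⟩ }
  have hJ1 : C (π₁ ⊗ₜ[A] (1 : B)) ∈ J := ⟨1, by rw [hφ'C, phi_pi, map_one, mul_one]⟩
  have hJ2 : C ((1 : V) ⊗ₜ[A] πB) ∈ J := by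
    refine ⟨C (π₁ ⊗ₜ[A] (1 : B)) ^ (e₁' - 1) * X ^ (e - 1) * C ηt', ?_⟩
    have h1 : φ' (C ((1 : V) ⊗ₜ[A] πB)) = algebraMap B W πB := by
      rw [hφ'C]; simp [phi]
    rw [h1, map_mul, map_mul, map_pow, map_pow, hφ'C, hφ'C, hφ'X, phi_pi]
    have h2 : algebraMap V W π₁ * algebraMap V W π₁ ^ (e₁' - 1) = algebraMap V W π₁ ^ e₁' := by
      rw [← pow_succ', Nat.sub_add_cancel he₁'0]
    have h3 : θ ^ (e - 1) * θ = θ ^ e := by
      rw [← pow_succ, Nat.sub_add_cancel he0']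
    calc algebraMap B W πB = (phi A B V W ηt' * θ ^ e) * algebraMap B W πB := by
          rw [hφηt', one_mul]
      _ = phi A B V W ηt' * θ ^ (e - 1) * (θ * algebraMap B W πB) := by rw [← h3]; ring
      _ = phi A B V W ηt' * θ ^ (e - 1) * (algebraMap V W π₁ ^ e₁') := by rw [← hθ1]
      _ = _ := by rw [← h2]; ring
  have hJ3 : (X ^ e - C ηt : (V ⊗[A] B)[X]) ∈ J := by
    refine ⟨0, ?_⟩
    rw [map_sub, map_pow, hφ'X, hφ'C, hφηt, sub_self, map_zero, mul_zero]
  have hkerC : RingHom.ker (red A B V) ≤ J.comap (C : (V ⊗[A] B) →+* (V ⊗[A] B)[X]) := by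
    rw [ker_red, sup_le_iff]
    constructor
    · rw [hπ₁.maximalIdeal_eq, Ideal.map_span, Ideal.span_le]
      rintro _ ⟨_, rfl, rfl⟩
      exact hJ1
    · rw [hπB.maximalIdeal_eq, Ideal.map_span, Ideal.span_le]
      rintro _ ⟨_, rfl, rfl⟩
      exact hJ2
  have hker : ∀ t, red' t = 0 → ∃ t', φ' t = algebraMap V W π₁ * φ' t' := by
    intro t ht
    change AdjoinRoot.mk _ (t.map (red A B V)) = 0 at ht
    rw [AdjoinRoot.mk_eq_zero] at ht
    obtain ⟨qb, hqb⟩ := ht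
    obtain ⟨q, rfl⟩ := Polynomial.map_surjective _ red_surjective qb
    have h1 : t - (X ^ e - C ηt) * q ∈ RingHom.ker (Polynomial.mapRingHom (red A B V)) := by
      rw [RingHom.mem_ker, map_sub, map_mul]
      simp only [Polynomial.coe_mapRingHom, Polynomial.map_sub, Polynomial.map_pow,
        Polynomial.map_X, Polynomial.map_C]
      rw [hqb, sub_self]
    rw [Polynomial.ker_mapRingHom] at h1
    have h2 : t - (X ^ e - C ηt) * q ∈ J := (Ideal.map_le_iff_le_comap.2 hkerC) h1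
    have h3 : t = (t - (X ^ e - C ηt) * q) + (X ^ e - C ηt) * q := by ring
    have h4 : t ∈ J := by
      rw [h3]
      exact J.add_mem h2 (J.mul_mem_right _ hJ3)
    exact h4
  have hle : (𝔪 V).map (algebraMap V W) ≤ 𝔪 W :=
    ((IsLocalRing.local_hom_TFAE (algebraMap V W)).out 0 2).1 ‹IsLocalHom (algebraMap V W)›
  have hϖ : algebraMap V W π₁ ∈ 𝔪 W :=
    hle (Ideal.mem_map_of_mem _ ((IsLocalRing.mem_maximalIdeal _).2 hπ₁.not_isUnit))
  have hϖ0 : algebraMap V W π₁ ≠ 0 := by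
    rw [Ne, map_eq_zero_iff _ hVW]
    exact hπ₁.ne_zero
  have hgen' : ∀ w : W, ∃ x y : (V ⊗[A] B)[X], φ' y ≠ 0 ∧ w * φ' y = φ' x := by
    intro w
    obtain ⟨x, y, hy, hxy⟩ := hgen w
    exact ⟨C x, C y, by rwa [hφ'C], by rw [hφ'C, hφ'C]; exact hxy⟩
  haveI hredR : IsReduced (AdjoinRoot (X ^ e - C (red A B V ηt) : (κ V ⊗[κ A] κ B)[X])) :=
    isReduced_adjoinRoot_tensor e he0' he _ hηb
  have hmaxR : ∀ P : Ideal (AdjoinRoot (X ^ e - C (red A B V ηt) : (κ V ⊗[κ A] κ B)[X])),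
      P.IsPrime → P.IsMaximal := fun P hP =>
    isMaximal_of_isPrime_adjoinRoot (fun P hP => isMaximal_of_isPrime_tensor P) _
      (monic_X_pow_sub_C _ he0) P
  obtain ⟨h1, h2⟩ := abstractCore φ' red' ψ'.toRingHom hcomp hsurj hmaxR (algebraMap V W π₁) hϖ
    hϖ0 (C (π₁ ⊗ₜ[A] (1 : B))) (by rw [hφ'C, phi_pi]) hker hgen'
  constructor
  · rw [hπ₁.maximalIdeal_eq, Ideal.map_span, Set.image_singleton, h1]
  · haveI := isGeometricallyReduced_adjoinRoot_tensor (k := κ A) (k' := κ V) (F := κ B) e he0' he _ hηb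
    exact isGeometricallyReduced_of_surjective ψ' h2
      (fun y hy => Groth.Agent.Lib.Helper9.DvrAbs.psi_loc ψ'.toRingHom hmaxR y hy)

end Core

end Groth.Agent.Lib.Helper9.DvrTame
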