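import Mathlib
import Groth.Agent.Lib.Helper9.DvrExt
import Groth.Agent.Lib.Helper9.DvrSmooth
import Groth.Agent.Lib.Helper9.DvrAbs

open TensorProduct Polynomial

universe u

set_option linter.unusedSectionVars false
set_option linter.style.haveILetI false
set_option linter.overlappingInstances false

namespace Groth.Agent.Lib.Helper9.DvrUnram

open Groth.Agent.Lib.Helper9.DvrSmooth Groth.Agent.Lib.Helper9.DvrExt Groth.Agent.Lib.Helper9.DvrAbs

local notation "𝔪" => IsLocalRing.maximalIdeal
local notation "κ" => IsLocalRing.ResidueField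

section Core

variable {A B V W : Type u} [CommRing A] [IsDomain A] [IsDiscreteValuationRing A]
  [CommRing B] [IsDomain B] [IsDiscreteValuationRing B]
  [CommRing V] [IsDomain V] [IsDiscreteValuationRing V]
  [CommRing W] [IsDomain W] [IsDiscreteValuationRing W]
  [Algebra A B] [Algebra A V] [Algebra B W] [Algebra V W] [Algebra A W]
  [IsScalarTower A B W] [IsScalarTower A V W]
  [IsLocalHom (algebraMap A B)] [IsLocalHom (algebraMap A V)] [IsLocalHom (algebraMap B W)]
  [IsLocalHom (algebraMap V W)] [IsLocalHom (algebraMap A W)]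

omit [IsDomain A] [IsDiscreteValuationRing A] [IsDomain B] [IsDiscreteValuationRing B]
  [IsDomain V] [IsDiscreteValuationRing V] [IsDomain W] [IsDiscreteValuationRing W] in
theorem phi_pi' (π₁ : V) : phi A B V W (π₁ ⊗ₜ[A] (1 : B)) = algebraMap V W π₁ := by
  simp [phi]

/-- `A → V` unramified (weakly unramified, finite separable residue extension), `B` any DVR over `A`,
`W` a DVR over both generated by them: then `B → W` is unramified. -/
theorem unramCore (hBW : Function.Injective (algebraMap B W))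
    (hwV : (𝔪 A).map (algebraMap A V) = 𝔪 V)
    [Module.Finite (κ A) (κ V)] [Algebra.IsSeparable (κ A) (κ V)]
    (hgen : ∀ w : W, ∃ x y : B ⊗[A] V, phi A V B W y ≠ 0 ∧ w * phi A V B W y = phi A V B W x) :
    (𝔪 B).map (algebraMap B W) = 𝔪 W ∧ Algebra.IsSeparable (κ B) (κ W) := by
  classical
  obtain ⟨πB, hπB⟩ := IsDiscreteValuationRing.exists_irreducible B
  haveI : Algebra.FormallyUnramified (κ A) (κ V) := Algebra.FormallyUnramified.of_isSeparable _ _
  haveI hred : IsReduced (κ B ⊗[κ A] κ V) :=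
    Algebra.FormallyUnramified.isReduced_of_field (κ B) (κ B ⊗[κ A] κ V)
  have hmax : ∀ P : Ideal (κ B ⊗[κ A] κ V), P.IsPrime → P.IsMaximal := by
    intro P hP
    have hpr : (P.comap (algebraMap (κ B) (κ B ⊗[κ A] κ V))).IsPrime := Ideal.comap_isPrime _ _
    have hbot : (P.comap (algebraMap (κ B) (κ B ⊗[κ A] κ V))).IsMaximal := by
      have : P.comap (algebraMap (κ B) (κ B ⊗[κ A] κ V)) = ⊥ :=
        (Ideal.eq_bot_or_top _).resolve_right hpr.ne_top
      rw [this]
      exact Ideal.bot_isMaximal
    exact Ideal.isMaximal_of_isIntegral_of_isMaximal_comap P hbot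
  have hle : (𝔪 B).map (algebraMap B W) ≤ 𝔪 W :=
    ((IsLocalRing.local_hom_TFAE (algebraMap B W)).out 0 2).1 ‹IsLocalHom (algebraMap B W)›
  have hϖ : algebraMap B W πB ∈ 𝔪 W :=
    hle (Ideal.mem_map_of_mem _ ((IsLocalRing.mem_maximalIdeal _).2 hπB.not_isUnit))
  have hϖ0 : algebraMap B W πB ≠ 0 := by
    rw [Ne, map_eq_zero_iff _ hBW]
    exact hπB.ne_zero
  have hker : ∀ t : B ⊗[A] V, red A V B t = 0 →
      ∃ t', (phi A V B W).toRingHom t = algebraMap B W πB * (phi A V B W).toRingHom t' := by
    intro t ht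
    have h1 := ker_red_le (A := A) (B := V) (V := B) hwV hπB ((RingHom.mem_ker).2 ht)
    obtain ⟨t', rfl⟩ := Ideal.mem_span_singleton'.1 h1
    refine ⟨t', ?_⟩
    change phi A V B W (t' * πB ⊗ₜ[A] (1 : V)) = _
    rw [map_mul, phi_pi', mul_comm]
    rfl
  obtain ⟨h1, h2⟩ := abstractCore (phi A V B W).toRingHom (red A V B) (psi A V B W).toRingHom
    (fun t => psi_red t) red_surjective hmax (algebraMap B W πB) hϖ hϖ0 (πB ⊗ₜ[A] (1 : V))
    (phi_pi' πB) hker hgen
  constructor
  · rw [hπB.maximalIdeal_eq, Ideal.map_span, Set.image_singleton, h1]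
  · haveI : Algebra.FormallyUnramified (κ B) (κ W) :=
      Algebra.FormallyUnramified.of_surjective (psi A V B W) h2
    haveI : Module.Finite (κ B) (κ W) :=
      Module.Finite.of_surjective (psi A V B W).toLinearMap h2
    exact Algebra.FormallyUnramified.isSeparable (κ B) (κ W)

end Core

end Groth.Agent.Lib.Helper9.DvrUnram
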