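import Mathlib
import Groth.Agent.Lib.Helper9.DvrExt
import Groth.Agent.Lib.Helper9.DvrSmooth
import Groth.Agent.Lib.Helper9.DvrAbs
import Groth.Agent.Lib.Helper9.DvrTame
import Groth.Agent.Lib.Helper9.DvrUnram

open TensorProduct Polynomial

universe u

set_option linter.unusedSectionVars false
set_option linter.style.haveILetI false
set_option linter.overlappingInstances false

namespace Groth.Agent.Lib.Helper9.DvrTameBC

open Groth.Agent.Lib.Helper9.DvrSmooth Groth.Agent.Lib.Helper9.DvrExt Groth.Agent.Lib.Helper9.DvrAbs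
  Groth.Agent.Lib.Helper9.DvrTame Groth.Agent.Lib.Helper9.DvrUnram

local notation "𝔪" => IsLocalRing.maximalIdeal
local notation "κ" => IsLocalRing.ResidueField

/-- `S[X]/(f)` is formally unramified over `S` when `f'` is invertible modulo `f`. -/
theorem formallyUnramified_adjoinRoot {S : Type*} [CommRing S] (f : S[X])
    (h : IsUnit (AdjoinRoot.mk f (derivative f))) : Algebra.FormallyUnramified S (AdjoinRoot f) := by
  constructor
  have hroot : KaehlerDifferential.D S (AdjoinRoot f) (AdjoinRoot.root f) = 0 := by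
    have h1 := Derivation.map_aeval (KaehlerDifferential.D S (AdjoinRoot f)) f (AdjoinRoot.root f)
    rw [AdjoinRoot.aeval_eq, AdjoinRoot.mk_self, map_zero, AdjoinRoot.aeval_eq] at h1
    exact (h.smul_eq_zero).1 h1.symm
  suffices (⊤ : Submodule (AdjoinRoot f) Ω[AdjoinRoot f⁄S]) ≤ ⊥ from
    (subsingleton_iff_forall_eq 0).mpr fun y ↦ this trivial
  rw [← KaehlerDifferential.span_range_derivation, Submodule.span_le]
  rintro _ ⟨x, rfl⟩
  obtain ⟨p, rfl⟩ := AdjoinRoot.mk_surjective x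
  rw [← AdjoinRoot.aeval_eq, Derivation.map_aeval, hroot, smul_zero]
  exact Submodule.zero_mem _

theorem formallyUnramified_adjoinRoot_pow_sub_C {S : Type*} [CommRing S] (g : ℕ) (hg0 : 0 < g)
    (hg : IsUnit (g : S)) (η : S) (hη : IsUnit η) :
    Algebra.FormallyUnramified S (AdjoinRoot (X ^ g - C η : S[X])) := by
  apply formallyUnramified_adjoinRoot
  have hd : derivative (X ^ g - C η : S[X]) = C (g : S) * X ^ (g - 1) := by
    rw [derivative_sub, derivative_X_pow, derivative_C, sub_zero]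
  rw [hd, map_mul, map_pow]
  have hroot : IsUnit (AdjoinRoot.root (X ^ g - C η : S[X])) := by
    have h1 : AdjoinRoot.root (X ^ g - C η : S[X]) ^ g = AdjoinRoot.of _ η := by
      have := AdjoinRoot.eval₂_root (X ^ g - C η : S[X])
      rw [eval₂_sub, eval₂_pow, eval₂_X, eval₂_C, sub_eq_zero] at this
      exact this
    have h2 : IsUnit (AdjoinRoot.root (X ^ g - C η : S[X]) ^ g) := by
      rw [h1]; exact hη.map _
    exact (isUnit_pow_iff hg0.ne').1 h2
  refine IsUnit.mul ?_ ?_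
  · exact hg.map (AdjoinRoot.of (X ^ g - C η : S[X]))
  · rw [AdjoinRoot.mk_X]
    exact hroot.pow _

theorem exists_bezout_nat (a b : ℕ) (hab : Nat.Coprime a b) (ha : 0 < a) (hb : 0 < b) :
    ∃ s t : ℕ, s * a = t * b + 1 := by
  rcases Nat.lt_or_ge 1 b with h1 | h1
  · obtain ⟨m, -, hm⟩ := Nat.exists_mul_mod_eq_one_of_coprime hab h1
    refine ⟨m, a * m / b, ?_⟩
    have := Nat.div_add_mod (a * m) b
    rw [hm] at this
    rw [mul_comm m a, mul_comm _ b]
    exact this.symm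
  · have hb1 : b = 1 := le_antisymm h1 hb
    subst hb1
    exact ⟨1, a - 1, by omega⟩

section Core

variable {A B V W : Type u} [CommRing A] [IsDomain A] [IsDiscreteValuationRing A]
  [CommRing B] [IsDomain B] [IsDiscreteValuationRing B]
  [CommRing V] [IsDomain V] [IsDiscreteValuationRing V]
  [CommRing W] [IsDomain W] [IsDiscreteValuationRing W]
  [Algebra A B] [Algebra A V] [Algebra B W] [Algebra V W] [Algebra A W]
  [IsScalarTower A B W] [IsScalarTower A V W]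
  [IsLocalHom (algebraMap A B)] [IsLocalHom (algebraMap A V)] [IsLocalHom (algebraMap B W)]
  [IsLocalHom (algebraMap V W)] [IsLocalHom (algebraMap A W)]

/-- Abhyankar's lemma, base change form: `A → V` tame (ramification index invertible in `κ A`, finite
separable residue extension), `B` any DVR over `A`, `W` a DVR over both generated by them: then
`B → W` is tame, with ramification index dividing that of `A → V`. -/
theorem tameBCCore (hAB : Function.Injective (algebraMap A B))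
    (hAV : Function.Injective (algebraMap A V)) (hBW : Function.Injective (algebraMap B W))
    (hVW : Function.Injective (algebraMap V W))
    (he : ((Ideal.ramificationIdx' (𝔪 A) (𝔪 V) : ℕ) : κ A) ≠ 0)
    [Module.Finite (κ A) (κ V)] [Algebra.IsSeparable (κ A) (κ V)]
    (hgen : ∀ w : W, ∃ x y : B ⊗[A] V, phi A V B W y ≠ 0 ∧ w * phi A V B W y = phi A V B W x) :
    Ideal.ramificationIdx' (𝔪 B) (𝔪 W) ∣ Ideal.ramificationIdx' (𝔪 A) (𝔪 V) ∧
      Algebra.IsSeparable (κ B) (κ W) := by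
  classical
  obtain ⟨π, hπ⟩ := IsDiscreteValuationRing.exists_irreducible A
  obtain ⟨πB, hπB⟩ := IsDiscreteValuationRing.exists_irreducible B
  obtain ⟨π₁, hπ₁⟩ := IsDiscreteValuationRing.exists_irreducible V
  obtain ⟨ϖ, hϖ⟩ := IsDiscreteValuationRing.exists_irreducible W
  obtain ⟨eB, uB, heB0, huB⟩ := exists_map_uniformizer hAB hπ hπB
  obtain ⟨e₁, u₁, he₁0, hu₁⟩ := exists_map_uniformizer hAV hπ hπ₁
  obtain ⟨mB, wB, hmB0, hwB⟩ := exists_map_uniformizer hBW hπB hϖ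
  obtain ⟨m₁, w₁, hm₁0, hw₁⟩ := exists_map_uniformizer hVW hπ₁ hϖ
  rw [ramificationIdx'_eq_of_map_uniformizer hπ hπ₁ hu₁] at he ⊢
  rw [ramificationIdx'_eq_of_map_uniformizer hπB hϖ hwB]
  -- gcd decomposition
  obtain ⟨a, b, hcop, ha, hb⟩ := Nat.exists_coprime e₁ eB
  set g := Nat.gcd e₁ eB with hgdef
  have hg0 : 0 < g := Nat.gcd_pos_of_pos_left _ (Nat.pos_of_ne_zero he₁0)
  have ha0 : 0 < a := Nat.pos_of_ne_zero (fun h => he₁0 (by rw [ha, h, zero_mul]))
  have hb0 : 0 < b := Nat.pos_of_ne_zero (fun h => heB0 (by rw [hb, h, zero_mul]))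
  have hgκ : ((g : ℕ) : κ A) ≠ 0 := by
    intro h
    apply he
    rw [ha, Nat.cast_mul, h, mul_zero]
  set P : W := algebraMap V W π₁ with hP
  set Q : W := algebraMap B W πB with hQ
  have hP0 : P ≠ 0 := by
    rw [hP, Ne, map_eq_zero_iff _ hVW]; exact hπ₁.ne_zero
  have hQ0 : Q ≠ 0 := by
    rw [hQ, Ne, map_eq_zero_iff _ hBW]; exact hπB.ne_zero
  -- θ
  have hrel : (P ^ a) ^ g * algebraMap V W (u₁ : V) = (Q ^ b) ^ g * algebraMap B W (uB : B) := by
    have h1 : algebraMap A W π = algebraMap B W (algebraMap A B π) :=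
      IsScalarTower.algebraMap_apply A B W π
    have h2 : algebraMap A W π = algebraMap V W (algebraMap A V π) :=
      IsScalarTower.algebraMap_apply A V W π
    rw [huB, map_mul, map_pow] at h1
    rw [hu₁, map_mul, map_pow] at h2
    rw [← pow_mul, ← pow_mul, ← ha, ← hb, mul_comm _ (algebraMap V W (u₁ : V)), ← h2, h1, mul_comm]
  obtain ⟨θ, hθ1, hθ2⟩ := exists_theta (P ^ a) (Q ^ b)
    (algebraMap V W (u₁ : V)) (algebraMap B W (uB : B)) g hg0 (u₁.isUnit.map _) (uB.isUnit.map _)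
    (pow_ne_zero _ hQ0) hrel
  have hθu : IsUnit θ := by
    have h1 : IsUnit (θ ^ g * algebraMap V W (u₁ : V)) := by
      rw [hθ2]; exact uB.isUnit.map _
    exact (isUnit_pow_iff hg0.ne').1 (isUnit_of_mul_isUnit_left h1)
  obtain ⟨θu, hθu'⟩ := hθu
  -- valuations
  have hval : m₁ * a = mB * b := by
    have h1 : ((w₁ ^ a : Wˣ) : W) * ϖ ^ (m₁ * a) = ((θu * wB ^ b : Wˣ) : W) * ϖ ^ (mB * b) := by
      have := hθ1
      rw [hw₁, hwB] at this
      push_cast
      rw [hθu', pow_mul, pow_mul]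
      calc (w₁ : W) ^ a * (ϖ ^ m₁) ^ a = ((w₁ : W) * ϖ ^ m₁) ^ a := by ring
        _ = θ * ((wB : W) * ϖ ^ mB) ^ b := this
        _ = _ := by ring
    exact IsDiscreteValuationRing.unit_mul_pow_congr_pow hϖ hϖ _ _ _ _ h1
  obtain ⟨c, hc⟩ : a ∣ mB := by
    apply hcop.dvd_of_dvd_mul_right
    rw [← hval]
    exact Dvd.intro_left _ rfl
  have hm₁ : m₁ = c * b := by
    have h1 : a * m₁ = a * (c * b) := by
      rw [mul_comm a m₁, hval, hc]; ring
    exact Nat.eq_of_mul_eq_mul_left ha0 h1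
  have hc0 : c ≠ 0 := by
    rintro rfl
    exact hmB0 (by rw [hc, mul_zero])
  obtain ⟨s, t, hst⟩ := exists_bezout_nat a b hcop ha0 hb0
  -- the uniformizer candidate
  set ϖ₀ : W := ((wB ^ s * (w₁ ^ t)⁻¹ : Wˣ) : W) * ϖ ^ c with hϖ₀
  have hP1 : ϖ₀ * P ^ t = Q ^ s := by
    have h1 : mB * s = c + m₁ * t := by
      rw [hc, hm₁]
      calc a * c * s = c * (s * a) := by ring
        _ = c * (t * b + 1) := by rw [hst]
        _ = _ := by ring
    rw [hϖ₀, hw₁, hwB, mul_pow, mul_pow, ← pow_mul, ← pow_mul, h1, pow_add]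
    push_cast
    have h2 : ((w₁ ^ t)⁻¹ : Wˣ) * (w₁ : W) ^ t = 1 := by
      rw [← Units.val_pow_eq_pow_val, Units.inv_mul]
    calc (wB : W) ^ s * ((w₁ ^ t)⁻¹ : Wˣ) * ϖ ^ c * ((w₁ : W) ^ t * ϖ ^ (m₁ * t))
        = (wB : W) ^ s * (((w₁ ^ t)⁻¹ : Wˣ) * (w₁ : W) ^ t) * (ϖ ^ c * ϖ ^ (m₁ * t)) := by ring
      _ = _ := by rw [h2, mul_one]
  have hϖ₀mem : ϖ₀ ∈ 𝔪 W := by
    rw [hϖ₀]
    apply Ideal.mul_mem_left
    obtain ⟨c', rfl⟩ := Nat.exists_eq_succ_of_ne_zero hc0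
    rw [pow_succ]
    exact Ideal.mul_mem_left _ _ ((IsLocalRing.mem_maximalIdeal _).2 hϖ.not_isUnit)
  have hϖ₀0 : ϖ₀ ≠ 0 := by
    rw [hϖ₀]
    exact mul_ne_zero (Units.ne_zero _) (pow_ne_zero _ hϖ.ne_zero)
  have hPt0 : P ^ (t * b) ≠ 0 := pow_ne_zero _ hP0
  have hPa0 : P ^ (t * a) ≠ 0 := pow_ne_zero _ hP0
  have hclaim1 : P = ϖ₀ ^ b * θ ^ s := by
    have h1 : P * P ^ (t * b) = (ϖ₀ ^ b * θ ^ s) * P ^ (t * b) := by
      calc P * P ^ (t * b) = P ^ (t * b + 1) := by ring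
        _ = P ^ (s * a) := by rw [hst]
        _ = (P ^ a) ^ s := by ring
        _ = (θ * Q ^ b) ^ s := by rw [hθ1]
        _ = (Q ^ s) ^ b * θ ^ s := by ring
        _ = (ϖ₀ * P ^ t) ^ b * θ ^ s := by rw [hP1]
        _ = _ := by ring
    exact mul_right_cancel₀ hPt0 h1
  have hclaim2 : Q = ϖ₀ ^ a * θ ^ t := by
    have h1 : Q * P ^ (t * a) = (ϖ₀ ^ a * θ ^ t) * P ^ (t * a) := by
      calc Q * P ^ (t * a) = Q * (P ^ a) ^ t := by ring
        _ = Q * (θ * Q ^ b) ^ t := by rw [hθ1]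
        _ = θ ^ t * Q ^ (t * b + 1) := by ring
        _ = θ ^ t * Q ^ (s * a) := by rw [hst]
        _ = (Q ^ s) ^ a * θ ^ t := by ring
        _ = (ϖ₀ * P ^ t) ^ a * θ ^ t := by rw [hP1]
        _ = _ := by ring
    exact mul_right_cancel₀ hPa0 h1
  -- the unit `η`
  let ηt : B ⊗[A] V := (uB : B) ⊗ₜ[A] ((u₁⁻¹ : Vˣ) : V)
  let ηt' : B ⊗[A] V := ((uB⁻¹ : Bˣ) : B) ⊗ₜ[A] (u₁ : V)
  have hηt : ηt * ηt' = 1 := by
    simp only [ηt, ηt', Algebra.TensorProduct.tmul_mul_tmul, Units.inv_mul, Units.mul_inv]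
    rfl
  have hφηt : phi A V B W ηt = θ ^ g := by
    have h1 : phi A V B W ηt = algebraMap B W (uB : B) * algebraMap V W ((u₁⁻¹ : Vˣ) : V) := by
      simp [ηt, phi]
    rw [h1, ← hθ2]
    have h2 : algebraMap V W (u₁ : V) * algebraMap V W ((u₁⁻¹ : Vˣ) : V) = 1 := by
      rw [← map_mul, Units.mul_inv, map_one]
    rw [mul_assoc, h2, mul_one]
  have hηb : IsUnit (red A V B ηt) := by
    refine isUnit_iff_exists_inv.2 ⟨red A V B ηt', ?_⟩
    rw [← map_mul, hηt, map_one]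
  -- the maps
  let φX : (B ⊗[A] V)[X] →+* W := Polynomial.eval₂RingHom (phi A V B W).toRingHom θ
  have hφXC : ∀ t : B ⊗[A] V, φX (C t) = phi A V B W t := fun t => by simp [φX]
  have hφXX : φX X = θ := by simp [φX]
  let φ' : (B ⊗[A] V)[X][X] →+* W := Polynomial.eval₂RingHom φX ϖ₀
  have hφ'C : ∀ q : (B ⊗[A] V)[X], φ' (C q) = φX q := fun q => by simp [φ']
  have hφ'X : φ' X = ϖ₀ := by simp [φ']
  let redX : (B ⊗[A] V)[X] →+* AdjoinRoot (X ^ g - C (red A V B ηt) : (κ B ⊗[κ A] κ V)[X]) :=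
    (AdjoinRoot.mk _).comp (Polynomial.mapRingHom (red A V B))
  let red' : (B ⊗[A] V)[X][X] →+*
      AdjoinRoot (X ^ g - C (red A V B ηt) : (κ B ⊗[κ A] κ V)[X]) :=
    redX.comp (Polynomial.evalRingHom (0 : (B ⊗[A] V)[X]))
  have hroot : (X ^ g - C (red A V B ηt) : (κ B ⊗[κ A] κ V)[X]).eval₂ (psi A V B W)
      (IsLocalRing.residue W θ) = 0 := by
    rw [Polynomial.eval₂_sub, Polynomial.eval₂_pow, Polynomial.eval₂_X, Polynomial.eval₂_C]
    change _ - psi A V B W (red A V B ηt) = 0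
    rw [psi_red, hφηt, map_pow, sub_self]
  let ψ' : AdjoinRoot (X ^ g - C (red A V B ηt) : (κ B ⊗[κ A] κ V)[X]) →ₐ[κ B] κ W :=
    AdjoinRoot.liftAlgHom _ (psi A V B W) (IsLocalRing.residue W θ) hroot
  have hcompX : ∀ q, ψ'.toRingHom (redX q) = IsLocalRing.residue W (φX q) := by
    intro q
    change AdjoinRoot.liftAlgHom _ (psi A V B W) (IsLocalRing.residue W θ) hroot
      (AdjoinRoot.mk _ (q.map (red A V B))) = IsLocalRing.residue W (q.eval₂ (phi A V B W).toRingHom θ)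
    rw [AdjoinRoot.liftAlgHom_mk, Polynomial.eval₂_map, Polynomial.hom_eval₂]
    congr 1
    exact RingHom.ext fun x => psi_red x
  have hred'eq : ∀ t : (B ⊗[A] V)[X][X], red' t = redX (t.coeff 0) := by
    intro t
    change redX (t.eval 0) = _
    rw [Polynomial.coeff_zero_eq_eval_zero]
  have hφ'eq : ∀ t : (B ⊗[A] V)[X][X], φ' t = φ' t.divX * ϖ₀ + φX (t.coeff 0) := by
    intro t
    conv_lhs => rw [← Polynomial.divX_mul_X_add t]
    rw [map_add, map_mul, hφ'X, hφ'C]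
  have hcomp : ∀ t, ψ'.toRingHom (red' t) = IsLocalRing.residue W (φ' t) := by
    intro t
    rw [hred'eq, hφ'eq, hcompX, map_add, map_mul, (IsLocalRing.residue_eq_zero_iff _).2 hϖ₀mem,
      mul_zero, zero_add]
  have hsurjX : Function.Surjective redX :=
    AdjoinRoot.mk_surjective.comp (Polynomial.map_surjective _ red_surjective)
  have hsurj : Function.Surjective red' := by
    intro r
    obtain ⟨q, rfl⟩ := hsurjX r
    exact ⟨C q, by rw [hred'eq, Polynomial.coeff_C_zero]⟩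
  -- the ideal of elements mapping into `ϖ₀ • range φ'`
  let J : Ideal (B ⊗[A] V)[X][X] :=
    { carrier := {t | ∃ t', φ' t = ϖ₀ * φ' t'}
      add_mem' := by
        rintro a b ⟨a', ha⟩ ⟨b', hb⟩
        exact ⟨a' + b', by rw [map_add, ha, hb, map_add, mul_add]⟩
      zero_mem' := ⟨0, by simp⟩
      smul_mem' := by
        rintro c a ⟨a', ha⟩
        exact ⟨c * a', by rw [smul_eq_mul, map_mul, ha, map_mul]; ring⟩ }
  have hJY : (X : (B ⊗[A] V)[X][X]) ∈ J := ⟨1, by rw [hφ'X, map_one, mul_one]⟩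
  have hJ1 : C (C ((1 : B) ⊗ₜ[A] π₁)) ∈ J := by
    refine ⟨X ^ (b - 1) * C (X ^ s), ?_⟩
    have h1 : φ' (C (C ((1 : B) ⊗ₜ[A] π₁))) = P := by
      rw [hφ'C, hφXC]; simp [phi, hP]
    rw [h1, map_mul, map_pow, hφ'X, hφ'C, map_pow, hφXX, ← mul_assoc, ← pow_succ',
      Nat.sub_add_cancel hb0]
    exact hclaim1
  have hJ2 : C (C (πB ⊗ₜ[A] (1 : V))) ∈ J := by
    refine ⟨X ^ (a - 1) * C (X ^ t), ?_⟩
    have h1 : φ' (C (C (πB ⊗ₜ[A] (1 : V)))) = Q := by
      rw [hφ'C, hφXC]; simp [phi, hQ]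
    rw [h1, map_mul, map_pow, hφ'X, hφ'C, map_pow, hφXX, ← mul_assoc, ← pow_succ',
      Nat.sub_add_cancel ha0]
    exact hclaim2
  have hJ3 : C (X ^ g - C ηt : (B ⊗[A] V)[X]) ∈ J := by
    refine ⟨0, ?_⟩
    rw [hφ'C, map_sub, map_pow, hφXX, hφXC, hφηt, sub_self, map_zero, mul_zero]
  have hkerC : RingHom.ker (red A V B) ≤
      (J.comap (C : (B ⊗[A] V)[X] →+* (B ⊗[A] V)[X][X])).comap
        (C : (B ⊗[A] V) →+* (B ⊗[A] V)[X]) := by
    rw [ker_red, sup_le_iff]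
    constructor
    · rw [hπB.maximalIdeal_eq, Ideal.map_span, Ideal.span_le]
      rintro _ ⟨_, rfl, rfl⟩
      exact hJ2
    · rw [hπ₁.maximalIdeal_eq, Ideal.map_span, Ideal.span_le]
      rintro _ ⟨_, rfl, rfl⟩
      exact hJ1
  have hkerX : ∀ q : (B ⊗[A] V)[X], redX q = 0 → C q ∈ J := by
    intro q hq
    change AdjoinRoot.mk _ (q.map (red A V B)) = 0 at hq
    rw [AdjoinRoot.mk_eq_zero] at hq
    obtain ⟨qb, hqb⟩ := hq
    obtain ⟨q₁, rfl⟩ := Polynomial.map_surjective _ red_surjective qb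
    have h1 : q - (X ^ g - C ηt) * q₁ ∈ RingHom.ker (Polynomial.mapRingHom (red A V B)) := by
      rw [RingHom.mem_ker, map_sub, map_mul]
      simp only [Polynomial.coe_mapRingHom, Polynomial.map_sub, Polynomial.map_pow,
        Polynomial.map_X, Polynomial.map_C]
      rw [hqb, sub_self]
    rw [Polynomial.ker_mapRingHom] at h1
    have h2 : q - (X ^ g - C ηt) * q₁ ∈ J.comap (C : (B ⊗[A] V)[X] →+* (B ⊗[A] V)[X][X]) :=
      (Ideal.map_le_iff_le_comap.2 hkerC) h1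
    have h3 : C q = C (q - (X ^ g - C ηt) * q₁) + C q₁ * C (X ^ g - C ηt) := by
      rw [← map_mul, ← map_add]; congr 1; ring
    rw [h3]
    exact J.add_mem h2 (J.mul_mem_left _ hJ3)
  have hker : ∀ t, red' t = 0 → ∃ t', φ' t = ϖ₀ * φ' t' := by
    intro t ht
    rw [hred'eq] at ht
    have h1 : C (t.coeff 0) ∈ J := hkerX _ ht
    have h2 : t = t.divX * X + C (t.coeff 0) := (Polynomial.divX_mul_X_add t).symm
    have h3 : t ∈ J := by
      rw [h2]
      exact J.add_mem (J.mul_mem_left _ hJY) h1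
    exact h3
  have hgen' : ∀ w : W, ∃ x y : (B ⊗[A] V)[X][X], φ' y ≠ 0 ∧ w * φ' y = φ' x := by
    intro w
    obtain ⟨x, y, hy, hxy⟩ := hgen w
    exact ⟨C (C x), C (C y), by rwa [hφ'C, hφXC], by rw [hφ'C, hφ'C, hφXC, hφXC]; exact hxy⟩
  -- properties of the residue ring
  haveI : Algebra.FormallyUnramified (κ A) (κ V) := Algebra.FormallyUnramified.of_isSeparable _ _
  haveI hred₀ : IsReduced (κ B ⊗[κ A] κ V) :=
    Algebra.FormallyUnramified.isReduced_of_field (κ B) (κ B ⊗[κ A] κ V)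
  have hmax₀ : ∀ P : Ideal (κ B ⊗[κ A] κ V), P.IsPrime → P.IsMaximal := by
    intro P hP
    have hpr : (P.comap (algebraMap (κ B) (κ B ⊗[κ A] κ V))).IsPrime := Ideal.comap_isPrime _ _
    have hbot : (P.comap (algebraMap (κ B) (κ B ⊗[κ A] κ V))).IsMaximal := by
      have : P.comap (algebraMap (κ B) (κ B ⊗[κ A] κ V)) = ⊥ :=
        (Ideal.eq_bot_or_top _).resolve_right hpr.ne_top
      rw [this]
      exact Ideal.bot_isMaximal
    exact Ideal.isMaximal_of_isIntegral_of_isMaximal_comap P hbot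
  have hgunit : IsUnit ((g : ℕ) : κ B ⊗[κ A] κ V) := by
    have : ((g : ℕ) : κ B ⊗[κ A] κ V) = algebraMap (κ A) (κ B ⊗[κ A] κ V) (g : κ A) := by
      rw [map_natCast]
    rw [this]
    exact (isUnit_iff_ne_zero.2 hgκ).map _
  haveI hredR : IsReduced (AdjoinRoot (X ^ g - C (red A V B ηt) : (κ B ⊗[κ A] κ V)[X])) :=
    isReduced_adjoinRoot_pow_sub_C g hg0 hgunit _ hηb
  have hmaxR : ∀ P : Ideal (AdjoinRoot (X ^ g - C (red A V B ηt) : (κ B ⊗[κ A] κ V)[X])),
      P.IsPrime → P.IsMaximal := fun P hP =>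
    isMaximal_of_isPrime_adjoinRoot hmax₀ _ (monic_X_pow_sub_C _ hg0.ne') P
  obtain ⟨h1, h2⟩ := abstractCore (E := (B ⊗[A] V)[X][X]) φ' red' ψ'.toRingHom hcomp hsurj hmaxR
    ϖ₀ hϖ₀mem hϖ₀0 (X : (B ⊗[A] V)[X][X]) hφ'X hker hgen'
  constructor
  · have hirr : Irreducible ϖ₀ := (IsDiscreteValuationRing.irreducible_iff_uniformizer _).2 h1
    have hc1 : 1 = c := by
      refine IsDiscreteValuationRing.unit_mul_pow_congr_pow hirr hϖ 1 (wB ^ s * (w₁ ^ t)⁻¹) 1 c ?_
      rw [Units.val_one, one_mul, pow_one]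
    rw [hc, ← hc1, mul_one, ha]
    exact Dvd.intro _ rfl
  · haveI : Algebra.FormallyUnramified (κ B ⊗[κ A] κ V)
        (AdjoinRoot (X ^ g - C (red A V B ηt) : (κ B ⊗[κ A] κ V)[X])) :=
      formallyUnramified_adjoinRoot_pow_sub_C g hg0 hgunit _ hηb
    haveI : Algebra.FormallyUnramified (κ B)
        (AdjoinRoot (X ^ g - C (red A V B ηt) : (κ B ⊗[κ A] κ V)[X])) :=
      Algebra.FormallyUnramified.comp (κ B) (κ B ⊗[κ A] κ V) _
    haveI : Module.Finite (κ B ⊗[κ A] κ V)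
        (AdjoinRoot (X ^ g - C (red A V B ηt) : (κ B ⊗[κ A] κ V)[X])) :=
      (monic_X_pow_sub_C _ hg0.ne').finite_adjoinRoot
    haveI : Module.Finite (κ B)
        (AdjoinRoot (X ^ g - C (red A V B ηt) : (κ B ⊗[κ A] κ V)[X])) :=
      Module.Finite.trans (κ B ⊗[κ A] κ V) _
    haveI : Algebra.FormallyUnramified (κ B) (κ W) :=
      Algebra.FormallyUnramified.of_surjective ψ' h2
    haveI : Module.Finite (κ B) (κ W) :=
      Module.Finite.of_surjective ψ'.toLinearMap h2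
    exact Algebra.FormallyUnramified.isSeparable (κ B) (κ W)

end Core

end Groth.Agent.Lib.Helper9.DvrTameBC
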