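import Mathlib
import Groth.Prelude.Def_EtRam
import Groth.Agent.Lib.Helper9.DvrExt
import Groth.Agent.Lib.Helper9.DvrTower
import Groth.Agent.Lib.Helper9.DvrSmoothApp

universe u

open TensorProduct

set_option linter.style.haveILetI false
set_option linter.unusedSectionVars false
set_option linter.overlappingInstances false

namespace Groth.Agent.Lib.Helper9.DvrTotRam

open Groth.Agent.Lib.Helper9.DvrExt Groth.Agent.Lib.Helper9.DvrTower
  Groth.Agent.Lib.Helper9.DvrSmoothApp

local notation "𝔪" => IsLocalRing.maximalIdeal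

theorem isIntegral_of_unique_dominating {A K K₁ : Type u} [CommRing A] [IsDomain A]
    [IsDiscreteValuationRing A] [Field K] [Algebra A K] [IsFractionRing A K] [Field K₁]
    [Algebra K K₁] [Algebra.IsAlgebraic K K₁] [Algebra A K₁] [IsScalarTower A K K₁]
    (V : ValuationSubring K₁)
    (huniq : ∀ V' : ValuationSubring K₁, EtRam.Dominates A (algebraMap A K₁) V' → V' = V)
    (v : K₁) (hv : v ∈ V) : IsIntegral A v := by
  have hmem : v ∈ (integralClosure A K₁).toSubring := by
    rw [Subring.eq_iInf_of_isIntegrallyClosedIn (R := (integralClosure A K₁).toSubring)]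
    rw [Subring.mem_iInf]
    rintro ⟨V', hV'⟩
    change v ∈ V'
    have hA : ∀ a : A, algebraMap A K₁ a ∈ V' := fun a =>
      hV' ((integralClosure A K₁).algebraMap_mem a)
    by_cases hdom : ∀ a ∈ 𝔪 A, V'.valuation (algebraMap A K₁ a) < 1
    · rw [huniq V' ⟨hA, hdom⟩]
      exact hv
    · push Not at hdom
      obtain ⟨a, ha, hav⟩ := hdom
      obtain ⟨π, hπ⟩ := IsDiscreteValuationRing.exists_irreducible A
      have hga : (algebraMap A K₁ a)⁻¹ ∈ V' := by
        have h1 : V'.valuation (algebraMap A K₁ a) = 1 :=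
          le_antisymm ((ValuationSubring.valuation_le_one_iff V' _).2 (hA a)) hav
        have h2 : V'.valuation (algebraMap A K₁ a)⁻¹ = 1 := by rw [map_inv₀, h1, inv_one]
        exact (ValuationSubring.valuation_le_one_iff V' _).1 h2.le
      have ha0 : algebraMap A K₁ a ≠ 0 := by
        intro h0
        rw [h0, map_zero] at hav
        exact absurd hav (by simp)
      have hgπ : (algebraMap A K₁ π)⁻¹ ∈ V' := by
        rw [hπ.maximalIdeal_eq, Ideal.mem_span_singleton'] at ha
        obtain ⟨c, rfl⟩ := ha
        rw [map_mul] at hga ha0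
        have hπ0 : algebraMap A K₁ π ≠ 0 := right_ne_zero_of_mul ha0
        have hc0 : algebraMap A K₁ c ≠ 0 := left_ne_zero_of_mul ha0
        have : (algebraMap A K₁ π)⁻¹ =
            algebraMap A K₁ c * (algebraMap A K₁ c * algebraMap A K₁ π)⁻¹ := by
          field_simp
        rw [this]
        exact mul_mem (hA c) hga
      have hunit : ∀ b : A, b ≠ 0 → (algebraMap A K₁ b)⁻¹ ∈ V' := by
        intro b hb
        obtain ⟨k, u, rfl⟩ := IsDiscreteValuationRing.eq_unit_mul_pow_irreducible hb hπ
        rw [map_mul, map_pow, mul_inv, ← inv_pow]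
        refine mul_mem ?_ (pow_mem hgπ k)
        have : (algebraMap A K₁ (u : A))⁻¹ = algebraMap A K₁ ((u⁻¹ : Aˣ) : A) := by
          apply inv_eq_of_mul_eq_one_right
          rw [← map_mul, Units.mul_inv, map_one]
        rw [this]
        exact hA _
      have halg : IsAlgebraic A v :=
        (IsFractionRing.isAlgebraic_iff A K K₁).2 (Algebra.IsAlgebraic.isAlgebraic v)
      obtain ⟨y, hy0, hyint⟩ := halg.exists_integral_multiple
      have h1 : y • v ∈ V' := hV' hyint
      rw [Algebra.smul_def] at h1
      have h2 := mul_mem (hunit y hy0) h1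
      have hy0' : algebraMap A K₁ y ≠ 0 := by
        intro h0
        have := hunit y hy0
        rw [IsScalarTower.algebraMap_apply A K K₁, map_eq_zero,
          map_eq_zero_iff _ (IsFractionRing.injective A K)] at h0
        exact hy0 h0
      rwa [← mul_assoc, inv_mul_cancel₀ hy0', one_mul] at h2
  exact hmem

/-- Abstract version: `V` a DVR finite over the DVR `A` with trivial residue extension is generated
by `e` elements. -/
theorem finrank_le_ramificationIdx' {A V : Type*} [CommRing A] [IsDomain A]
    [IsDiscreteValuationRing A] [CommRing V] [IsDomain V] [IsDiscreteValuationRing V] [Algebra A V]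
    [IsLocalHom (algebraMap A V)] (hinj : Function.Injective (algebraMap A V)) [Module.Finite A V]
    (hsurj : Function.Surjective (fun a : A => IsLocalRing.residue V (algebraMap A V a))) :
    Module.finrank A V ≤ Ideal.ramificationIdx' (𝔪 A) (𝔪 V) := by
  classical
  obtain ⟨π, hπ⟩ := IsDiscreteValuationRing.exists_irreducible A
  obtain ⟨π₁, hπ₁⟩ := IsDiscreteValuationRing.exists_irreducible V
  obtain ⟨e, u, he, hu⟩ := exists_map_uniformizer hinj hπ hπ₁
  rw [ramificationIdx'_eq_of_map_uniformizer hπ hπ₁ hu]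
  -- every element is `a + π₁ * v'`
  have hstep : ∀ v : V, ∃ (a : A) (v' : V), v = algebraMap A V a + π₁ * v' := by
    intro v
    obtain ⟨a, ha⟩ := hsurj (IsLocalRing.residue V v)
    have : v - algebraMap A V a ∈ 𝔪 V := by
      rw [← IsLocalRing.residue_eq_zero_iff, map_sub, ← ha, sub_self]
    rw [hπ₁.maximalIdeal_eq, Ideal.mem_span_singleton'] at this
    obtain ⟨v', hv'⟩ := this
    exact ⟨a, v', by rw [mul_comm, hv']; ring⟩
  let N : Submodule A V := Submodule.span A (Set.range fun j : Fin e => π₁ ^ (j : ℕ))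
  have hind : ∀ j : ℕ, j ≤ e → ∀ v : V, ∃ (n : V) (v' : V), n ∈ N ∧ v = n + π₁ ^ j * v' := by
    intro j
    induction j with
    | zero => intro _ v; exact ⟨0, v, N.zero_mem, by simp⟩
    | succ j ih =>
      intro hj v
      obtain ⟨n, v', hn, rfl⟩ := ih (Nat.le_of_succ_le hj) v
      obtain ⟨a, v'', rfl⟩ := hstep v'
      refine ⟨n + a • π₁ ^ j, v'', N.add_mem hn (N.smul_mem a (Submodule.subset_span
        ⟨⟨j, hj⟩, rfl⟩)), ?_⟩
      rw [Algebra.smul_def, pow_succ]
      ring
  have htop : (⊤ : Submodule A V) ≤ N := by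
    apply Submodule.le_of_le_smul_of_le_jacobson_bot (I := 𝔪 A) Module.Finite.fg_top
      (IsLocalRing.maximalIdeal_le_jacobson ⊥)
    intro v _
    obtain ⟨n, v', hn, rfl⟩ := hind e le_rfl v
    refine Submodule.add_mem_sup hn ?_
    have : π₁ ^ e * v' = π • (((u⁻¹ : Vˣ) : V) * v') := by
      rw [Algebra.smul_def, hu]
      calc π₁ ^ e * v' = (u : V) * ((u⁻¹ : Vˣ) : V) * (π₁ ^ e * v') := by
            rw [Units.mul_inv, one_mul]
        _ = _ := by ring
    rw [this]
    exact Submodule.smul_mem_smul ((IsLocalRing.mem_maximalIdeal _).2 hπ.not_isUnit)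
      Submodule.mem_top
  have hN : N = ⊤ := top_le_iff.1 htop
  calc Module.finrank A V = Module.finrank A (⊤ : Submodule A V) := (finrank_top A V).symm
    _ = Module.finrank A N := by rw [hN]
    _ ≤ Fintype.card (Fin e) := finrank_range_le_card _
    _ = e := Fintype.card_fin e

theorem ramificationIdx'_eq_finrank_of_isTotallyRamified {A K K₁ : Type u} [CommRing A] [IsDomain A]
    [IsDiscreteValuationRing A] [Field K] [Algebra A K] [IsFractionRing A K] [Field K₁]
    [Algebra K K₁] [FiniteDimensional K K₁] [Algebra.IsSeparable K K₁]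
    (ht : EtRam.IsTotallyRamified A ((algebraMap K K₁).comp (algebraMap A K)))
    (V : ValuationSubring K₁)
    (hV : EtRam.Dominates A ((algebraMap K K₁).comp (algebraMap A K)) V) :
    letI : Algebra A V :=
      (RingHom.codRestrict ((algebraMap K K₁).comp (algebraMap A K)) V hV.1).toAlgebra
    Ideal.ramificationIdx' (𝔪 A) (𝔪 V) = Module.finrank K K₁ := by
  letI algAV : Algebra A V :=
    (RingHom.codRestrict ((algebraMap K K₁).comp (algebraMap A K)) V hV.1).toAlgebra
  letI algAK₁ : Algebra A K₁ := ((algebraMap K K₁).comp (algebraMap A K)).toAlgebra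
  haveI : IsScalarTower A K K₁ := IsScalarTower.of_algebraMap_eq fun _ => rfl
  haveI : IsScalarTower A V K₁ := IsScalarTower.of_algebraMap_eq fun _ => rfl
  haveI : IsDiscreteValuationRing V :=
    isDiscreteValuationRing_of_dominates (A := A) (K := K) (L := K₁) V hV
  haveI : IsLocalHom (algebraMap A V) := isLocalHom_of_dominates _ V hV
  have hinj : Function.Injective (algebraMap A V) := injective_codRestrict_of_dominates V hV
  have huniq : ∀ V' : ValuationSubring K₁, EtRam.Dominates A (algebraMap A K₁) V' → V' = V :=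
    fun V' hV' => ht.2.1 V' V hV' hV
  haveI : IsIntegralClosure V A K₁ :=
    { algebraMap_injective := Subtype.val_injective
      isIntegral_iff := by
        intro x
        constructor
        · intro hx
          have h1 : IsIntegral V x := hx.tower_top
          exact IsIntegrallyClosed.isIntegral_iff.1 h1
        · rintro ⟨y, rfl⟩
          exact isIntegral_of_unique_dominating (K := K) V huniq _ y.2 }
  haveI : Module.Finite A V := IsIntegralClosure.finite A K K₁ V
  haveI : Module.IsTorsionFree A K₁ := .trans_faithfulSMul A K K₁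
  have hrank : Module.finrank A V = Module.finrank K K₁ := IsIntegralClosure.rank A K K₁ V
  have hsurj : Function.Surjective (fun a : A => IsLocalRing.residue V (algebraMap A V a)) :=
    ht.2.2 V hV
  have h1 := finrank_le_ramificationIdx' hinj hsurj
  have h2 := ramificationIdx'_mul_finrank_le (K := K) (L := K₁) hinj
  haveI := finite_residueField (K := K) (L := K₁) hinj
  have h3 : 0 < Module.finrank (IsLocalRing.ResidueField A) (IsLocalRing.ResidueField V) :=
    Module.finrank_pos
  apply le_antisymm
  · calc Ideal.ramificationIdx' (𝔪 A) (𝔪 V)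
        ≤ Ideal.ramificationIdx' (𝔪 A) (𝔪 V) *
          Module.finrank (IsLocalRing.ResidueField A) (IsLocalRing.ResidueField V) :=
          Nat.le_mul_of_pos_right _ h3
      _ ≤ Module.finrank K K₁ := h2
  · rw [← hrank]
    exact h1

section Compositum

variable (K L K₁ M : Type*) [Field K] [Field L] [Field K₁] [Field M] [Algebra K L] [Algebra K K₁]
  [Algebra K M] [Algebra L M] [Algebra K₁ M] [IsScalarTower K L M] [IsScalarTower K K₁ M]

/-- The canonical map `L ⊗[K] K₁ → M`. -/
noncomputable def compositumMap : L ⊗[K] K₁ →ₐ[L] M :=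
  Algebra.TensorProduct.productLeftAlgHom (Algebra.ofId L M) (IsScalarTower.toAlgHom K K₁ M)

variable {K L K₁ M}

theorem compositumMap_surjective (hgen : Algebra.adjoin L (Set.range (algebraMap K₁ M)) = ⊤) :
    Function.Surjective (compositumMap K L K₁ M) := by
  rw [← AlgHom.range_eq_top, eq_top_iff, ← hgen]
  apply Algebra.adjoin_le
  rintro _ ⟨k, rfl⟩
  refine ⟨1 ⊗ₜ k, ?_⟩
  simp [compositumMap]

theorem finrank_le_of_adjoin_eq_top [FiniteDimensional K K₁]
    (hgen : Algebra.adjoin L (Set.range (algebraMap K₁ M)) = ⊤) :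
    Module.finrank L M ≤ Module.finrank K K₁ := by
  have h1 := LinearMap.finrank_le_finrank_of_surjective
    (f := (compositumMap K L K₁ M).toLinearMap) (compositumMap_surjective hgen)
  rwa [Module.finrank_baseChange] at h1

theorem compositumMap_bijective [FiniteDimensional K K₁]
    (hgen : Algebra.adjoin L (Set.range (algebraMap K₁ M)) = ⊤)
    (hrank : Module.finrank L M = Module.finrank K K₁) :
    Function.Bijective (compositumMap K L K₁ M) := by
  refine ⟨?_, compositumMap_surjective hgen⟩
  have hfr : Module.finrank L (L ⊗[K] K₁) = Module.finrank L M := by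
    rw [Module.finrank_baseChange, hrank]
  haveI : FiniteDimensional L M := finiteDimensional_of_adjoin_eq_top (K := K) hgen
  exact (LinearMap.injective_iff_surjective_of_finrank_eq_finrank hfr).2
    (compositumMap_surjective hgen)

end Compositum

theorem totRam_local (A B K L : Type u) [CommRing A] [IsDomain A] [IsDiscreteValuationRing A]
    [CommRing B] [IsDomain B] [IsDiscreteValuationRing B] [Algebra A B] [IsLocalHom (algebraMap A B)]
    (hinj : Function.Injective (algebraMap A B))
    [Field K] [Field L] [Algebra A K] [IsFractionRing A K] [Algebra B L] [IsFractionRing B L]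
    [Algebra K L] [Algebra A L] [IsScalarTower A K L] [IsScalarTower A B L]
    (hw : EtRam.IsWeaklyUnramified A B)
    (K₁ : Type u) [Field K₁] [Algebra K K₁] [FiniteDimensional K K₁] [Algebra.IsSeparable K K₁]
    (ht : EtRam.IsTotallyRamified A ((algebraMap K K₁).comp (algebraMap A K)))
    (M : Type u) [Field M] [Algebra K M] [Algebra L M] [Algebra K₁ M] [IsScalarTower K L M]
    [IsScalarTower K K₁ M]
    (hgen : Algebra.adjoin L (Set.range (algebraMap K₁ M)) = ⊤)
    (W : ValuationSubring M)
    (hW : EtRam.Dominates B ((algebraMap L M).comp (algebraMap B L)) W) :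
    (letI : Algebra (W.comap (algebraMap K₁ M)) W :=
      (EtRam.inclOfComap W (algebraMap K₁ M)).toAlgebra
    EtRam.IsWeaklyUnramified (W.comap (algebraMap K₁ M)) W) ∧
      Module.finrank L M = Module.finrank K K₁ := by
  classical
  haveI : FiniteDimensional L M := finiteDimensional_of_adjoin_eq_top (K := K) hgen
  haveI : IsDiscreteValuationRing W :=
    isDiscreteValuationRing_of_dominates (A := B) (K := L) (L := M) W hW
  have hcompat : ∀ a : A, algebraMap K₁ M (algebraMap K K₁ (algebraMap A K a)) =
      algebraMap L M (algebraMap B L (algebraMap A B a)) := by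
    intro a
    rw [← IsScalarTower.algebraMap_apply K K₁ M, IsScalarTower.algebraMap_apply K L M,
      ← IsScalarTower.algebraMap_apply A K L, IsScalarTower.algebraMap_apply A B L]
  have hV : EtRam.Dominates A ((algebraMap K K₁).comp (algebraMap A K))
      (W.comap (algebraMap K₁ M)) := by
    rw [dominates_comap_iff]
    have h1 := dominates_comp (A := A) _ W hW
    refine ⟨fun a => ?_, fun a ha => ?_⟩
    · have := h1.1 a
      simp only [RingHom.comp_apply] at this ⊢
      rw [hcompat]
      exact this
    · have := h1.2 a ha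
      simp only [RingHom.comp_apply] at this ⊢
      rw [hcompat]
      exact this
  haveI : IsDiscreteValuationRing (W.comap (algebraMap K₁ M)) :=
    isDiscreteValuationRing_of_dominates (A := A) (K := K) (L := K₁) _ hV
  letI algAV : Algebra A (W.comap (algebraMap K₁ M)) :=
    (RingHom.codRestrict ((algebraMap K K₁).comp (algebraMap A K)) _ hV.1).toAlgebra
  letI algBW : Algebra B W :=
    (RingHom.codRestrict ((algebraMap L M).comp (algebraMap B L)) W hW.1).toAlgebra
  letI algVW : Algebra (W.comap (algebraMap K₁ M)) W :=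
    (EtRam.inclOfComap W (algebraMap K₁ M)).toAlgebra
  letI algAW : Algebra A W := ((algebraMap B W).comp (algebraMap A B)).toAlgebra
  haveI : IsScalarTower A B W := IsScalarTower.of_algebraMap_eq fun _ => rfl
  haveI : IsScalarTower A (W.comap (algebraMap K₁ M)) W := IsScalarTower.of_algebraMap_eq fun a =>
    Subtype.ext (hcompat a).symm
  haveI hlocBW : IsLocalHom (algebraMap B W) := isLocalHom_of_dominates _ W hW
  haveI hlocVW : IsLocalHom (algebraMap (W.comap (algebraMap K₁ M)) W) :=
    EtRam.isLocalHom_inclOfComap W (algebraMap K₁ M)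
  haveI hlocAV : IsLocalHom (algebraMap A (W.comap (algebraMap K₁ M))) :=
    isLocalHom_of_dominates _ _ hV
  have hVW : Function.Injective (algebraMap (W.comap (algebraMap K₁ M)) W) := by
    intro x y hxy
    have := congrArg Subtype.val hxy
    exact Subtype.ext ((algebraMap K₁ M).injective this)
  have hAV : Function.Injective (algebraMap A (W.comap (algebraMap K₁ M))) :=
    injective_codRestrict_of_dominates _ hV
  have hBW : Function.Injective (algebraMap B W) := injective_codRestrict_of_dominates _ hW
  letI algBM : Algebra B M := ((algebraMap L M).comp (algebraMap B L)).toAlgebra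
  haveI : IsScalarTower B L M := IsScalarTower.of_algebraMap_eq fun _ => rfl
  haveI : IsScalarTower B W M := IsScalarTower.of_algebraMap_eq fun _ => rfl
  -- ramification indices
  have e1 := ramificationIdx'_tower (A := A) (B := W.comap (algebraMap K₁ M)) (C := W) hAV hVW
  have e2 := ramificationIdx'_tower (A := A) (B := B) (C := W) hinj hBW
  have e3 : Ideal.ramificationIdx' (𝔪 A) (𝔪 B) = 1 := (isWeaklyUnramified_iff hinj).1 hw
  have e4 : Ideal.ramificationIdx' (𝔪 A) (𝔪 (W.comap (algebraMap K₁ M))) = Module.finrank K K₁ :=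
    ramificationIdx'_eq_finrank_of_isTotallyRamified ht _ hV
  have e5 := ramificationIdx'_mul_finrank_le (K := L) (L := M) hBW
  haveI := finite_residueField (K := L) (L := M) hBW
  have e6 : 0 < Module.finrank (IsLocalRing.ResidueField B) (IsLocalRing.ResidueField W) :=
    Module.finrank_pos
  have e7 := finrank_le_of_adjoin_eq_top (K := K) hgen
  have e8 := ramificationIdx'_ne_zero hVW
  have hn : 0 < Module.finrank K K₁ := Module.finrank_pos
  rw [e3, one_mul] at e2
  rw [e2, e4] at e1
  -- e1 : e(B,W) = n * e(V,W)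
  have hle : Module.finrank K K₁ * Ideal.ramificationIdx' (𝔪 (W.comap (algebraMap K₁ M))) (𝔪 W) ≤
      Module.finrank K K₁ := by
    calc Module.finrank K K₁ * Ideal.ramificationIdx' (𝔪 (W.comap (algebraMap K₁ M))) (𝔪 W)
        = Ideal.ramificationIdx' (𝔪 B) (𝔪 W) := e1.symm
      _ ≤ Ideal.ramificationIdx' (𝔪 B) (𝔪 W) *
          Module.finrank (IsLocalRing.ResidueField B) (IsLocalRing.ResidueField W) :=
        Nat.le_mul_of_pos_right _ e6
      _ ≤ Module.finrank L M := e5
      _ ≤ Module.finrank K K₁ := e7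
  have hone : Ideal.ramificationIdx' (𝔪 (W.comap (algebraMap K₁ M))) (𝔪 W) = 1 := by
    have : Ideal.ramificationIdx' (𝔪 (W.comap (algebraMap K₁ M))) (𝔪 W) ≤ 1 := by
      by_contra hcon
      push Not at hcon
      have : Module.finrank K K₁ * 2 ≤ Module.finrank K K₁ :=
        le_trans (Nat.mul_le_mul_left _ hcon) hle
      omega
    omega
  refine ⟨(isWeaklyUnramified_iff hVW).2 hone, le_antisymm e7 ?_⟩
  calc Module.finrank K K₁ = Ideal.ramificationIdx' (𝔪 B) (𝔪 W) := by rw [e1, hone, mul_one]
    _ ≤ Ideal.ramificationIdx' (𝔪 B) (𝔪 W) *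
          Module.finrank (IsLocalRing.ResidueField B) (IsLocalRing.ResidueField W) :=
        Nat.le_mul_of_pos_right _ e6
    _ ≤ Module.finrank L M := e5

theorem dominates_rangeValuationSubring (B L : Type u) [CommRing B] [IsDomain B]
    [IsDiscreteValuationRing B] [Field L] [Algebra B L] [IsFractionRing B L] :
    EtRam.Dominates B (algebraMap B L) (rangeValuationSubring B L) := by
  refine ⟨fun b => ⟨b, rfl⟩, fun b hb => ?_⟩
  rw [valuation_lt_one_iff']
  by_cases hb0 : algebraMap B L b = 0
  · exact Or.inl hb0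
  · right
    rintro ⟨c, hc⟩
    have h1 : algebraMap B L (b * c) = 1 := by
      rw [map_mul, hc, mul_inv_cancel₀ hb0]
    have h2 : b * c = 1 := IsFractionRing.injective B L (by rw [h1, map_one])
    exact (IsLocalRing.mem_maximalIdeal b).1 hb (IsUnit.of_mul_eq_one c h2)

theorem isField_tensor_of_isTotallyRamified (A B K L : Type u) [CommRing A] [IsDomain A]
    [IsDiscreteValuationRing A]
    [CommRing B] [IsDomain B] [IsDiscreteValuationRing B] [Algebra A B] [IsLocalHom (algebraMap A B)]
    (hinj : Function.Injective (algebraMap A B))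
    [Field K] [Field L] [Algebra A K] [IsFractionRing A K] [Algebra B L] [IsFractionRing B L]
    [Algebra K L] [Algebra A L] [IsScalarTower A K L] [IsScalarTower A B L]
    (hw : EtRam.IsWeaklyUnramified A B)
    (K₁ : Type u) [Field K₁] [Algebra K K₁] [FiniteDimensional K K₁] [Algebra.IsSeparable K K₁]
    (ht : EtRam.IsTotallyRamified A ((algebraMap K K₁).comp (algebraMap A K))) :
    IsField (L ⊗[K] K₁) := by
  classical
  haveI : Nontrivial (L ⊗[K] K₁) := by
    have h : 0 < Module.finrank L (L ⊗[K] K₁) := by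
      rw [Module.finrank_baseChange]
      exact Module.finrank_pos
    exact Module.nontrivial_of_finrank_pos (R := L) h
  obtain ⟨𝔫, h𝔫⟩ := Ideal.exists_maximal (L ⊗[K] K₁)
  letI : Field ((L ⊗[K] K₁) ⧸ 𝔫) := Ideal.Quotient.field 𝔫
  letI algK₁M : Algebra K₁ ((L ⊗[K] K₁) ⧸ 𝔫) :=
    ((Ideal.Quotient.mk 𝔫).comp
      (Algebra.TensorProduct.includeRight : K₁ →ₐ[K] L ⊗[K] K₁).toRingHom).toAlgebra
  haveI : IsScalarTower K K₁ ((L ⊗[K] K₁) ⧸ 𝔫) := IsScalarTower.of_algebraMap_eq fun k => by
    change Ideal.Quotient.mk 𝔫 (algebraMap K (L ⊗[K] K₁) k) =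
      Ideal.Quotient.mk 𝔫 ((1 : L) ⊗ₜ[K] algebraMap K K₁ k)
    rw [Algebra.TensorProduct.algebraMap_apply, Algebra.TensorProduct.tmul_one_eq_one_tmul]
  have hgen : Algebra.adjoin L (Set.range (algebraMap K₁ ((L ⊗[K] K₁) ⧸ 𝔫))) = ⊤ := by
    rw [eq_top_iff]
    intro x _
    obtain ⟨t, rfl⟩ := Ideal.Quotient.mk_surjective x
    clear * -
    induction t using TensorProduct.induction_on with
    | zero => rw [map_zero]; exact Subalgebra.zero_mem _
    | tmul l k =>
      have : (l ⊗ₜ[K] k : L ⊗[K] K₁) = l • ((1 : L) ⊗ₜ[K] k) := by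
        rw [TensorProduct.smul_tmul', smul_eq_mul, mul_one]
      rw [this]
      have h2 : Ideal.Quotient.mk 𝔫 (l • ((1 : L) ⊗ₜ[K] k)) =
          l • algebraMap K₁ ((L ⊗[K] K₁) ⧸ 𝔫) k := rfl
      rw [h2]
      exact Subalgebra.smul_mem _ (Algebra.subset_adjoin (Set.mem_range_self k)) l
    | add a b ha hb => rw [map_add]; exact Subalgebra.add_mem _ ha hb
  obtain ⟨W, hWc⟩ := exists_comap_eq (algebraMap L ((L ⊗[K] K₁) ⧸ 𝔫)) (rangeValuationSubring B L)
  have hW : EtRam.Dominates B ((algebraMap L ((L ⊗[K] K₁) ⧸ 𝔫)).comp (algebraMap B L)) W := by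
    rw [← dominates_comap_iff, hWc]
    exact dominates_rangeValuationSubring B L
  obtain ⟨-, hrank⟩ := totRam_local A B K L hinj hw K₁ ht ((L ⊗[K] K₁) ⧸ 𝔫) hgen W hW
  have hbij := compositumMap_bijective (K := K) hgen hrank
  have hmk : ∀ t : L ⊗[K] K₁, compositumMap K L K₁ ((L ⊗[K] K₁) ⧸ 𝔫) t =
      Ideal.Quotient.mk 𝔫 t := by
    intro t
    induction t using TensorProduct.induction_on with
    | zero => simp
    | tmul l k =>
      simp only [compositumMap, Algebra.TensorProduct.lift_tmul, Algebra.ofId_apply,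
        IsScalarTower.coe_toAlgHom']
      change Ideal.Quotient.mk 𝔫 (algebraMap L (L ⊗[K] K₁) l) *
        Ideal.Quotient.mk 𝔫 ((1 : L) ⊗ₜ[K] k) = _
      rw [← map_mul, Algebra.TensorProduct.algebraMap_apply,
        Algebra.TensorProduct.tmul_mul_tmul, mul_one, one_mul]
      rfl
    | add a b ha hb => rw [map_add, map_add, ha, hb]
  have hbot : 𝔫 = ⊥ := by
    rw [eq_bot_iff]
    intro t ht
    have h1 : compositumMap K L K₁ ((L ⊗[K] K₁) ⧸ 𝔫) t = 0 := by
      rw [hmk, Ideal.Quotient.eq_zero_iff_mem]
      exact ht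
    have h2 := hbij.1 (h1.trans (map_zero _).symm)
    exact h2
  rw [Ring.isField_iff_maximal_bot, ← hbot]
  exact h𝔫

end Groth.Agent.Lib.Helper9.DvrTotRam
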