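import Mathlib
import Groth.Prelude.Def_EtRam
import Groth.Agent.Lib.Helper9.DvrExt
import Groth.Agent.Lib.Helper9.DvrSmoothApp
import Groth.Agent.Lib.Helper9.DvrTotRam
import Groth.Agent.Lib.Helper9.DvrTameBC
import Groth.Agent.Lib.Helper9.DvrEisenstein

open Polynomial

universe u

set_option linter.unusedSectionVars false
set_option linter.style.haveILetI false
set_option linter.overlappingInstances false

namespace Groth.Agent.Lib.Helper9.DvrEisensteinApp

open Groth.Agent.Lib.Helper9.DvrExt Groth.Agent.Lib.Helper9.DvrEisenstein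
  Groth.Agent.Lib.Helper9.DvrSmoothApp Groth.Agent.Lib.Helper9.DvrTotRam
  Groth.Agent.Lib.Helper9.DvrTameBC

local notation "𝔪" => IsLocalRing.maximalIdeal
local notation "κ" => IsLocalRing.ResidueField

/-- Elements integral over a subring of a valuation ring lie in the valuation ring. -/
theorem mem_of_isIntegral_of_forall_mem {A L : Type*} [CommRing A] [Field L] (g : A →+* L)
    (V : ValuationSubring L) (hV : ∀ a, g a ∈ V) {x : L}
    (hx : ∃ p : A[X], p.Monic ∧ p.eval₂ g x = 0) : x ∈ V := by
  obtain ⟨p, hp, hpx⟩ := hx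
  have hInt : V.valuation.Integers V :=
    ⟨Subtype.val_injective, fun x => V.valuation_le_one x,
      fun {r} hr => ⟨⟨r, (V.valuation_le_one_iff r).1 hr⟩, rfl⟩⟩
  have h1 : IsIntegral V x := by
    refine ⟨p.map (g.codRestrict V.toSubring hV), hp.map _, ?_⟩
    rw [Polynomial.eval₂_map]
    exact hpx
  exact (V.valuation_le_one_iff x).1 (hInt.isIntegral_iff_v_le_one.1 h1)

section

variable {A K : Type u} [CommRing A] [IsDomain A] [IsDiscreteValuationRing A] [Field K]
  [Algebra A K] [IsFractionRing A K]
  (f : A[X]) (hmon : f.Monic) (hE : f.IsEisensteinAt (𝔪 A)) (hdeg : 0 < f.natDegree)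

include hmon hE hdeg in
/-- The field `K[x]/(f)` for an Eisenstein polynomial `f`: degree, total ramification, and the map from
`A[x]/(f)` lands in the integral closure. -/
theorem eisenstein_ext (hsep : (f.map (algebraMap A K)).Separable) :
    ∃ (L : Type u) (_ : Field L) (_ : Algebra K L) (_ : Algebra A L) (_ : IsScalarTower A K L)
      (ι : AdjoinRoot f →+* L),
      Module.finrank K L = f.natDegree ∧ Algebra.IsSeparable K L ∧
      EtRam.IsTotallyRamified A (algebraMap A L) ∧
      (∀ a, ι (AdjoinRoot.of f a) = algebraMap A L a) ∧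
      (∀ x, ι x ∈ integralClosure A L) := by
  classical
  haveI hirr : Fact (Irreducible (f.map (algebraMap A K))) := ⟨irreducible_map f hmon hE hdeg K⟩
  have hne : f.map (algebraMap A K) ≠ 0 := hirr.out.ne_zero
  haveI hfinL : FiniteDimensional K (AdjoinRoot (f.map (algebraMap A K))) :=
    (AdjoinRoot.powerBasis hne).finite
  have hfinrank : Module.finrank K (AdjoinRoot (f.map (algebraMap A K))) = f.natDegree := by
    rw [(AdjoinRoot.powerBasis hne).finrank, AdjoinRoot.powerBasis_dim, hmon.natDegree_map]
  have hunit : IsUnit (AdjoinRoot.mk (f.map (algebraMap A K))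
      (derivative (f.map (algebraMap A K)))) := by
    obtain ⟨a, b, hab⟩ := hsep
    refine isUnit_iff_exists_inv.2 ⟨AdjoinRoot.mk _ b, ?_⟩
    have := congrArg (AdjoinRoot.mk (f.map (algebraMap A K))) hab
    rw [map_add, map_mul, map_mul, AdjoinRoot.mk_self, mul_zero, zero_add, map_one] at this
    rw [mul_comm]
    exact this
  haveI : Algebra.FormallyUnramified K (AdjoinRoot (f.map (algebraMap A K))) :=
    formallyUnramified_adjoinRoot _ hunit
  haveI hsepL : Algebra.IsSeparable K (AdjoinRoot (f.map (algebraMap A K))) :=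
    Algebra.FormallyUnramified.isSeparable K _
  haveI hdom : IsDomain (AdjoinRoot f) := isDomain_adjoinRoot f hmon hE hdeg
  haveI hdvr : IsDiscreteValuationRing (AdjoinRoot f) :=
    isDiscreteValuationRing_adjoinRoot f hmon hE hdeg
  haveI hlocAB : IsLocalHom (algebraMap A (AdjoinRoot f)) := isLocalHom_of f hE hdeg
  letI algBL : Algebra (AdjoinRoot f) (AdjoinRoot (f.map (algebraMap A K))) := (toL f K).toAlgebra
  haveI hfrac : IsFractionRing (AdjoinRoot f) (AdjoinRoot (f.map (algebraMap A K))) :=
    isFractionRing_toL f hmon hE hdeg K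
  have hAL : ∀ a : A, algebraMap A (AdjoinRoot (f.map (algebraMap A K))) a =
      toL f K (AdjoinRoot.of f a) := fun a => (toL_of f K a).symm
  have hcompAL : (algebraMap (AdjoinRoot f) (AdjoinRoot (f.map (algebraMap A K)))).comp
      (algebraMap A (AdjoinRoot f)) = algebraMap A (AdjoinRoot (f.map (algebraMap A K))) := by
    ext a
    exact (hAL a).symm
  have hintegral : ∀ x : AdjoinRoot f, toL f K x ∈ integralClosure A
      (AdjoinRoot (f.map (algebraMap A K))) := by
    intro x
    haveI : Module.Finite A (AdjoinRoot f) := hmon.finite_adjoinRoot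
    have h1 : IsIntegral A x := Algebra.IsIntegral.isIntegral x
    obtain ⟨p, hp, hpx⟩ := h1
    refine ⟨p, hp, ?_⟩
    have h2 := congrArg (toL f K) hpx
    rw [map_zero, Polynomial.hom_eval₂] at h2
    rw [← h2]
    congr 1
    ext a
    exact hAL a
  -- the valuation ring
  have hdom₀ : EtRam.Dominates A (algebraMap A (AdjoinRoot (f.map (algebraMap A K))))
      (rangeValuationSubring (AdjoinRoot f) (AdjoinRoot (f.map (algebraMap A K)))) := by
    have := dominates_comp (A := A) (B := AdjoinRoot f) _ _
      (dominates_rangeValuationSubring (AdjoinRoot f) (AdjoinRoot (f.map (algebraMap A K))))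
    rwa [hcompAL] at this
  -- the equation of the root
  have hrootL : ∀ (V : ValuationSubring (AdjoinRoot (f.map (algebraMap A K)))),
      EtRam.Dominates A (algebraMap A (AdjoinRoot (f.map (algebraMap A K)))) V →
      (∀ b : AdjoinRoot f, algebraMap (AdjoinRoot f) (AdjoinRoot (f.map (algebraMap A K))) b ∈ V) ∧
      (∀ b : AdjoinRoot f, b ∈ 𝔪 (AdjoinRoot f) →
        V.valuation (algebraMap (AdjoinRoot f) (AdjoinRoot (f.map (algebraMap A K))) b) < 1) := by
    intro V hV
    have h1 : ∀ b : AdjoinRoot f,
        algebraMap (AdjoinRoot f) (AdjoinRoot (f.map (algebraMap A K))) b ∈ V := by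
      intro b
      obtain ⟨p, hp, hpx⟩ := hintegral b
      exact mem_of_isIntegral_of_forall_mem _ V hV.1 ⟨p, hp, hpx⟩
    refine ⟨h1, ?_⟩
    -- valuation of the root
    have hroot_lt : V.valuation (toL f K (AdjoinRoot.root f)) < 1 := by
      have hmem := root_pow_mem f hmon hE
      -- root^q ∈ 𝔪 A · B₀, so its valuation is < 1
      have key : ∀ y ∈ (𝔪 A).map (algebraMap A (AdjoinRoot f)), V.valuation (toL f K y) < 1 := by
        intro y hy
        rw [Ideal.map, ← Ideal.submodule_span_eq] at hy
        induction hy using Submodule.span_induction with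
        | mem y hy =>
          obtain ⟨a, ha, rfl⟩ := hy
          have := hV.2 a ha
          rwa [hAL] at this
        | zero => rw [map_zero, map_zero]; exact zero_lt_one
        | add y z _ _ hy hz =>
          rw [map_add]
          exact lt_of_le_of_lt (V.valuation.map_add _ _) (max_lt hy hz)
        | smul c y _ hy =>
          rw [smul_eq_mul, map_mul, map_mul]
          calc V.valuation (toL f K c) * V.valuation (toL f K y)
              ≤ 1 * V.valuation (toL f K y) :=
                mul_le_mul_left ((V.valuation_le_one_iff _).2 (h1 c)) _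
            _ = V.valuation (toL f K y) := one_mul _
            _ < 1 := hy
      have h2 := key _ hmem
      rw [map_pow, map_pow] at h2
      by_contra hnot
      have h3 : 1 ≤ V.valuation (toL f K (AdjoinRoot.root f)) := not_lt.1 hnot
      exact (not_lt.2 (one_le_pow₀ h3)) h2
    intro b hb
    rw [maximalIdeal_adjoinRoot f hE hdeg] at hb
    obtain ⟨c, rfl⟩ := Ideal.mem_span_singleton'.1 hb
    change V.valuation (toL f K (c * AdjoinRoot.root f)) < 1
    rw [map_mul, map_mul]
    calc V.valuation (toL f K c) * V.valuation (toL f K (AdjoinRoot.root f))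
        ≤ 1 * V.valuation (toL f K (AdjoinRoot.root f)) :=
          mul_le_mul_left ((V.valuation_le_one_iff _).2 (h1 c)) _
      _ = V.valuation (toL f K (AdjoinRoot.root f)) := one_mul _
      _ < 1 := hroot_lt
  have huniq : ∀ (V : ValuationSubring (AdjoinRoot (f.map (algebraMap A K)))),
      EtRam.Dominates A (algebraMap A (AdjoinRoot (f.map (algebraMap A K)))) V →
      V = rangeValuationSubring (AdjoinRoot f) (AdjoinRoot (f.map (algebraMap A K))) := by
    intro V hV
    obtain ⟨h1, h2⟩ := hrootL V hV
    exact eq_rangeValuationSubring V h1 h2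
  refine ⟨AdjoinRoot (f.map (algebraMap A K)), inferInstance, inferInstance, inferInstance,
    inferInstance, toL f K, hfinrank, hsepL, ⟨⟨_, hdom₀⟩, ?_, ?_⟩, fun a => (hAL a).symm, hintegral⟩
  · intro V V' hV hV'
    rw [huniq V hV, huniq V' hV']
  · intro V hV y
    obtain ⟨⟨x, hx⟩, rfl⟩ := IsLocalRing.residue_surjective y
    obtain ⟨h1, h2⟩ := hrootL V hV
    have hxV₀ : x ∈ rangeValuationSubring (AdjoinRoot f) (AdjoinRoot (f.map (algebraMap A K))) := by
      rw [← huniq V hV]; exact hx
    obtain ⟨b, rfl⟩ := hxV₀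
    obtain ⟨p, rfl⟩ := AdjoinRoot.mk_surjective b
    refine ⟨p.coeff 0, ?_⟩
    have h3 := mk_sub_of_coeff_zero_mem f p
    rw [← maximalIdeal_adjoinRoot f hE hdeg] at h3
    have h4 := h2 _ h3
    symm
    rw [← sub_eq_zero, ← map_sub, IsLocalRing.residue_eq_zero_iff,
      ValuationSubring.valuation_lt_one_iff]
    convert h4 using 2
    change toL f K (AdjoinRoot.mk f p) - algebraMap A _ (p.coeff 0) = toL f K _
    rw [map_sub, hAL]

end

end Groth.Agent.Lib.Helper9.DvrEisensteinApp
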