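import Mathlib
import Groth.Prelude.Def_EtRam
import Groth.Agent.Lib.Helper9.DvrExt
import Groth.Agent.Lib.Helper9.DvrAbs
import Groth.Agent.Lib.Helper9.DvrTame
import Groth.Agent.Lib.Helper9.DvrTotRam
import Groth.Agent.Lib.Helper9.DvrEisensteinApp
import Groth.Agent.Lib.Helper9.HenselSplit
import Groth.Agent.Lib.Helper9.DvrTameBC

/-!
# Monogenic criterion

`A` a DVR with fraction field `K`, `L = K(y)` finite over `K`, `y` a root of a monic `G ∈ A[X]`
such that `κ[X]/(Ḡ)` is reduced.  Then every valuation ring `V` of `L` dominating `A` is weakly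
unramified over `A` and its residue field is a quotient of `κ[X]/(Ḡ)`.
-/

open Polynomial

universe u

set_option linter.unusedSectionVars false
set_option linter.style.haveILetI false
set_option linter.overlappingInstances false

namespace Groth.Agent.Lib.Helper9.DvrMono

open Groth.Agent.Lib.Helper9.DvrExt Groth.Agent.Lib.Helper9.DvrAbs
  Groth.Agent.Lib.Helper9.DvrTotRam Groth.Agent.Lib.Helper9.DvrEisensteinApp

local notation "𝔪" => IsLocalRing.maximalIdeal
local notation "κ" => IsLocalRing.ResidueField

section Basic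

variable {A K L : Type u} [CommRing A] [IsDomain A] [IsDiscreteValuationRing A] [Field K] [Field L]
  [Algebra A K] [IsFractionRing A K] [Algebra K L] [Algebra A L] [IsScalarTower A K L]

theorem exists_dominates (A K L : Type u) [CommRing A] [IsDomain A] [IsDiscreteValuationRing A]
    [Field K] [Field L] [Algebra A K] [IsFractionRing A K] [Algebra K L] [Algebra A L]
    [IsScalarTower A K L] : ∃ V : ValuationSubring L, EtRam.Dominates A (algebraMap A L) V := by
  obtain ⟨W, hW⟩ := exists_comap_eq (algebraMap K L) (rangeValuationSubring A K)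
  refine ⟨W, ?_⟩
  have h1 := dominates_rangeValuationSubring A K
  rw [← hW, dominates_comap_iff] at h1
  rwa [← IsScalarTower.algebraMap_eq] at h1

theorem comap_eq_range (V : ValuationSubring L) (hV : EtRam.Dominates A (algebraMap A L) V) :
    V.comap (algebraMap K L) = rangeValuationSubring A K := by
  apply eq_rangeValuationSubring
  · intro a
    rw [ValuationSubring.mem_comap, ← IsScalarTower.algebraMap_apply]
    exact hV.1 a
  · intro a ha
    rw [valuation_comap_lt_one_iff, ← IsScalarTower.algebraMap_apply]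
    exact hV.2 a ha

theorem exists_of_valuation_le_one (V : ValuationSubring L)
    (hV : EtRam.Dominates A (algebraMap A L) V) (c : K)
    (hc : V.valuation (algebraMap K L c) ≤ 1) : ∃ a : A, algebraMap A K a = c := by
  have h1 : c ∈ V.comap (algebraMap K L) := by
    rw [ValuationSubring.mem_comap]
    exact (V.valuation_le_one_iff _).1 hc
  rw [comap_eq_range V hV] at h1
  exact h1

theorem valuation_unit (V : ValuationSubring L)
    (hV : EtRam.Dominates A (algebraMap A L) V) (a : A) (ha : IsUnit a) :
    V.valuation (algebraMap A L a) = 1 := by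
  obtain ⟨b, hb⟩ := ha.exists_right_inv
  have h1 : V.valuation (algebraMap A L a) ≤ 1 := (V.valuation_le_one_iff _).2 (hV.1 a)
  have h2 : V.valuation (algebraMap A L b) ≤ 1 := (V.valuation_le_one_iff _).2 (hV.1 b)
  have h3 : V.valuation (algebraMap A L a) * V.valuation (algebraMap A L b) = 1 := by
    rw [← map_mul, ← map_mul, hb, map_one, map_one]
  refine le_antisymm h1 ?_
  by_contra hlt
  have hlt' : V.valuation (algebraMap A L a) < 1 := not_le.1 hlt
  have : V.valuation (algebraMap A L a) * V.valuation (algebraMap A L b) < 1 := by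
    calc V.valuation (algebraMap A L a) * V.valuation (algebraMap A L b)
        ≤ V.valuation (algebraMap A L a) * 1 := mul_le_mul_right h2 _
      _ = V.valuation (algebraMap A L a) := mul_one _
      _ < 1 := hlt'
  rw [h3] at this
  exact lt_irrefl _ this

end Basic

section Mono

variable {A K L : Type u} [CommRing A] [IsDomain A] [IsDiscreteValuationRing A] [Field K] [Field L]
  [Algebra A K] [IsFractionRing A K] [Algebra K L] [Algebra A L] [IsScalarTower A K L]
  (G : A[X]) (y : L) (hy : G.eval₂ (algebraMap A L) y = 0)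

/-- evaluation at `y`. -/
noncomputable def ev : AdjoinRoot G →+* L := AdjoinRoot.lift (algebraMap A L) y hy

theorem ev_of (a : A) : ev G y hy (AdjoinRoot.of G a) = algebraMap A L a := by
  simp [ev]

theorem ev_root : ev G y hy (AdjoinRoot.root G) = y := by
  simp [ev]

theorem ev_mk (q : A[X]) : ev G y hy (AdjoinRoot.mk G q) = q.eval₂ (algebraMap A L) y :=
  AdjoinRoot.lift_mk _ _

/-- reduction modulo the maximal ideal. -/
noncomputable def red : AdjoinRoot G →+* AdjoinRoot (G.map (IsLocalRing.residue A)) :=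
  AdjoinRoot.map (IsLocalRing.residue A) G _ dvd_rfl

theorem red_of (a : A) : red G (AdjoinRoot.of G a) = AdjoinRoot.of _ (IsLocalRing.residue A a) := by
  simp [red]

theorem red_root : red G (AdjoinRoot.root G) = AdjoinRoot.root _ := by
  simp [red]

theorem red_mk (q : A[X]) :
    red G (AdjoinRoot.mk G q) = AdjoinRoot.mk _ (q.map (IsLocalRing.residue A)) := by
  induction q using Polynomial.induction_on' with
  | add p q hp hq => rw [map_add, map_add, hp, hq, Polynomial.map_add, map_add]
  | monomial n a =>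
    rw [← Polynomial.C_mul_X_pow_eq_monomial, map_mul, map_pow, AdjoinRoot.mk_C, AdjoinRoot.mk_X,
      map_mul, map_pow, red_of, red_root, Polynomial.map_mul, Polynomial.map_pow, Polynomial.map_C,
      Polynomial.map_X, map_mul, map_pow, AdjoinRoot.mk_C, AdjoinRoot.mk_X]

theorem red_surjective : Function.Surjective (red G) := by
  intro t
  obtain ⟨q, rfl⟩ := AdjoinRoot.mk_surjective t
  obtain ⟨q', rfl⟩ := Polynomial.map_surjective (IsLocalRing.residue A)
    IsLocalRing.residue_surjective q
  exact ⟨AdjoinRoot.mk G q', red_mk G q'⟩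

theorem red_eq_zero {π : A} (hπ : Irreducible π) (t : AdjoinRoot G) (h : red G t = 0) :
    ∃ t', t = AdjoinRoot.of G π * t' := by
  obtain ⟨q, rfl⟩ := AdjoinRoot.mk_surjective t
  rw [red_mk, AdjoinRoot.mk_eq_zero] at h
  obtain ⟨r, hr⟩ := h
  obtain ⟨r', rfl⟩ := Polynomial.map_surjective (IsLocalRing.residue A)
    IsLocalRing.residue_surjective r
  have hD : ∀ k, (q - G * r').coeff k ∈ 𝔪 A := by
    intro k
    rw [← IsLocalRing.residue_eq_zero_iff, ← Polynomial.coeff_map, Polynomial.map_sub,
      Polynomial.map_mul, hr, sub_self, Polynomial.coeff_zero]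
  have h1 := Groth.Agent.Lib.Helper9.mk_mem_map_of_coeff_mem (𝔪 A) G (q - G * r') hD
  rw [hπ.maximalIdeal_eq, Ideal.map_span, Set.image_singleton, Ideal.mem_span_singleton'] at h1
  obtain ⟨t', ht'⟩ := h1
  refine ⟨t', ?_⟩
  have h2 : AdjoinRoot.mk G (q - G * r') = AdjoinRoot.mk G q := by
    rw [map_sub, map_mul, AdjoinRoot.mk_self, zero_mul, sub_zero]
  rw [← h2, ← ht', mul_comm]
  rfl

include hy in
theorem ev_mem (hG : G.Monic) (V : ValuationSubring L) (hV : ∀ a : A, algebraMap A L a ∈ V)
    (t : AdjoinRoot G) : ev G y hy t ∈ V := by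
  haveI : Module.Finite A (AdjoinRoot G) := hG.finite_adjoinRoot
  have h1 : IsIntegral A t := Algebra.IsIntegral.isIntegral t
  obtain ⟨p, hp, hpx⟩ := h1
  refine mem_of_isIntegral_of_forall_mem (algebraMap A L) V hV ⟨p, hp, ?_⟩
  have h2 := congrArg (ev G y hy) hpx
  rw [map_zero, Polynomial.hom_eval₂] at h2
  rw [← h2]
  congr 1
  ext a
  exact (ev_of G y hy a).symm

include hy in
/-- every element of `L = K(y)` is a fraction of values of `ev`. -/
theorem exists_fraction [Algebra.IsAlgebraic K L] (hgen : IntermediateField.adjoin K {y} = ⊤) (w : L) :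
    ∃ (x : AdjoinRoot G) (b : A), b ≠ 0 ∧ w * algebraMap A L b = ev G y hy x := by
  have hyalg : IsAlgebraic K y := Algebra.IsAlgebraic.isAlgebraic y
  have h1 : w ∈ (IntermediateField.adjoin K {y}).toSubalgebra := by
    rw [hgen]; trivial
  rw [IntermediateField.adjoin_simple_toSubalgebra_of_isAlgebraic hyalg,
    Algebra.adjoin_singleton_eq_range_aeval] at h1
  obtain ⟨P, rfl⟩ := h1
  obtain ⟨b, hbM, hb⟩ := IsLocalization.integerNormalization_spec (nonZeroDivisors A) P
  refine ⟨AdjoinRoot.mk G (IsLocalization.integerNormalization (nonZeroDivisors A) P), b,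
    nonZeroDivisors.ne_zero hbM, ?_⟩
  rw [ev_mk, IsScalarTower.algebraMap_eq A K L, ← Polynomial.eval₂_map, hb]
  rw [Algebra.smul_def, Polynomial.algebraMap_apply, Polynomial.eval₂_mul, Polynomial.eval₂_C,
    RingHom.comp_apply, mul_comm]
  rfl

variable [FiniteDimensional K L]

include hy in
/-- **Monogenic criterion.** -/
theorem mono_core (hG : G.Monic) (hgen : IntermediateField.adjoin K {y} = ⊤)
    [IsReduced (AdjoinRoot (G.map (IsLocalRing.residue A)))]
    (V : ValuationSubring L) (hV : EtRam.Dominates A (algebraMap A L) V) :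
    letI : Algebra A V := (RingHom.codRestrict (algebraMap A L) V hV.1).toAlgebra
    ∀ [IsLocalHom (algebraMap A V)],
    (𝔪 A).map (algebraMap A V) = 𝔪 V ∧
    ∃ ψ : AdjoinRoot (G.map (IsLocalRing.residue A)) →+* κ V, Function.Surjective ψ ∧
      (∀ t : AdjoinRoot G, ψ (red G t) =
        IsLocalRing.residue V ⟨ev G y hy t, ev_mem G y hy hG V hV.1 t⟩) ∧
      (∀ a : A, ψ (AdjoinRoot.of _ (IsLocalRing.residue A a)) =
        IsLocalRing.ResidueField.map (algebraMap A V) (IsLocalRing.residue A a)) ∧
      ∀ w : V, ∃ x s : AdjoinRoot G, ψ (red G s) ≠ 0 ∧ (w : L) * ev G y hy s = ev G y hy x := by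
  classical
  letI algAV : Algebra A V := (RingHom.codRestrict (algebraMap A L) V hV.1).toAlgebra
  intro hloc
  have hV' : EtRam.Dominates A ((algebraMap K L).comp (algebraMap A K)) V := by
    rw [← IsScalarTower.algebraMap_eq]; exact hV
  haveI hdvr : IsDiscreteValuationRing V :=
    isDiscreteValuationRing_of_dominates (A := A) (K := K) (L := L) V hV'
  obtain ⟨π, hπ⟩ := IsDiscreteValuationRing.exists_irreducible A
  have hAVinj : Function.Injective (algebraMap A V) := by
    intro a b hab
    have h1 : algebraMap A L a = algebraMap A L b := congrArg Subtype.val hab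
    rw [IsScalarTower.algebraMap_apply A K L, IsScalarTower.algebraMap_apply A K L] at h1
    exact IsFractionRing.injective A K ((algebraMap K L).injective h1)
  -- the maps
  let φ : AdjoinRoot G →+* V := (ev G y hy).codRestrict V.toSubring (ev_mem G y hy hG V hV.1)
  have hφ : ∀ t, ((φ t : V) : L) = ev G y hy t := fun t => rfl
  have hyV : y ∈ V := by
    have := ev_mem G y hy hG V hV.1 (AdjoinRoot.root G)
    rwa [ev_root] at this
  have hψwd : (G.map (IsLocalRing.residue A)).eval₂
      (IsLocalRing.ResidueField.map (algebraMap A V)) (IsLocalRing.residue V ⟨y, hyV⟩) = 0 := by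
    rw [Polynomial.eval₂_map]
    have h1 : (IsLocalRing.ResidueField.map (algebraMap A V)).comp (IsLocalRing.residue A) =
        (IsLocalRing.residue V).comp (algebraMap A V) := by
      ext a
      rfl
    rw [h1, ← Polynomial.hom_eval₂]
    have h2 : G.eval₂ (algebraMap A V) (⟨y, hyV⟩ : V) = 0 := by
      apply Subtype.ext
      change V.subtype (G.eval₂ (algebraMap A V) (⟨y, hyV⟩ : V)) = 0
      rw [Polynomial.hom_eval₂]
      exact hy
    rw [h2, map_zero]
  let ψ : AdjoinRoot (G.map (IsLocalRing.residue A)) →+* κ V :=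
    AdjoinRoot.lift (IsLocalRing.ResidueField.map (algebraMap A V))
      (IsLocalRing.residue V ⟨y, hyV⟩) hψwd
  have hcomp : ∀ t, ψ (red G t) = IsLocalRing.residue V (φ t) := by
    intro t
    obtain ⟨q, rfl⟩ := AdjoinRoot.mk_surjective t
    induction q using Polynomial.induction_on' with
    | add p q hp hq => rw [map_add, map_add, map_add, map_add, map_add, hp, hq]
    | monomial n a =>
      rw [← Polynomial.C_mul_X_pow_eq_monomial, map_mul, map_pow, AdjoinRoot.mk_C, AdjoinRoot.mk_X,
        map_mul, map_pow, red_of, red_root, map_mul, map_pow, map_mul, map_pow, map_mul, map_pow]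
      congr 1
      · simp only [ψ, AdjoinRoot.lift_of]
        rw [IsLocalRing.ResidueField.map_residue]
        congr 1
        apply Subtype.ext
        rw [hφ, ev_of]
        rfl
      · congr 1
        simp only [ψ, AdjoinRoot.lift_root]
        congr 1
        apply Subtype.ext
        rw [hφ, ev_root]
  have hmaxR : ∀ P : Ideal (AdjoinRoot (G.map (IsLocalRing.residue A))), P.IsPrime → P.IsMaximal := by
    intro P hP
    refine Groth.Agent.Lib.Helper9.DvrTame.isMaximal_of_isPrime_adjoinRoot ?_ _ (hG.map _) P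
    intro Q hQ
    have : Q = ⊥ := by
      rcases Ideal.eq_bot_or_top Q with h | h
      · exact h
      · exact absurd h hQ.ne_top
    rw [this]
    exact Ideal.bot_isMaximal
  have hϖ : algebraMap A V π ∈ 𝔪 V := by
    exact (ValuationSubring.valuation_lt_one_iff V _).2
      (hV.2 π ((IsLocalRing.mem_maximalIdeal π).2 hπ.not_isUnit))
  have hϖ0 : algebraMap A V π ≠ 0 := by
    rw [Ne, map_eq_zero_iff _ hAVinj]; exact hπ.ne_zero
  have hp₁ : φ (AdjoinRoot.of G π) = algebraMap A V π := by
    apply Subtype.ext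
    rw [hφ, ev_of]
    rfl
  have hker : ∀ t, red G t = 0 → ∃ t', φ t = algebraMap A V π * φ t' := by
    intro t ht
    obtain ⟨t', rfl⟩ := red_eq_zero G hπ t ht
    exact ⟨t', by rw [map_mul, hp₁]⟩
  haveI : Algebra.IsAlgebraic K L := Algebra.IsAlgebraic.of_finite K L
  have hgenW : ∀ w : V, ∃ x s : AdjoinRoot G, φ s ≠ 0 ∧ w * φ s = φ x := by
    intro w
    obtain ⟨x, b, hb, hxb⟩ := exists_fraction G y hy hgen (w : L)
    refine ⟨x, AdjoinRoot.of G b, ?_, ?_⟩
    · intro h0
      have h1 := congrArg Subtype.val h0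
      rw [hφ, ev_of] at h1
      apply hb
      have h2 : algebraMap A L b = algebraMap A L 0 := by rw [map_zero]; exact h1
      rw [IsScalarTower.algebraMap_apply A K L, IsScalarTower.algebraMap_apply A K L] at h2
      exact IsFractionRing.injective A K ((algebraMap K L).injective h2)
    · apply Subtype.ext
      rw [hφ, ← hxb]
      change (w : L) * ((φ (AdjoinRoot.of G b) : V) : L) = _
      rw [hφ, ev_of]
  obtain ⟨h1, h2⟩ := abstractCore φ (red G) ψ hcomp (red_surjective G) hmaxR (algebraMap A V π) hϖ
    hϖ0 (AdjoinRoot.of G π) hp₁ hker hgenW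
  refine ⟨?_, ψ, h2, hcomp, ?_, ?_⟩
  · have h3 := congrArg (Ideal.map (algebraMap A V)) hπ.maximalIdeal_eq
    rw [h1, h3, Ideal.map_span, Set.image_singleton]
  · intro a
    simp only [ψ, AdjoinRoot.lift_of]
  · intro w
    obtain ⟨x, s, hs, hxs⟩ := claimA' φ (red G) ψ hcomp (red_surjective G) hmaxR (algebraMap A V π)
      hϖ hϖ0 (AdjoinRoot.of G π) hp₁ hker hgenW w
    refine ⟨x, s, ?_, ?_⟩
    · rw [hcomp]
      intro h0
      exact hs ((IsLocalRing.residue_eq_zero_iff _).1 h0)
    · have := congrArg Subtype.val hxs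
      exact this

end Mono

section Crit

variable {A K L : Type u} [CommRing A] [IsDomain A] [IsDiscreteValuationRing A] [Field K] [Field L]
  [Algebra A K] [IsFractionRing A K] [Algebra K L] [Algebra A L] [IsScalarTower A K L]
  [FiniteDimensional K L]
  (G : A[X]) (y : L) (hy : G.eval₂ (algebraMap A L) y = 0)

include hy in
/-- Case "unramified": the reduction of `G` is separable. -/
theorem unramified_of_separable (hG : G.Monic) (hgen : IntermediateField.adjoin K {y} = ⊤)
    (hsep : (G.map (IsLocalRing.residue A)).Separable) :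
    EtRam.IsUnramifiedExt A (algebraMap A L) := by
  intro V hV
  letI algAV : Algebra A V := (RingHom.codRestrict (algebraMap A L) V hV.1).toAlgebra
  intro hloc
  have hunit : IsUnit (AdjoinRoot.mk (G.map (IsLocalRing.residue A))
      (derivative (G.map (IsLocalRing.residue A)))) := by
    obtain ⟨a, b, hab⟩ := hsep
    refine isUnit_iff_exists_inv.2 ⟨AdjoinRoot.mk _ b, ?_⟩
    have := congrArg (AdjoinRoot.mk (G.map (IsLocalRing.residue A))) hab
    rw [map_add, map_mul, map_mul, AdjoinRoot.mk_self, mul_zero, zero_add, map_one] at this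
    rw [mul_comm]
    exact this
  haveI hfu : Algebra.FormallyUnramified (κ A) (AdjoinRoot (G.map (IsLocalRing.residue A))) :=
    Groth.Agent.Lib.Helper9.DvrTameBC.formallyUnramified_adjoinRoot _ hunit
  haveI : IsReduced (AdjoinRoot (G.map (IsLocalRing.residue A))) :=
    isReduced_adjoinRoot_of_separable_field _ hsep
  obtain ⟨h1, ψ, hψs, -, hψa, -⟩ := mono_core G y hy hG hgen V hV
  refine ⟨h1, ?_⟩
  let ψ' : AdjoinRoot (G.map (IsLocalRing.residue A)) →ₐ[κ A] κ V :=
    { ψ with
      commutes' := fun r => by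
        obtain ⟨a, rfl⟩ := IsLocalRing.residue_surjective r
        exact hψa a }
  have hψ's : Function.Surjective ψ' := hψs
  haveI : Algebra.FormallyUnramified (κ A) (κ V) :=
    Algebra.FormallyUnramified.of_surjective ψ' hψ's
  haveI : Module.Finite (κ A) (AdjoinRoot (G.map (IsLocalRing.residue A))) :=
    (hG.map _).finite_adjoinRoot
  haveI : Module.Finite (κ A) (κ V) := Module.Finite.of_surjective ψ'.toLinearMap hψ's
  exact Algebra.FormallyUnramified.isSeparable (κ A) (κ V)

/-- For an algebra `E` integral over a local ring, elements invertible modulo the maximal ideal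
are invertible. -/
theorem isUnit_of_isUnit_red (hG : G.Monic) {π : A} (hπ : Irreducible π) (s s' : AdjoinRoot G)
    (h : red G (s * s') = 1) : IsUnit s := by
  haveI : Module.Finite A (AdjoinRoot G) := hG.finite_adjoinRoot
  haveI : Algebra.IsIntegral A (AdjoinRoot G) := inferInstance
  have h1 : red G (s * s' - 1) = 0 := by rw [map_sub, h, map_one, sub_self]
  obtain ⟨t', ht'⟩ := red_eq_zero G hπ _ h1
  have hjac : AdjoinRoot.of G π ∈ Ideal.jacobson (⊥ : Ideal (AdjoinRoot G)) := by
    rw [Ideal.jacobson, Ideal.mem_sInf]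
    rintro M ⟨-, hM⟩
    have hMmax : M.IsMaximal := hM
    have hc : (M.comap (algebraMap A (AdjoinRoot G))).IsMaximal :=
      Ideal.isMaximal_comap_of_isIntegral_of_isMaximal M
    have h2 := IsLocalRing.eq_maximalIdeal hc
    have h3 : π ∈ M.comap (algebraMap A (AdjoinRoot G)) := by
      rw [h2]; exact (IsLocalRing.mem_maximalIdeal π).2 hπ.not_isUnit
    exact h3
  have h4 : IsUnit (AdjoinRoot.of G π * t' + 1) := by
    have := Ideal.mem_jacobson_bot.1 hjac t'
    exact this
  have h5 : s * s' = AdjoinRoot.of G π * t' + 1 := by rw [← ht']; ring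
  rw [← h5] at h4
  exact isUnit_of_mul_isUnit_left h4

include hy in
/-- Case "wild residue extension": the reduction of `G` is irreducible and purely inseparable. -/
theorem wild_of_irreducible (p : ℕ) [ExpChar (κ A) p] (hG : G.Monic) (hGdeg : G.natDegree = p)
    (hgen : IntermediateField.adjoin K {y} = ⊤)
    (hirr : Irreducible (G.map (IsLocalRing.residue A)))
    (hpow : ∀ r : AdjoinRoot (G.map (IsLocalRing.residue A)), ∃ c : κ A,
      r ^ p = AdjoinRoot.of _ c) :
    (∃ V : ValuationSubring L, EtRam.Dominates A (algebraMap A L) V) ∧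
      (∀ V V' : ValuationSubring L, EtRam.Dominates A (algebraMap A L) V →
        EtRam.Dominates A (algebraMap A L) V' → V = V') ∧
      ∀ (V : ValuationSubring L) (h : EtRam.Dominates A (algebraMap A L) V),
        letI : Algebra A V := (RingHom.codRestrict (algebraMap A L) V h.1).toAlgebra
        ∀ [IsLocalHom (algebraMap A V)],
          EtRam.IsWeaklyUnramified A V ∧
            IsPurelyInseparable (κ A) (κ V) ∧ Module.finrank (κ A) (κ V) = p := by
  classical
  obtain ⟨π, hπ⟩ := IsDiscreteValuationRing.exists_irreducible A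
  haveI : Fact (Irreducible (G.map (IsLocalRing.residue A))) := ⟨hirr⟩
  haveI : IsReduced (AdjoinRoot (G.map (IsLocalRing.residue A))) := inferInstance
  have hne : G.map (IsLocalRing.residue A) ≠ 0 := hirr.ne_zero
  have hmem : ∀ (V : ValuationSubring L), EtRam.Dominates A (algebraMap A L) V →
      ∀ w : L, w ∈ V ↔ w ∈ (ev G y hy).range := by
    intro V hV w
    letI algAV : Algebra A V := (RingHom.codRestrict (algebraMap A L) V hV.1).toAlgebra
    haveI hloc : IsLocalHom (algebraMap A V) := isLocalHom_of_dominates _ V hV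
    constructor
    · intro hw
      obtain ⟨-, ψ, -, -, -, hfr⟩ := mono_core G y hy hG hgen V hV
      obtain ⟨x, s, hs, hxs⟩ := hfr ⟨w, hw⟩
      have hs0 : red G s ≠ 0 := fun h0 => hs (by rw [h0, map_zero])
      obtain ⟨r', hr'⟩ := (isUnit_iff_ne_zero.2 hs0).exists_right_inv
      obtain ⟨s', rfl⟩ := red_surjective G r'
      rw [← map_mul] at hr'
      obtain ⟨u, hu⟩ := isUnit_of_isUnit_red G hG hπ s s' hr'
      refine ⟨x * ((u⁻¹ : (AdjoinRoot G)ˣ) : AdjoinRoot G), ?_⟩
      have h1 : ev G y hy s * ev G y hy ((u⁻¹ : (AdjoinRoot G)ˣ) : AdjoinRoot G) = 1 := by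
        rw [← map_mul, ← hu, Units.mul_inv, map_one]
      rw [map_mul, ← hxs]
      change w * ev G y hy s * _ = w
      rw [mul_assoc, h1, mul_one]
    · rintro ⟨t, rfl⟩
      exact ev_mem G y hy hG V hV.1 t
  refine ⟨exists_dominates A K L, ?_, ?_⟩
  · intro V V' hV hV'
    ext w
    rw [hmem V hV, hmem V' hV']
  · intro V hV
    letI algAV : Algebra A V := (RingHom.codRestrict (algebraMap A L) V hV.1).toAlgebra
    intro hloc
    obtain ⟨h1, ψ, hψs, -, hψa, -⟩ := mono_core G y hy hG hgen V hV
    let ψ' : AdjoinRoot (G.map (IsLocalRing.residue A)) →ₐ[κ A] κ V :=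
      { ψ with
        commutes' := fun r => by
          obtain ⟨a, rfl⟩ := IsLocalRing.residue_surjective r
          exact hψa a }
    have hψ's : Function.Surjective ψ' := hψs
    have hψ'i : Function.Injective ψ' := ψ'.toRingHom.injective
    refine ⟨h1, ?_, ?_⟩
    · rw [isPurelyInseparable_iff_pow_mem (κ A) p]
      intro x
      obtain ⟨r, rfl⟩ := hψ's x
      obtain ⟨c, hc⟩ := hpow r
      refine ⟨1, c, ?_⟩
      rw [pow_one, ← map_pow, hc]
      exact (ψ'.commutes c).symm
    · have e := (AlgEquiv.ofBijective ψ' ⟨hψ'i, hψ's⟩).toLinearEquiv.finrank_eq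
      rw [← e, (AdjoinRoot.powerBasis hne).finrank, AdjoinRoot.powerBasis_dim,
        hG.natDegree_map, hGdeg]

end Crit

end Groth.Agent.Lib.Helper9.DvrMono
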