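import Mathlib
import Groth.Prelude.Def_EtRam
import Groth.Agent.Lib.Helper9.DvrMono

/-!
# A criterion for total ramification

`A` a DVR with uniformizer `π`, `L/K` of degree `p`, `t ∈ L` such that `v(t)^p = v(π)` for every
valuation ring `V` of `L` dominating `A`.  Then `L/K` is totally ramified with respect to `A`.
-/

open Polynomial

universe u

set_option linter.unusedSectionVars false
set_option linter.style.haveILetI false
set_option linter.overlappingInstances false

namespace Groth.Agent.Lib.Helper9.DvrTotRamCrit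

open Groth.Agent.Lib.Helper9.DvrExt Groth.Agent.Lib.Helper9.DvrMono

local notation "𝔪" => IsLocalRing.maximalIdeal
local notation "κ" => IsLocalRing.ResidueField

variable {A K L : Type u} [CommRing A] [IsDomain A] [IsDiscreteValuationRing A] [Field K] [Field L]
  [Algebra A K] [hF : IsFractionRing A K] [Algebra K L] [Algebra A L] [hT : IsScalarTower A K L]

section OneV

variable (V : ValuationSubring L) (hV : EtRam.Dominates A (algebraMap A L) V) {π : A}
  (hπ : Irreducible π)

include hV hπ in
theorem gamma_lt_one : V.valuation (algebraMap A L π) < 1 :=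
  hV.2 π ((IsLocalRing.mem_maximalIdeal π).2 hπ.not_isUnit)

include hπ hF hT in
theorem gamma_ne_zero : V.valuation (algebraMap A L π) ≠ 0 := by
  rw [Ne, map_eq_zero, IsScalarTower.algebraMap_apply A K L, map_eq_zero,
    map_eq_zero_iff _ (IsFractionRing.injective A K)]
  exact hπ.ne_zero

include hV hπ hF hT in
theorem gamma_pow_inj {m n : ℕ}
    (h : V.valuation (algebraMap A L π) ^ m = V.valuation (algebraMap A L π) ^ n) : m = n :=
  (pow_right_inj₀ (zero_lt_iff.2 (gamma_ne_zero (K := K) V hπ)) (gamma_lt_one V hV hπ).ne).1 h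

include hV hπ in
/-- the valuation of a nonzero element of `K` is a (possibly negative) power of `γ = v(π)`. -/
theorem exists_pow_eq (c : K) (hc : c ≠ 0) : ∃ m n : ℕ,
    V.valuation (algebraMap K L c) * V.valuation (algebraMap A L π) ^ n =
      V.valuation (algebraMap A L π) ^ m := by
  obtain ⟨a, b, hb, rfl⟩ := IsFractionRing.div_surjective (A := A) c
  have hb0 : b ≠ 0 := nonZeroDivisors.ne_zero hb
  have ha0 : a ≠ 0 := by
    rintro rfl
    rw [map_zero, zero_div] at hc
    exact hc rfl
  obtain ⟨m, u, rfl⟩ := IsDiscreteValuationRing.eq_unit_mul_pow_irreducible ha0 hπ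
  obtain ⟨n, w, rfl⟩ := IsDiscreteValuationRing.eq_unit_mul_pow_irreducible hb0 hπ
  refine ⟨m, n, ?_⟩
  have hbK : algebraMap A K ((w : A) * π ^ n) ≠ 0 := by
    rw [Ne, map_eq_zero_iff _ (IsFractionRing.injective A K)]; exact hb0
  have h1 : algebraMap K L (algebraMap A K ((u : A) * π ^ m) / algebraMap A K ((w : A) * π ^ n)) *
      algebraMap A L ((w : A) * π ^ n) = algebraMap A L ((u : A) * π ^ m) := by
    rw [IsScalarTower.algebraMap_apply A K L, IsScalarTower.algebraMap_apply A K L, ← map_mul,
      div_mul_cancel₀ _ hbK]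
  have h_b : V.valuation (algebraMap A L ((w : A) * π ^ n)) =
      V.valuation (algebraMap A L π) ^ n := by
    rw [map_mul, map_mul, map_pow, map_pow, valuation_unit V hV _ w.isUnit, one_mul]
  have h_a : V.valuation (algebraMap A L ((u : A) * π ^ m)) =
      V.valuation (algebraMap A L π) ^ m := by
    rw [map_mul, map_mul, map_pow, map_pow, valuation_unit V hV _ u.isUnit, one_mul]
  rw [← h_b, ← h_a, ← map_mul, h1]

variable {p : ℕ} (hp : 0 < p) (t : L)
  (ht : V.valuation t ^ p = V.valuation (algebraMap A L π))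

include hV hπ ht in
/-- `(v(c t^i))^p · γ^{pn} = γ^{pm+i}`. -/
theorem exists_pow_eq' (c : K) (hc : c ≠ 0) (i : ℕ) : ∃ m n : ℕ,
    V.valuation (algebraMap K L c * t ^ i) ^ p * V.valuation (algebraMap A L π) ^ (p * n) =
      V.valuation (algebraMap A L π) ^ (p * m + i) := by
  obtain ⟨m, n, h⟩ := exists_pow_eq V hV hπ c hc
  refine ⟨m, n, ?_⟩
  calc V.valuation (algebraMap K L c * t ^ i) ^ p * V.valuation (algebraMap A L π) ^ (p * n)
      = (V.valuation (algebraMap K L c) * V.valuation (algebraMap A L π) ^ n) ^ p *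
          V.valuation (algebraMap A L π) ^ i := by
        rw [map_mul, map_pow, mul_pow, ← pow_mul, mul_comm i p, pow_mul, ht, mul_pow, ← pow_mul,
          mul_comm n p]
        exact mul_right_comm _ _ _
    _ = V.valuation (algebraMap A L π) ^ (p * m + i) := by
        rw [h, ← pow_mul, ← pow_add, mul_comm m p]

include hV hπ ht hp in
theorem val_ne_of_ne (c d : K) (hc : c ≠ 0) (hd : d ≠ 0) (i j : ℕ) (hi : i < p) (hj : j < p)
    (hij : i ≠ j) :
    V.valuation (algebraMap K L c * t ^ i) ≠ V.valuation (algebraMap K L d * t ^ j) := by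
  intro heq
  obtain ⟨m, n, h1⟩ := exists_pow_eq' V hV hπ t ht c hc i
  obtain ⟨m', n', h2⟩ := exists_pow_eq' V hV hπ t ht d hd j
  rw [heq] at h1
  have h3 : V.valuation (algebraMap A L π) ^ (p * m + i + p * n') =
      V.valuation (algebraMap A L π) ^ (p * m' + j + p * n) := by
    rw [pow_add, ← h1, pow_add _ (p * m' + j), ← h2]
    exact mul_right_comm _ _ _
  have h4 := gamma_pow_inj (K := K) V hV hπ h3
  apply hij
  have h5 : (p * m + i + p * n') % p = (p * m' + j + p * n) % p := by rw [h4]
  have e1 : (p * m + i + p * n') % p = i := by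
    rw [add_right_comm, ← mul_add, Nat.mul_add_mod, Nat.mod_eq_of_lt hi]
  have e2 : (p * m' + j + p * n) % p = j := by
    rw [add_right_comm, ← mul_add, Nat.mul_add_mod, Nat.mod_eq_of_lt hj]
  rw [e1, e2] at h5
  exact h5

include hV hπ ht hp in
theorem val_ne_one (c : K) (hc : c ≠ 0) (i : ℕ) (hi : i < p) (hi0 : 0 < i) :
    V.valuation (algebraMap K L c * t ^ i) ≠ 1 := by
  intro heq
  obtain ⟨m, n, h1⟩ := exists_pow_eq' V hV hπ t ht c hc i
  rw [heq, one_pow, one_mul] at h1
  have h4 := gamma_pow_inj (K := K) V hV hπ h1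
  have h5 : (p * n) % p = (p * m + i) % p := by rw [h4]
  rw [Nat.mul_mod_right, Nat.mul_add_mod, Nat.mod_eq_of_lt hi] at h5
  omega

include hπ ht hp hF hT in
theorem t_ne_zero : t ≠ 0 := by
  rintro rfl
  rw [map_zero, zero_pow hp.ne'] at ht
  exact gamma_ne_zero (K := K) V hπ ht.symm

/-- the combination `Σ c_i t^i`. -/
noncomputable def comb (t : L) (c : Fin p → K) : L := ∑ i : Fin p, algebraMap K L (c i) * t ^ (i : ℕ)

include hV hπ ht hp in
/-- the ultrametric maximum formula. -/
theorem exists_max (c : Fin p → K) (hc : c ≠ 0) : ∃ j : Fin p, c j ≠ 0 ∧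
    V.valuation (comb t c) = V.valuation (algebraMap K L (c j) * t ^ (j : ℕ)) ∧
    ∀ i, V.valuation (algebraMap K L (c i) * t ^ (i : ℕ)) ≤
      V.valuation (algebraMap K L (c j) * t ^ (j : ℕ)) := by
  classical
  haveI : Nonempty (Fin p) := ⟨⟨0, hp⟩⟩
  obtain ⟨j, -, hj⟩ := Finset.exists_max_image (Finset.univ : Finset (Fin p))
    (fun i => V.valuation (algebraMap K L (c i) * t ^ (i : ℕ))) Finset.univ_nonempty
  have ht0 := t_ne_zero (K := K) V hπ hp t ht
  have hcj : c j ≠ 0 := by
    intro h0
    apply hc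
    funext i
    have h1 := hj i (Finset.mem_univ i)
    simp only [h0, map_zero, zero_mul, le_zero_iff, map_eq_zero, mul_eq_zero, pow_eq_zero_iff',
      ht0, false_and, or_false] at h1
    exact h1
  refine ⟨j, hcj, ?_, fun i => hj i (Finset.mem_univ i)⟩
  unfold comb
  apply Valuation.map_sum_eq_of_lt _ (Finset.mem_univ j)
  intro i hi
  have hij : i ≠ j := by
    intro h
    rw [h] at hi
    simp at hi
  by_cases hci : c i = 0
  · rw [hci, map_zero, zero_mul, map_zero]
    rw [zero_lt_iff, Ne, map_eq_zero]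
    exact mul_ne_zero ((_root_.map_ne_zero _).2 hcj) (pow_ne_zero _ ht0)
  · refine lt_of_le_of_ne (hj i (Finset.mem_univ i)) ?_
    refine val_ne_of_ne V hV hπ hp t ht (c i) (c j) hci hcj i j i.2 j.2 ?_
    exact fun h => hij (Fin.ext h)

include hV hπ ht hp in
theorem comb_eq_zero (c : Fin p → K) (h : comb t c = 0) : c = 0 := by
  by_contra hc
  obtain ⟨j, hcj, h1, -⟩ := exists_max V hV hπ hp t ht c hc
  rw [h, map_zero] at h1
  have ht0 := t_ne_zero (K := K) V hπ hp t ht
  have := h1.symm
  rw [map_eq_zero] at this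
  exact (mul_ne_zero ((_root_.map_ne_zero _).2 hcj) (pow_ne_zero _ ht0)) this

include hV hπ ht hp in
theorem comb_mem_iff (c : Fin p → K) :
    comb t c ∈ V ↔ ∀ i : Fin p, ∃ a : A, algebraMap A K a = c i ^ p * algebraMap A K π ^ (i : ℕ) := by
  have key : ∀ i : Fin p, V.valuation (algebraMap K L (c i) * t ^ (i : ℕ)) ≤ 1 ↔
      ∃ a : A, algebraMap A K a = c i ^ p * algebraMap A K π ^ (i : ℕ) := by
    intro i
    rw [← pow_le_one_iff_of_nonneg zero_le' hp.ne', map_mul, mul_pow, map_pow, ← pow_mul,
      mul_comm (i : ℕ) p, pow_mul, ht]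
    have h1 : V.valuation (algebraMap K L (c i)) ^ p * V.valuation (algebraMap A L π) ^ (i : ℕ) =
        V.valuation (algebraMap K L (c i ^ p * algebraMap A K π ^ (i : ℕ))) := by
      rw [map_mul, map_pow, map_pow, map_mul, map_pow, map_pow,
        ← IsScalarTower.algebraMap_apply A K L]
    rw [h1]
    constructor
    · intro h
      exact exists_of_valuation_le_one V hV _ h
    · rintro ⟨a, ha⟩
      rw [← ha, ← IsScalarTower.algebraMap_apply A K L]
      exact (V.valuation_le_one_iff _).2 (hV.1 a)
  constructor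
  · intro hmem i
    rw [← key]
    by_cases hc : c = 0
    · rw [hc]
      simp
    obtain ⟨j, -, h1, h2⟩ := exists_max V hV hπ hp t ht c hc
    refine le_trans (h2 i) ?_
    rw [← h1]
    exact (V.valuation_le_one_iff _).2 hmem
  · intro h
    rw [← V.valuation_le_one_iff]
    unfold comb
    apply Valuation.map_sum_le
    intro i _
    exact (key i).2 (h i)

end OneV

section Main

variable [FiniteDimensional K L] {π : A} (hπ : Irreducible π) {p : ℕ} (hp : 0 < p)
  (hrank : Module.finrank K L = p) (t : L)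
  (ht : ∀ V : ValuationSubring L, EtRam.Dominates A (algebraMap A L) V →
    V.valuation t ^ p = V.valuation (algebraMap A L π))

/-- the linear map `c ↦ Σ c_i t^i`. -/
noncomputable def combLin (p : ℕ) (t : L) : (Fin p → K) →ₗ[K] L where
  toFun c := comb t c
  map_add' c d := by
    unfold comb
    rw [← Finset.sum_add_distrib]
    refine Finset.sum_congr rfl fun i _ => ?_
    rw [Pi.add_apply, map_add, add_mul]
  map_smul' r c := by
    unfold comb
    rw [Finset.smul_sum]
    refine Finset.sum_congr rfl fun i _ => ?_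
    rw [Pi.smul_apply, smul_eq_mul, map_mul, RingHom.id_apply, Algebra.smul_def, mul_assoc]

include hπ hp ht in
theorem combLin_injective : Function.Injective (combLin (K := K) p t) := by
  obtain ⟨V, hV⟩ := exists_dominates A K L
  rw [← LinearMap.ker_eq_bot, LinearMap.ker_eq_bot']
  intro c hc
  exact comb_eq_zero V hV hπ hp t (ht V hV) c hc

include hπ hp ht in
theorem le_finrank : p ≤ Module.finrank K L := by
  have h1 := LinearMap.finrank_le_finrank_of_injective (combLin_injective (K := K) hπ hp t ht)
  rwa [Module.finrank_fin_fun] at h1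

include hπ hp hrank ht in
theorem combLin_bijective : Function.Bijective (combLin (K := K) p t) := by
  have hinj : Function.Injective (combLin (K := K) p t) := combLin_injective hπ hp t ht
  have hfr : Module.finrank K (Fin p → K) = Module.finrank K L := by
    rw [Module.finrank_fin_fun, hrank]
  exact ⟨hinj, (LinearMap.injective_iff_surjective_of_finrank_eq_finrank hfr).1 hinj⟩

include hπ hp hrank ht in
/-- **Criterion for total ramification.** -/
theorem isTotallyRamified : EtRam.IsTotallyRamified A (algebraMap A L) := by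
  classical
  obtain ⟨hinj, hsurj⟩ := combLin_bijective hπ hp hrank t ht
  refine ⟨exists_dominates A K L, ?_, ?_⟩
  · intro V V' hV hV'
    ext w
    obtain ⟨c, rfl⟩ := hsurj w
    change comb t c ∈ V ↔ comb t c ∈ V'
    rw [comb_mem_iff V hV hπ hp t (ht V hV), comb_mem_iff V' hV' hπ hp t (ht V' hV')]
  · intro V hV x
    obtain ⟨⟨w, hw⟩, rfl⟩ := IsLocalRing.residue_surjective x
    obtain ⟨c, rfl⟩ := hsurj w
    change comb t c ∈ V at hw
    have hmem := (comb_mem_iff V hV hπ hp t (ht V hV) c).1 hw
    obtain ⟨a, ha⟩ := hmem ⟨0, hp⟩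
    -- `c 0` comes from `A`
    have hc0 : V.valuation (algebraMap K L (c ⟨0, hp⟩)) ≤ 1 := by
      rw [← pow_le_one_iff_of_nonneg zero_le' hp.ne', ← map_pow, ← map_pow]
      have : c ⟨0, hp⟩ ^ p = algebraMap A K a := by
        rw [ha]; simp
      rw [this, ← IsScalarTower.algebraMap_apply A K L]
      exact (V.valuation_le_one_iff _).2 (hV.1 a)
    obtain ⟨a₀, ha₀⟩ := exists_of_valuation_le_one V hV _ hc0
    refine ⟨a₀, ?_⟩
    symm
    rw [← sub_eq_zero, ← map_sub, IsLocalRing.residue_eq_zero_iff,
      ValuationSubring.valuation_lt_one_iff]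
    change V.valuation (comb t c - algebraMap A L a₀) < 1
    have hsplit : comb t c - algebraMap A L a₀ =
        ∑ i ∈ (Finset.univ : Finset (Fin p)).erase ⟨0, hp⟩,
          algebraMap K L (c i) * t ^ (i : ℕ) := by
      unfold comb
      rw [← Finset.add_sum_erase _ _ (Finset.mem_univ (⟨0, hp⟩ : Fin p))]
      rw [IsScalarTower.algebraMap_apply A K L, ha₀]
      simp
    rw [hsplit]
    apply Valuation.map_sum_lt _ one_ne_zero
    intro i hi
    have hi0 : (i : ℕ) ≠ 0 := by
      intro h
      apply (Finset.mem_erase.1 hi).1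
      exact Fin.ext h
    by_cases hci : c i = 0
    · rw [hci, map_zero, zero_mul, map_zero]
      exact zero_lt_one
    · have hle : V.valuation (algebraMap K L (c i) * t ^ (i : ℕ)) ≤ 1 := by
        have hc : c ≠ 0 := fun h => hci (by rw [h]; rfl)
        obtain ⟨j, -, h1, h2⟩ := exists_max V hV hπ hp t (ht V hV) c hc
        refine le_trans (h2 i) ?_
        rw [← h1]
        exact (V.valuation_le_one_iff _).2 hw
      exact lt_of_le_of_ne hle
        (val_ne_one V hV hπ hp t (ht V hV) (c i) hci i i.2 (Nat.pos_of_ne_zero hi0))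

end Main

end Groth.Agent.Lib.Helper9.DvrTotRamCrit
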