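import Mathlib
import Groth.Prelude.Def_EtRam
import Groth.Agent.Lib.Helper9.DvrMono
import Groth.Agent.Lib.Helper9.DvrTotRamCrit

/-!
# Artin–Schreier extensions of the fraction field of a DVR (characteristic `p`)
-/

open Polynomial

universe u

set_option linter.unusedSectionVars false
set_option linter.style.haveILetI false
set_option linter.overlappingInstances false

namespace Groth.Agent.Lib.Helper9.DvrArtinSchreier

open Groth.Agent.Lib.Helper9.DvrExt Groth.Agent.Lib.Helper9.DvrMono
  Groth.Agent.Lib.Helper9.DvrTotRamCrit

local notation "𝔪" => IsLocalRing.maximalIdeal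
local notation "κ" => IsLocalRing.ResidueField

section Field

variable {p : ℕ} [hp : Fact p.Prime] {K L : Type u} [Field K] [Field L] [Algebra K L] [CharP K p]
  (ξ : K) (z : L) (hz : z ^ p - z = algebraMap K L ξ)

/-- the Artin–Schreier polynomial. -/
noncomputable def asPoly (p : ℕ) (ξ : K) : K[X] := X ^ p - X - C ξ

theorem asPoly_monic : (asPoly p ξ).Monic := by
  unfold asPoly
  rw [sub_sub]
  apply monic_X_pow_sub
  rw [degree_X_add_C]
  exact_mod_cast hp.out.one_lt

theorem asPoly_natDegree : (asPoly p ξ).natDegree = p := by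
  unfold asPoly
  rw [sub_sub, natDegree_sub_eq_left_of_natDegree_lt, natDegree_X_pow]
  rw [natDegree_X_pow, natDegree_X_add_C]
  exact hp.out.one_lt

theorem asPoly_separable : (asPoly p ξ).Separable := by
  rw [separable_def]
  have hd : derivative (asPoly p ξ) = -1 := by
    unfold asPoly
    rw [derivative_sub, derivative_sub, derivative_X_pow, derivative_X, derivative_C,
      CharP.cast_eq_zero K p, map_zero, zero_mul, sub_zero, zero_sub]
  rw [hd]
  exact isCoprime_one_right.neg_right

include hz in
theorem aeval_asPoly : aeval z (asPoly p ξ) = 0 := by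
  unfold asPoly
  rw [map_sub, map_sub, map_pow, aeval_X, aeval_C, hz, sub_self]

include hz in
theorem isIntegral_z : IsIntegral K z :=
  ⟨asPoly p ξ, asPoly_monic ξ, aeval_asPoly ξ z hz⟩

variable [CharP L p]

include hz in
theorem root_add_natCast (i : ℕ) : (z + (i : L)) ^ p - (z + (i : L)) = algebraMap K L ξ := by
  have h1 : ((i : L)) ^ p = (i : L) := by
    have := map_natCast (frobenius L p) i
    rwa [frobenius_def] at this
  rw [add_pow_char, h1, ← hz]
  ring

include hz in
theorem roots_spec :
    (∀ r ∈ ((asPoly p ξ).map (algebraMap K L)).roots, ∃ i : ℕ, r = z + (i : L)) ∧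
    ((asPoly p ξ).map (algebraMap K L)).roots.card = p := by
  classical
  have hne : (asPoly p ξ).map (algebraMap K L) ≠ 0 := ((asPoly_monic ξ).map _).ne_zero
  have hsub : (Finset.range p).image (fun i : ℕ => z + (i : L)) ⊆
      ((asPoly p ξ).map (algebraMap K L)).roots.toFinset := by
    intro r hr
    obtain ⟨i, -, rfl⟩ := Finset.mem_image.1 hr
    rw [Multiset.mem_toFinset, mem_roots hne, IsRoot.def, eval_map, ← aeval_def]
    unfold asPoly
    rw [map_sub, map_sub, map_pow, aeval_X, aeval_C, root_add_natCast ξ z hz i, sub_self]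
  have hcard : ((Finset.range p).image (fun i : ℕ => z + (i : L))).card = p := by
    rw [Finset.card_image_of_injOn, Finset.card_range]
    intro i hi j hj hij
    have h1 : (i : L) = (j : L) := add_left_cancel hij
    exact CharP.natCast_injOn_Iio L p (Finset.mem_range.1 hi) (Finset.mem_range.1 hj) h1
  have h2 : ((asPoly p ξ).map (algebraMap K L)).roots.card ≤ p := by
    have := card_roots' ((asPoly p ξ).map (algebraMap K L))
    rwa [(asPoly_monic ξ).natDegree_map, asPoly_natDegree] at this
  have h3 : ((asPoly p ξ).map (algebraMap K L)).roots.toFinset.card ≤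
      ((asPoly p ξ).map (algebraMap K L)).roots.card := Multiset.toFinset_card_le _
  have h4 := Finset.card_le_card hsub
  rw [hcard] at h4
  have heq := Finset.eq_of_subset_of_card_le hsub (by rw [hcard]; exact le_trans h3 h2)
  refine ⟨?_, by omega⟩
  intro r hr
  have h5 : r ∈ ((asPoly p ξ).map (algebraMap K L)).roots.toFinset := Multiset.mem_toFinset.2 hr
  rw [← heq] at h5
  obtain ⟨i, -, rfl⟩ := Finset.mem_image.1 h5
  exact ⟨i, rfl⟩

include hz in
theorem splits_asPoly : ((asPoly p ξ).map (algebraMap K L)).Splits := by
  rw [splits_iff_card_roots, (roots_spec ξ z hz).2, (asPoly_monic ξ).natDegree_map,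
    asPoly_natDegree]

include hz in
theorem root_eq (r : L) (hr : r ∈ ((asPoly p ξ).map (algebraMap K L)).roots) :
    ∃ i : ℕ, r = z + (i : L) := (roots_spec ξ z hz).1 r hr

variable (hgen : IntermediateField.adjoin K {z} = ⊤)

include hz hgen in
theorem finiteDimensional : FiniteDimensional K L := by
  have h1 : FiniteDimensional K (IntermediateField.adjoin K {z}) :=
    IntermediateField.adjoin.finiteDimensional (isIntegral_z ξ z hz)
  rw [hgen] at h1
  exact Module.Finite.equiv (IntermediateField.topEquiv (F := K) (E := L)).toLinearEquiv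

include hz hgen in
theorem isGalois : IsGalois K L := by
  haveI : IsSplittingField K L (asPoly p ξ) := by
    refine ⟨splits_asPoly ξ z hz, ?_⟩
    rw [eq_top_iff]
    have h2 : Algebra.adjoin K {z} = ⊤ := by
      have := congrArg IntermediateField.toSubalgebra hgen
      rwa [IntermediateField.adjoin_simple_toSubalgebra_of_isAlgebraic
        (isIntegral_z ξ z hz).isAlgebraic, IntermediateField.top_toSubalgebra] at this
    rw [← h2]
    apply Algebra.adjoin_mono
    rw [Set.singleton_subset_iff, mem_rootSet_of_ne (asPoly_monic ξ).ne_zero]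
    exact aeval_asPoly ξ z hz
  exact IsGalois.of_separable_splitting_field (asPoly_separable ξ)

include hz hgen in
theorem finrank_le : Module.finrank K L ≤ p := by
  have h1 := IntermediateField.adjoin.finrank (isIntegral_z ξ z hz)
  rw [hgen, IntermediateField.finrank_top'] at h1
  rw [h1, ← asPoly_natDegree (p := p) ξ]
  exact natDegree_le_of_dvd (minpoly.dvd K z (aeval_asPoly ξ z hz)) (asPoly_monic ξ).ne_zero

include hz in
theorem sum_roots (M : Multiset L) (hM : ∀ r ∈ M, ∃ i : ℕ, r = z + (i : L)) :
    ∃ k : K, M.sum = M.card • z + algebraMap K L k := by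
  induction M using Multiset.induction_on with
  | empty => exact ⟨0, by simp⟩
  | cons a M ih =>
    obtain ⟨k, hk⟩ := ih (fun r hr => hM r (Multiset.mem_cons_of_mem hr))
    obtain ⟨i, hi⟩ := hM a (Multiset.mem_cons_self a M)
    refine ⟨k + (i : K), ?_⟩
    rw [Multiset.sum_cons, Multiset.card_cons, hk, hi, map_add, map_natCast, succ_nsmul]
    ring

include hz hgen in
/-- the degree of an Artin–Schreier extension is `1` or `p`. -/
theorem finrank_eq_one_or : Module.finrank K L = 1 ∨ Module.finrank K L = p := by
  classical
  have hint := isIntegral_z ξ z hz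
  have h1 := IntermediateField.adjoin.finrank hint
  rw [hgen, IntermediateField.finrank_top'] at h1
  set q := minpoly K z with hq
  have hqmon : q.Monic := minpoly.monic hint
  have hqdvd : q ∣ asPoly p ξ := minpoly.dvd K z (aeval_asPoly ξ z hz)
  have hqL : (q.map (algebraMap K L)).Splits :=
    (splits_asPoly ξ z hz).of_dvd ((asPoly_monic ξ).map _).ne_zero (Polynomial.map_dvd _ hqdvd)
  have hroots : ∀ r ∈ (q.map (algebraMap K L)).roots, ∃ i : ℕ, r = z + (i : L) := by
    intro r hr
    apply root_eq ξ z hz
    have hne : (asPoly p ξ).map (algebraMap K L) ≠ 0 := ((asPoly_monic ξ).map _).ne_zero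
    rw [mem_roots hne]
    rw [mem_roots (hqmon.map _).ne_zero] at hr
    exact hr.dvd (Polynomial.map_dvd _ hqdvd)
  obtain ⟨k, hk⟩ := sum_roots ξ z hz _ hroots
  have hcard : (q.map (algebraMap K L)).roots.card = q.natDegree := by
    rw [← hqL.natDegree_eq_card_roots, hqmon.natDegree_map]
  have hnext := hqL.nextCoeff_eq_neg_sum_roots_of_monic (hqmon.map _)
  rw [nextCoeff_map (algebraMap K L).injective, hk, hcard] at hnext
  by_cases hd : q.natDegree < p
  · left
    -- `d • z ∈ K` with `d` invertible
    have hd0 : 0 < q.natDegree := minpoly.natDegree_pos hint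
    have hdK : ((q.natDegree : ℕ) : K) ≠ 0 := by
      rw [Ne, CharP.cast_eq_zero_iff K p]
      exact Nat.not_dvd_of_pos_of_lt hd0 hd
    have hzK : z = algebraMap K L ((q.natDegree : K)⁻¹ * (-q.nextCoeff - k)) := by
      rw [map_mul, map_inv₀, map_sub, map_neg, map_natCast, hnext]
      have hdL : ((q.natDegree : ℕ) : L) ≠ 0 := by
        have := (_root_.map_ne_zero (algebraMap K L)).2 hdK
        rwa [map_natCast] at this
      field_simp
      rw [nsmul_eq_mul]
      ring
    have hbot : IntermediateField.adjoin K {z} = ⊥ := by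
      rw [IntermediateField.adjoin_simple_eq_bot_iff, IntermediateField.mem_bot]
      exact ⟨_, hzK.symm⟩
    rw [← IntermediateField.finrank_top' (F := K) (E := L), ← hgen, hbot,
      IntermediateField.finrank_bot]
  · right
    have := finrank_le ξ z hz hgen
    omega

end Field

section Dvr

variable {p : ℕ} [hp : Fact p.Prime] {A K L : Type u} [CommRing A] [IsDomain A]
  [IsDiscreteValuationRing A] [Field K] [Algebra A K] [IsFractionRing A K] [Field L] [Algebra K L]
  [Algebra A L] [IsScalarTower A K L] [CharP K p]

theorem charP_residueField (p : ℕ) [hp : Fact p.Prime] (A K : Type u) [CommRing A] [IsDomain A]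
    [IsDiscreteValuationRing A] [Field K] [Algebra A K] [IsFractionRing A K] [CharP K p] :
    CharP (κ A) p := by
  haveI : CharP A p := RingHom.charP (algebraMap A K) (IsFractionRing.injective A K) p
  refine (CharP.charP_iff_prime_eq_zero hp.out).2 ?_
  rw [← map_natCast (IsLocalRing.residue A), CharP.cast_eq_zero A p, map_zero]

variable {π : A} (hπ : Irreducible π)
  (ξ : K) (z : L) (hz : z ^ p - z = algebraMap K L ξ)
  (hgen : IntermediateField.adjoin K {z} = ⊤)

include hz hgen in
/-- Case (A): `ξ ∈ A`. -/
theorem caseA (hξ : ∃ a : A, algebraMap A K a = ξ) :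
    Module.finrank K L = 1 ∨
      (EtRam.IsUnramifiedExt A (algebraMap A L) ∧ Module.finrank K L = p) := by
  haveI : CharP L p := charP_of_injective_algebraMap (algebraMap K L).injective p
  haveI : CharP (κ A) p := charP_residueField p A K
  haveI : FiniteDimensional K L := finiteDimensional ξ z hz hgen
  rcases finrank_eq_one_or ξ z hz hgen with h1 | h1
  · exact Or.inl h1
  · right
    refine ⟨?_, h1⟩
    obtain ⟨a, ha⟩ := hξ
    have hG : (X ^ p - X - C a : A[X]).Monic := by
      rw [sub_sub]
      apply monic_X_pow_sub
      rw [degree_X_add_C]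
      exact_mod_cast hp.out.one_lt
    have hy : (X ^ p - X - C a : A[X]).eval₂ (algebraMap A L) z = 0 := by
      rw [eval₂_sub, eval₂_sub, eval₂_pow, eval₂_X, eval₂_C, hz, ← ha,
        ← IsScalarTower.algebraMap_apply, sub_self]
    have hsep : ((X ^ p - X - C a : A[X]).map (IsLocalRing.residue A)).Separable := by
      have : (X ^ p - X - C a : A[X]).map (IsLocalRing.residue A) =
          asPoly p (IsLocalRing.residue A a) := by
        unfold asPoly
        rw [Polynomial.map_sub, Polynomial.map_sub, Polynomial.map_pow, Polynomial.map_X,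
          Polynomial.map_C]
      rw [this]
      exact asPoly_separable _
    exact unramified_of_separable _ z hy hG hgen hsep

include hπ hz in
/-- the valuation of `z` when `ξ` has a pole of order `n`. -/
theorem val_z (V : ValuationSubring L) (hV : EtRam.Dominates A (algebraMap A L) V)
    (n : ℕ) (hn : 0 < n) (a : A) (ha : IsUnit a)
    (hξ : ξ * algebraMap A K π ^ n = algebraMap A K a) :
    V.valuation z ^ p * V.valuation (algebraMap A L π) ^ n = 1 := by
  have hγ1 := gamma_lt_one V hV hπ
  have h1 : V.valuation (algebraMap K L ξ) * V.valuation (algebraMap A L π) ^ n = 1 := by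
    have h2 := congrArg (algebraMap K L) hξ
    rw [map_mul, map_pow, ← IsScalarTower.algebraMap_apply, ← IsScalarTower.algebraMap_apply] at h2
    have h3 := congrArg V.valuation h2
    rw [map_mul, map_pow, valuation_unit V hV a ha] at h3
    exact h3
  have hγn : V.valuation (algebraMap A L π) ^ n < 1 := pow_lt_one₀ zero_le' hγ1 hn.ne'
  have hξ1 : 1 < V.valuation (algebraMap K L ξ) := by
    by_contra hle
    have hle' : V.valuation (algebraMap K L ξ) ≤ 1 := not_lt.1 hle
    have : V.valuation (algebraMap K L ξ) * V.valuation (algebraMap A L π) ^ n < 1 := by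
      calc V.valuation (algebraMap K L ξ) * V.valuation (algebraMap A L π) ^ n
          ≤ 1 * V.valuation (algebraMap A L π) ^ n := mul_le_mul_left hle' _
        _ = V.valuation (algebraMap A L π) ^ n := one_mul _
        _ < 1 := hγn
    rw [h1] at this
    exact lt_irrefl _ this
  have hz1 : 1 < V.valuation z := by
    by_contra hle
    have hle' : V.valuation z ≤ 1 := not_lt.1 hle
    have h4 : V.valuation (z ^ p - z) ≤ 1 := by
      refine le_trans (Valuation.map_sub _ _ _) (max_le ?_ hle')
      rw [map_pow]
      exact pow_le_one₀ zero_le' hle'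
    rw [hz] at h4
    exact (not_lt.2 h4) hξ1
  have h5 : V.valuation z < V.valuation (z ^ p) := by
    rw [map_pow]
    exact lt_self_pow₀ hz1 hp.out.one_lt
  have h6 : V.valuation (z ^ p - z) = V.valuation (z ^ p) := Valuation.map_sub_eq_of_lt_left _ h5
  rw [hz, map_pow] at h6
  rw [← h6]
  exact h1

include hπ hz hgen in
/-- Case (B): pole order prime to `p`. -/
theorem caseB (n : ℕ) (hn : 0 < n) (hpn : ¬ p ∣ n) (a : A) (ha : IsUnit a)
    (hξ : ξ * algebraMap A K π ^ n = algebraMap A K a) :
    EtRam.IsTotallyRamified A (algebraMap A L) ∧ Module.finrank K L = p := by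
  haveI : CharP L p := charP_of_injective_algebraMap (algebraMap K L).injective p
  haveI : FiniteDimensional K L := finiteDimensional ξ z hz hgen
  obtain ⟨s, t, hst⟩ := Groth.Agent.Lib.Helper9.DvrTameBC.exists_bezout_nat p n
    ((Nat.Prime.coprime_iff_not_dvd hp.out).2 hpn) hp.out.pos hn
  have ht : ∀ V : ValuationSubring L, EtRam.Dominates A (algebraMap A L) V →
      V.valuation (z ^ t * algebraMap A L π ^ s) ^ p = V.valuation (algebraMap A L π) := by
    intro V hV
    have h1 := val_z hπ ξ z hz V hV n hn a ha hξ
    calc V.valuation (z ^ t * algebraMap A L π ^ s) ^ p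
        = (V.valuation z ^ p * V.valuation (algebraMap A L π) ^ n) ^ t *
            V.valuation (algebraMap A L π) := by
          rw [map_mul, map_pow, map_pow, mul_pow, ← pow_mul, ← pow_mul, hst, pow_succ, mul_pow,
            ← pow_mul, ← pow_mul, mul_comm t p, mul_comm t n, mul_assoc]
      _ = V.valuation (algebraMap A L π) := by rw [h1, one_pow, one_mul]
  have hle := le_finrank (K := K) hπ hp.out.pos _ ht
  have hrank : Module.finrank K L = p := le_antisymm (finrank_le ξ z hz hgen) hle
  exact ⟨isTotallyRamified hπ hp.out.pos hrank _ ht, hrank⟩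

include hπ hz hgen in
/-- Case (C): pole order divisible by `p`, leading coefficient not a `p`-th power. -/
theorem caseC (n : ℕ) (hn : 0 < n) (hpn : p ∣ n) (a : A)
    (hra : ∀ r : A, IsLocalRing.residue A a ≠ IsLocalRing.residue A r ^ p)
    (hξ : ξ * algebraMap A K π ^ n = algebraMap A K a) :
    (∃ V : ValuationSubring L, EtRam.Dominates A (algebraMap A L) V) ∧
      (∀ V V' : ValuationSubring L, EtRam.Dominates A (algebraMap A L) V →
        EtRam.Dominates A (algebraMap A L) V' → V = V') ∧
      ∀ (V : ValuationSubring L) (h : EtRam.Dominates A (algebraMap A L) V),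
        letI : Algebra A V := (RingHom.codRestrict (algebraMap A L) V h.1).toAlgebra
        ∀ [IsLocalHom (algebraMap A V)],
          EtRam.IsWeaklyUnramified A V ∧
            IsPurelyInseparable (κ A) (κ V) ∧ Module.finrank (κ A) (κ V) = p := by
  classical
  haveI : CharP (κ A) p := charP_residueField p A K
  haveI : ExpChar (κ A) p := ExpChar.prime hp.out
  haveI : CharP L p := charP_of_injective_algebraMap (algebraMap K L).injective p
  haveI : FiniteDimensional K L := finiteDimensional ξ z hz hgen
  obtain ⟨m, rfl⟩ := hpn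
  have hm : 0 < m := Nat.pos_of_ne_zero (by rintro rfl; simp at hn)
  have hp1 : 0 < p - 1 := Nat.sub_pos_of_lt hp.out.one_lt
  set G : A[X] := X ^ p - (C (π ^ (m * (p - 1))) * X + C a) with hGdef
  have hGdeg' : (C (π ^ (m * (p - 1))) * X + C a : A[X]).degree < ((p : ℕ) : WithBot ℕ) := by
    have h1 : (C (π ^ (m * (p - 1))) * X + C a : A[X]).degree ≤ 1 :=
      le_trans (degree_add_le _ _)
        (max_le (degree_C_mul_X_le _) (le_trans degree_C_le zero_le_one))
    exact lt_of_le_of_lt h1 (by exact_mod_cast hp.out.one_lt)
  have hG : G.Monic := monic_X_pow_sub hGdeg'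
  have hGdeg : G.natDegree = p := by
    have h1 : (C (π ^ (m * (p - 1))) * X + C a : A[X]).natDegree < p := by
      by_cases h0 : (C (π ^ (m * (p - 1))) * X + C a : A[X]) = 0
      · rw [h0, natDegree_zero]; exact hp.out.pos
      · exact (natDegree_lt_iff_degree_lt h0).2 hGdeg'
    rw [hGdef, natDegree_sub_eq_left_of_natDegree_lt, natDegree_X_pow]
    rwa [natDegree_X_pow]
  -- the element `y = π^m z`
  have hξL : algebraMap K L ξ * algebraMap A L π ^ (p * m) = algebraMap A L a := by
    have h2 := congrArg (algebraMap K L) hξ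
    rwa [map_mul, map_pow, ← IsScalarTower.algebraMap_apply,
      ← IsScalarTower.algebraMap_apply] at h2
  have hy : G.eval₂ (algebraMap A L) (algebraMap A L π ^ m * z) = 0 := by
    rw [hGdef, eval₂_sub, eval₂_pow, eval₂_X, eval₂_add, eval₂_mul, eval₂_C, eval₂_X, eval₂_C,
      map_pow, ← hξL, ← hz]
    have e1 : m * (p - 1) + m = p * m := by
      rw [mul_comm p m]
      conv_rhs => rw [← Nat.sub_add_cancel hp.out.pos]
      ring
    have e2 : algebraMap A L π ^ (m * (p - 1)) * (algebraMap A L π ^ m * z) =
        algebraMap A L π ^ (p * m) * z := by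
      rw [← mul_assoc, ← pow_add, e1]
    rw [e2, mul_pow, ← pow_mul, mul_comm m p]
    ring
  have hπL : algebraMap A L π ≠ 0 := by
    rw [IsScalarTower.algebraMap_apply A K L, Ne, map_eq_zero,
      map_eq_zero_iff _ (IsFractionRing.injective A K)]
    exact hπ.ne_zero
  have hgen' : IntermediateField.adjoin K {algebraMap A L π ^ m * z} = ⊤ := by
    rw [eq_top_iff, ← hgen, IntermediateField.adjoin_simple_le_iff]
    have h1 : z = (algebraMap K L (algebraMap A K π ^ m))⁻¹ * (algebraMap A L π ^ m * z) := by
      rw [map_pow, ← IsScalarTower.algebraMap_apply, ← mul_assoc,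
        inv_mul_cancel₀ (pow_ne_zero _ hπL), one_mul]
    have h2 : (algebraMap K L (algebraMap A K π ^ m))⁻¹ * (algebraMap A L π ^ m * z) ∈
        IntermediateField.adjoin K {algebraMap A L π ^ m * z} :=
      mul_mem (inv_mem (IntermediateField.algebraMap_mem _ _))
        (IntermediateField.mem_adjoin_simple_self K _)
    rwa [← h1] at h2
  -- the reduction
  have hπres : IsLocalRing.residue A (π ^ (m * (p - 1))) = 0 := by
    rw [IsLocalRing.residue_eq_zero_iff]
    exact Ideal.pow_mem_of_mem _ ((IsLocalRing.mem_maximalIdeal π).2 hπ.not_isUnit) _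
      (Nat.mul_pos hm hp1)
  have hGred : G.map (IsLocalRing.residue A) = X ^ p - C (IsLocalRing.residue A a) := by
    rw [hGdef, Polynomial.map_sub, Polynomial.map_pow, Polynomial.map_X, Polynomial.map_add,
      Polynomial.map_mul, Polynomial.map_C, Polynomial.map_X, Polynomial.map_C, hπres, map_zero,
      zero_mul, zero_add]
  have hirr : Irreducible (G.map (IsLocalRing.residue A)) := by
    rw [hGred]
    apply X_pow_sub_C_irreducible_of_prime hp.out
    intro b hb
    obtain ⟨r, rfl⟩ := IsLocalRing.residue_surjective b
    exact hra r hb.symm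
  have hpow : ∀ r : AdjoinRoot (G.map (IsLocalRing.residue A)), ∃ c : κ A,
      r ^ p = AdjoinRoot.of _ c := by
    haveI : Fact (Irreducible (G.map (IsLocalRing.residue A))) := ⟨hirr⟩
    have hdeg0 : (G.map (IsLocalRing.residue A)).degree ≠ 0 := by
      rw [hGred, degree_X_pow_sub_C hp.out.pos]
      exact_mod_cast hp.out.ne_zero
    haveI : CharP (AdjoinRoot (G.map (IsLocalRing.residue A))) p :=
      charP_of_injective_ringHom (f := AdjoinRoot.of (G.map (IsLocalRing.residue A)))
        (AdjoinRoot.of.injective_of_degree_ne_zero hdeg0) p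
    have hroot : AdjoinRoot.root (G.map (IsLocalRing.residue A)) ^ p =
        AdjoinRoot.of _ (IsLocalRing.residue A a) := by
      have h1 := AdjoinRoot.mk_self (f := G.map (IsLocalRing.residue A))
      have h2 := congrArg (AdjoinRoot.mk (G.map (IsLocalRing.residue A))) hGred
      rw [h1, map_sub, map_pow, AdjoinRoot.mk_X, AdjoinRoot.mk_C] at h2
      exact (sub_eq_zero.1 h2.symm)
    intro r
    obtain ⟨q, rfl⟩ := AdjoinRoot.mk_surjective r
    induction q using Polynomial.induction_on' with
    | add q₁ q₂ h₁ h₂ =>
      obtain ⟨c₁, hc₁⟩ := h₁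
      obtain ⟨c₂, hc₂⟩ := h₂
      exact ⟨c₁ + c₂, by rw [map_add, add_pow_char, hc₁, hc₂, map_add]⟩
    | monomial k c =>
      refine ⟨c ^ p * IsLocalRing.residue A a ^ k, ?_⟩
      rw [← C_mul_X_pow_eq_monomial, map_mul, map_pow, AdjoinRoot.mk_C, AdjoinRoot.mk_X, mul_pow,
        ← pow_mul, mul_comm k p, pow_mul, hroot, map_mul, map_pow, map_pow]
  exact wild_of_irreducible G _ hy p hG hGdeg hgen' hirr hpow

include hπ in
/-- every element of `K` has a pole of finite order. -/
theorem exists_pole (ξ : K) : ∃ (n : ℕ) (a : A), ξ * algebraMap A K π ^ n = algebraMap A K a := by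
  obtain ⟨x, y, hy, rfl⟩ := IsFractionRing.div_surjective (A := A) ξ
  obtain ⟨n, u, hu⟩ := IsDiscreteValuationRing.eq_unit_mul_pow_irreducible
    (nonZeroDivisors.ne_zero hy) hπ
  have hyK : algebraMap A K y ≠ 0 := by
    rw [Ne, map_eq_zero_iff _ (IsFractionRing.injective A K)]
    exact nonZeroDivisors.ne_zero hy
  refine ⟨n, x * ((u⁻¹ : Aˣ) : A), ?_⟩
  rw [div_mul_eq_mul_div, div_eq_iff hyK, map_mul, mul_assoc, ← map_mul, ← map_pow, ← map_mul,
    ← map_mul]
  congr 1
  rw [hu, ← mul_assoc, ← mul_assoc, mul_assoc x, Units.inv_mul, mul_one]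

include hπ in
/-- the four cases, by induction on the pole order. -/
theorem four_cases_aux (n : ℕ) : ∀ (ξ : K) (z : L), z ^ p - z = algebraMap K L ξ →
    IntermediateField.adjoin K {z} = ⊤ →
    (∃ a : A, ξ * algebraMap A K π ^ n = algebraMap A K a) →
    Module.finrank K L = 1 ∨
      (EtRam.IsUnramifiedExt A (algebraMap A L) ∧ Module.finrank K L = p) ∨
      (EtRam.IsTotallyRamified A (algebraMap A L) ∧ Module.finrank K L = p) ∨
      ((∃ V : ValuationSubring L, EtRam.Dominates A (algebraMap A L) V) ∧
      (∀ V V' : ValuationSubring L, EtRam.Dominates A (algebraMap A L) V →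
        EtRam.Dominates A (algebraMap A L) V' → V = V') ∧
      ∀ (V : ValuationSubring L) (h : EtRam.Dominates A (algebraMap A L) V),
        letI : Algebra A V := (RingHom.codRestrict (algebraMap A L) V h.1).toAlgebra
        ∀ [IsLocalHom (algebraMap A V)],
          EtRam.IsWeaklyUnramified A V ∧
            IsPurelyInseparable (κ A) (κ V) ∧ Module.finrank (κ A) (κ V) = p) := by
  haveI : CharP L p := charP_of_injective_algebraMap (algebraMap K L).injective p
  have hπK : algebraMap A K π ≠ 0 := by
    rw [Ne, map_eq_zero_iff _ (IsFractionRing.injective A K)]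
    exact hπ.ne_zero
  induction n with
  | zero =>
    rintro ξ z hz hgen ⟨a, ha⟩
    rw [pow_zero, mul_one] at ha
    rcases caseA ξ z hz hgen ⟨a, ha.symm⟩ with h | h
    · exact Or.inl h
    · exact Or.inr (Or.inl h)
  | succ n ih =>
    rintro ξ z hz hgen ⟨a, ha⟩
    by_cases ham : a ∈ 𝔪 A
    · rw [hπ.maximalIdeal_eq, Ideal.mem_span_singleton'] at ham
      obtain ⟨a', rfl⟩ := ham
      apply ih ξ z hz hgen ⟨a', ?_⟩
      rw [pow_succ, ← mul_assoc, map_mul] at ha
      exact mul_right_cancel₀ hπK ha
    · have hau : IsUnit a := by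
        by_contra h
        exact ham ((IsLocalRing.mem_maximalIdeal a).2 h)
      by_cases hpn : p ∣ n + 1
      · by_cases hra : ∀ r : A, IsLocalRing.residue A a ≠ IsLocalRing.residue A r ^ p
        · exact Or.inr (Or.inr (Or.inr (caseC hπ ξ z hz hgen (n + 1) n.succ_pos hpn a hra ha)))
        · push_neg at hra
          obtain ⟨r, hr⟩ := hra
          obtain ⟨m, hm⟩ := hpn
          have hm0 : 0 < m := by
            rcases Nat.eq_zero_or_pos m with h | h
            · rw [h, mul_zero] at hm
              omega
            · exact h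
          have hmem : a - r ^ p ∈ 𝔪 A := by
            rw [← IsLocalRing.residue_eq_zero_iff, map_sub, map_pow, hr, sub_self]
          rw [hπ.maximalIdeal_eq, Ideal.mem_span_singleton'] at hmem
          obtain ⟨a', ha'⟩ := hmem
          have hz' : (z - algebraMap K L (algebraMap A K r / algebraMap A K π ^ m)) ^ p -
              (z - algebraMap K L (algebraMap A K r / algebraMap A K π ^ m)) =
              algebraMap K L (ξ - (algebraMap A K r / algebraMap A K π ^ m) ^ p +
                algebraMap A K r / algebraMap A K π ^ m) := by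
            rw [sub_pow_char, map_add, map_sub, map_pow, ← hz]
            ring
          have hgen' : IntermediateField.adjoin K
              {z - algebraMap K L (algebraMap A K r / algebraMap A K π ^ m)} = ⊤ := by
            rw [eq_top_iff, ← hgen, IntermediateField.adjoin_simple_le_iff]
            have h1 := IntermediateField.mem_adjoin_simple_self K
              (z - algebraMap K L (algebraMap A K r / algebraMap A K π ^ m))
            have h2 := IntermediateField.algebraMap_mem (IntermediateField.adjoin K
              {z - algebraMap K L (algebraMap A K r / algebraMap A K π ^ m)})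
              (algebraMap A K r / algebraMap A K π ^ m)
            have h3 := add_mem h1 h2
            rwa [sub_add_cancel] at h3
          apply ih _ _ hz' hgen'
          have hp1 : 0 < p - 1 := Nat.sub_pos_of_lt hp.out.one_lt
          have hmp : 1 ≤ m * (p - 1) := Nat.mul_pos hm0 hp1
          refine ⟨a' + r * π ^ (m * (p - 1) - 1), ?_⟩
          apply mul_right_cancel₀ hπK
          have e1 : (ξ - (algebraMap A K r / algebraMap A K π ^ m) ^ p +
                algebraMap A K r / algebraMap A K π ^ m) * algebraMap A K π ^ n * algebraMap A K π =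
              ξ * algebraMap A K π ^ (n + 1) -
                (algebraMap A K r / algebraMap A K π ^ m) ^ p * algebraMap A K π ^ (n + 1) +
                algebraMap A K r / algebraMap A K π ^ m * algebraMap A K π ^ (n + 1) := by
            ring
          have e2 : (algebraMap A K r / algebraMap A K π ^ m) ^ p * algebraMap A K π ^ (p * m) =
              algebraMap A K r ^ p := by
            rw [div_pow, ← pow_mul, mul_comm m p, div_mul_cancel₀]
            exact pow_ne_zero _ hπK
          have e3 : algebraMap A K r / algebraMap A K π ^ m * algebraMap A K π ^ (p * m) =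
              algebraMap A K r * algebraMap A K π ^ (m * (p - 1)) := by
            have h4 : p * m = m + m * (p - 1) := by
              conv_lhs => rw [← Nat.sub_add_cancel hp.out.pos]
              ring
            rw [h4, pow_add, ← mul_assoc, div_mul_cancel₀]
            exact pow_ne_zero _ hπK
          have e4 : algebraMap A K π ^ (m * (p - 1)) =
              algebraMap A K π ^ (m * (p - 1) - 1) * algebraMap A K π := by
            rw [← pow_succ, Nat.sub_add_cancel hmp]
          have e5 : algebraMap A K a = algebraMap A K a' * algebraMap A K π +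
              algebraMap A K r ^ p := by
            rw [← map_mul, ← map_pow, ← map_add, ha']
            congr 1
            ring
          rw [e1, ha, hm, e2, e3, e4, e5, map_add, map_mul, map_pow]
          ring
      · exact Or.inr (Or.inr (Or.inl (caseB hπ ξ z hz hgen (n + 1) n.succ_pos hpn a hau ha)))

include hπ in
/-- the four cases. -/
theorem four_cases (ξ : K) (z : L) (hz : z ^ p - z = algebraMap K L ξ)
    (hgen : IntermediateField.adjoin K {z} = ⊤) :
    Module.finrank K L = 1 ∨
      (EtRam.IsUnramifiedExt A (algebraMap A L) ∧ Module.finrank K L = p) ∨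
      (EtRam.IsTotallyRamified A (algebraMap A L) ∧ Module.finrank K L = p) ∨
      ((∃ V : ValuationSubring L, EtRam.Dominates A (algebraMap A L) V) ∧
      (∀ V V' : ValuationSubring L, EtRam.Dominates A (algebraMap A L) V →
        EtRam.Dominates A (algebraMap A L) V' → V = V') ∧
      ∀ (V : ValuationSubring L) (h : EtRam.Dominates A (algebraMap A L) V),
        letI : Algebra A V := (RingHom.codRestrict (algebraMap A L) V h.1).toAlgebra
        ∀ [IsLocalHom (algebraMap A V)],
          EtRam.IsWeaklyUnramified A V ∧
            IsPurelyInseparable (κ A) (κ V) ∧ Module.finrank (κ A) (κ V) = p) := by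
  obtain ⟨n, a, ha⟩ := exists_pole hπ ξ
  exact four_cases_aux hπ n ξ z hz hgen ⟨a, ha⟩

end Dvr

end Groth.Agent.Lib.Helper9.DvrArtinSchreier
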