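import Mathlib
import Groth.Agent.Lib.Helper50.DvrSpec

/-!
# A DVR through the point `Δ₁/Δ₂ = 1` of the blow-up chart
-/

universe u

set_option linter.unusedSectionVars false
set_option linter.style.haveILetI false

namespace Groth.Agent.Lib.Helper9.DvrBlowupChart

open Polynomial IsLocalRing

/-- Gauss-type lemma: polynomials vanishing at `Δ₁/Δ₂` (coprime) lie in `(Δ₂ X - Δ₁)`. -/
theorem mem_span_of_aeval_eq_zero {R K : Type*} [CommRing R] [IsDomain R]
    [UniqueFactorizationMonoid R] [Field K] [Algebra R K] [IsFractionRing R K]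
    (Δ₁ Δ₂ : R) (h0 : Δ₂ ≠ 0) (hcop : IsRelPrime Δ₁ Δ₂) :
    ∀ (n : ℕ) (G : R[X]), G.natDegree ≤ n →
      aeval (algebraMap R K Δ₁ / algebraMap R K Δ₂) G = 0 →
      G ∈ Ideal.span {C Δ₂ * X - C Δ₁} := by
  have hinj := IsFractionRing.injective R K
  have h0K : algebraMap R K Δ₂ ≠ 0 := fun h => h0 (hinj (by rw [h, map_zero]))
  intro n
  induction n with
  | zero =>
    intro G hG hval
    rw [Nat.le_zero] at hG
    rw [eq_C_of_natDegree_eq_zero hG, aeval_C] at hval
    have : G.coeff 0 = 0 := hinj (by rw [hval, map_zero])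
    rw [eq_C_of_natDegree_eq_zero hG, this, C_0]
    exact zero_mem _
  | succ n ih =>
    intro G hG hval
    by_cases hG0 : G = 0
    · rw [hG0]; exact zero_mem _
    by_cases hle : G.natDegree ≤ n
    · exact ih G hle hval
    have hdeg : G.natDegree = n + 1 := le_antisymm hG (Nat.lt_of_not_le hle)
    -- `Δ₂ ∣ leadingCoeff G`
    have hpow : ∀ k : ℕ, IsRelPrime Δ₂ (Δ₁ ^ k) := by
      intro k
      induction k with
      | zero => rw [pow_zero]; exact isRelPrime_one_right
      | succ k ihk => rw [pow_succ]; exact ihk.mul_right hcop.symm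
    have hroot : (scaleRoots G Δ₂).IsRoot Δ₁ := by
      have h1 := scaleRoots_aeval_eq_zero_of_aeval_div_eq_zero hinj hval
        (mem_nonZeroDivisors_of_ne_zero h0)
      rw [aeval_algebraMap_apply, ← map_zero (algebraMap R K)] at h1
      exact hinj h1
    have hdvd : Δ₂ ∣ G.leadingCoeff * Δ₁ ^ G.natDegree := by
      rw [← coeff_scaleRoots_natDegree G Δ₂]
      refine dvd_term_of_isRoot_of_dvd_terms _ hroot fun j hj => ?_
      rw [coeff_scaleRoots]
      rcases lt_or_gt_of_ne hj with hlt | hgt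
      · refine Dvd.dvd.mul_right (Dvd.dvd.mul_left ?_ _) _
        exact dvd_pow_self _ (by omega)
      · rw [coeff_eq_zero_of_natDegree_lt hgt, zero_mul, zero_mul]
        exact dvd_zero _
    obtain ⟨h, hh⟩ := (hpow _).dvd_of_dvd_mul_right hdvd
    have hh0 : h ≠ 0 := by
      rintro rfl
      rw [mul_zero] at hh
      exact hG0 (leadingCoeff_eq_zero.1 hh)
    set Q : R[X] := C h * X ^ n * (C Δ₂ * X - C Δ₁) with hQ
    have hQmem : Q ∈ Ideal.span {C Δ₂ * X - C Δ₁} :=
      Ideal.mul_mem_left _ _ (Ideal.subset_span rfl)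
    have hlin : (C Δ₂ * X - C Δ₁ : R[X]).degree = 1 := by
      rw [degree_sub_C (by rw [degree_C_mul_X h0]; exact zero_lt_one), degree_C_mul_X h0]
    have hlinlc : (C Δ₂ * X - C Δ₁ : R[X]).leadingCoeff = Δ₂ := by
      rw [sub_eq_add_neg, ← C_neg, leadingCoeff_linear h0] <;> exact h0
    have hQdeg : Q.degree = ((n + 1 : ℕ) : WithBot ℕ) := by
      rw [hQ, degree_mul, degree_mul, degree_C hh0, degree_X_pow, hlin, zero_add]
      norm_cast
    have hQlc : Q.leadingCoeff = G.leadingCoeff := by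
      rw [hQ, leadingCoeff_mul, leadingCoeff_mul, leadingCoeff_C, leadingCoeff_X_pow, mul_one,
        hlinlc, hh, mul_comm]
    have hGdeg : G.degree = ((n + 1 : ℕ) : WithBot ℕ) := by
      rw [degree_eq_natDegree hG0, hdeg]
    have hlt : (G - Q).degree < G.degree := degree_sub_lt (hGdeg.trans hQdeg.symm) hG0 hQlc.symm
    have hle' : (G - Q).natDegree ≤ n := by
      by_cases hz : G - Q = 0
      · rw [hz, natDegree_zero]; exact Nat.zero_le _
      rw [hGdeg, degree_eq_natDegree hz] at hlt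
      have : (G - Q).natDegree < n + 1 := by exact_mod_cast hlt
      omega
    have hQval : aeval (algebraMap R K Δ₁ / algebraMap R K Δ₂) Q = 0 := by
      have : aeval (algebraMap R K Δ₁ / algebraMap R K Δ₂) (C Δ₂ * X - C Δ₁ : R[X]) = 0 := by
        simp only [map_sub, map_mul, aeval_C, aeval_X]
        rw [mul_div_cancel₀ _ h0K, sub_self]
      rw [hQ, map_mul, this, mul_zero]
    have := ih (G - Q) hle' (by rw [map_sub, hval, hQval, sub_zero])
    have h2 := Ideal.add_mem _ this hQmem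
    rwa [sub_add_cancel] at h2

theorem exists_dvr (R : Type u) [CommRing R] [IsDomain R] [IsNoetherianRing R]
    [UniqueFactorizationMonoid R] [IsLocalRing R]
    (Δ₁ Δ₂ : R) (h₁ : ¬ IsUnit Δ₁) (h₂ : ¬ IsUnit Δ₂) (hcop : IsRelPrime Δ₁ Δ₂) :
    ∃ (A : Type u) (_ : CommRing A) (_ : IsDomain A) (_ : IsDiscreteValuationRing A) (f : R →+* A),
      IsLocalHom f ∧ Function.Injective f ∧ ¬ IsUnit (f Δ₁) ∧
        ∃ u : Aˣ, (u : A) - 1 ∈ IsLocalRing.maximalIdeal A ∧ f Δ₁ = (u : A) * f Δ₂ := by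
  classical
  have h0 : Δ₂ ≠ 0 := by
    rintro rfl
    exact h₁ (isRelPrime_zero_right.1 hcop)
  let K := FractionRing R
  have hinj : Function.Injective (algebraMap R K) := IsFractionRing.injective R K
  have h0K : algebraMap R K Δ₂ ≠ 0 := fun h => h0 (hinj (by rw [h, map_zero]))
  set t : K := algebraMap R K Δ₁ / algebraMap R K Δ₂ with ht
  have htΔ : t * algebraMap R K Δ₂ = algebraMap R K Δ₁ := div_mul_cancel₀ _ h0K
  -- the point `(𝔪, X - 1)` of `R[X]`
  let ev : R[X] →+* ResidueField R := eval₂RingHom (residue R) 1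
  have hevC : ∀ r : R, ev (C r) = residue R r := fun r => eval₂_C _ _
  have hevX : ev X = 1 := eval₂_X _ _
  set q : Ideal R[X] := RingHom.ker ev with hq
  haveI : q.IsPrime := RingHom.ker_isPrime ev
  have hres₁ : residue R Δ₁ = 0 := (residue_eq_zero_iff _).2 h₁
  have hres₂ : residue R Δ₂ = 0 := (residue_eq_zero_iff _).2 h₂
  have hlin : (C Δ₂ * X - C Δ₁ : R[X]) ∈ q := by
    rw [hq, RingHom.mem_ker, map_sub, map_mul, hevC, hevC, hres₁, hres₂, zero_mul, sub_zero]
  let φ₀ : R[X] →+* K := (aeval t : R[X] →ₐ[R] K).toRingHom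
  have hφ₀C : ∀ r : R, φ₀ (C r) = algebraMap R K r := fun r => aeval_C _ _
  have hφ₀X : φ₀ X = t := aeval_X _
  have hker₀ : ∀ G : R[X], φ₀ G = 0 → G ∈ q := by
    intro G hG
    have := mem_span_of_aeval_eq_zero (K := K) Δ₁ Δ₂ h0 hcop G.natDegree G le_rfl hG
    exact (Ideal.span_le.2 (Set.singleton_subset_iff.2 hlin)) this
  let B := Localization.AtPrime q
  haveI : IsNoetherianRing B := IsLocalization.isNoetherianRing q.primeCompl B inferInstance
  have hunit : ∀ y : q.primeCompl, IsUnit (φ₀ y) := fun y =>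
    isUnit_iff_ne_zero.2 fun h => y.2 (hker₀ _ h)
  let φ : B →+* K := IsLocalization.lift (M := q.primeCompl) hunit
  have hφ : ∀ G : R[X], φ (algebraMap R[X] B G) = φ₀ G := fun G => IsLocalization.lift_eq hunit G
  have hker : RingHom.ker φ ≠ maximalIdeal B := by
    intro h
    have hmem : algebraMap R[X] B (C Δ₂) ∈ maximalIdeal B := by
      rw [IsLocalization.AtPrime.to_map_mem_maximal_iff B q]
      rw [hq, RingHom.mem_ker, hevC, hres₂]
    rw [← h, RingHom.mem_ker, hφ, hφ₀C] at hmem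
    exact h0K hmem
  have hfg : ∃ F : Finset K, Subfield.closure (Set.range φ ∪ ↑F) = ⊤ := by
    refine ⟨∅, ?_⟩
    rw [eq_top_iff]
    intro x _
    obtain ⟨a, b, -, rfl⟩ := IsFractionRing.div_surjective (A := R) x
    have hmem : ∀ r : R, algebraMap R K r ∈ Subfield.closure (Set.range φ ∪ ↑(∅ : Finset K)) :=
      fun r => Subfield.subset_closure (Or.inl ⟨algebraMap R[X] B (C r), by rw [hφ, hφ₀C]⟩)
    exact Subfield.div_mem _ (hmem a) (hmem b)
  obtain ⟨O, hO, ψ, hψ, hcomp⟩ := Groth.Agent.Lib.Helper50.exists_dvr_factor φ hker hfg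
  have hψval : ∀ b : B, ((ψ b : O) : K) = φ b := fun b => congrArg (fun g => g b) hcomp
  let f : R →+* O := ψ.comp ((algebraMap R[X] B).comp C)
  have hfval : ∀ r : R, ((f r : O) : K) = algebraMap R K r := fun r => by
    change ((ψ (algebraMap R[X] B (C r)) : O) : K) = _
    rw [hψval, hφ, hφ₀C]
  have hnonunit : ∀ G : R[X], G ∈ q → ¬ IsUnit (ψ (algebraMap R[X] B G)) := by
    intro G hG hu
    have := (isUnit_map_iff ψ _).1 hu
    exact (IsLocalization.AtPrime.to_map_mem_maximal_iff B q G).2 hG this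
  have hlocal : IsLocalHom f := ⟨fun r hr => by
    by_contra hnu
    exact hnonunit (C r) (by rw [hq, RingHom.mem_ker, hevC]; exact (residue_eq_zero_iff _).2 hnu) hr⟩
  -- the unit
  have hXunit : IsUnit (ψ (algebraMap R[X] B X)) := by
    refine IsUnit.map ψ ?_
    refine IsLocalization.map_units B (⟨X, ?_⟩ : q.primeCompl)
    change X ∉ q
    rw [hq, RingHom.mem_ker, hevX]
    exact one_ne_zero
  refine ⟨O, inferInstance, inferInstance, hO, f, hlocal, ?_, ?_, hXunit.unit, ?_, ?_⟩
  · intro a b hab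
    apply hinj
    rw [← hfval, ← hfval, hab]
  · intro hu
    exact h₁ (hlocal.map_nonunit _ hu)
  · rw [IsUnit.unit_spec]
    have h1 : ψ (algebraMap R[X] B X) - 1 = ψ (algebraMap R[X] B (X - 1)) := by
      rw [map_sub, map_sub, map_one, map_one]
    rw [h1, mem_maximalIdeal, mem_nonunits_iff]
    refine hnonunit _ ?_
    rw [hq, RingHom.mem_ker, map_sub, hevX, map_one, sub_self]
  · rw [IsUnit.unit_spec]
    apply Subtype.val_injective
    change ((f Δ₁ : O) : K) = ((ψ (algebraMap R[X] B X) : O) : K) * ((f Δ₂ : O) : K)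
    rw [hfval, hfval, hψval, hφ, hφ₀X, htΔ]

end Groth.Agent.Lib.Helper9.DvrBlowupChart
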