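import Mathlib
import Groth.Prelude.Def_EtRam
import Groth.Agent.Lib.Helper9.DvrExt
import Groth.Agent.Lib.Helper9.DvrTower
import Groth.Agent.Lib.Helper9.DvrSmooth
import Groth.Agent.Lib.Helper9.DvrSmoothApp
import Groth.Agent.Lib.Helper9.DvrUnram

open TensorProduct

universe u

set_option linter.unusedSectionVars false
set_option linter.style.haveILetI false
set_option linter.overlappingInstances false

namespace Groth.Agent.Lib.Helper9.DvrUnramApp

open Groth.Agent.Lib.Helper9.DvrExt Groth.Agent.Lib.Helper9.DvrTower
  Groth.Agent.Lib.Helper9.DvrSmooth Groth.Agent.Lib.Helper9.DvrSmoothApp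
  Groth.Agent.Lib.Helper9.DvrUnram

local notation "𝔪" => IsLocalRing.maximalIdeal
local notation "κ" => IsLocalRing.ResidueField

/-- Base change of an unramified extension: `K₁/K` unramified w.r.t. `A`, `A → B` an extension of DVRs
with fraction fields `K ⊂ L`, `M` a field generated by `K₁` and `L`. Then `M/L` is unramified w.r.t. `B`
(local form at a valuation ring `W` of `M` dominating `B`). -/
theorem unram_local (A B K L : Type u) [CommRing A] [IsDomain A] [IsDiscreteValuationRing A]
    [CommRing B] [IsDomain B] [IsDiscreteValuationRing B] [Algebra A B] [IsLocalHom (algebraMap A B)]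
    (hinj : Function.Injective (algebraMap A B))
    [Field K] [Field L] [Algebra A K] [IsFractionRing A K] [Algebra B L] [IsFractionRing B L]
    [Algebra K L] [Algebra A L] [IsScalarTower A K L] [IsScalarTower A B L]
    (K₁ : Type u) [Field K₁] [Algebra K K₁] [FiniteDimensional K K₁]
    (h : EtRam.IsUnramifiedExt A ((algebraMap K K₁).comp (algebraMap A K)))
    (M : Type u) [Field M] [Algebra K M] [Algebra L M] [Algebra K₁ M] [IsScalarTower K L M]
    [IsScalarTower K K₁ M]
    (hgen : Algebra.adjoin L (Set.range (algebraMap K₁ M)) = ⊤)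
    (hgen₁ : Algebra.adjoin K₁ (Set.range (algebraMap L M)) = ⊤)
    (W : ValuationSubring M)
    (hW : EtRam.Dominates B ((algebraMap L M).comp (algebraMap B L)) W) :
    letI : Algebra B W :=
      (RingHom.codRestrict ((algebraMap L M).comp (algebraMap B L)) W hW.1).toAlgebra
    ∀ [IsLocalHom (algebraMap B W)],
      EtRam.IsWeaklyUnramified B W ∧ Algebra.IsSeparable (κ B) (κ W) := by
  classical
  intro hlocBW
  haveI : FiniteDimensional L M := finiteDimensional_of_adjoin_eq_top (K := K) hgen
  haveI : IsDiscreteValuationRing W :=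
    isDiscreteValuationRing_of_dominates (A := B) (K := L) (L := M) W hW
  have hcompat : ∀ a : A, algebraMap K₁ M (algebraMap K K₁ (algebraMap A K a)) =
      algebraMap L M (algebraMap B L (algebraMap A B a)) := by
    intro a
    rw [← IsScalarTower.algebraMap_apply K K₁ M, IsScalarTower.algebraMap_apply K L M,
      ← IsScalarTower.algebraMap_apply A K L, IsScalarTower.algebraMap_apply A B L]
  have hV : EtRam.Dominates A ((algebraMap K K₁).comp (algebraMap A K))
      (W.comap (algebraMap K₁ M)) := by
    rw [dominates_comap_iff]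
    have h1 := dominates_comp (A := A) _ W hW
    refine ⟨fun a => ?_, fun a ha => ?_⟩
    · have := h1.1 a
      simp only [RingHom.comp_apply] at this ⊢
      rw [hcompat]
      exact this
    · have := h1.2 a ha
      simp only [RingHom.comp_apply] at this ⊢
      rw [hcompat]
      exact this
  haveI : IsDiscreteValuationRing (W.comap (algebraMap K₁ M)) :=
    isDiscreteValuationRing_of_dominates (A := A) (K := K) (L := K₁) _ hV
  letI algAV : Algebra A (W.comap (algebraMap K₁ M)) :=
    (RingHom.codRestrict ((algebraMap K K₁).comp (algebraMap A K)) _ hV.1).toAlgebra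
  letI algBW : Algebra B W :=
    (RingHom.codRestrict ((algebraMap L M).comp (algebraMap B L)) W hW.1).toAlgebra
  letI algVW : Algebra (W.comap (algebraMap K₁ M)) W :=
    (EtRam.inclOfComap W (algebraMap K₁ M)).toAlgebra
  letI algAW : Algebra A W := ((algebraMap B W).comp (algebraMap A B)).toAlgebra
  haveI : IsScalarTower A B W := IsScalarTower.of_algebraMap_eq fun _ => rfl
  haveI : IsScalarTower A (W.comap (algebraMap K₁ M)) W := IsScalarTower.of_algebraMap_eq fun a =>
    Subtype.ext (hcompat a).symm
  haveI hlocVW : IsLocalHom (algebraMap (W.comap (algebraMap K₁ M)) W) :=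
    EtRam.isLocalHom_inclOfComap W (algebraMap K₁ M)
  haveI hlocAV : IsLocalHom (algebraMap A (W.comap (algebraMap K₁ M))) :=
    isLocalHom_of_dominates _ _ hV
  haveI hlocAW : IsLocalHom (algebraMap A W) := by
    change IsLocalHom ((algebraMap B W).comp (algebraMap A B))
    exact RingHom.isLocalHom_comp _ _
  have hBW : Function.Injective (algebraMap B W) :=
    injective_codRestrict_of_dominates _ hW
  -- finiteness of the residue field extension of `A → V`
  letI algAK₁ : Algebra A K₁ := ((algebraMap K K₁).comp (algebraMap A K)).toAlgebra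
  haveI : IsScalarTower A K K₁ := IsScalarTower.of_algebraMap_eq fun _ => rfl
  haveI : IsScalarTower A (W.comap (algebraMap K₁ M)) K₁ :=
    IsScalarTower.of_algebraMap_eq fun _ => rfl
  have hAV : Function.Injective (algebraMap A (W.comap (algebraMap K₁ M))) :=
    injective_codRestrict_of_dominates _ hV
  haveI : Module.Finite (κ A) (κ (W.comap (algebraMap K₁ M))) :=
    finite_residueField (K := K) (L := K₁) hAV
  obtain ⟨hwV, hsepV⟩ := @h (W.comap (algebraMap K₁ M)) hV hlocAV
  haveI := hsepV
  -- generation
  have hgen' : ∀ w : W, ∃ x y : B ⊗[A] (W.comap (algebraMap K₁ M)),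
      phi A (W.comap (algebraMap K₁ M)) B W y ≠ 0 ∧
        w * phi A (W.comap (algebraMap K₁ M)) B W y =
          phi A (W.comap (algebraMap K₁ M)) B W x := by
    intro w
    obtain ⟨x, y, hy, hxy⟩ := exists_quot_of_adjoin_eq_top (A := A)
      (B := W.comap (algebraMap K₁ M)) (V := B) (L := K₁) (K₁ := L) (M := M) hgen₁
      (W.subtype.comp (phi A (W.comap (algebraMap K₁ M)) B W).toRingHom)
      (fun v => by simp [phi]; rfl) (fun b => by simp [phi]; rfl) (w : M)
    refine ⟨x, y, fun h => hy ?_, Subtype.ext hxy⟩
    change ((phi A (W.comap (algebraMap K₁ M)) B W y : W) : M) = 0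
    rw [h]
    rfl
  exact unramCore (A := A) (B := B) (V := W.comap (algebraMap K₁ M)) (W := W) hBW hwV hgen'

end Groth.Agent.Lib.Helper9.DvrUnramApp
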