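import Mathlib
import Groth.Prelude.Def_EtRam
import Groth.Agent.Lib.Helper9.DvrExt
import Groth.Agent.Lib.Helper9.DvrTower
import Groth.Agent.Lib.Helper9.DvrUnramApp
import Groth.Agent.Lib.Helper9.DvrTameBCApp

open TensorProduct Polynomial

universe u

set_option linter.unusedSectionVars false
set_option linter.style.haveILetI false
set_option linter.overlappingInstances false

namespace Groth.Agent.Lib.Helper9.DvrCompositum

open Groth.Agent.Lib.Helper9.DvrExt Groth.Agent.Lib.Helper9.DvrTower Groth.Agent.Lib.Helper9.DvrUnramApp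
  Groth.Agent.Lib.Helper9.DvrTameBCApp

local notation "𝔪" => IsLocalRing.maximalIdeal
local notation "κ" => IsLocalRing.ResidueField

section

variable (A K : Type u) [CommRing A] [IsDomain A] [IsDiscreteValuationRing A] [Field K] [Algebra A K]
  [IsFractionRing A K]
  (L₁ L₂ M : Type u) [Field L₁] [Field L₂] [Field M] [Algebra K L₁] [Algebra K L₂] [Algebra K M]
  [Algebra L₁ M] [Algebra L₂ M] [IsScalarTower K L₁ M] [IsScalarTower K L₂ M]
  [FiniteDimensional K L₁] [FiniteDimensional K L₂]

/-- A field generated by two unramified extensions is unramified. -/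
theorem unram_compositum
    (hgen : Algebra.adjoin L₂ (Set.range (algebraMap L₁ M)) = ⊤)
    (hgen₁ : Algebra.adjoin L₁ (Set.range (algebraMap L₂ M)) = ⊤)
    (h₁ : EtRam.IsUnramifiedExt A ((algebraMap K L₁).comp (algebraMap A K)))
    (h₂ : EtRam.IsUnramifiedExt A ((algebraMap K L₂).comp (algebraMap A K))) :
    EtRam.IsUnramifiedExt A ((algebraMap K M).comp (algebraMap A K)) := by
  classical
  haveI : FiniteDimensional L₂ M := finiteDimensional_of_adjoin_eq_top (K := K) hgen
  haveI : FiniteDimensional K M := FiniteDimensional.trans K L₂ M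
  intro W hW hlocAW
  letI algAW : Algebra A W :=
    (RingHom.codRestrict ((algebraMap K M).comp (algebraMap A K)) W hW.1).toAlgebra
  have hcomp_eq : (algebraMap L₂ M).comp ((algebraMap K L₂).comp (algebraMap A K)) =
      (algebraMap K M).comp (algebraMap A K) := by
    ext a
    simp only [RingHom.comp_apply]
    rw [← IsScalarTower.algebraMap_apply K L₂ M]
  have hV₂ : EtRam.Dominates A ((algebraMap K L₂).comp (algebraMap A K))
      (W.comap (algebraMap L₂ M)) := by
    rw [dominates_comap_iff, hcomp_eq]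
    exact hW
  haveI : IsDiscreteValuationRing (W.comap (algebraMap L₂ M)) :=
    isDiscreteValuationRing_of_dominates (A := A) (K := K) (L := L₂) _ hV₂
  letI algAV : Algebra A (W.comap (algebraMap L₂ M)) :=
    (RingHom.codRestrict ((algebraMap K L₂).comp (algebraMap A K)) _ hV₂.1).toAlgebra
  haveI hlocAV : IsLocalHom (algebraMap A (W.comap (algebraMap L₂ M))) :=
    isLocalHom_of_dominates _ _ hV₂
  have hAV : Function.Injective (algebraMap A (W.comap (algebraMap L₂ M))) :=
    injective_codRestrict_of_dominates _ hV₂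
  letI algAL₂ : Algebra A L₂ := ((algebraMap K L₂).comp (algebraMap A K)).toAlgebra
  haveI : IsScalarTower A K L₂ := IsScalarTower.of_algebraMap_eq fun _ => rfl
  haveI : IsScalarTower A (W.comap (algebraMap L₂ M)) L₂ :=
    IsScalarTower.of_algebraMap_eq fun _ => rfl
  have hW₂ : EtRam.Dominates (W.comap (algebraMap L₂ M))
      ((algebraMap L₂ M).comp (algebraMap (W.comap (algebraMap L₂ M)) L₂)) W :=
    dominates_subtype (algebraMap L₂ M) W
  obtain ⟨hwu₂, hsep₂⟩ := @h₂ (W.comap (algebraMap L₂ M)) hV₂ hlocAV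
  letI algVW : Algebra (W.comap (algebraMap L₂ M)) W :=
    (RingHom.codRestrict ((algebraMap L₂ M).comp (algebraMap (W.comap (algebraMap L₂ M)) L₂)) W
      hW₂.1).toAlgebra
  haveI hlocVW : IsLocalHom (algebraMap (W.comap (algebraMap L₂ M)) W) :=
    isLocalHom_of_dominates _ W hW₂
  obtain ⟨hwu, hsep⟩ := @unram_local A (W.comap (algebraMap L₂ M)) K L₂ _ _ _ _ _ _ _ _ hAV
    _ _ _ _ _ _ _ _ _ _ L₁ _ _ _ h₁ M _ _ _ _ _ _ hgen hgen₁ W hW₂ hlocVW
  haveI : IsScalarTower A (W.comap (algebraMap L₂ M)) W := IsScalarTower.of_algebraMap_eq fun a =>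
    Subtype.ext (RingHom.congr_fun hcomp_eq a).symm
  constructor
  · change (𝔪 A).map (algebraMap A W) = 𝔪 W
    rw [IsScalarTower.algebraMap_eq A (W.comap (algebraMap L₂ M)) W, ← Ideal.map_map]
    have h1 : (𝔪 A).map (algebraMap A (W.comap (algebraMap L₂ M))) =
        𝔪 (W.comap (algebraMap L₂ M)) := hwu₂
    rw [h1]
    exact hwu
  · haveI := hsep₂
    haveI := hsep
    haveI : IsDiscreteValuationRing W :=
      isDiscreteValuationRing_of_dominates (A := A) (K := K) (L := M) W hW
    exact isSeparable_residue_trans (A := A) (B := W.comap (algebraMap L₂ M)) (C := W)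

/-- A field generated by two tamely ramified extensions is tamely ramified. -/
theorem tame_compositum
    (hgen : Algebra.adjoin L₂ (Set.range (algebraMap L₁ M)) = ⊤)
    (hgen₁ : Algebra.adjoin L₁ (Set.range (algebraMap L₂ M)) = ⊤)
    (h₁ : EtRam.IsTamelyRamified A ((algebraMap K L₁).comp (algebraMap A K)))
    (h₂ : EtRam.IsTamelyRamified A ((algebraMap K L₂).comp (algebraMap A K))) :
    EtRam.IsTamelyRamified A ((algebraMap K M).comp (algebraMap A K)) := by
  classical
  haveI : FiniteDimensional L₂ M := finiteDimensional_of_adjoin_eq_top (K := K) hgen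
  haveI : FiniteDimensional K M := FiniteDimensional.trans K L₂ M
  intro W hW hlocAW
  letI algAW : Algebra A W :=
    (RingHom.codRestrict ((algebraMap K M).comp (algebraMap A K)) W hW.1).toAlgebra
  have hcomp_eq : (algebraMap L₂ M).comp ((algebraMap K L₂).comp (algebraMap A K)) =
      (algebraMap K M).comp (algebraMap A K) := by
    ext a
    simp only [RingHom.comp_apply]
    rw [← IsScalarTower.algebraMap_apply K L₂ M]
  have hV₂ : EtRam.Dominates A ((algebraMap K L₂).comp (algebraMap A K))
      (W.comap (algebraMap L₂ M)) := by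
    rw [dominates_comap_iff, hcomp_eq]
    exact hW
  haveI : IsDiscreteValuationRing (W.comap (algebraMap L₂ M)) :=
    isDiscreteValuationRing_of_dominates (A := A) (K := K) (L := L₂) _ hV₂
  letI algAV : Algebra A (W.comap (algebraMap L₂ M)) :=
    (RingHom.codRestrict ((algebraMap K L₂).comp (algebraMap A K)) _ hV₂.1).toAlgebra
  haveI hlocAV : IsLocalHom (algebraMap A (W.comap (algebraMap L₂ M))) :=
    isLocalHom_of_dominates _ _ hV₂
  have hAV : Function.Injective (algebraMap A (W.comap (algebraMap L₂ M))) :=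
    injective_codRestrict_of_dominates _ hV₂
  letI algAL₂ : Algebra A L₂ := ((algebraMap K L₂).comp (algebraMap A K)).toAlgebra
  haveI : IsScalarTower A K L₂ := IsScalarTower.of_algebraMap_eq fun _ => rfl
  haveI : IsScalarTower A (W.comap (algebraMap L₂ M)) L₂ :=
    IsScalarTower.of_algebraMap_eq fun _ => rfl
  have hW₂ : EtRam.Dominates (W.comap (algebraMap L₂ M))
      ((algebraMap L₂ M).comp (algebraMap (W.comap (algebraMap L₂ M)) L₂)) W :=
    dominates_subtype (algebraMap L₂ M) W
  obtain ⟨hsep₂, hp₂⟩ := @h₂ (W.comap (algebraMap L₂ M)) hV₂ hlocAV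
  letI algVW : Algebra (W.comap (algebraMap L₂ M)) W :=
    (RingHom.codRestrict ((algebraMap L₂ M).comp (algebraMap (W.comap (algebraMap L₂ M)) L₂)) W
      hW₂.1).toAlgebra
  haveI hlocVW : IsLocalHom (algebraMap (W.comap (algebraMap L₂ M)) W) :=
    isLocalHom_of_dominates _ W hW₂
  obtain ⟨hsep, hp⟩ := @tameBC_local A (W.comap (algebraMap L₂ M)) K L₂ _ _ _ _ _ _ _ _ hAV
    _ _ _ _ _ _ _ _ _ _ L₁ _ _ _ h₁ M _ _ _ _ _ _ hgen hgen₁ W hW₂ hlocVW
  haveI : IsScalarTower A (W.comap (algebraMap L₂ M)) W := IsScalarTower.of_algebraMap_eq fun a =>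
    Subtype.ext (RingHom.congr_fun hcomp_eq a).symm
  haveI : IsDiscreteValuationRing W :=
    isDiscreteValuationRing_of_dominates (A := A) (K := K) (L := M) W hW
  have hVW : Function.Injective (algebraMap (W.comap (algebraMap L₂ M)) W) := by
    intro x y hxy
    have := congrArg Subtype.val hxy
    exact Subtype.ext ((algebraMap L₂ M).injective this)
  constructor
  · haveI := hsep₂
    haveI := hsep
    exact isSeparable_residue_trans (A := A) (B := W.comap (algebraMap L₂ M)) (C := W)
  · intro p hpp hpc hpdvd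
    rw [ramificationIdx'_tower hAV hVW] at hpdvd
    haveI : CharP (κ (W.comap (algebraMap L₂ M))) p :=
      (RingHom.charP_iff (algebraMap (κ A) (κ (W.comap (algebraMap L₂ M))))
        (algebraMap (κ A) (κ (W.comap (algebraMap L₂ M)))).injective p).1 hpc
    rcases (Nat.Prime.dvd_mul hpp).1 hpdvd with h | h
    · exact hp₂ p hpp hpc h
    · exact hp p hpp inferInstance h

end

end Groth.Agent.Lib.Helper9.DvrCompositum
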