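import Mathlib
import Groth.Agent.Lib.Helper9.DvrEisenstein
import Groth.Agent.Lib.Helper58.HenselPairIdem
import Groth.Agent.S1971

/-!
# Tame Eisenstein polynomials over henselian DVRs with algebraically closed residue field

`O` henselian DVR with algebraically closed residue field, `f` monic Eisenstein of degree `e`
invertible in `O`. Then `K[x]/(f)` is the splitting field of `X^e - π`, Kummer cyclic of degree `e`,
and it is a splitting field of `f`.
-/

set_option autoImplicit false
universe u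

namespace Groth.Agent.Lib.Helper9.DvrEisTame

open Polynomial IsLocalRing

section Roots

variable {O : Type u} [CommRing O] [IsLocalRing O] [HenselianLocalRing O]
  [IsAlgClosed (ResidueField O)]

theorem exists_isPrimitiveRoot (n : ℕ) (hn0 : 0 < n) (hn : IsUnit (n : O)) :
    ∃ ζ : O, IsPrimitiveRoot ζ n := by
  have hnk : ((n : ℕ) : ResidueField O) ≠ 0 := by
    have h1 := hn.map (residue O)
    rw [map_natCast] at h1
    exact h1.ne_zero
  haveI : NeZero ((n : ℕ) : ResidueField O) := ⟨hnk⟩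
  obtain ⟨z, hz⟩ := HasEnoughRootsOfUnity.exists_primitiveRoot (ResidueField O) n
  obtain ⟨a₀, ha₀⟩ := residue_surjective z
  have hzu : z ≠ 0 := hz.ne_zero hn0.ne'
  have ha₀u : IsUnit a₀ := by
    rw [← residue_ne_zero_iff_isUnit, ha₀]
    exact hzu
  have hmonic : (X ^ n - C (1 : O)).Monic := monic_X_pow_sub_C 1 hn0.ne'
  have h1 : (X ^ n - C (1 : O)).eval a₀ ∈ maximalIdeal O := by
    rw [eval_sub, eval_pow, eval_X, eval_C, ← residue_eq_zero_iff, map_sub, map_pow, ha₀,
      hz.pow_eq_one, map_one, sub_self]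
  have h2 : IsUnit ((X ^ n - C (1 : O)).derivative.eval a₀) := by
    rw [derivative_sub, derivative_X_pow, derivative_C, sub_zero, eval_mul, eval_C, eval_pow,
      eval_X]
    exact hn.mul (ha₀u.pow _)
  obtain ⟨ζ, hζroot, hζ⟩ := HenselianLocalRing.is_henselian _ hmonic a₀ h1 h2
  have hζ1 : ζ ^ n = 1 := by
    have := hζroot
    rw [IsRoot.def, eval_sub, eval_pow, eval_X, eval_C, sub_eq_zero] at this
    exact this
  have hζres : residue O ζ = z := by
    rw [← ha₀, ← sub_eq_zero, ← map_sub, residue_eq_zero_iff]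
    exact hζ
  refine ⟨ζ, (IsPrimitiveRoot.iff_def ζ n).2 ⟨hζ1, fun l hl => ?_⟩⟩
  apply hz.dvd_of_pow_eq_one
  rw [← hζres, ← map_pow, hl, map_one]

theorem exists_pow_eq_of_isUnit (n : ℕ) (hn0 : 0 < n) (hn : IsUnit (n : O)) (w : O)
    (hw : IsUnit w) : ∃ v : O, v ^ n = w := by
  obtain ⟨z, hz⟩ := IsAlgClosed.exists_pow_nat_eq (residue O w) hn0
  obtain ⟨d, hd⟩ := residue_surjective z
  have hdu : IsUnit d := by
    rw [← residue_ne_zero_iff_isUnit, hd]
    intro h0
    rw [h0, zero_pow hn0.ne'] at hz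
    exact (residue_ne_zero_iff_isUnit w).2 hw hz.symm
  have hmonic : (X ^ n - C w).Monic := monic_X_pow_sub_C w hn0.ne'
  have h1 : (X ^ n - C w).eval d ∈ maximalIdeal O := by
    rw [eval_sub, eval_pow, eval_X, eval_C, ← residue_eq_zero_iff, map_sub, map_pow, hd, hz,
      sub_self]
  have h2 : IsUnit ((X ^ n - C w).derivative.eval d) := by
    rw [derivative_sub, derivative_X_pow, derivative_C, sub_zero, eval_mul, eval_C, eval_pow,
      eval_X]
    exact hn.mul (hdu.pow _)
  obtain ⟨v, hv, -⟩ := HenselianLocalRing.is_henselian _ hmonic d h1 h2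
  refine ⟨v, ?_⟩
  rw [IsRoot.def, eval_sub, eval_pow, eval_X, eval_C, sub_eq_zero] at hv
  exact hv

end Roots

section Main

variable {O : Type u} [CommRing O] [IsDomain O] [IsDiscreteValuationRing O] [HenselianLocalRing O]
  [IsAlgClosed (ResidueField O)]
  (f : O[X]) (hmon : f.Monic) (hE : f.IsEisensteinAt (maximalIdeal O)) (hdeg : 0 < f.natDegree)
  (he : IsUnit ((f.natDegree : ℕ) : O))

include hmon hE hdeg in
theorem henselianRing_adjoinRoot [IsLocalRing (AdjoinRoot f)] :
    HenselianRing (AdjoinRoot f) (maximalIdeal (AdjoinRoot f)) := by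
  haveI : Module.Finite O (AdjoinRoot f) := hmon.finite_adjoinRoot
  haveI : Algebra.IsIntegral O (AdjoinRoot f) := inferInstance
  obtain ⟨π, hπ⟩ := IsDiscreteValuationRing.exists_irreducible O
  have hmax := DvrEisenstein.maximalIdeal_adjoinRoot f hE hdeg
  obtain ⟨w, hw⟩ := DvrEisenstein.exists_unit_root_pow f hmon hE hdeg hπ
  have h1 := Groth.Agent.Lib.Helper58.HenselPair.henselian_of_isIntegral (A := O)
    (I := maximalIdeal O) (AdjoinRoot f)
  refine (Groth.Agent.S1971.hens_of_radical_eq _ _ _ ?_).1 h1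
  rw [hπ.maximalIdeal_eq, Ideal.map_span, Set.image_singleton, hmax]
  have h2 : Ideal.span {algebraMap O (AdjoinRoot f) π} =
      Ideal.span {AdjoinRoot.root f} ^ f.natDegree := by
    rw [Ideal.span_singleton_pow, hw, Ideal.span_singleton_mul_left_unit w.isUnit]
    rfl
  rw [h2, Ideal.radical_pow _ hdeg.ne']

include hmon hE hdeg he in
/-- every unit of `O[x]/(f)` is an `e`-th power. -/
theorem exists_pow_eq_unit [IsLocalRing (AdjoinRoot f)] (w : (AdjoinRoot f)ˣ) :
    ∃ v : AdjoinRoot f, v ^ f.natDegree = w := by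
  have hH := henselianRing_adjoinRoot f hmon hE hdeg
  obtain ⟨c, hc⟩ := DvrEisenstein.residue_surjective_of f hE hdeg (residue _ (w : AdjoinRoot f))
  obtain ⟨z, hz⟩ := IsAlgClosed.exists_pow_nat_eq (residue O c) hdeg
  obtain ⟨d, hd⟩ := residue_surjective z
  have h3 : d ^ f.natDegree - c ∈ maximalIdeal O := by
    rw [← residue_eq_zero_iff, map_sub, map_pow, hd, hz, sub_self]
  have h4 : AdjoinRoot.of f (d ^ f.natDegree - c) ∈ maximalIdeal (AdjoinRoot f) := by
    rw [DvrEisenstein.maximalIdeal_adjoinRoot f hE hdeg]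
    exact DvrEisenstein.of_mem_of_mem_maximalIdeal f hE hdeg h3
  have h5 : AdjoinRoot.of f c - (w : AdjoinRoot f) ∈ maximalIdeal (AdjoinRoot f) := by
    rw [← residue_eq_zero_iff, map_sub, hc, sub_self]
  have h6 : (AdjoinRoot.of f d) ^ f.natDegree - (w : AdjoinRoot f) ∈
      maximalIdeal (AdjoinRoot f) := by
    have : (AdjoinRoot.of f d) ^ f.natDegree - (w : AdjoinRoot f) =
        AdjoinRoot.of f (d ^ f.natDegree - c) + (AdjoinRoot.of f c - (w : AdjoinRoot f)) := by
      rw [map_sub, map_pow]; ring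
    rw [this]
    exact Ideal.add_mem _ h4 h5
  have hd_unit : IsUnit (AdjoinRoot.of f d) := by
    rw [← IsLocalRing.notMem_maximalIdeal]
    intro hmem
    have h7 : (w : AdjoinRoot f) ∈ maximalIdeal (AdjoinRoot f) := by
      have : (w : AdjoinRoot f) = (AdjoinRoot.of f d) ^ f.natDegree -
          ((AdjoinRoot.of f d) ^ f.natDegree - (w : AdjoinRoot f)) := by ring
      rw [this]
      exact Ideal.sub_mem _ (Ideal.pow_mem_of_mem _ hmem _ hdeg) h6
    exact (IsLocalRing.notMem_maximalIdeal.2 w.isUnit) h7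
  have hmonic : (X ^ f.natDegree - C (w : AdjoinRoot f)).Monic :=
    monic_X_pow_sub_C _ hdeg.ne'
  have h1 : (X ^ f.natDegree - C (w : AdjoinRoot f)).eval (AdjoinRoot.of f d) ∈
      maximalIdeal (AdjoinRoot f) := by
    rw [eval_sub, eval_pow, eval_X, eval_C]
    exact h6
  have h2 : IsUnit (Ideal.Quotient.mk (maximalIdeal (AdjoinRoot f))
      ((X ^ f.natDegree - C (w : AdjoinRoot f)).derivative.eval (AdjoinRoot.of f d))) := by
    apply IsUnit.map
    rw [derivative_sub, derivative_X_pow, derivative_C, sub_zero, eval_mul, eval_C, eval_pow,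
      eval_X]
    refine IsUnit.mul ?_ (hd_unit.pow _)
    have := he.map (AdjoinRoot.of f)
    rwa [map_natCast] at this
  obtain ⟨v, hv, -⟩ := hH.is_henselian _ hmonic (AdjoinRoot.of f d) h1 h2
  refine ⟨v, ?_⟩
  rw [IsRoot.def, eval_sub, eval_pow, eval_X, eval_C, sub_eq_zero] at hv
  exact hv

variable (K : Type u) [Field K] [Algebra O K] [IsFractionRing O K]

include hmon hE hdeg he in
theorem exists_root_pow_eq [Fact (Irreducible (f.map (algebraMap O K)))] {π : O}
    (hπ : Irreducible π) :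
    ∃ τ : AdjoinRoot (f.map (algebraMap O K)),
      τ ^ f.natDegree = algebraMap K _ (algebraMap O K π) := by
  haveI : IsLocalRing (AdjoinRoot f) := DvrEisenstein.isLocalRing_adjoinRoot f hmon hE hdeg
  obtain ⟨w, hw⟩ := DvrEisenstein.exists_unit_root_pow f hmon hE hdeg hπ
  obtain ⟨v, hv⟩ := exists_pow_eq_unit f hmon hE hdeg he w
  have hwne : DvrEisenstein.toL f K (w : AdjoinRoot f) ≠ 0 :=
    (w.isUnit.map (DvrEisenstein.toL f K)).ne_zero
  refine ⟨DvrEisenstein.toL f K (AdjoinRoot.root f) / DvrEisenstein.toL f K v, ?_⟩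
  rw [div_pow, ← map_pow, ← map_pow, hv, hw, map_mul, mul_div_cancel_left₀ _ hwne,
    DvrEisenstein.toL_of, AdjoinRoot.algebraMap_eq]

include hmon hE hdeg he in
/-- `K[x]/(f)` is a Kummer extension and a splitting field of `f`. -/
theorem main [Fact (Irreducible (f.map (algebraMap O K)))] :
    Module.finrank K (AdjoinRoot (f.map (algebraMap O K))) = f.natDegree ∧
    IsCyclic (AdjoinRoot (f.map (algebraMap O K)) ≃ₐ[K] AdjoinRoot (f.map (algebraMap O K))) ∧
    IsSplittingField K (AdjoinRoot (f.map (algebraMap O K))) (f.map (algebraMap O K)) := by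
  classical
  obtain ⟨π, hπ⟩ := IsDiscreteValuationRing.exists_irreducible O
  set g := f.map (algebraMap O K) with hg
  obtain ⟨τ, hτ⟩ : ∃ τ : AdjoinRoot g, τ ^ f.natDegree = algebraMap K _ (algebraMap O K π) :=
    exists_root_pow_eq f hmon hE hdeg he K hπ
  have hgmon : g.Monic := hmon.map _
  have hgne : g ≠ 0 := hgmon.ne_zero
  have hgdeg : g.natDegree = f.natDegree := hmon.natDegree_map _
  have hfin : Module.finrank K (AdjoinRoot g) = f.natDegree := by
    rw [(AdjoinRoot.powerBasis hgne).finrank, AdjoinRoot.powerBasis_dim, hgdeg]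
  haveI : FiniteDimensional K (AdjoinRoot g) := (AdjoinRoot.powerBasis hgne).finite
  -- primitive roots
  obtain ⟨ζ, hζ⟩ := exists_isPrimitiveRoot (O := O) f.natDegree hdeg he
  have hζK : (primitiveRoots f.natDegree K).Nonempty :=
    ⟨algebraMap O K ζ, (mem_primitiveRoots hdeg).2
      (hζ.map_of_injective (IsFractionRing.injective O K))⟩
  -- `X^e - π` is irreducible over `K`
  have hmonπ : (X ^ f.natDegree - C π : O[X]).Monic := monic_X_pow_sub_C π hdeg.ne'
  have hdegπ : (X ^ f.natDegree - C π : O[X]).natDegree = f.natDegree :=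
    natDegree_X_pow_sub_C
  have hπm : π ∈ maximalIdeal O := by
    rw [hπ.maximalIdeal_eq]; exact Ideal.mem_span_singleton_self π
  have hEπ : (X ^ f.natDegree - C π : O[X]).IsEisensteinAt (maximalIdeal O) := by
    refine hmonπ.isEisensteinAt_of_mem_of_notMem (maximalIdeal.isMaximal O).ne_top ?_ ?_
    · intro n hn
      rw [hdegπ] at hn
      rw [coeff_sub, coeff_X_pow, if_neg hn.ne, zero_sub, coeff_C]
      split_ifs
      · exact (Ideal.neg_mem_iff _).2 hπm
      · rw [neg_zero]; exact Ideal.zero_mem _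
    · rw [coeff_sub, coeff_X_pow, if_neg hdeg.ne, zero_sub, coeff_C_zero, Ideal.neg_mem_iff,
        hπ.maximalIdeal_eq, Ideal.span_singleton_pow, Ideal.mem_span_singleton]
      intro hdvd
      obtain ⟨c, hc⟩ := hdvd
      have h1 : π * 1 = π * (π * c) := by rw [mul_one, ← mul_assoc, ← sq]; exact hc
      have h2 : 1 = π * c := mul_left_cancel₀ hπ.ne_zero h1
      exact hπ.not_isUnit (IsUnit.of_mul_eq_one _ h2.symm)
  have hirr : Irreducible (X ^ f.natDegree - C (algebraMap O K π) : K[X]) := by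
    have := DvrEisenstein.irreducible_map _ hmonπ hEπ (by rw [hdegπ]; exact hdeg) K
    rwa [Polynomial.map_sub, Polynomial.map_pow, Polynomial.map_X, Polynomial.map_C] at this
  -- `τ` generates
  have hτint : IsIntegral K τ := IsIntegral.of_finite K τ
  have hminτ : minpoly K τ = X ^ f.natDegree - C (algebraMap O K π) := by
    refine (minpoly.eq_of_irreducible_of_monic hirr ?_ (monic_X_pow_sub_C _ hdeg.ne')).symm
    rw [map_sub, map_pow, aeval_X, aeval_C, hτ, sub_self]
  have hadj : IntermediateField.adjoin K {τ} = ⊤ := by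
    apply IntermediateField.eq_of_le_of_finrank_eq le_top
    rw [IntermediateField.finrank_top', IntermediateField.adjoin.finrank hτint, hminτ,
      natDegree_X_pow_sub_C, hfin]
  have hsf : IsSplittingField K (AdjoinRoot g) (X ^ f.natDegree - C (algebraMap O K π)) := by
    have := isSplittingField_X_pow_sub_C_of_root_adjoin_eq_top (K := K) (L := AdjoinRoot g)
      (by rw [hfin]; exact hζK) (a := algebraMap O K π) (α := τ) (by rw [hfin]; exact hτ) hadj
    rwa [hfin] at this
  haveI : NeZero f.natDegree := ⟨hdeg.ne'⟩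
  have hcyc := isCyclic_of_isSplittingField_X_pow_sub_C hζK hirr (AdjoinRoot g)
  have hgal : IsGalois K (AdjoinRoot g) :=
    isGalois_of_isSplittingField_X_pow_sub_C hζK hirr (AdjoinRoot g)
  refine ⟨hfin, hcyc, ⟨?_, ?_⟩⟩
  · have hnorm : Normal K (AdjoinRoot g) := hgal.to_normal
    have h1 := hnorm.splits (AdjoinRoot.root g)
    rwa [AdjoinRoot.minpoly_root hgne, hgmon.leadingCoeff, inv_one, map_one, mul_one] at h1
  · rw [eq_top_iff, ← AdjoinRoot.adjoinRoot_eq_top]
    apply Algebra.adjoin_mono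
    rw [Set.singleton_subset_iff, mem_rootSet_of_ne hgne, AdjoinRoot.aeval_eq, AdjoinRoot.mk_self]

end Main

section Irr

variable {O : Type u} [CommRing O] [IsDomain O] [IsDiscreteValuationRing O]
  (K : Type u) [Field K] [Algebra O K] [IsFractionRing O K]

theorem isEisensteinAt_X_pow_sub_C {π : O} (hπ : Irreducible π) (n : ℕ) (hn : 0 < n) :
    (X ^ n - C π : O[X]).IsEisensteinAt (maximalIdeal O) := by
  have hmonπ : (X ^ n - C π : O[X]).Monic := monic_X_pow_sub_C π hn.ne'
  have hdegπ : (X ^ n - C π : O[X]).natDegree = n := natDegree_X_pow_sub_C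
  have hπm : π ∈ maximalIdeal O := by
    rw [hπ.maximalIdeal_eq]; exact Ideal.mem_span_singleton_self π
  refine hmonπ.isEisensteinAt_of_mem_of_notMem (maximalIdeal.isMaximal O).ne_top ?_ ?_
  · intro k hk
    rw [hdegπ] at hk
    rw [coeff_sub, coeff_X_pow, if_neg hk.ne, zero_sub, coeff_C]
    split_ifs
    · exact (Ideal.neg_mem_iff _).2 hπm
    · rw [neg_zero]; exact Ideal.zero_mem _
  · rw [coeff_sub, coeff_X_pow, if_neg hn.ne, zero_sub, coeff_C_zero, Ideal.neg_mem_iff,
      hπ.maximalIdeal_eq, Ideal.span_singleton_pow, Ideal.mem_span_singleton]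
    intro hdvd
    obtain ⟨c, hc⟩ := hdvd
    have h1 : π * 1 = π * (π * c) := by rw [mul_one, ← mul_assoc, ← sq]; exact hc
    have h2 : 1 = π * c := mul_left_cancel₀ hπ.ne_zero h1
    exact hπ.not_isUnit (IsUnit.of_mul_eq_one _ h2.symm)

theorem irreducible_X_pow_sub_C {π : O} (hπ : Irreducible π) (n : ℕ) (hn : 0 < n) :
    Irreducible (X ^ n - C (algebraMap O K π) : K[X]) := by
  have hmonπ : (X ^ n - C π : O[X]).Monic := monic_X_pow_sub_C π hn.ne'
  have hdegπ : (X ^ n - C π : O[X]).natDegree = n := natDegree_X_pow_sub_C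
  have := DvrEisenstein.irreducible_map _ hmonπ (isEisensteinAt_X_pow_sub_C hπ n hn)
    (by rw [hdegπ]; exact hn) K
  rwa [Polynomial.map_sub, Polynomial.map_pow, Polynomial.map_X, Polynomial.map_C] at this

end Irr

end Groth.Agent.Lib.Helper9.DvrEisTame
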