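import Mathlib
import Groth.Agent.Lib.Helper9.DvrExt
import Groth.Agent.Lib.Helper9.DvrSmooth
import Groth.Agent.Lib.Helper9.DvrAbs
import Groth.Agent.Lib.Helper9.DvrTame
import Groth.Agent.Lib.Helper9.DvrTameBC

open TensorProduct Polynomial

universe u

set_option linter.unusedSectionVars false
set_option linter.style.haveILetI false
set_option linter.overlappingInstances false

namespace Groth.Agent.Lib.Helper9.DvrKummer

open Groth.Agent.Lib.Helper9.DvrSmooth Groth.Agent.Lib.Helper9.DvrExt Groth.Agent.Lib.Helper9.DvrAbs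
  Groth.Agent.Lib.Helper9.DvrTame Groth.Agent.Lib.Helper9.DvrTameBC

local notation "𝔪" => IsLocalRing.maximalIdeal
local notation "κ" => IsLocalRing.ResidueField

section KummerRing

variable {A : Type u} [CommRing A] [IsLocalRing A] (π : A) (hπ : 𝔪 A = Ideal.span {π})
  (e : ℕ) (he : 0 < e)

/-- The character `A[z]/(z^e - π) → κ A`, `z ↦ 0`. -/
noncomputable def chi : AdjoinRoot (X ^ e - C π : A[X]) →+* κ A :=
  AdjoinRoot.lift (IsLocalRing.residue A) 0 (by
    have hπm : π ∈ 𝔪 A := by rw [hπ]; exact Ideal.mem_span_singleton_self π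
    rw [eval₂_sub, eval₂_pow, eval₂_X, eval₂_C, zero_pow he.ne',
      (IsLocalRing.residue_eq_zero_iff π).2 hπm, sub_zero])

theorem chi_of (a : A) : chi π hπ e he (AdjoinRoot.of _ a) = IsLocalRing.residue A a := by
  simp [chi]

theorem chi_root : chi π hπ e he (AdjoinRoot.root _) = 0 := by
  simp [chi]

theorem chi_mk (p : A[X]) : chi π hπ e he (AdjoinRoot.mk _ p) = IsLocalRing.residue A (p.coeff 0) := by
  rw [chi, AdjoinRoot.lift_mk, Polynomial.eval₂_at_zero]

theorem chi_surjective : Function.Surjective (chi π hπ e he) := by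
  intro x
  obtain ⟨a, rfl⟩ := IsLocalRing.residue_surjective x
  exact ⟨AdjoinRoot.of _ a, chi_of π hπ e he a⟩

theorem root_pow : (AdjoinRoot.root (X ^ e - C π : A[X])) ^ e = AdjoinRoot.of _ π := by
  have := AdjoinRoot.eval₂_root (X ^ e - C π : A[X])
  rw [eval₂_sub, eval₂_pow, eval₂_X, eval₂_C, sub_eq_zero] at this
  exact this

theorem mk_sub_of_coeff_zero_mem (p : A[X]) :
    AdjoinRoot.mk (X ^ e - C π : A[X]) p - AdjoinRoot.of _ (p.coeff 0) ∈
      Ideal.span {AdjoinRoot.root (X ^ e - C π : A[X])} := by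
  have h1 : p = p.divX * X + C (p.coeff 0) := (Polynomial.divX_mul_X_add p).symm
  have h2 : AdjoinRoot.mk (X ^ e - C π : A[X]) p - AdjoinRoot.of _ (p.coeff 0) =
      AdjoinRoot.mk _ p.divX * AdjoinRoot.root _ := by
    have h3 : AdjoinRoot.mk (X ^ e - C π : A[X]) p =
        AdjoinRoot.mk _ p.divX * AdjoinRoot.root _ + AdjoinRoot.of _ (p.coeff 0) := by
      conv_lhs => rw [h1]
      rw [map_add, map_mul, AdjoinRoot.mk_X, AdjoinRoot.mk_C]
    rw [h3, add_sub_cancel_right]
  rw [h2]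
  exact Ideal.mul_mem_left _ _ (Ideal.mem_span_singleton_self _)

include he in
theorem ker_chi : RingHom.ker (chi π hπ e he) =
    Ideal.span {AdjoinRoot.root (X ^ e - C π : A[X])} := by
  apply le_antisymm
  · intro x hx
    obtain ⟨p, rfl⟩ := AdjoinRoot.mk_surjective x
    rw [RingHom.mem_ker, chi_mk, IsLocalRing.residue_eq_zero_iff, hπ] at hx
    obtain ⟨c, hc⟩ := Ideal.mem_span_singleton'.1 hx
    have h1 := mk_sub_of_coeff_zero_mem π e p
    have h2 : AdjoinRoot.of (X ^ e - C π : A[X]) (p.coeff 0) ∈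
        Ideal.span {AdjoinRoot.root (X ^ e - C π : A[X])} := by
      rw [← hc, map_mul, ← root_pow π e]
      apply Ideal.mul_mem_left
      have h3 : AdjoinRoot.root (X ^ e - C π : A[X]) ^ e =
          AdjoinRoot.root (X ^ e - C π : A[X]) ^ (e - 1) * AdjoinRoot.root (X ^ e - C π : A[X]) := by
        rw [← pow_succ, Nat.sub_add_cancel he]
      rw [h3]
      exact Ideal.mul_mem_left _ _ (Ideal.mem_span_singleton_self _)
    have := Ideal.add_mem _ h1 h2
    rwa [sub_add_cancel] at this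
  · rw [Ideal.span_singleton_le_iff_mem, RingHom.mem_ker]
    exact chi_root π hπ e he

include hπ he in
theorem isMaximal_span_root :
    (Ideal.span {AdjoinRoot.root (X ^ e - C π : A[X])}).IsMaximal := by
  rw [← ker_chi π hπ e he]
  exact RingHom.ker_isMaximal_of_surjective _ (chi_surjective π hπ e he)

include hπ he in
theorem isLocalRing_adjoinRoot : IsLocalRing (AdjoinRoot (X ^ e - C π : A[X])) := by
  have hmonic : (X ^ e - C π : A[X]).Monic := monic_X_pow_sub_C π he.ne'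
  haveI : Module.Finite A (AdjoinRoot (X ^ e - C π : A[X])) := hmonic.finite_adjoinRoot
  haveI : Algebra.IsIntegral A (AdjoinRoot (X ^ e - C π : A[X])) := inferInstance
  have hmax := isMaximal_span_root π hπ e he
  refine IsLocalRing.of_unique_max_ideal ⟨_, hmax, fun M hM => ?_⟩
  have h1 : (M.comap (algebraMap A (AdjoinRoot (X ^ e - C π : A[X])))).IsMaximal :=
    Ideal.isMaximal_comap_of_isIntegral_of_isMaximal M
  have h2 : M.comap (algebraMap A (AdjoinRoot (X ^ e - C π : A[X]))) = 𝔪 A :=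
    IsLocalRing.eq_maximalIdeal h1
  have h3 : π ∈ M.comap (algebraMap A (AdjoinRoot (X ^ e - C π : A[X]))) := by
    rw [h2, hπ]; exact Ideal.mem_span_singleton_self π
  have h4 : AdjoinRoot.root (X ^ e - C π : A[X]) ^ e ∈ M := by
    rw [root_pow]; exact h3
  have h5 : AdjoinRoot.root (X ^ e - C π : A[X]) ∈ M := hM.isPrime.mem_of_pow_mem e h4
  have h6 : Ideal.span {AdjoinRoot.root (X ^ e - C π : A[X])} ≤ M :=
    (Ideal.span_singleton_le_iff_mem _).2 h5
  exact (hmax.eq_of_le hM.ne_top h6).symm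

include hπ he in
theorem maximalIdeal_adjoinRoot [IsLocalRing (AdjoinRoot (X ^ e - C π : A[X]))] :
    𝔪 (AdjoinRoot (X ^ e - C π : A[X])) = Ideal.span {AdjoinRoot.root (X ^ e - C π : A[X])} :=
  (IsLocalRing.eq_maximalIdeal (isMaximal_span_root π hπ e he)).symm

include hπ he in
theorem isLocalHom_of [IsLocalRing (AdjoinRoot (X ^ e - C π : A[X]))] :
    IsLocalHom (algebraMap A (AdjoinRoot (X ^ e - C π : A[X]))) := by
  constructor
  intro a ha
  by_contra hna
  have h1 : IsLocalRing.residue A a = 0 := (IsLocalRing.residue_eq_zero_iff a).2 hna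
  have h2 : AdjoinRoot.of (X ^ e - C π : A[X]) a ∈ RingHom.ker (chi π hπ e he) := by
    rw [RingHom.mem_ker, chi_of, h1]
  rw [ker_chi, ← maximalIdeal_adjoinRoot π hπ e he] at h2
  exact h2 ha

include hπ he in
theorem residue_surjective_of [IsLocalRing (AdjoinRoot (X ^ e - C π : A[X]))]
    (x : κ (AdjoinRoot (X ^ e - C π : A[X]))) :
    ∃ a : A, IsLocalRing.residue _ (AdjoinRoot.of (X ^ e - C π : A[X]) a) = x := by
  obtain ⟨y, rfl⟩ := IsLocalRing.residue_surjective x
  obtain ⟨p, rfl⟩ := AdjoinRoot.mk_surjective y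
  refine ⟨p.coeff 0, ?_⟩
  have h1 := mk_sub_of_coeff_zero_mem π e p
  rw [← maximalIdeal_adjoinRoot π hπ e he, ← IsLocalRing.residue_eq_zero_iff, map_sub,
    sub_eq_zero] at h1
  exact h1.symm

end KummerRing

section Core

variable {A V W : Type u} [CommRing A] [IsDomain A] [IsDiscreteValuationRing A]
  [CommRing V] [IsDomain V] [IsDiscreteValuationRing V]
  [CommRing W] [IsDomain W] [IsDiscreteValuationRing W]
  [Algebra A V] [Algebra V W] [Algebra A W] [IsScalarTower A V W]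
  [IsLocalHom (algebraMap A V)] [IsLocalHom (algebraMap V W)] [IsLocalHom (algebraMap A W)]

/-- Kummer trick: `A → V` tame with ramification index dividing `e`, `W ⊇ V` a DVR generated over `V`
by an `e`-th root `z` of a uniformizer `π` of `A`. Then `z` is a uniformizer of `W` and the residue field
extension `κ W / κ V` is finite separable. -/
theorem kummerCore (hAV : Function.Injective (algebraMap A V))
    (hVW : Function.Injective (algebraMap V W))
    {π : A} (hπ : Irreducible π) (e : ℕ) (he0 : 0 < e) (z : W) (hz : z ^ e = algebraMap A W π)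
    (he : ((Ideal.ramificationIdx' (𝔪 A) (𝔪 V) : ℕ) : κ A) ≠ 0)
    (hdvd : Ideal.ramificationIdx' (𝔪 A) (𝔪 V) ∣ e)
    (hgen : ∀ w : W, ∃ x y : V[X], y.eval₂ (algebraMap V W) z ≠ 0 ∧
      w * y.eval₂ (algebraMap V W) z = x.eval₂ (algebraMap V W) z) :
    𝔪 W = Ideal.span {z} ∧ Algebra.IsSeparable (κ V) (κ W) := by
  classical
  obtain ⟨π₁, hπ₁⟩ := IsDiscreteValuationRing.exists_irreducible V
  obtain ⟨e₁, u₁, he₁0, hu₁⟩ := exists_map_uniformizer hAV hπ hπ₁
  rw [ramificationIdx'_eq_of_map_uniformizer hπ hπ₁ hu₁] at he hdvd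
  obtain ⟨k, hk⟩ := hdvd
  have he₁pos : 0 < e₁ := Nat.pos_of_ne_zero he₁0
  have hk0 : 0 < k := Nat.pos_of_ne_zero (fun h => he0.ne' (by rw [hk, h, mul_zero]))
  set P : W := algebraMap V W π₁ with hP
  have hP0 : P ≠ 0 := by
    rw [hP, Ne, map_eq_zero_iff _ hVW]; exact hπ₁.ne_zero
  have hz0 : z ≠ 0 := by
    rintro rfl
    rw [zero_pow he0.ne'] at hz
    have h1 : algebraMap A W π = algebraMap V W (algebraMap A V π) :=
      IsScalarTower.algebraMap_apply A V W π
    rw [← hz] at h1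
    have h2 := hVW (h1.symm.trans (map_zero _).symm)
    exact hπ.ne_zero (hAV (h2.trans (map_zero _).symm))
  have hrel : (z ^ k) ^ e₁ * (1 : W) = P ^ e₁ * algebraMap V W (u₁ : V) := by
    have h2 : algebraMap A W π = algebraMap V W (algebraMap A V π) :=
      IsScalarTower.algebraMap_apply A V W π
    rw [hu₁, map_mul, map_pow] at h2
    rw [mul_one, ← pow_mul, mul_comm k e₁, ← hk, hz, h2, mul_comm]
  obtain ⟨θ, hθ1, hθ2⟩ := exists_theta (z ^ k) P (1 : W) (algebraMap V W (u₁ : V)) e₁ he₁pos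
    isUnit_one (u₁.isUnit.map _) hP0 hrel
  rw [mul_one] at hθ2
  -- `P = z * (z^(k-1) * θ^(e₁-1) * u₁⁻¹)`
  have hPz : P = z * (z ^ (k - 1) * θ ^ (e₁ - 1) * algebraMap V W ((u₁⁻¹ : Vˣ) : V)) := by
    have h1 : algebraMap V W (u₁ : V) * algebraMap V W ((u₁⁻¹ : Vˣ) : V) = 1 := by
      rw [← map_mul, Units.mul_inv, map_one]
    have h2 : θ ^ (e₁ - 1) * θ = θ ^ e₁ := by rw [← pow_succ, Nat.sub_add_cancel he₁pos]
    have h3 : z * z ^ (k - 1) = z ^ k := by rw [← pow_succ', Nat.sub_add_cancel hk0]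
    calc P = (θ ^ e₁ * algebraMap V W ((u₁⁻¹ : Vˣ) : V)) * P := by rw [hθ2, h1, one_mul]
      _ = θ ^ (e₁ - 1) * algebraMap V W ((u₁⁻¹ : Vˣ) : V) * (θ * P) := by rw [← h2]; ring
      _ = θ ^ (e₁ - 1) * algebraMap V W ((u₁⁻¹ : Vˣ) : V) * z ^ k := by rw [← hθ1]
      _ = _ := by rw [← h3]; ring
  have hzmem : z ∈ 𝔪 W := by
    rw [IsLocalRing.mem_maximalIdeal, mem_nonunits_iff]
    intro hu
    have h1 : IsUnit (algebraMap A W π) := by rw [← hz]; exact hu.pow e
    exact hπ.not_isUnit (isUnit_of_map_unit (algebraMap A W) π h1)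
  have hub : IsUnit (IsLocalRing.residue V (u₁ : V)) := u₁.isUnit.map _
  -- the maps
  let φX : V[X] →+* W := Polynomial.eval₂RingHom (algebraMap V W) θ
  have hφXC : ∀ t : V, φX (C t) = algebraMap V W t := fun t => by simp [φX]
  have hφXX : φX X = θ := by simp [φX]
  let φ' : V[X][X] →+* W := Polynomial.eval₂RingHom φX z
  have hφ'C : ∀ q : V[X], φ' (C q) = φX q := fun q => by simp [φ']
  have hφ'X : φ' X = z := by simp [φ']
  let redX : V[X] →+* AdjoinRoot (X ^ e₁ - C (IsLocalRing.residue V (u₁ : V)) : (κ V)[X]) :=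
    (AdjoinRoot.mk _).comp (Polynomial.mapRingHom (IsLocalRing.residue V))
  let red' : V[X][X] →+* AdjoinRoot (X ^ e₁ - C (IsLocalRing.residue V (u₁ : V)) : (κ V)[X]) :=
    redX.comp (Polynomial.evalRingHom (0 : V[X]))
  have hroot : (X ^ e₁ - C (IsLocalRing.residue V (u₁ : V)) : (κ V)[X]).eval₂
      (algebraMap (κ V) (κ W)) (IsLocalRing.residue W θ) = 0 := by
    rw [Polynomial.eval₂_sub, Polynomial.eval₂_pow, Polynomial.eval₂_X, Polynomial.eval₂_C,
      ← map_pow, hθ2, sub_eq_zero]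
    rfl
  let ψ' : AdjoinRoot (X ^ e₁ - C (IsLocalRing.residue V (u₁ : V)) : (κ V)[X]) →ₐ[κ V] κ W :=
    AdjoinRoot.liftAlgHom _ (Algebra.ofId (κ V) (κ W)) (IsLocalRing.residue W θ) hroot
  have hcompX : ∀ q, ψ'.toRingHom (redX q) = IsLocalRing.residue W (φX q) := by
    intro q
    change AdjoinRoot.liftAlgHom _ (Algebra.ofId (κ V) (κ W)) (IsLocalRing.residue W θ) hroot
      (AdjoinRoot.mk _ (q.map (IsLocalRing.residue V))) =
        IsLocalRing.residue W (q.eval₂ (algebraMap V W) θ)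
    rw [AdjoinRoot.liftAlgHom_mk, Polynomial.eval₂_map, Polynomial.hom_eval₂]
    rfl
  have hred'eq : ∀ t : V[X][X], red' t = redX (t.coeff 0) := by
    intro t
    change redX (t.eval 0) = _
    rw [Polynomial.coeff_zero_eq_eval_zero]
  have hφ'eq : ∀ t : V[X][X], φ' t = φ' t.divX * z + φX (t.coeff 0) := by
    intro t
    conv_lhs => rw [← Polynomial.divX_mul_X_add t]
    rw [map_add, map_mul, hφ'X, hφ'C]
  have hcomp : ∀ t, ψ'.toRingHom (red' t) = IsLocalRing.residue W (φ' t) := by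
    intro t
    rw [hred'eq, hφ'eq, hcompX, map_add, map_mul, (IsLocalRing.residue_eq_zero_iff _).2 hzmem,
      mul_zero, zero_add]
  have hsurjX : Function.Surjective redX :=
    AdjoinRoot.mk_surjective.comp (Polynomial.map_surjective _ IsLocalRing.residue_surjective)
  have hsurj : Function.Surjective red' := by
    intro r
    obtain ⟨q, rfl⟩ := hsurjX r
    exact ⟨C q, by rw [hred'eq, Polynomial.coeff_C_zero]⟩
  let J : Ideal V[X][X] :=
    { carrier := {t | ∃ t', φ' t = z * φ' t'}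
      add_mem' := by
        rintro a b ⟨a', ha⟩ ⟨b', hb⟩
        exact ⟨a' + b', by rw [map_add, ha, hb, map_add, mul_add]⟩
      zero_mem' := ⟨0, by simp⟩
      smul_mem' := by
        rintro c a ⟨a', ha⟩
        exact ⟨c * a', by rw [smul_eq_mul, map_mul, ha, map_mul]; ring⟩ }
  have hJY : (X : V[X][X]) ∈ J := ⟨1, by rw [hφ'X, map_one, mul_one]⟩
  have hJ1 : C (C π₁) ∈ J := by
    refine ⟨X ^ (k - 1) * C (X ^ (e₁ - 1)) * C (C ((u₁⁻¹ : Vˣ) : V)), ?_⟩
    rw [hφ'C, hφXC, map_mul, map_mul, map_pow, hφ'X, hφ'C, map_pow, hφXX, hφ'C, hφXC]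
    exact hPz
  have hJ3 : C (X ^ e₁ - C (u₁ : V) : V[X]) ∈ J := by
    refine ⟨0, ?_⟩
    rw [hφ'C, map_sub, map_pow, hφXX, hφXC, hθ2, sub_self, map_zero, mul_zero]
  have hkerC : RingHom.ker (IsLocalRing.residue V) ≤
      (J.comap (C : V[X] →+* V[X][X])).comap (C : V →+* V[X]) := by
    rw [IsLocalRing.ker_residue, hπ₁.maximalIdeal_eq, Ideal.span_le]
    rintro _ rfl
    exact hJ1
  have hkerX : ∀ q : V[X], redX q = 0 → C q ∈ J := by
    intro q hq
    change AdjoinRoot.mk _ (q.map (IsLocalRing.residue V)) = 0 at hq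
    rw [AdjoinRoot.mk_eq_zero] at hq
    obtain ⟨qb, hqb⟩ := hq
    obtain ⟨q₁, rfl⟩ := Polynomial.map_surjective _ IsLocalRing.residue_surjective qb
    have h1 : q - (X ^ e₁ - C (u₁ : V)) * q₁ ∈
        RingHom.ker (Polynomial.mapRingHom (IsLocalRing.residue V)) := by
      rw [RingHom.mem_ker, map_sub, map_mul]
      simp only [Polynomial.coe_mapRingHom, Polynomial.map_sub, Polynomial.map_pow,
        Polynomial.map_X, Polynomial.map_C]
      rw [hqb, sub_self]
    rw [Polynomial.ker_mapRingHom] at h1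
    have h2 : q - (X ^ e₁ - C (u₁ : V)) * q₁ ∈ J.comap (C : V[X] →+* V[X][X]) :=
      (Ideal.map_le_iff_le_comap.2 hkerC) h1
    have h3 : C q = C (q - (X ^ e₁ - C (u₁ : V)) * q₁) + C q₁ * C (X ^ e₁ - C (u₁ : V)) := by
      rw [← map_mul, ← map_add]; congr 1; ring
    rw [h3]
    exact J.add_mem h2 (J.mul_mem_left _ hJ3)
  have hker : ∀ t, red' t = 0 → ∃ t', φ' t = z * φ' t' := by
    intro t ht
    rw [hred'eq] at ht
    have h1 : C (t.coeff 0) ∈ J := hkerX _ ht
    have h2 : t = t.divX * X + C (t.coeff 0) := (Polynomial.divX_mul_X_add t).symm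
    have h3 : t ∈ J := by
      rw [h2]
      exact J.add_mem (J.mul_mem_left _ hJY) h1
    exact h3
  have hφ'map : ∀ x : V[X], φ' (x.map (C : V →+* V[X])) = x.eval₂ (algebraMap V W) z := by
    intro x
    change (x.map (C : V →+* V[X])).eval₂ φX z = _
    rw [Polynomial.eval₂_map]
    congr 1
    exact RingHom.ext fun t => hφXC t
  have hgen' : ∀ w : W, ∃ x y : V[X][X], φ' y ≠ 0 ∧ w * φ' y = φ' x := by
    intro w
    obtain ⟨x, y, hy, hxy⟩ := hgen w
    exact ⟨x.map C, y.map C, by rwa [hφ'map], by rw [hφ'map, hφ'map]; exact hxy⟩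
  -- the residue ring
  have he₁κ : ((e₁ : ℕ) : κ V) ≠ 0 := by
    have h1 : ((e₁ : ℕ) : κ V) = algebraMap (κ A) (κ V) (e₁ : κ A) := by rw [map_natCast]
    rw [h1, Ne, map_eq_zero]
    exact he
  have he₁unit : IsUnit ((e₁ : ℕ) : κ V) := isUnit_iff_ne_zero.2 he₁κ
  have hmax₀ : ∀ P : Ideal (κ V), P.IsPrime → P.IsMaximal := by
    intro P hP
    have : P = ⊥ := (Ideal.eq_bot_or_top P).resolve_right hP.ne_top
    rw [this]
    exact Ideal.bot_isMaximal
  haveI hredR : IsReduced (AdjoinRoot (X ^ e₁ - C (IsLocalRing.residue V (u₁ : V)) : (κ V)[X])) :=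
    isReduced_adjoinRoot_pow_sub_C e₁ he₁pos he₁unit _ hub
  have hmaxR : ∀ P : Ideal (AdjoinRoot (X ^ e₁ - C (IsLocalRing.residue V (u₁ : V)) : (κ V)[X])),
      P.IsPrime → P.IsMaximal := fun P hP =>
    isMaximal_of_isPrime_adjoinRoot hmax₀ _ (monic_X_pow_sub_C _ he₁0) P
  obtain ⟨h1, h2⟩ := abstractCore (E := V[X][X]) φ' red' ψ'.toRingHom hcomp hsurj hmaxR
    z hzmem hz0 (X : V[X][X]) hφ'X hker hgen'
  refine ⟨h1, ?_⟩
  haveI : Algebra.FormallyUnramified (κ V)
      (AdjoinRoot (X ^ e₁ - C (IsLocalRing.residue V (u₁ : V)) : (κ V)[X])) :=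
    formallyUnramified_adjoinRoot_pow_sub_C e₁ he₁pos he₁unit _ hub
  haveI : Module.Finite (κ V)
      (AdjoinRoot (X ^ e₁ - C (IsLocalRing.residue V (u₁ : V)) : (κ V)[X])) :=
    (monic_X_pow_sub_C _ he₁0).finite_adjoinRoot
  haveI : Algebra.FormallyUnramified (κ V) (κ W) :=
    Algebra.FormallyUnramified.of_surjective ψ' h2
  haveI : Module.Finite (κ V) (κ W) :=
    Module.Finite.of_surjective ψ'.toLinearMap h2
  exact Algebra.FormallyUnramified.isSeparable (κ V) (κ W)

end Core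

end Groth.Agent.Lib.Helper9.DvrKummer
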