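import Mathlib
import Groth.Prelude.Def_EtRam
import Groth.Agent.Lib.Helper9.DvrExt
import Groth.Agent.Lib.Helper9.DvrTower
import Groth.Agent.Lib.Helper9.DvrSmoothApp
import Groth.Agent.Lib.Helper9.DvrKummer

open TensorProduct Polynomial

universe u

set_option linter.unusedSectionVars false
set_option linter.style.haveILetI false
set_option linter.overlappingInstances false

namespace Groth.Agent.Lib.Helper9.DvrKummerApp

open Groth.Agent.Lib.Helper9.DvrExt Groth.Agent.Lib.Helper9.DvrTower
  Groth.Agent.Lib.Helper9.DvrSmoothApp Groth.Agent.Lib.Helper9.DvrKummer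
  Groth.Agent.Lib.Helper9.DvrTameBC

local notation "𝔪" => IsLocalRing.maximalIdeal
local notation "κ" => IsLocalRing.ResidueField

/-- If `(e : κ A) ≠ 0` for the tame ramification index. -/
theorem natCast_ramificationIdx'_ne_zero {A V : Type u} [CommRing A] [IsDomain A]
    [IsDiscreteValuationRing A] [CommRing V] [IsDomain V] [IsDiscreteValuationRing V] [Algebra A V]
    [IsLocalHom (algebraMap A V)] (hAV : Function.Injective (algebraMap A V))
    (hp : ∀ p : ℕ, p.Prime → CharP (κ A) p → ¬ p ∣ Ideal.ramificationIdx' (𝔪 A) (𝔪 V)) :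
    ((Ideal.ramificationIdx' (𝔪 A) (𝔪 V) : ℕ) : κ A) ≠ 0 := by
  obtain ⟨p, hpc⟩ := CharP.exists (κ A)
  rcases CharP.char_is_prime_or_zero (κ A) p with hpp | hp0
  · rw [Ne, CharP.cast_eq_zero_iff (κ A) p]
    exact hp p hpp hpc
  · subst hp0
    haveI := CharP.charP_to_charZero (κ A)
    rw [Nat.cast_ne_zero]
    exact ramificationIdx'_ne_zero hAV

/-- A common multiple, invertible in the residue field, of all ramification indices of a tame extension. -/
theorem exists_e0 {A K L : Type u} [CommRing A] [IsDomain A]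
    [IsDiscreteValuationRing A] [Field K] [Algebra A K] [IsFractionRing A K] [Field L] [Algebra K L]
    [FiniteDimensional K L]
    (h : EtRam.IsTamelyRamified A ((algebraMap K L).comp (algebraMap A K))) :
    ∃ e₀ : ℕ, 0 < e₀ ∧ ((e₀ : ℕ) : κ A) ≠ 0 ∧
      ∀ (V : ValuationSubring L)
        (hV : EtRam.Dominates A ((algebraMap K L).comp (algebraMap A K)) V),
        letI : Algebra A V :=
          (RingHom.codRestrict ((algebraMap K L).comp (algebraMap A K)) V hV.1).toAlgebra
        Ideal.ramificationIdx' (𝔪 A) (𝔪 V) ∣ e₀ := by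
  classical
  set n := Module.finrank K L with hn
  set S : Finset ℕ := (Finset.range (n + 1)).filter (fun i => ((i : ℕ) : κ A) ≠ 0) with hS
  have hcast : ((∏ i ∈ S, i : ℕ) : κ A) ≠ 0 := by
    rw [Nat.cast_prod, Finset.prod_ne_zero_iff]
    intro i hi
    exact (Finset.mem_filter.1 hi).2
  refine ⟨∏ i ∈ S, i, ?_, hcast, ?_⟩
  · apply Nat.pos_of_ne_zero
    intro h0
    apply hcast
    rw [h0, Nat.cast_zero]
  · intro V hV
    haveI : IsDiscreteValuationRing V :=
      isDiscreteValuationRing_of_dominates (A := A) (K := K) (L := L) V hV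
    letI algAV : Algebra A V :=
      (RingHom.codRestrict ((algebraMap K L).comp (algebraMap A K)) V hV.1).toAlgebra
    haveI hlocAV : IsLocalHom (algebraMap A V) := isLocalHom_of_dominates _ _ hV
    have hAV : Function.Injective (algebraMap A V) := injective_codRestrict_of_dominates _ hV
    letI algAL : Algebra A L := ((algebraMap K L).comp (algebraMap A K)).toAlgebra
    haveI : IsScalarTower A K L := IsScalarTower.of_algebraMap_eq fun _ => rfl
    haveI : IsScalarTower A V L := IsScalarTower.of_algebraMap_eq fun _ => rfl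
    obtain ⟨hsepV, hpV⟩ := @h V hV hlocAV
    have he := natCast_ramificationIdx'_ne_zero hAV hpV
    haveI : Module.Finite (κ A) (κ V) := finite_residueField (K := K) (L := L) hAV
    have hle := ramificationIdx'_mul_finrank_le (K := K) (L := L) hAV
    have hf : 0 < Module.finrank (κ A) (κ V) := Module.finrank_pos
    have hle' : Ideal.ramificationIdx' (𝔪 A) (𝔪 V) ≤ n := by
      calc Ideal.ramificationIdx' (𝔪 A) (𝔪 V)
          = Ideal.ramificationIdx' (𝔪 A) (𝔪 V) * 1 := (mul_one _).symm
        _ ≤ Ideal.ramificationIdx' (𝔪 A) (𝔪 V) * Module.finrank (κ A) (κ V) :=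
          Nat.mul_le_mul_left _ hf
        _ ≤ n := hle
    have hmem : Ideal.ramificationIdx' (𝔪 A) (𝔪 V) ∈ S := by
      rw [hS, Finset.mem_filter, Finset.mem_range]
      exact ⟨Nat.lt_succ_of_le hle', he⟩
    exact Finset.dvd_prod_of_mem (fun i => i) hmem

theorem exists_kummer {A K L : Type u} [CommRing A] [IsDomain A]
    [IsDiscreteValuationRing A] [Field K] [Algebra A K] [IsFractionRing A K] [Field L] [Algebra K L]
    [FiniteDimensional K L] [Algebra.IsSeparable K L]
    (π : A) (hπ : 𝔪 A = Ideal.span {π})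
    (h : EtRam.IsTamelyRamified A ((algebraMap K L).comp (algebraMap A K)))
    (e : ℕ) (he0 : 0 < e) (heκ : ((e : ℕ) : κ A) ≠ 0)
    (hdiv : ∀ (V : ValuationSubring L)
      (hV : EtRam.Dominates A ((algebraMap K L).comp (algebraMap A K)) V),
      letI : Algebra A V :=
        (RingHom.codRestrict ((algebraMap K L).comp (algebraMap A K)) V hV.1).toAlgebra
      Ideal.ramificationIdx' (𝔪 A) (𝔪 V) ∣ e) :
    ∃ (L' : Type u) (_ : Field L') (_ : Algebra K L')
      (_ : Algebra (AdjoinRoot (X ^ e - C π : A[X])) L') (_ : L →ₐ[K] L'),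
      FiniteDimensional K L' ∧ Algebra.IsSeparable K L' ∧
      (algebraMap (AdjoinRoot (X ^ e - C π : A[X])) L').comp (AdjoinRoot.of (X ^ e - C π)) =
        (algebraMap K L').comp (algebraMap A K) ∧
      ∀ [IsLocalRing (AdjoinRoot (X ^ e - C π : A[X]))],
        EtRam.IsUnramifiedExt (AdjoinRoot (X ^ e - C π : A[X]))
          (algebraMap (AdjoinRoot (X ^ e - C π : A[X])) L') := by
  classical
  have hπirr : Irreducible π := (IsDiscreteValuationRing.irreducible_iff_uniformizer π).2 hπ
  have hALinj : Function.Injective ((algebraMap K L).comp (algebraMap A K)) :=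
    (algebraMap K L).injective.comp (IsFractionRing.injective A K)
  set πL : L := (algebraMap K L) (algebraMap A K π) with hπL
  have hπL0 : πL ≠ 0 := by
    intro h0
    exact hπirr.ne_zero (hALinj (h0.trans (map_zero _).symm))
  have heL : ((e : ℕ) : L) ≠ 0 := by
    intro h0
    have h1 : ((algebraMap K L).comp (algebraMap A K)) (e : A) = 0 := by
      rw [map_natCast]; exact h0
    have h2 : ((e : ℕ) : A) = 0 := hALinj (h1.trans (map_zero _).symm)
    apply heκ
    have := congrArg (IsLocalRing.residue A) h2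
    rwa [map_natCast, map_zero] at this
  have hFsep : (X ^ e - C πL : L[X]).Separable := Polynomial.separable_X_pow_sub_C πL heL hπL0
  have hFmonic : (X ^ e - C πL : L[X]).Monic := monic_X_pow_sub_C πL he0.ne'
  have hFnu : ¬ IsUnit (X ^ e - C πL : L[X]) := by
    intro hu
    have := Polynomial.natDegree_eq_zero_of_isUnit hu
    rw [natDegree_X_pow_sub_C] at this
    omega
  obtain ⟨q, hq, hqF⟩ := WfDvdMonoid.exists_irreducible_factor hFnu hFmonic.ne_zero
  haveI : Fact (Irreducible q) := ⟨hq⟩
  have hz' : (AdjoinRoot.root q) ^ e = AdjoinRoot.of q πL := by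
    have h1 : AdjoinRoot.mk q (X ^ e - C πL) = 0 := AdjoinRoot.mk_eq_zero.2 hqF
    rw [map_sub, map_pow, AdjoinRoot.mk_X, AdjoinRoot.mk_C, sub_eq_zero] at h1
    exact h1
  have hi : ∀ a : A, (algebraMap K (AdjoinRoot q)) (algebraMap A K a) =
      AdjoinRoot.of q ((algebraMap K L) (algebraMap A K a)) := fun a => rfl
  let fA' : AdjoinRoot (X ^ e - C π : A[X]) →+* AdjoinRoot q :=
    AdjoinRoot.lift ((algebraMap K (AdjoinRoot q)).comp (algebraMap A K)) (AdjoinRoot.root q) (by
      rw [eval₂_sub, eval₂_pow, eval₂_X, eval₂_C, hz', sub_eq_zero]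
      rfl)
  letI algA'L' : Algebra (AdjoinRoot (X ^ e - C π : A[X])) (AdjoinRoot q) := fA'.toAlgebra
  haveI hfinL : FiniteDimensional L (AdjoinRoot q) := (AdjoinRoot.powerBasis hq.ne_zero).finite
  haveI hfinK : FiniteDimensional K (AdjoinRoot q) := FiniteDimensional.trans K L (AdjoinRoot q)
  have hqsep : q.Separable := hFsep.of_dvd hqF
  have hunit : IsUnit (AdjoinRoot.mk q (derivative q)) := by
    obtain ⟨a, b, hab⟩ := hqsep
    refine isUnit_iff_exists_inv.2 ⟨AdjoinRoot.mk q b, ?_⟩
    have := congrArg (AdjoinRoot.mk q) hab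
    rw [map_add, map_mul, map_mul, AdjoinRoot.mk_self, mul_zero, zero_add, map_one] at this
    rw [mul_comm]
    exact this
  haveI : Algebra.FormallyUnramified L (AdjoinRoot q) := formallyUnramified_adjoinRoot q hunit
  haveI hsepL : Algebra.IsSeparable L (AdjoinRoot q) :=
    Algebra.FormallyUnramified.isSeparable L (AdjoinRoot q)
  haveI hsepK : Algebra.IsSeparable K (AdjoinRoot q) := Algebra.IsSeparable.trans K L (AdjoinRoot q)
  refine ⟨AdjoinRoot q, inferInstance, inferInstance, algA'L',
    IsScalarTower.toAlgHom K L (AdjoinRoot q), hfinK, hsepK, AdjoinRoot.lift_comp_of _, ?_⟩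
  intro hA'loc W hW hlocW
  letI algA'W : Algebra (AdjoinRoot (X ^ e - C π : A[X])) W :=
    (RingHom.codRestrict (algebraMap (AdjoinRoot (X ^ e - C π : A[X])) (AdjoinRoot q)) W
      hW.1).toAlgebra
  haveI hlocAA' : IsLocalHom (algebraMap A (AdjoinRoot (X ^ e - C π : A[X]))) :=
    isLocalHom_of π hπ e he0
  have hroot_mem : AdjoinRoot.root (X ^ e - C π : A[X]) ∈ 𝔪 (AdjoinRoot (X ^ e - C π : A[X])) := by
    rw [maximalIdeal_adjoinRoot π hπ e he0]
    exact Ideal.mem_span_singleton_self _
  have hfA'of : ∀ a : A, fA' (AdjoinRoot.of _ a) =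
      (algebraMap K (AdjoinRoot q)) (algebraMap A K a) := fun a => AdjoinRoot.lift_of _
  have hfA'root : fA' (AdjoinRoot.root _) = AdjoinRoot.root q := AdjoinRoot.lift_root _
  have hWA : EtRam.Dominates A ((algebraMap K (AdjoinRoot q)).comp (algebraMap A K)) W := by
    refine ⟨fun a => ?_, fun a ha => ?_⟩
    · have := hW.1 (AdjoinRoot.of _ a)
      rwa [show algebraMap (AdjoinRoot (X ^ e - C π : A[X])) (AdjoinRoot q) (AdjoinRoot.of _ a) =
        (algebraMap K (AdjoinRoot q)) (algebraMap A K a) from hfA'of a] at this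
    · have h1 : AdjoinRoot.of (X ^ e - C π : A[X]) a ∈ 𝔪 (AdjoinRoot (X ^ e - C π : A[X])) := by
        rw [IsLocalRing.mem_maximalIdeal, mem_nonunits_iff]
        intro hu
        exact ((IsLocalRing.mem_maximalIdeal a).1 ha)
          (isUnit_of_map_unit (algebraMap A (AdjoinRoot (X ^ e - C π : A[X]))) a hu)
      have := hW.2 _ h1
      rwa [show algebraMap (AdjoinRoot (X ^ e - C π : A[X])) (AdjoinRoot q) (AdjoinRoot.of _ a) =
        (algebraMap K (AdjoinRoot q)) (algebraMap A K a) from hfA'of a] at this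
  haveI : IsDiscreteValuationRing W :=
    isDiscreteValuationRing_of_dominates (A := A) (K := K) (L := AdjoinRoot q) W hWA
  have hV : EtRam.Dominates A ((algebraMap K L).comp (algebraMap A K))
      (W.comap (algebraMap L (AdjoinRoot q))) := by
    rw [dominates_comap_iff]
    exact hWA
  haveI : IsDiscreteValuationRing (W.comap (algebraMap L (AdjoinRoot q))) :=
    isDiscreteValuationRing_of_dominates (A := A) (K := K) (L := L) _ hV
  letI algAV : Algebra A (W.comap (algebraMap L (AdjoinRoot q))) :=
    (RingHom.codRestrict ((algebraMap K L).comp (algebraMap A K)) _ hV.1).toAlgebra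
  letI algVW : Algebra (W.comap (algebraMap L (AdjoinRoot q))) W :=
    (EtRam.inclOfComap W (algebraMap L (AdjoinRoot q))).toAlgebra
  letI algAW : Algebra A W :=
    ((algebraMap (W.comap (algebraMap L (AdjoinRoot q))) W).comp
      (algebraMap A (W.comap (algebraMap L (AdjoinRoot q))))).toAlgebra
  haveI : IsScalarTower A (W.comap (algebraMap L (AdjoinRoot q))) W :=
    IsScalarTower.of_algebraMap_eq fun _ => rfl
  haveI hlocVW : IsLocalHom (algebraMap (W.comap (algebraMap L (AdjoinRoot q))) W) :=
    EtRam.isLocalHom_inclOfComap W (algebraMap L (AdjoinRoot q))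
  haveI hlocAV : IsLocalHom (algebraMap A (W.comap (algebraMap L (AdjoinRoot q)))) :=
    isLocalHom_of_dominates _ _ hV
  haveI hlocAW : IsLocalHom (algebraMap A W) := by
    change IsLocalHom ((algebraMap (W.comap (algebraMap L (AdjoinRoot q))) W).comp
      (algebraMap A (W.comap (algebraMap L (AdjoinRoot q)))))
    exact RingHom.isLocalHom_comp _ _
  have hVW : Function.Injective (algebraMap (W.comap (algebraMap L (AdjoinRoot q))) W) := by
    intro x y hxy
    have := congrArg Subtype.val hxy
    exact Subtype.ext ((algebraMap L (AdjoinRoot q)).injective this)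
  have hAV : Function.Injective (algebraMap A (W.comap (algebraMap L (AdjoinRoot q)))) :=
    injective_codRestrict_of_dominates _ hV
  obtain ⟨hsepV, hpV⟩ := @h (W.comap (algebraMap L (AdjoinRoot q))) hV hlocAV
  haveI := hsepV
  have he := natCast_ramificationIdx'_ne_zero hAV hpV
  have hdvd := hdiv (W.comap (algebraMap L (AdjoinRoot q))) hV
  -- the root in `W`
  have hzW : AdjoinRoot.root q ∈ W := by
    have := hW.1 (AdjoinRoot.root _)
    rwa [show algebraMap (AdjoinRoot (X ^ e - C π : A[X])) (AdjoinRoot q) (AdjoinRoot.root _) =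
      AdjoinRoot.root q from hfA'root] at this
  have hzpow : (⟨AdjoinRoot.root q, hzW⟩ : W) ^ e = algebraMap A W π := by
    apply Subtype.ext
    change (AdjoinRoot.root q) ^ e = AdjoinRoot.of q πL
    exact hz'
  have hgen : ∀ w : W, ∃ x y : (W.comap (algebraMap L (AdjoinRoot q)))[X],
      y.eval₂ (algebraMap (W.comap (algebraMap L (AdjoinRoot q))) W) ⟨AdjoinRoot.root q, hzW⟩ ≠ 0 ∧
      w * y.eval₂ (algebraMap (W.comap (algebraMap L (AdjoinRoot q))) W) ⟨AdjoinRoot.root q, hzW⟩ =
        x.eval₂ (algebraMap (W.comap (algebraMap L (AdjoinRoot q))) W) ⟨AdjoinRoot.root q, hzW⟩ := by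
    intro w
    obtain ⟨p, hp⟩ := AdjoinRoot.mk_surjective (w : AdjoinRoot q)
    obtain ⟨b, hbM, hb⟩ := IsLocalization.integerNormalization_spec
      (nonZeroDivisors (W.comap (algebraMap L (AdjoinRoot q)))) p
    refine ⟨IsLocalization.integerNormalization
      (nonZeroDivisors (W.comap (algebraMap L (AdjoinRoot q)))) p, C b, ?_, ?_⟩
    · rw [eval₂_C, Ne, map_eq_zero_iff _ hVW]
      exact nonZeroDivisors.ne_zero hbM
    · apply Subtype.ext
      rw [eval₂_C]
      have h1 : ((Polynomial.eval₂ (algebraMap (W.comap (algebraMap L (AdjoinRoot q))) W)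
          (⟨AdjoinRoot.root q, hzW⟩ : W) (IsLocalization.integerNormalization
          (nonZeroDivisors (W.comap (algebraMap L (AdjoinRoot q)))) p) : W) : AdjoinRoot q) =
          Polynomial.eval₂ (AdjoinRoot.of q) (AdjoinRoot.root q)
            ((IsLocalization.integerNormalization
              (nonZeroDivisors (W.comap (algebraMap L (AdjoinRoot q)))) p).map
              (algebraMap (W.comap (algebraMap L (AdjoinRoot q))) L)) := by
        rw [Polynomial.eval₂_map]
        exact Polynomial.hom_eval₂ _ (algebraMap (W.comap (algebraMap L (AdjoinRoot q))) W)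
          W.subtype _
      have h2 : (b • p : L[X]) = C (algebraMap (W.comap (algebraMap L (AdjoinRoot q))) L b) * p := by
        rw [Algebra.smul_def]
        rfl
      rw [h1, hb, h2, Polynomial.eval₂_mul, Polynomial.eval₂_C, ← AdjoinRoot.algebraMap_eq,
        ← Polynomial.aeval_def, AdjoinRoot.aeval_eq, hp, mul_comm]
      rfl
  obtain ⟨h1, h2⟩ := kummerCore (A := A) (V := W.comap (algebraMap L (AdjoinRoot q))) (W := W)
    hAV hVW hπirr e he0 ⟨AdjoinRoot.root q, hzW⟩ hzpow he hdvd hgen
  constructor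
  · change (𝔪 (AdjoinRoot (X ^ e - C π : A[X]))).map _ = 𝔪 W
    rw [maximalIdeal_adjoinRoot π hπ e he0, Ideal.map_span, Set.image_singleton, h1]
    congr 2
    exact Subtype.ext hfA'root
  · haveI : IsScalarTower A (AdjoinRoot (X ^ e - C π : A[X])) W :=
      IsScalarTower.of_algebraMap_eq fun a => Subtype.ext (hfA'of a).symm
    haveI := h2
    haveI : Algebra.IsSeparable (κ A) (κ W) :=
      isSeparable_residue_trans (A := A) (B := W.comap (algebraMap L (AdjoinRoot q))) (C := W)
    exact Algebra.isSeparable_tower_top_of_isSeparable (κ A)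
      (κ (AdjoinRoot (X ^ e - C π : A[X]))) (κ W)

end Groth.Agent.Lib.Helper9.DvrKummerApp
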