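import Mathlib
import Groth.Prelude.Def_EtRam
import Groth.Agent.Lib.Helper9.DvrExt
import Groth.Agent.Lib.Helper9.DvrTower
import Groth.Agent.Lib.Helper9.DvrSmoothApp
import Groth.Agent.Lib.Helper9.DvrKummer

open TensorProduct Polynomial

universe u

set_option linter.unusedSectionVars false
set_option linter.style.haveILetI false
set_option linter.overlappingInstances false

namespace Groth.Agent.Lib.Helper9.DvrKummerConv

open Groth.Agent.Lib.Helper9.DvrExt Groth.Agent.Lib.Helper9.DvrTower
  Groth.Agent.Lib.Helper9.DvrSmoothApp Groth.Agent.Lib.Helper9.DvrKummer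

local notation "𝔪" => IsLocalRing.maximalIdeal
local notation "κ" => IsLocalRing.ResidueField

/-- If `L` embeds in an extension `L'` which is unramified over the Kummer ring `A[π^{1/e}]` with `e`
invertible in the residue field, then `L` is tamely ramified over `A`. -/
theorem tame_of_kummer {A K L : Type u} [CommRing A] [IsDomain A]
    [IsDiscreteValuationRing A] [Field K] [Algebra A K] [IsFractionRing A K] [Field L] [Algebra K L]
    [FiniteDimensional K L]
    (π : A) (hπ : 𝔪 A = Ideal.span {π})
    (e : ℕ) (he0 : 0 < e) (heκ : ((e : ℕ) : κ A) ≠ 0)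
    (L' : Type u) [Field L'] [Algebra K L'] [Algebra (AdjoinRoot (X ^ e - C π : A[X])) L']
    (j : L →ₐ[K] L') [FiniteDimensional K L']
    (hcompat : (algebraMap (AdjoinRoot (X ^ e - C π : A[X])) L').comp (AdjoinRoot.of (X ^ e - C π)) =
      (algebraMap K L').comp (algebraMap A K))
    (hunr : ∀ [IsLocalRing (AdjoinRoot (X ^ e - C π : A[X]))],
      EtRam.IsUnramifiedExt (AdjoinRoot (X ^ e - C π : A[X]))
        (algebraMap (AdjoinRoot (X ^ e - C π : A[X])) L')) :
    EtRam.IsTamelyRamified A ((algebraMap K L).comp (algebraMap A K)) := by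
  classical
  haveI hA'loc : IsLocalRing (AdjoinRoot (X ^ e - C π : A[X])) := isLocalRing_adjoinRoot π hπ e he0
  have hunr' := @hunr hA'loc
  have hπirr : Irreducible π := (IsDiscreteValuationRing.irreducible_iff_uniformizer π).2 hπ
  have hπm : π ∈ 𝔪 A := by rw [hπ]; exact Ideal.mem_span_singleton_self π
  intro V hV hlocAV
  obtain ⟨W, hWV⟩ := exists_comap_eq j.toRingHom V
  subst hWV
  haveI : IsDiscreteValuationRing (W.comap j.toRingHom) :=
    isDiscreteValuationRing_of_dominates (A := A) (K := K) (L := L) _ hV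
  letI algAV : Algebra A (W.comap j.toRingHom) :=
    (RingHom.codRestrict ((algebraMap K L).comp (algebraMap A K)) _ hV.1).toAlgebra
  have hcompA : ∀ a : A, algebraMap (AdjoinRoot (X ^ e - C π : A[X])) L' (AdjoinRoot.of _ a) =
      algebraMap K L' (algebraMap A K a) := fun a => RingHom.congr_fun hcompat a
  have hcomp_eq : j.toRingHom.comp ((algebraMap K L).comp (algebraMap A K)) =
      (algebraMap K L').comp (algebraMap A K) := by
    ext a
    exact j.commutes _
  have hWA : EtRam.Dominates A ((algebraMap K L').comp (algebraMap A K)) W := by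
    have := (dominates_comap_iff ((algebraMap K L).comp (algebraMap A K)) j.toRingHom W).1 hV
    rwa [hcomp_eq] at this
  haveI : IsDiscreteValuationRing W :=
    isDiscreteValuationRing_of_dominates (A := A) (K := K) (L := L') W hWA
  set z' : L' := algebraMap (AdjoinRoot (X ^ e - C π : A[X])) L' (AdjoinRoot.root _) with hz'def
  have hz'pow : z' ^ e = algebraMap K L' (algebraMap A K π) := by
    rw [hz'def, ← map_pow, root_pow, hcompA]
  have hvπ : W.valuation (algebraMap K L' (algebraMap A K π)) < 1 := hWA.2 π hπm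
  have hvz : W.valuation z' < 1 := by
    by_contra hnot
    have h1 : 1 ≤ W.valuation z' := not_lt.1 hnot
    have h2 : 1 ≤ W.valuation z' ^ e := one_le_pow₀ h1
    rw [← map_pow, hz'pow] at h2
    exact (not_lt.2 h2) hvπ
  have hz'W : z' ∈ W := (W.valuation_le_one_iff z').1 hvz.le
  have hW' : EtRam.Dominates (AdjoinRoot (X ^ e - C π : A[X]))
      (algebraMap (AdjoinRoot (X ^ e - C π : A[X])) L') W := by
    have hmemW : ∀ x, algebraMap (AdjoinRoot (X ^ e - C π : A[X])) L' x ∈ W := by
      intro x
      obtain ⟨p, rfl⟩ := AdjoinRoot.mk_surjective x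
      induction p using Polynomial.induction_on' with
      | add p q hp hq =>
        rw [map_add, map_add]
        exact W.add_mem _ _ hp hq
      | monomial n a =>
        rw [← Polynomial.C_mul_X_pow_eq_monomial, map_mul, map_pow, AdjoinRoot.mk_C,
          AdjoinRoot.mk_X, map_mul, map_pow, hcompA]
        exact W.mul_mem _ _ (hWA.1 a) (pow_mem hz'W n)
    refine ⟨hmemW, fun x hx => ?_⟩
    rw [maximalIdeal_adjoinRoot π hπ e he0] at hx
    obtain ⟨y, rfl⟩ := Ideal.mem_span_singleton'.1 hx
    rw [map_mul, map_mul]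
    calc W.valuation (algebraMap _ L' y) * W.valuation z'
        ≤ 1 * W.valuation z' := mul_le_mul_left ((W.valuation_le_one_iff _).2 (hmemW y)) _
      _ = W.valuation z' := one_mul _
      _ < 1 := hvz
  letI algA'W : Algebra (AdjoinRoot (X ^ e - C π : A[X])) W :=
    (RingHom.codRestrict (algebraMap (AdjoinRoot (X ^ e - C π : A[X])) L') W hW'.1).toAlgebra
  haveI hlocA'W : IsLocalHom (algebraMap (AdjoinRoot (X ^ e - C π : A[X])) W) :=
    isLocalHom_of_dominates _ W hW'
  obtain ⟨hwu, hsep⟩ := @hunr' W hW' hlocA'W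
  have hmW : 𝔪 W = Ideal.span {(⟨z', hz'W⟩ : W)} := by
    have h1 : (𝔪 (AdjoinRoot (X ^ e - C π : A[X]))).map
        (algebraMap (AdjoinRoot (X ^ e - C π : A[X])) W) = 𝔪 W := hwu
    rw [maximalIdeal_adjoinRoot π hπ e he0, Ideal.map_span, Set.image_singleton] at h1
    rw [← h1]
    rfl
  have hirr : Irreducible (⟨z', hz'W⟩ : W) :=
    (IsDiscreteValuationRing.irreducible_iff_uniformizer _).2 hmW
  letI algVW : Algebra (W.comap j.toRingHom) W := (EtRam.inclOfComap W j.toRingHom).toAlgebra
  letI algAW : Algebra A W :=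
    ((algebraMap (W.comap j.toRingHom) W).comp (algebraMap A (W.comap j.toRingHom))).toAlgebra
  haveI : IsScalarTower A (W.comap j.toRingHom) W := IsScalarTower.of_algebraMap_eq fun _ => rfl
  haveI hlocVW : IsLocalHom (algebraMap (W.comap j.toRingHom) W) :=
    EtRam.isLocalHom_inclOfComap W j.toRingHom
  haveI hlocAW : IsLocalHom (algebraMap A W) := by
    change IsLocalHom ((algebraMap (W.comap j.toRingHom) W).comp
      (algebraMap A (W.comap j.toRingHom)))
    exact RingHom.isLocalHom_comp _ _
  have hVW : Function.Injective (algebraMap (W.comap j.toRingHom) W) := by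
    intro x y hxy
    have := congrArg Subtype.val hxy
    exact Subtype.ext (j.toRingHom.injective this)
  have hAV : Function.Injective (algebraMap A (W.comap j.toRingHom)) :=
    injective_codRestrict_of_dominates _ hV
  have hAWval : ∀ a : A, ((algebraMap A W a : W) : L') = algebraMap K L' (algebraMap A K a) :=
    fun a => j.commutes _
  have heW : Ideal.ramificationIdx' (𝔪 A) (𝔪 W) = e := by
    refine ramificationIdx'_eq_of_map_uniformizer hπirr hirr (u := 1) ?_
    apply Subtype.ext
    rw [hAWval, Units.val_one, one_mul]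
    exact hz'pow.symm
  have htower := ramificationIdx'_tower hAV hVW
  rw [heW] at htower
  have hdvd : Ideal.ramificationIdx' (𝔪 A) (𝔪 (W.comap j.toRingHom)) ∣ e :=
    Dvd.intro _ htower.symm
  constructor
  · haveI hlocAA' : IsLocalHom (algebraMap A (AdjoinRoot (X ^ e - C π : A[X]))) :=
      isLocalHom_of π hπ e he0
    haveI : IsScalarTower A (AdjoinRoot (X ^ e - C π : A[X])) W :=
      IsScalarTower.of_algebraMap_eq fun a => Subtype.ext ((hAWval a).trans (hcompA a).symm)
    haveI : Algebra.IsSeparable (κ A) (κ (AdjoinRoot (X ^ e - C π : A[X]))) := by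
      rw [Algebra.isSeparable_def]
      intro x
      obtain ⟨a, rfl⟩ := residue_surjective_of π hπ e he0 x
      exact isSeparable_algebraMap (IsLocalRing.residue A a)
    haveI := hsep
    haveI : Algebra.IsSeparable (κ A) (κ W) :=
      Algebra.IsSeparable.trans (κ A) (κ (AdjoinRoot (X ^ e - C π : A[X]))) (κ W)
    exact isSeparable_residue_bot (A := A) (B := W.comap j.toRingHom) (C := W)
  · intro p hpp hpc hpdvd
    apply heκ
    rw [CharP.cast_eq_zero_iff (κ A) p]
    exact dvd_trans hpdvd hdvd

end Groth.Agent.Lib.Helper9.DvrKummerConv
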