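import Mathlib
import Groth.Agent.Lib.Helper9.DvrEisTame
import Groth.Agent.Lib.Helper9.DvrTameBC

/-!
# Splitting field of `∏ (y^{r_i} - v_i ϖ^{b_i})` over a henselian DVR with alg. closed residue field
-/

set_option autoImplicit false
universe u

namespace Groth.Agent.Lib.Helper9.DvrKummerLcm

open Polynomial IsLocalRing

theorem finrank_eq_lcm (O : Type u) [CommRing O] [IsDomain O]
    [IsDiscreteValuationRing O] [HenselianLocalRing O] [IsAlgClosed (ResidueField O)]
    (K : Type u) [Field K] [Algebra O K] [IsFractionRing O K]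
    (ϖ : O) (hϖ : Irreducible ϖ) (m : ℕ) (r b : Fin m → ℕ) (v : Fin m → Oˣ)
    (hr : ∀ i, 1 ≤ r i) (hb : ∀ i, 1 ≤ b i) (hrb : ∀ i, Nat.Coprime (r i) (b i))
    (hru : ∀ i, IsUnit ((r i : ℕ) : O))
    (E : Type u) [Field E] [Algebra K E] (P : K[X])
    (hP : P = ∏ i, (X ^ (r i) - C (algebraMap O K ((v i : O) * ϖ ^ (b i)))))
    [IsSplittingField K E P] :
    Module.finrank K E = Finset.univ.lcm r := by
  classical
  obtain ⟨a, ha⟩ : ∃ a : Fin m → K,
    a = fun i => algebraMap O K ((v i : O) * ϖ ^ (b i)) := ⟨_, rfl⟩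
  have ha' : ∀ i, algebraMap O K ((v i : O) * ϖ ^ (b i)) = a i := fun i => by
    rw [ha]
  simp only [ha'] at hP
  obtain ⟨N, hN⟩ : ∃ N : ℕ, N = Finset.univ.lcm r := ⟨_, rfl⟩
  rw [← hN]
  have hrN : ∀ i, r i ∣ N := fun i => hN ▸ Finset.dvd_lcm (Finset.mem_univ i)
  have hN0 : 0 < N := by
    apply Nat.pos_of_ne_zero
    rw [hN, Ne, Finset.lcm_eq_zero_iff]
    rintro ⟨i, -, hi⟩
    have := hr i
    omega
  -- primitive roots of unity and roots of the units
  have hζ : ∀ i, ∃ ζ : O, IsPrimitiveRoot ζ (r i) := fun i =>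
    Groth.Agent.Lib.Helper9.DvrEisTame.exists_isPrimitiveRoot (r i) (hr i) (hru i)
  have hu : ∀ i, ∃ u : O, u ^ (r i) = (v i : O) := fun i =>
    Groth.Agent.Lib.Helper9.DvrEisTame.exists_pow_eq_of_isUnit (r i) (hr i) (hru i) _ (v i).isUnit
  have hfac_ne : ∀ i, (X ^ (r i) - C (a i) : K[X]) ≠ 0 := fun i =>
    (monic_X_pow_sub_C (a i) (by have := hr i; omega)).ne_zero
  have hP0 : P ≠ 0 := by
    rw [hP]
    exact Finset.prod_ne_zero_iff.2 fun i _ => hfac_ne i
  haveI : FiniteDimensional K E := IsSplittingField.finiteDimensional E P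
  apply Nat.dvd_antisymm
  · -- the splitting field embeds in `K(ϖ^{1/N})`
    haveI : Fact (Irreducible (X ^ N - C (algebraMap O K ϖ) : K[X])) :=
      ⟨Groth.Agent.Lib.Helper9.DvrEisTame.irreducible_X_pow_sub_C K hϖ N hN0⟩
    set g : K[X] := X ^ N - C (algebraMap O K ϖ) with hg
    have hgmon : g.Monic := monic_X_pow_sub_C _ hN0.ne'
    have hgne : g ≠ 0 := hgmon.ne_zero
    have hfinM : Module.finrank K (AdjoinRoot g) = N := by
      rw [(AdjoinRoot.powerBasis hgne).finrank, AdjoinRoot.powerBasis_dim, hg,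
        natDegree_X_pow_sub_C]
    haveI : FiniteDimensional K (AdjoinRoot g) :=
      (AdjoinRoot.powerBasis hgne).finite
    have ht : (AdjoinRoot.root g) ^ N =
        algebraMap K (AdjoinRoot g) (algebraMap O K ϖ) := by
      have h1 := AdjoinRoot.mk_self (f := g)
      rw [hg, map_sub, map_pow, AdjoinRoot.mk_X, AdjoinRoot.mk_C, sub_eq_zero] at h1
      rw [AdjoinRoot.algebraMap_eq]
      exact h1
    have hsplit : (P.map (algebraMap K (AdjoinRoot g))).Splits := by
      rw [hP, Polynomial.map_prod]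
      apply Splits.prod
      intro i _
      rw [Polynomial.map_sub, Polynomial.map_pow, Polynomial.map_X, Polynomial.map_C]
      obtain ⟨ζ, hζi⟩ := hζ i
      obtain ⟨u, hui⟩ := hu i
      have hζM : IsPrimitiveRoot (algebraMap K (AdjoinRoot g)
          (algebraMap O K ζ)) (r i) :=
        (hζi.map_of_injective (IsFractionRing.injective O K)).map_of_injective
          (algebraMap K (AdjoinRoot g)).injective
      refine X_pow_sub_C_splits_of_isPrimitiveRoot hζM
        (α := algebraMap K (AdjoinRoot g) (algebraMap O K u) *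
          (AdjoinRoot.root g) ^ ((N / r i) * b i)) ?_
      rw [mul_pow, ← map_pow, ← map_pow, hui, ← pow_mul]
      have h1 : N / r i * b i * r i = N * b i := by
        rw [mul_assoc, mul_comm (b i) (r i), ← mul_assoc, Nat.div_mul_cancel (hrN i)]
      rw [h1, pow_mul, ht, ← map_pow, ← map_pow, ← map_mul, ← map_mul, ha]
    let φ : E →ₐ[K] AdjoinRoot g := IsSplittingField.lift E P hsplit
    have h1 := Module.finrank_mul_finrank K φ.fieldRange (AdjoinRoot g)
    have h2 : Module.finrank K φ.fieldRange = Module.finrank K E :=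
      (AlgEquiv.ofInjectiveField φ).toLinearEquiv.finrank_eq.symm
    rw [h2, hfinM] at h1
    exact Dvd.intro _ h1
  · rw [hN]
    apply Finset.lcm_dvd
    intro i _
    -- a root of the `i`-th factor
    have hsp : ((X ^ (r i) - C (a i) : K[X]).map (algebraMap K E)).Splits := by
      refine Splits.of_dvd (IsSplittingField.splits E P) ((Polynomial.map_ne_zero_iff
        (algebraMap K E).injective).2 hP0) ?_
      rw [hP]
      exact Polynomial.map_dvd _ (Finset.dvd_prod_of_mem _ (Finset.mem_univ i))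
    have hdeg0 : ((X ^ (r i) - C (a i) : K[X]).map (algebraMap K E)).degree ≠ 0 := by
      rw [Polynomial.degree_map, degree_X_pow_sub_C (hr i)]
      have := hr i
      intro h0
      have h4 : r i = 0 := by exact_mod_cast h0
      omega
    obtain ⟨y, hy⟩ := hsp.exists_eval_eq_zero hdeg0
    rw [Polynomial.map_sub, Polynomial.map_pow, Polynomial.map_X, Polynomial.map_C, eval_sub,
      eval_pow, eval_X, eval_C, sub_eq_zero] at hy
    obtain ⟨s, q, hsq⟩ := Groth.Agent.Lib.Helper9.DvrTameBC.exists_bezout_nat (b i) (r i) (hrb i).symm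
      (hb i) (hr i)
    -- `z = y^s / ϖ^q` has `z^r = v^s ϖ`
    have hϖK : algebraMap K E (algebraMap O K ϖ) ≠ 0 := by
      rw [Ne, map_eq_zero, map_eq_zero_iff _ (IsFractionRing.injective O K)]
      exact hϖ.ne_zero
    have hπ' : Irreducible (((v i) ^ s : Oˣ) * ϖ : O) :=
      (irreducible_units_mul ((v i) ^ s)).2 hϖ
    obtain ⟨z, hz⟩ : ∃ z : E, z ^ (r i) =
        algebraMap K E (algebraMap O K (((v i) ^ s : Oˣ) * ϖ : O)) := by
      refine ⟨y ^ s / (algebraMap K E (algebraMap O K ϖ)) ^ q, ?_⟩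
      rw [div_pow, ← pow_mul, mul_comm s (r i), pow_mul, hy, ha,
        div_eq_iff (pow_ne_zero _ (pow_ne_zero _ hϖK))]
      simp only [map_mul, map_pow, Units.val_pow_eq_pow_val]
      rw [mul_pow, ← pow_mul, mul_comm (b i) s, hsq, pow_succ, pow_mul]
      ring
    have hirr := Groth.Agent.Lib.Helper9.DvrEisTame.irreducible_X_pow_sub_C K hπ'
      (r i) (hr i)
    have hzint : IsIntegral K z := IsIntegral.of_finite _ z
    have hminz : minpoly K z =
        X ^ (r i) - C (algebraMap O K (((v i) ^ s : Oˣ) * ϖ : O)) := by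
      refine (minpoly.eq_of_irreducible_of_monic hirr ?_
        (monic_X_pow_sub_C _ (by have := hr i; omega))).symm
      rw [map_sub, map_pow, aeval_X, aeval_C, hz, sub_self]
    have h1 := Module.finrank_mul_finrank K (IntermediateField.adjoin K {z}) E
    rw [IntermediateField.adjoin.finrank hzint, hminz, natDegree_X_pow_sub_C] at h1
    exact Dvd.intro _ h1

end Groth.Agent.Lib.Helper9.DvrKummerLcm
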