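import Mathlib
import Groth.Prelude.Def_EtRam
import Groth.Agent.Lib.Helper9.DvrMono
import Groth.Agent.Lib.Helper9.DvrTotRamCrit
import Groth.Agent.Lib.Helper9.DvrTameBC
import Groth.Agent.Lib.Helper9.DvrArtinSchreier
import Groth.Agent.S7140

/-!
# Kummer extensions of degree `p` of the fraction field of a DVR of mixed characteristic `(0, p)`
containing a primitive `p`-th root of unity, in "Artin–Schreier form" `P(z) = ξ` with
`w^p P(t) = (1 + w t)^p - 1`, `w = 1 - ζ`.
-/

open Polynomial

universe u

set_option linter.unusedSectionVars false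
set_option linter.style.haveILetI false
set_option linter.overlappingInstances false

namespace Groth.Agent.Lib.Helper9.DvrKummerP

open Groth.Agent.Lib.Helper9.DvrExt Groth.Agent.Lib.Helper9.DvrMono
  Groth.Agent.Lib.Helper9.DvrTotRamCrit

local notation "𝔪" => IsLocalRing.maximalIdeal
local notation "κ" => IsLocalRing.ResidueField

section General

variable {A K L : Type u} [CommRing A] [IsDomain A]
  [IsDiscreteValuationRing A] [Field K] [Algebra A K] [IsFractionRing A K] [Field L] [Algebra K L]
  [Algebra A L] [IsScalarTower A K L]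

/-- Case 4 of the classification. -/
@[reducible] def Case4 (p : ℕ) (A L : Type u) [CommRing A] [IsDomain A]
    [IsDiscreteValuationRing A] [Field L] [Algebra A L] : Prop :=
  (∃ V : ValuationSubring L, EtRam.Dominates A (algebraMap A L) V) ∧
      (∀ V V' : ValuationSubring L, EtRam.Dominates A (algebraMap A L) V →
        EtRam.Dominates A (algebraMap A L) V' → V = V') ∧
      ∀ (V : ValuationSubring L) (h : EtRam.Dominates A (algebraMap A L) V),
        letI : Algebra A V := (RingHom.codRestrict (algebraMap A L) V h.1).toAlgebra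
        ∀ [IsLocalHom (algebraMap A V)],
          EtRam.IsWeaklyUnramified A V ∧
            IsPurelyInseparable (κ A) (κ V) ∧ Module.finrank (κ A) (κ V) = p

/-- The four cases. -/
@[reducible] def Four (p : ℕ) (A K L : Type u) [CommRing A] [IsDomain A]
    [IsDiscreteValuationRing A] [Field K] [Field L] [Algebra K L] [Algebra A L] : Prop :=
  Module.finrank K L = 1 ∨
    (EtRam.IsUnramifiedExt A (algebraMap A L) ∧ Module.finrank K L = p) ∨
    (EtRam.IsTotallyRamified A (algebraMap A L) ∧ Module.finrank K L = p) ∨ Case4 p A L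

/-- the valuation of a monic polynomial at an element of valuation `> 1`. -/
theorem val_eval₂_monic (V : ValuationSubring L) (hV : EtRam.Dominates A (algebraMap A L) V)
    (G : A[X]) (hG : G.Monic) (z : L) (hz : 1 < V.valuation z) :
    V.valuation (G.eval₂ (algebraMap A L) z) = V.valuation z ^ G.natDegree := by
  have hz0 : V.valuation z ≠ 0 := (lt_trans zero_lt_one hz).ne'
  conv_lhs => rw [hG.as_sum]
  rw [eval₂_add, eval₂_pow, eval₂_X, eval₂_finset_sum]
  have hlt : V.valuation (∑ i ∈ Finset.range G.natDegree,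
      (C (G.coeff i) * X ^ i).eval₂ (algebraMap A L) z) < V.valuation (z ^ G.natDegree) := by
    rw [map_pow]
    apply Valuation.map_sum_lt _ (pow_ne_zero _ hz0)
    intro i hi
    rw [Finset.mem_range] at hi
    rw [eval₂_mul, eval₂_C, eval₂_pow, eval₂_X, map_mul, map_pow]
    have h1 : V.valuation (algebraMap A L (G.coeff i)) ≤ 1 :=
      (ValuationSubring.valuation_le_one_iff V _).2 (hV.1 _)
    calc V.valuation (algebraMap A L (G.coeff i)) * V.valuation z ^ i
        ≤ 1 * V.valuation z ^ i := mul_le_mul_left h1 _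
      _ = V.valuation z ^ i := one_mul _
      _ < V.valuation z ^ G.natDegree := pow_lt_pow_right₀ hz hi
  rw [Valuation.map_add_eq_of_lt_left _ hlt, map_pow]

/-- scaling the roots by an element of the maximal ideal kills the lower coefficients. -/
theorem scaleRoots_map_residue (G : A[X]) (hG : G.Monic) (s : A) (hs : s ∈ 𝔪 A) :
    (G.scaleRoots s).map (IsLocalRing.residue A) = X ^ G.natDegree := by
  ext i
  rw [coeff_map, coeff_scaleRoots, coeff_X_pow]
  rcases lt_trichotomy i G.natDegree with h | h | h
  · rw [if_neg h.ne, map_mul, map_pow]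
    have : IsLocalRing.residue A s = 0 := (IsLocalRing.residue_eq_zero_iff s).2 hs
    rw [this, zero_pow (Nat.sub_pos_of_lt h).ne', mul_zero]
  · rw [if_pos h, h, Nat.sub_self, pow_zero, mul_one, hG.coeff_natDegree, map_one]
  · rw [if_neg h.ne', coeff_eq_zero_of_natDegree_lt h, zero_mul, map_zero]

/-- Case 4 from a monic polynomial of degree `p` whose reduction is `X^p - ā`, `ā` not a `p`-th
power. -/
theorem wild_of_red_eq {p : ℕ} [hp : Fact p.Prime] [CharP (κ A) p] [FiniteDimensional K L]
    (G : A[X]) (y : L) (hy : G.eval₂ (algebraMap A L) y = 0) (hG : G.Monic)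
    (hGdeg : G.natDegree = p) (hgen : IntermediateField.adjoin K {y} = ⊤) (a : A)
    (hGred : G.map (IsLocalRing.residue A) = X ^ p - C (IsLocalRing.residue A a))
    (hra : ∀ r : A, IsLocalRing.residue A a ≠ IsLocalRing.residue A r ^ p) :
    Case4 p A L := by
  classical
  haveI : ExpChar (κ A) p := ExpChar.prime hp.out
  have hirr : Irreducible (G.map (IsLocalRing.residue A)) := by
    rw [hGred]
    apply X_pow_sub_C_irreducible_of_prime hp.out
    intro b hb
    obtain ⟨r, rfl⟩ := IsLocalRing.residue_surjective b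
    exact hra r hb.symm
  have hpow : ∀ r : AdjoinRoot (G.map (IsLocalRing.residue A)), ∃ c : κ A,
      r ^ p = AdjoinRoot.of _ c := by
    haveI : Fact (Irreducible (G.map (IsLocalRing.residue A))) := ⟨hirr⟩
    have hdeg0 : (G.map (IsLocalRing.residue A)).degree ≠ 0 := by
      rw [hGred, degree_X_pow_sub_C hp.out.pos]
      exact_mod_cast hp.out.ne_zero
    haveI : CharP (AdjoinRoot (G.map (IsLocalRing.residue A))) p :=
      charP_of_injective_ringHom (f := AdjoinRoot.of (G.map (IsLocalRing.residue A)))
        (AdjoinRoot.of.injective_of_degree_ne_zero hdeg0) p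
    have hroot : AdjoinRoot.root (G.map (IsLocalRing.residue A)) ^ p =
        AdjoinRoot.of _ (IsLocalRing.residue A a) := by
      have h1 := AdjoinRoot.mk_self (f := G.map (IsLocalRing.residue A))
      have h2 := congrArg (AdjoinRoot.mk (G.map (IsLocalRing.residue A))) hGred
      rw [h1, map_sub, map_pow, AdjoinRoot.mk_X, AdjoinRoot.mk_C] at h2
      exact (sub_eq_zero.1 h2.symm)
    intro r
    obtain ⟨q, rfl⟩ := AdjoinRoot.mk_surjective r
    induction q using Polynomial.induction_on' with
    | add q₁ q₂ h₁ h₂ =>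
      obtain ⟨c₁, hc₁⟩ := h₁
      obtain ⟨c₂, hc₂⟩ := h₂
      exact ⟨c₁ + c₂, by rw [map_add, add_pow_char, hc₁, hc₂, map_add]⟩
    | monomial k c =>
      refine ⟨c ^ p * IsLocalRing.residue A a ^ k, ?_⟩
      rw [← C_mul_X_pow_eq_monomial, map_mul, map_pow, AdjoinRoot.mk_C, AdjoinRoot.mk_X, mul_pow,
        ← pow_mul, mul_comm k p, pow_mul, hroot, map_mul, map_pow, map_pow]
  exact wild_of_irreducible G _ hy p hG hGdeg hgen hirr hpow

end General

section Zeta

variable {p : ℕ} [hp : Fact p.Prime] {A : Type u} [CommRing A] [IsDomain A]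
  [IsDiscreteValuationRing A] [CharZero A] [CharP (κ A) p] (ζ : A)
  (hζ : aeval ζ (cyclotomic p ℤ) = 0)
  (P : A[X]) (hP : C ((1 - ζ) ^ p) * P = (1 + C (1 - ζ) * X) ^ p - 1)

theorem charZero_A (A K : Type u) [CommRing A] [IsDomain A] [Field K] [Algebra A K]
    [IsFractionRing A K] [CharZero K] : CharZero A :=
  (algebraMap A K).charZero

include hζ in
theorem isPrimitiveRoot_zeta : IsPrimitiveRoot ζ p := by
  haveI : NeZero ((p : ℕ) : A) := ⟨by exact_mod_cast hp.out.ne_zero⟩
  rw [← isRoot_cyclotomic_iff, IsRoot.def, ← map_cyclotomic_int, eval_map, ← hζ]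
  rfl

include hζ in
theorem w_ne_zero : 1 - ζ ≠ 0 := by
  intro h
  have h1 : ζ = 1 := (sub_eq_zero.1 h).symm
  have h2 := (isPrimitiveRoot_zeta ζ hζ)
  rw [h1] at h2
  have := h2.unique IsPrimitiveRoot.one
  exact hp.out.one_lt.ne' this

include hζ in
theorem residue_zeta : IsLocalRing.residue A ζ = 1 := by
  have h1 : ζ ^ p = 1 := (isPrimitiveRoot_zeta ζ hζ).pow_eq_one
  have h2 : (IsLocalRing.residue A ζ - 1) ^ p = 0 := by
    rw [sub_pow_char, ← map_pow, h1, map_one, one_pow, sub_self]
  have h3 := pow_eq_zero_iff (hp.out.ne_zero) |>.1 h2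
  exact sub_eq_zero.1 h3

include hζ in
theorem w_mem : 1 - ζ ∈ 𝔪 A := by
  rw [← IsLocalRing.residue_eq_zero_iff, map_sub, map_one, residue_zeta ζ hζ, sub_self]

include hζ hP in
theorem P_eq : ∃ a : ℕ → A, (∀ i, a i ∈ Ideal.span {1 - ζ}) ∧
    P = X ^ p - X + (Finset.Ioo 0 p).sum (fun i => C (a i) * X ^ i) := by
  obtain ⟨P', h1, ⟨a, ha, h2⟩, -⟩ := Groth.Agent.S7140.result p hp.out A ζ hζ
  refine ⟨a, ha, ?_⟩
  rw [← h2]
  have h3 : C ((1 - ζ) ^ p) * P = C ((1 - ζ) ^ p) * P' := by rw [hP, h1]
  exact mul_left_cancel₀ (C_ne_zero.2 (pow_ne_zero _ (w_ne_zero ζ hζ))) h3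

theorem degree_tail_lt (a : ℕ → A) :
    (X - (Finset.Ioo 0 p).sum (fun i => C (a i) * X ^ i) : A[X]).degree < ((p : ℕ) : WithBot ℕ) := by
  have h1 : ((Finset.Ioo 0 p).sum (fun i => C (a i) * X ^ i) : A[X]).degree <
      ((p : ℕ) : WithBot ℕ) := by
    refine lt_of_le_of_lt (degree_sum_le _ _) ((Finset.sup_lt_iff (WithBot.bot_lt_coe p)).2 ?_)
    intro i hi
    rw [Finset.mem_Ioo] at hi
    exact lt_of_le_of_lt (degree_C_mul_X_pow_le i (a i)) (WithBot.coe_lt_coe.2 hi.2)
  refine lt_of_le_of_lt (degree_sub_le _ _) (max_lt ?_ h1)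
  rw [degree_X]
  exact_mod_cast hp.out.one_lt

include hζ hP in
theorem P_monic : P.Monic := by
  obtain ⟨a, -, h⟩ := P_eq ζ hζ P hP
  have : P = X ^ p - (X - (Finset.Ioo 0 p).sum (fun i => C (a i) * X ^ i)) := by
    rw [h]; ring
  rw [this]
  exact monic_X_pow_sub (degree_tail_lt a)

include hζ hP in
theorem P_natDegree : P.natDegree = p := by
  obtain ⟨a, -, h⟩ := P_eq ζ hζ P hP
  have : P = X ^ p - (X - (Finset.Ioo 0 p).sum (fun i => C (a i) * X ^ i)) := by
    rw [h]; ring
  rw [this]
  have h1 := degree_tail_lt (p := p) a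
  by_cases h0 : (X - (Finset.Ioo 0 p).sum (fun i => C (a i) * X ^ i) : A[X]) = 0
  · rw [h0, sub_zero, natDegree_X_pow]
  · rw [natDegree_sub_eq_left_of_natDegree_lt, natDegree_X_pow]
    rw [natDegree_X_pow]
    exact (natDegree_lt_iff_degree_lt h0).2 h1

include hζ hP in
theorem P_map_residue : P.map (IsLocalRing.residue A) = X ^ p - X := by
  obtain ⟨a, ha, h⟩ := P_eq ζ hζ P hP
  rw [h, Polynomial.map_add, Polynomial.map_sub, Polynomial.map_pow, Polynomial.map_X,
    Polynomial.map_sum]
  rw [Finset.sum_eq_zero, add_zero]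
  intro i _
  have h1 : a i ∈ 𝔪 A := by
    have := ha i
    rw [Ideal.mem_span_singleton'] at this
    obtain ⟨b, hb⟩ := this
    rw [← hb]
    exact Ideal.mul_mem_left _ _ (w_mem ζ hζ)
  rw [Polynomial.map_mul, Polynomial.map_C, (IsLocalRing.residue_eq_zero_iff _).2 h1, map_zero,
    zero_mul]

include hP in
theorem aeval_P {S : Type*} [CommRing S] [Algebra A S] (s : S) :
    algebraMap A S ((1 - ζ) ^ p) * aeval s P = (1 + algebraMap A S (1 - ζ) * s) ^ p - 1 := by
  have := congrArg (aeval s) hP
  simp only [map_mul, aeval_C, map_sub, map_pow, map_add, map_one, aeval_X] at this ⊢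
  exact this

end Zeta

section KummerField

variable {p : ℕ} [hp : Fact p.Prime] {K L : Type u} [Field K] [Field L] [Algebra K L] [CharZero K]
  (ζK : K) (hζK : IsPrimitiveRoot ζK p) (η : K) (y : L) (hy : y ^ p = algebraMap K L η)
  (hgen : IntermediateField.adjoin K {y} = ⊤)

include hy in
theorem aeval_kummer : aeval y (X ^ p - C η : K[X]) = 0 := by
  rw [map_sub, map_pow, aeval_X, aeval_C, hy, sub_self]

include hy in
theorem isIntegral_y : IsIntegral K y :=
  ⟨X ^ p - C η, monic_X_pow_sub_C η hp.out.ne_zero, aeval_kummer η y hy⟩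

include hy hgen in
theorem kummer_finiteDimensional : FiniteDimensional K L := by
  have h1 : FiniteDimensional K (IntermediateField.adjoin K {y}) :=
    IntermediateField.adjoin.finiteDimensional (isIntegral_y η y hy)
  rw [hgen] at h1
  exact Module.Finite.equiv (IntermediateField.topEquiv (F := K) (E := L)).toLinearEquiv

include hy hgen in
theorem kummer_finrank_le : Module.finrank K L ≤ p := by
  have h1 := IntermediateField.adjoin.finrank (isIntegral_y η y hy)
  rw [hgen, IntermediateField.finrank_top'] at h1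
  rw [h1]
  have h2 := natDegree_le_of_dvd (minpoly.dvd K y (aeval_kummer η y hy))
    (monic_X_pow_sub_C η hp.out.ne_zero).ne_zero
  rwa [natDegree_X_pow_sub_C] at h2

include hy hgen in
theorem finrank_eq_one_of_mem (hmem : ∃ k : K, algebraMap K L k = y) : Module.finrank K L = 1 := by
  have hbot : IntermediateField.adjoin K {y} = ⊥ := by
    rw [IntermediateField.adjoin_simple_eq_bot_iff, IntermediateField.mem_bot]
    exact hmem
  rw [← IntermediateField.finrank_top' (F := K) (E := L), ← hgen, hbot,
    IntermediateField.finrank_bot]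

include hζK hy hgen in
theorem kummer_isGalois : IsGalois K L := by
  by_cases hη : η = 0
  · have hy0 : y = 0 := by
      rw [hη, map_zero] at hy
      exact (pow_eq_zero_iff hp.out.ne_zero).1 hy
    have hbot : (⊥ : IntermediateField K L) = ⊤ := by
      rw [← hgen, hy0]
      exact IntermediateField.adjoin_zero.symm
    rw [← isGalois_iff_isGalois_top, ← hbot]
    exact isGalois_bot
  · haveI : IsSplittingField K L (X ^ p - C η) := by
      refine ⟨?_, ?_⟩
      · rw [Polynomial.map_sub, Polynomial.map_pow, Polynomial.map_X, Polynomial.map_C]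
        exact X_pow_sub_C_splits_of_isPrimitiveRoot
          (hζK.map_of_injective (algebraMap K L).injective) hy
      · rw [eq_top_iff]
        have h2 : Algebra.adjoin K {y} = ⊤ := by
          have := congrArg IntermediateField.toSubalgebra hgen
          rwa [IntermediateField.adjoin_simple_toSubalgebra_of_isAlgebraic
            (isIntegral_y η y hy).isAlgebraic, IntermediateField.top_toSubalgebra] at this
        rw [← h2]
        apply Algebra.adjoin_mono
        rw [Set.singleton_subset_iff,
          mem_rootSet_of_ne (monic_X_pow_sub_C η hp.out.ne_zero).ne_zero]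
        exact aeval_kummer η y hy
    exact IsGalois.of_separable_splitting_field
      (separable_X_pow_sub_C η (by exact_mod_cast hp.out.ne_zero) hη)

include hζK hy hgen in
theorem kummer_finrank : Module.finrank K L = 1 ∨ Module.finrank K L = p := by
  haveI : NeZero p := ⟨hp.out.ne_zero⟩
  by_cases h : ∃ b : K, b ^ p = η
  · left
    obtain ⟨b, hb⟩ := h
    apply finrank_eq_one_of_mem η y hy hgen
    by_cases hb0 : b = 0
    · refine ⟨0, ?_⟩
      rw [hb0, zero_pow hp.out.ne_zero] at hb
      rw [← hb, map_zero] at hy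
      rw [map_zero, (pow_eq_zero_iff hp.out.ne_zero).1 hy]
    · have hbL : algebraMap K L b ≠ 0 := (_root_.map_ne_zero _).2 hb0
      have h1 : (y / algebraMap K L b) ^ p = 1 := by
        rw [div_pow, hy, ← hb, map_pow, div_self (pow_ne_zero _ hbL)]
      obtain ⟨i, -, hi⟩ := (hζK.map_of_injective (algebraMap K L).injective).eq_pow_of_pow_eq_one h1
      refine ⟨ζK ^ i * b, ?_⟩
      rw [map_mul, map_pow, hi, div_mul_cancel₀ _ hbL]
  · right
    push_neg at h
    have hirr : Irreducible (X ^ p - C η : K[X]) := X_pow_sub_C_irreducible_of_prime hp.out h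
    have hmin : minpoly K y = X ^ p - C η :=
      (minpoly.eq_of_irreducible_of_monic hirr (aeval_kummer η y hy)
        (monic_X_pow_sub_C η hp.out.ne_zero)).symm
    have h1 := IntermediateField.adjoin.finrank (isIntegral_y η y hy)
    rw [hgen, IntermediateField.finrank_top'] at h1
    rw [h1, hmin, natDegree_X_pow_sub_C]

end KummerField

section Dvr

variable {p : ℕ} [hp : Fact p.Prime] {A K L : Type u} [CommRing A] [IsDomain A]
  [IsDiscreteValuationRing A] [Field K] [Algebra A K] [IsFractionRing A K] [Field L] [Algebra K L]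
  [Algebra A L] [IsScalarTower A K L] [CharZero K] [CharP (κ A) p]
  (ζ : A) (hζ : aeval ζ (cyclotomic p ℤ) = 0)
  (P : A[X]) (hP : C ((1 - ζ) ^ p) * P = (1 + C (1 - ζ) * X) ^ p - 1)

theorem val_eval₂_le_one (V : ValuationSubring L) (hV : EtRam.Dominates A (algebraMap A L) V)
    (G : A[X]) (z : L) (hz : V.valuation z ≤ 1) :
    V.valuation (G.eval₂ (algebraMap A L) z) ≤ 1 := by
  rw [eval₂_eq_sum_range]
  apply Valuation.map_sum_le
  intro i _
  rw [map_mul, map_pow]
  have h1 : V.valuation (algebraMap A L (G.coeff i)) ≤ 1 :=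
    (ValuationSubring.valuation_le_one_iff V _).2 (hV.1 _)
  exact mul_le_one' h1 (pow_le_one₀ zero_le' hz)

include hζ in
theorem wK_ne_zero : algebraMap A K (1 - ζ) ≠ 0 := by
  haveI : CharZero A := charZero_A A K
  rw [Ne, map_eq_zero_iff _ (IsFractionRing.injective A K)]
  exact w_ne_zero ζ hζ

include hζ in
theorem wL_ne_zero : algebraMap K L (algebraMap A K (1 - ζ)) ≠ 0 :=
  (_root_.map_ne_zero _).2 (wK_ne_zero ζ hζ)

include hζ in
theorem isPrimitiveRoot_zetaK : IsPrimitiveRoot (algebraMap A K ζ) p := by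
  haveI : CharZero A := charZero_A A K
  exact (isPrimitiveRoot_zeta ζ hζ).map_of_injective (IsFractionRing.injective A K)

variable (ξ : K) (z : L) (hz : aeval z P = algebraMap K L ξ)
  (hgen : IntermediateField.adjoin K {z} = ⊤)

include hP hz in
theorem y_pow : (1 + algebraMap A L (1 - ζ) * z) ^ p =
    algebraMap K L (1 + algebraMap A K (1 - ζ) ^ p * ξ) := by
  haveI : CharZero A := charZero_A A K
  have h1 := aeval_P ζ P hP z
  rw [hz] at h1
  rw [map_add, map_one, map_mul, map_pow, ← IsScalarTower.algebraMap_apply, ← map_pow, h1]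
  ring

include hζ hgen in
theorem adjoin_y : IntermediateField.adjoin K {1 + algebraMap A L (1 - ζ) * z} = ⊤ := by
  rw [eq_top_iff, ← hgen, IntermediateField.adjoin_simple_le_iff]
  have hw : algebraMap A L (1 - ζ) ≠ 0 := by
    rw [IsScalarTower.algebraMap_apply A K L]
    exact wL_ne_zero ζ hζ
  have h1 : z = (algebraMap K L (algebraMap A K (1 - ζ)))⁻¹ *
      ((1 + algebraMap A L (1 - ζ) * z) - 1) := by
    rw [← IsScalarTower.algebraMap_apply, add_sub_cancel_left, ← mul_assoc, inv_mul_cancel₀ hw,
      one_mul]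
  have h2 : (algebraMap K L (algebraMap A K (1 - ζ)))⁻¹ *
      ((1 + algebraMap A L (1 - ζ) * z) - 1) ∈
      IntermediateField.adjoin K {1 + algebraMap A L (1 - ζ) * z} :=
    mul_mem (inv_mem (IntermediateField.algebraMap_mem _ _))
      (sub_mem (IntermediateField.mem_adjoin_simple_self K _) (one_mem _))
  rwa [← h1] at h2

include hζ hP hz hgen in
theorem finiteDimensional : FiniteDimensional K L :=
  kummer_finiteDimensional _ _ (y_pow ζ P hP ξ z hz) (adjoin_y ζ hζ z hgen)

include hζ hP hz hgen in
theorem isGalois : IsGalois K L :=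
  kummer_isGalois _ (isPrimitiveRoot_zetaK ζ hζ) _ _ (y_pow ζ P hP ξ z hz) (adjoin_y ζ hζ z hgen)

include hζ hP hz hgen in
theorem finrank_le : Module.finrank K L ≤ p :=
  kummer_finrank_le _ _ (y_pow ζ P hP ξ z hz) (adjoin_y ζ hζ z hgen)

include hζ hP hz hgen in
theorem finrank_eq_one_or : Module.finrank K L = 1 ∨ Module.finrank K L = p :=
  kummer_finrank _ (isPrimitiveRoot_zetaK ζ hζ) _ _ (y_pow ζ P hP ξ z hz) (adjoin_y ζ hζ z hgen)

include hζ hP hz hgen in
/-- Case (A): `ξ ∈ A`. -/
theorem caseA (hξ : ∃ a : A, algebraMap A K a = ξ) :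
    Module.finrank K L = 1 ∨
      (EtRam.IsUnramifiedExt A (algebraMap A L) ∧ Module.finrank K L = p) := by
  haveI : CharZero A := charZero_A A K
  haveI : FiniteDimensional K L := finiteDimensional ζ hζ P hP ξ z hz hgen
  rcases finrank_eq_one_or ζ hζ P hP ξ z hz hgen with h1 | h1
  · exact Or.inl h1
  · right
    refine ⟨?_, h1⟩
    obtain ⟨a, ha⟩ := hξ
    have hPm := P_monic ζ hζ P hP
    have hPd := P_natDegree ζ hζ P hP
    have hG : (P - C a).Monic := by
      apply hPm.sub_of_left
      rw [degree_eq_natDegree hPm.ne_zero, hPd]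
      exact lt_of_le_of_lt degree_C_le (by exact_mod_cast hp.out.pos)
    have hy : (P - C a).eval₂ (algebraMap A L) z = 0 := by
      rw [eval₂_sub, eval₂_C, ← aeval_def, hz, ← ha, ← IsScalarTower.algebraMap_apply, sub_self]
    have hsep : ((P - C a).map (IsLocalRing.residue A)).Separable := by
      have : (P - C a).map (IsLocalRing.residue A) =
          Groth.Agent.Lib.Helper9.DvrArtinSchreier.asPoly p (IsLocalRing.residue A a) := by
        unfold Groth.Agent.Lib.Helper9.DvrArtinSchreier.asPoly
        rw [Polynomial.map_sub, P_map_residue ζ hζ P hP, Polynomial.map_C]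
      rw [this]
      exact Groth.Agent.Lib.Helper9.DvrArtinSchreier.asPoly_separable _
    exact unramified_of_separable _ z hy hG hgen hsep

variable {π : A} (hπ : Irreducible π)

include hζ hP hπ hz in
/-- the valuation of `z` when `ξ` has a pole of order `n`. -/
theorem val_z (V : ValuationSubring L) (hV : EtRam.Dominates A (algebraMap A L) V)
    (n : ℕ) (hn : 0 < n) (a : A) (ha : IsUnit a)
    (hξ : ξ * algebraMap A K π ^ n = algebraMap A K a) :
    V.valuation z ^ p * V.valuation (algebraMap A L π) ^ n = 1 := by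
  haveI : CharZero A := charZero_A A K
  have hγ1 := gamma_lt_one V hV hπ
  have h1 : V.valuation (algebraMap K L ξ) * V.valuation (algebraMap A L π) ^ n = 1 := by
    have h2 := congrArg (algebraMap K L) hξ
    rw [map_mul, map_pow, ← IsScalarTower.algebraMap_apply, ← IsScalarTower.algebraMap_apply] at h2
    have h3 := congrArg V.valuation h2
    rw [map_mul, map_pow, valuation_unit V hV a ha] at h3
    exact h3
  have hγn : V.valuation (algebraMap A L π) ^ n < 1 := pow_lt_one₀ zero_le' hγ1 hn.ne'
  have hξ1 : 1 < V.valuation (algebraMap K L ξ) := by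
    by_contra hle
    have hle' : V.valuation (algebraMap K L ξ) ≤ 1 := not_lt.1 hle
    have : V.valuation (algebraMap K L ξ) * V.valuation (algebraMap A L π) ^ n < 1 := by
      calc V.valuation (algebraMap K L ξ) * V.valuation (algebraMap A L π) ^ n
          ≤ 1 * V.valuation (algebraMap A L π) ^ n := mul_le_mul_left hle' _
        _ = V.valuation (algebraMap A L π) ^ n := one_mul _
        _ < 1 := hγn
    rw [h1] at this
    exact lt_irrefl _ this
  have hz1 : 1 < V.valuation z := by
    by_contra hle
    have hle' : V.valuation z ≤ 1 := not_lt.1 hle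
    have h4 := val_eval₂_le_one V hV P z hle'
    rw [← aeval_def, hz] at h4
    exact (not_lt.2 h4) hξ1
  have h6 := val_eval₂_monic V hV P (P_monic ζ hζ P hP) z hz1
  rw [← aeval_def, hz, P_natDegree ζ hζ P hP] at h6
  rw [← h6]
  exact h1

include hζ hP hπ hz hgen in
/-- Case (B): pole order prime to `p`. -/
theorem caseB (n : ℕ) (hn : 0 < n) (hpn : ¬ p ∣ n) (a : A) (ha : IsUnit a)
    (hξ : ξ * algebraMap A K π ^ n = algebraMap A K a) :
    EtRam.IsTotallyRamified A (algebraMap A L) ∧ Module.finrank K L = p := by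
  haveI : FiniteDimensional K L := finiteDimensional ζ hζ P hP ξ z hz hgen
  obtain ⟨s, t, hst⟩ := Groth.Agent.Lib.Helper9.DvrTameBC.exists_bezout_nat p n
    ((Nat.Prime.coprime_iff_not_dvd hp.out).2 hpn) hp.out.pos hn
  have ht : ∀ V : ValuationSubring L, EtRam.Dominates A (algebraMap A L) V →
      V.valuation (z ^ t * algebraMap A L π ^ s) ^ p = V.valuation (algebraMap A L π) := by
    intro V hV
    have h1 := val_z ζ hζ P hP ξ z hz hπ V hV n hn a ha hξ
    calc V.valuation (z ^ t * algebraMap A L π ^ s) ^ p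
        = (V.valuation z ^ p * V.valuation (algebraMap A L π) ^ n) ^ t *
            V.valuation (algebraMap A L π) := by
          rw [map_mul, map_pow, map_pow, mul_pow, ← pow_mul, ← pow_mul, hst, pow_succ, mul_pow,
            ← pow_mul, ← pow_mul, mul_comm t p, mul_comm t n, mul_assoc]
      _ = V.valuation (algebraMap A L π) := by rw [h1, one_pow, one_mul]
  have hle := le_finrank (K := K) hπ hp.out.pos _ ht
  have hrank : Module.finrank K L = p := le_antisymm (finrank_le ζ hζ P hP ξ z hz hgen) hle
  exact ⟨isTotallyRamified hπ hp.out.pos hrank _ ht, hrank⟩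

include hζ hP hπ hz hgen in
/-- Case (C): pole order divisible by `p`, leading coefficient not a `p`-th power. -/
theorem caseC (n : ℕ) (hn : 0 < n) (hpn : p ∣ n) (a : A)
    (hra : ∀ r : A, IsLocalRing.residue A a ≠ IsLocalRing.residue A r ^ p)
    (hξ : ξ * algebraMap A K π ^ n = algebraMap A K a) :
    Case4 p A L := by
  classical
  haveI : CharZero A := charZero_A A K
  haveI : FiniteDimensional K L := finiteDimensional ζ hζ P hP ξ z hz hgen
  obtain ⟨m, rfl⟩ := hpn
  have hm : 0 < m := Nat.pos_of_ne_zero (by rintro rfl; simp at hn)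
  have hPm := P_monic ζ hζ P hP
  have hPd := P_natDegree ζ hζ P hP
  have hSm : (P.scaleRoots (π ^ m)).Monic := (monic_scaleRoots_iff _).2 hPm
  have hSd : (P.scaleRoots (π ^ m)).natDegree = p := by rw [natDegree_scaleRoots, hPd]
  have hG : (P.scaleRoots (π ^ m) - C a).Monic := by
    apply hSm.sub_of_left
    rw [degree_eq_natDegree hSm.ne_zero, hSd]
    exact lt_of_le_of_lt degree_C_le (by exact_mod_cast hp.out.pos)
  have hGdeg : (P.scaleRoots (π ^ m) - C a).natDegree = p := by
    rw [natDegree_sub_C, hSd]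
  have hξL : algebraMap K L ξ * algebraMap A L π ^ (p * m) = algebraMap A L a := by
    have h2 := congrArg (algebraMap K L) hξ
    rwa [map_mul, map_pow, ← IsScalarTower.algebraMap_apply,
      ← IsScalarTower.algebraMap_apply] at h2
  have hy : (P.scaleRoots (π ^ m) - C a).eval₂ (algebraMap A L) (algebraMap A L (π ^ m) * z) = 0 := by
    rw [eval₂_sub, eval₂_C, scaleRoots_eval₂_mul, hPd, ← aeval_def, hz, ← hξL, map_pow, ← pow_mul,
      mul_comm m p, mul_comm, sub_self]
  have hπL : algebraMap A L π ≠ 0 := by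
    rw [IsScalarTower.algebraMap_apply A K L, Ne, map_eq_zero,
      map_eq_zero_iff _ (IsFractionRing.injective A K)]
    exact hπ.ne_zero
  have hgen' : IntermediateField.adjoin K {algebraMap A L (π ^ m) * z} = ⊤ := by
    rw [eq_top_iff, ← hgen, IntermediateField.adjoin_simple_le_iff]
    have h1 : z = (algebraMap K L (algebraMap A K (π ^ m)))⁻¹ * (algebraMap A L (π ^ m) * z) := by
      rw [← IsScalarTower.algebraMap_apply, ← mul_assoc,
        inv_mul_cancel₀ (by rw [map_pow]; exact pow_ne_zero _ hπL), one_mul]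
    have h2 : (algebraMap K L (algebraMap A K (π ^ m)))⁻¹ * (algebraMap A L (π ^ m) * z) ∈
        IntermediateField.adjoin K {algebraMap A L (π ^ m) * z} :=
      mul_mem (inv_mem (IntermediateField.algebraMap_mem _ _))
        (IntermediateField.mem_adjoin_simple_self K _)
    rwa [← h1] at h2
  have hπm : π ^ m ∈ 𝔪 A :=
    Ideal.pow_mem_of_mem _ ((IsLocalRing.mem_maximalIdeal π).2 hπ.not_isUnit) _ hm
  have hGred : (P.scaleRoots (π ^ m) - C a).map (IsLocalRing.residue A) =
      X ^ p - C (IsLocalRing.residue A a) := by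
    rw [Polynomial.map_sub, scaleRoots_map_residue P hPm _ hπm, hPd, Polynomial.map_C]
  exact wild_of_red_eq _ _ hy hG hGdeg hgen' a hGred hra

end Dvr

section Main

variable {p : ℕ} [hp : Fact p.Prime] {A K L : Type u} [CommRing A] [IsDomain A]
  [IsDiscreteValuationRing A] [Field K] [Algebra A K] [IsFractionRing A K] [Field L] [Algebra K L]
  [Algebra A L] [IsScalarTower A K L] [CharZero K] [CharP (κ A) p]
  (ζ : A) (hζ : aeval ζ (cyclotomic p ℤ) = 0)
  (P : A[X]) (hP : C ((1 - ζ) ^ p) * P = (1 + C (1 - ζ) * X) ^ p - 1)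
  {π : A} (hπ : Irreducible π)

/-- the property "every Kummer generator with `y^p = η` gives one of the four cases". -/
def T (p : ℕ) (A : Type u) {K : Type u} (L : Type u) [CommRing A] [IsDomain A]
    [IsDiscreteValuationRing A] [Field K] [Field L] [Algebra K L] [Algebra A L] (η : K) : Prop :=
  ∀ y : L, y ^ p = algebraMap K L η → IntermediateField.adjoin K {y} = ⊤ → Four p A K L

theorem T_scale (η c : K) (hc : c ≠ 0) (h : T p A L (η * c ^ p)) : T p A L η := by
  intro y hy hgen
  have hcL : algebraMap K L c ≠ 0 := (_root_.map_ne_zero _).2 hc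
  apply h (y * algebraMap K L c)
  · rw [mul_pow, hy, map_mul, map_pow]
  · rw [eq_top_iff, ← hgen, IntermediateField.adjoin_simple_le_iff]
    have h1 : y = (y * algebraMap K L c) * (algebraMap K L c)⁻¹ := by
      rw [mul_assoc, mul_inv_cancel₀ hcL, mul_one]
    have h2 : (y * algebraMap K L c) * (algebraMap K L c)⁻¹ ∈
        IntermediateField.adjoin K {y * algebraMap K L c} :=
      mul_mem (IntermediateField.mem_adjoin_simple_self K _)
        (inv_mem (IntermediateField.algebraMap_mem _ _))
    rwa [← h1] at h2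

include hζ hP in
theorem bridge (η : K) (y : L) (hy : y ^ p = algebraMap K L η)
    (hgen : IntermediateField.adjoin K {y} = ⊤) :
    aeval ((y - 1) / algebraMap K L (algebraMap A K (1 - ζ))) P =
        algebraMap K L ((η - 1) / algebraMap A K (1 - ζ) ^ p) ∧
      IntermediateField.adjoin K {(y - 1) / algebraMap K L (algebraMap A K (1 - ζ))} = ⊤ := by
  haveI : CharZero A := charZero_A A K
  have hw : algebraMap K L (algebraMap A K (1 - ζ)) ≠ 0 := wL_ne_zero ζ hζ
  constructor
  · have h1 := aeval_P ζ P hP ((y - 1) / algebraMap K L (algebraMap A K (1 - ζ)))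
    have h0 : algebraMap A L ((1 - ζ) ^ p) = algebraMap K L (algebraMap A K (1 - ζ)) ^ p := by
      rw [IsScalarTower.algebraMap_apply A K L, map_pow, map_pow]
    rw [IsScalarTower.algebraMap_apply A K L (1 - ζ), mul_div_cancel₀ _ hw, add_sub_cancel,
      hy, h0] at h1
    generalize algebraMap A K (1 - ζ) = wK at *
    rw [map_div₀, map_sub, map_one, map_pow, eq_div_iff (pow_ne_zero _ hw), mul_comm, h1]
  · rw [eq_top_iff, ← hgen, IntermediateField.adjoin_simple_le_iff]
    have h1 : y = algebraMap K L (algebraMap A K (1 - ζ)) *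
        ((y - 1) / algebraMap K L (algebraMap A K (1 - ζ))) + 1 := by
      rw [mul_div_cancel₀ _ hw, sub_add_cancel]
    have h2 : algebraMap K L (algebraMap A K (1 - ζ)) *
        ((y - 1) / algebraMap K L (algebraMap A K (1 - ζ))) + 1 ∈
        IntermediateField.adjoin K {(y - 1) / algebraMap K L (algebraMap A K (1 - ζ))} :=
      add_mem (mul_mem (IntermediateField.algebraMap_mem _ _)
        (IntermediateField.mem_adjoin_simple_self K _)) (one_mem _)
    rwa [← h1] at h2

include hζ hP hπ in
theorem step4 (u : Aˣ) (e : ℕ) (hw : 1 - ζ = ↑u * π ^ e) (n : ℕ) :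
    ∀ η : K, n < p * e →
      (∃ a : A, (η - 1) * algebraMap A K π ^ n =
        algebraMap A K (1 - ζ) ^ p * algebraMap A K a) →
      T p A L η := by
  haveI : CharZero A := charZero_A A K
  have hπK : algebraMap A K π ≠ 0 := by
    rw [Ne, map_eq_zero_iff _ (IsFractionRing.injective A K)]
    exact hπ.ne_zero
  have hwK := wK_ne_zero (K := K) ζ hζ
  induction n with
  | zero =>
    rintro η - ⟨a, ha⟩ y hy hgen
    obtain ⟨hz, hgen'⟩ := bridge ζ hζ P hP η y hy hgen
    have hξ : algebraMap A K a = (η - 1) / algebraMap A K (1 - ζ) ^ p := by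
      rw [pow_zero, mul_one] at ha
      rw [eq_div_iff (pow_ne_zero _ hwK), ha, mul_comm]
    rcases caseA ζ hζ P hP _ _ hz hgen' ⟨a, hξ⟩ with h | h
    · exact Or.inl h
    · exact Or.inr (Or.inl h)
  | succ n ih =>
    rintro η hn ⟨a, ha⟩
    by_cases ham : a ∈ 𝔪 A
    · rw [hπ.maximalIdeal_eq, Ideal.mem_span_singleton'] at ham
      obtain ⟨a', rfl⟩ := ham
      apply ih η (by omega) ⟨a', ?_⟩
      rw [pow_succ, ← mul_assoc, map_mul, ← mul_assoc] at ha
      exact mul_right_cancel₀ hπK ha
    · have hau : IsUnit a := by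
        by_contra h
        exact ham ((IsLocalRing.mem_maximalIdeal a).2 h)
      have hξ : (η - 1) / algebraMap A K (1 - ζ) ^ p * algebraMap A K π ^ (n + 1) =
          algebraMap A K a := by
        rw [div_mul_eq_mul_div, ha, mul_div_cancel_left₀ _ (pow_ne_zero _ hwK)]
      by_cases hpn : p ∣ n + 1
      · by_cases hra : ∀ r : A, IsLocalRing.residue A a ≠ IsLocalRing.residue A r ^ p
        · intro y hy hgen
          obtain ⟨hz, hgen'⟩ := bridge ζ hζ P hP η y hy hgen
          exact Or.inr (Or.inr (Or.inr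
            (caseC ζ hζ P hP _ _ hz hgen' hπ (n + 1) n.succ_pos hpn a hra hξ)))
        · push_neg at hra
          obtain ⟨r, hr⟩ := hra
          obtain ⟨m, hm⟩ := hpn
          have hm0 : 0 < m := by
            rcases Nat.eq_zero_or_pos m with h | h
            · rw [h, mul_zero] at hm
              omega
            · exact h
          have hme : m < e := by
            by_contra h
            push_neg at h
            have := Nat.mul_le_mul_left p h
            omega
          have hPm := P_monic ζ hζ P hP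
          have hPd := P_natDegree ζ hζ P hP
          have hπmem : π ∈ 𝔪 A := (IsLocalRing.mem_maximalIdeal π).2 hπ.not_isUnit
          have hπm : π ^ m ∈ 𝔪 A := Ideal.pow_mem_of_mem _ hπmem _ hm0
          have hSres : IsLocalRing.residue A ((P.scaleRoots (π ^ m)).eval r) =
              IsLocalRing.residue A r ^ p := by
            rw [← eval₂_at_apply, ← eval_map, scaleRoots_map_residue P hPm _ hπm, hPd, eval_pow,
              eval_X]
          have hmem : a - (P.scaleRoots (π ^ m)).eval r ∈ 𝔪 A := by
            rw [← IsLocalRing.residue_eq_zero_iff, map_sub, hSres, hr, sub_self]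
          rw [hπ.maximalIdeal_eq, Ideal.mem_span_singleton'] at hmem
          obtain ⟨a', ha'⟩ := hmem
          have hπmK : algebraMap A K π ^ m ≠ 0 := pow_ne_zero _ hπK
          have hSK : algebraMap A K ((P.scaleRoots (π ^ m)).eval r) =
              algebraMap A K π ^ (n + 1) *
                aeval (algebraMap A K r / algebraMap A K π ^ m) P := by
            have h1 := scaleRoots_eval₂_mul (p := P) (algebraMap A K)
              (algebraMap A K r / algebraMap A K π ^ m) (π ^ m)
            rw [map_pow, mul_div_cancel₀ _ hπmK, eval₂_at_apply, hPd, ← aeval_def, ← pow_mul,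
              mul_comm m p, ← hm] at h1
            exact h1
          have htres : IsLocalRing.residue A (1 + ↑u * r * π ^ (e - m)) = 1 := by
            rw [map_add, map_one, map_mul, map_pow, (IsLocalRing.residue_eq_zero_iff π).2 hπmem,
              zero_pow (Nat.sub_pos_of_lt hme).ne', mul_zero, add_zero]
          have htu : IsUnit (1 + ↑u * r * π ^ (e - m)) := by
            by_contra h
            have := (IsLocalRing.residue_eq_zero_iff _).2 ((IsLocalRing.mem_maximalIdeal _).2 h)
            rw [htres] at this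
            exact one_ne_zero this
          obtain ⟨tu, htu'⟩ := htu
          have htK : algebraMap A K ↑tu =
              1 + algebraMap A K (1 - ζ) * (algebraMap A K r / algebraMap A K π ^ m) := by
            have h2 : algebraMap A K π ^ e =
                algebraMap A K π ^ (e - m) * algebraMap A K π ^ m := by
              rw [← pow_add, Nat.sub_add_cancel hme.le]
            rw [htu', hw, map_add, map_one, map_mul, map_mul, map_mul, map_pow, map_pow, h2]
            have h3 : algebraMap A K π ^ m ≠ 0 := pow_ne_zero _ hπK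
            field_simp
          have htne : algebraMap A K ↑tu ≠ 0 := by
            rw [Ne, map_eq_zero_iff _ (IsFractionRing.injective A K)]
            exact tu.ne_zero
          have hPc := aeval_P ζ P hP (algebraMap A K r / algebraMap A K π ^ m)
          rw [← htK, map_pow] at hPc
          apply T_scale η (algebraMap A K ↑tu)⁻¹ (inv_ne_zero htne)
          apply ih _ (by omega) ⟨a' * ↑(tu⁻¹) ^ p, ?_⟩
          have htinv : algebraMap A K ↑(tu⁻¹) = (algebraMap A K ↑tu)⁻¹ := by
            exact eq_inv_of_mul_eq_one_left (by rw [← map_mul, Units.inv_mul, map_one])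
          rw [map_mul, map_pow, htinv]
          apply mul_right_cancel₀ hπK
          have key : (η - 1) * algebraMap A K π ^ (n + 1) -
              algebraMap A K (1 - ζ) ^ p * (algebraMap A K π ^ (n + 1) *
                aeval (algebraMap A K r / algebraMap A K π ^ m) P) =
              algebraMap A K (1 - ζ) ^ p * (algebraMap A K a' * algebraMap A K π) := by
            rw [ha, ← hSK, ← mul_sub, ← map_sub, ← ha', map_mul]
          have htt : algebraMap A K ↑tu ^ p * (algebraMap A K ↑tu)⁻¹ ^ p = 1 := by
            rw [← mul_pow, mul_inv_cancel₀ htne, one_pow]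
          linear_combination (algebraMap A K ↑tu)⁻¹ ^ p * key +
            ((algebraMap A K ↑tu)⁻¹ ^ p * algebraMap A K π ^ (n + 1)) * hPc +
            algebraMap A K π ^ (n + 1) * htt
      · intro y hy hgen
        obtain ⟨hz, hgen'⟩ := bridge ζ hζ P hP η y hy hgen
        exact Or.inr (Or.inr (Or.inl
          (caseB ζ hζ P hP _ _ hz hgen' hπ (n + 1) n.succ_pos hpn a hau hξ)))

include hζ hP hπ in
theorem step3 (u : Aˣ) (e : ℕ) (hw : 1 - ζ = ↑u * π ^ e) (ηA b : A) (hb : ηA - 1 = π * b) :
    T p A L (algebraMap A K ηA) := by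
  haveI : CharZero A := charZero_A A K
  have he : 0 < e := by
    rcases Nat.eq_zero_or_pos e with h | h
    · exfalso
      rw [h, pow_zero, mul_one] at hw
      have := w_mem ζ hζ
      rw [hw] at this
      exact (IsLocalRing.mem_maximalIdeal _).1 this u.isUnit
    · exact h
  have hpe : 0 < p * e := Nat.mul_pos hp.out.pos he
  apply step4 ζ hζ P hP hπ u e hw (p * e - 1) _ (by omega)
  refine ⟨b * ↑(u⁻¹) ^ p, ?_⟩
  have h1 : algebraMap A K π * algebraMap A K π ^ (p * e - 1) = (algebraMap A K π ^ e) ^ p := by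
    rw [← pow_succ', Nat.sub_add_cancel hpe, mul_comm p e, pow_mul]
  have h2 : algebraMap A K ↑u ^ p * algebraMap A K ↑(u⁻¹) ^ p = 1 := by
    rw [← mul_pow, ← map_mul, Units.mul_inv, map_one, one_pow]
  rw [← map_one (algebraMap A K), ← map_sub, hb, hw]
  simp only [map_mul, map_pow]
  linear_combination algebraMap A K b * h1 -
    algebraMap A K b * (algebraMap A K π ^ e) ^ p * h2

include hπ in
theorem step1 (u' : Aˣ) (k : ℕ) (hk : ¬ p ∣ k) : T p A L (algebraMap A K (↑u' * π ^ k)) := by
  intro y hy hgen
  haveI : FiniteDimensional K L := kummer_finiteDimensional _ _ hy hgen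
  have hk0 : 0 < k := Nat.pos_of_ne_zero (by rintro rfl; exact hk (dvd_zero p))
  obtain ⟨s, t, hst⟩ := Groth.Agent.Lib.Helper9.DvrTameBC.exists_bezout_nat k p
    ((Nat.Prime.coprime_iff_not_dvd hp.out).2 hk).symm hk0 hp.out.pos
  have ht : ∀ V : ValuationSubring L, EtRam.Dominates A (algebraMap A L) V →
      V.valuation (y ^ s * (algebraMap A L π ^ t)⁻¹) ^ p = V.valuation (algebraMap A L π) := by
    intro V hV
    have h1 : V.valuation y ^ p = V.valuation (algebraMap A L π) ^ k := by
      have := congrArg V.valuation hy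
      rwa [map_pow, ← IsScalarTower.algebraMap_apply, map_mul, map_mul, map_pow, map_pow,
        valuation_unit V hV _ u'.isUnit, one_mul] at this
    have hγ0 := gamma_ne_zero (K := K) V hπ
    rw [map_mul, map_inv₀, map_pow, map_pow, mul_pow, inv_pow, ← pow_mul, ← pow_mul, mul_comm s p,
      pow_mul, h1, ← pow_mul, mul_comm k s, hst, pow_succ, mul_comm t p, mul_comm _ (V.valuation _),
      mul_assoc, mul_inv_cancel₀ (pow_ne_zero _ hγ0), mul_one]
  have hle := le_finrank (K := K) hπ hp.out.pos _ ht
  have hrank : Module.finrank K L = p := le_antisymm (kummer_finrank_le _ _ hy hgen) hle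
  exact Or.inr (Or.inr (Or.inl ⟨isTotallyRamified hπ hp.out.pos hrank _ ht, hrank⟩))

theorem step2a (u' : A)
    (hra : ∀ r : A, IsLocalRing.residue A u' ≠ IsLocalRing.residue A r ^ p) :
    T p A L (algebraMap A K u') := by
  intro y hy hgen
  haveI : FiniteDimensional K L := kummer_finiteDimensional _ _ hy hgen
  have hG : (X ^ p - C u' : A[X]).Monic := monic_X_pow_sub_C u' hp.out.ne_zero
  have hGdeg : (X ^ p - C u' : A[X]).natDegree = p := natDegree_X_pow_sub_C
  have hy' : (X ^ p - C u' : A[X]).eval₂ (algebraMap A L) y = 0 := by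
    rw [eval₂_sub, eval₂_pow, eval₂_X, eval₂_C, hy, ← IsScalarTower.algebraMap_apply, sub_self]
  have hGred : (X ^ p - C u' : A[X]).map (IsLocalRing.residue A) =
      X ^ p - C (IsLocalRing.residue A u') := by
    rw [Polynomial.map_sub, Polynomial.map_pow, Polynomial.map_X, Polynomial.map_C]
  exact Or.inr (Or.inr (Or.inr (wild_of_red_eq _ y hy' hG hGdeg hgen u' hGred hra)))

include hζ hP hπ in
theorem T_all (η : K) : T p A L η := by
  haveI : CharZero A := charZero_A A K
  have hπK : algebraMap A K π ≠ 0 := by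
    rw [Ne, map_eq_zero_iff _ (IsFractionRing.injective A K)]
    exact hπ.ne_zero
  by_cases hη : η = 0
  · intro y hy hgen
    left
    apply finrank_eq_one_of_mem η y hy hgen
    refine ⟨0, ?_⟩
    rw [hη, map_zero] at hy
    rw [map_zero, (pow_eq_zero_iff hp.out.ne_zero).1 hy]
  · obtain ⟨x, y₀, hy₀, rfl⟩ := IsFractionRing.div_surjective (A := A) η
    have hy₀K : algebraMap A K y₀ ≠ 0 := by
      rw [Ne, map_eq_zero_iff _ (IsFractionRing.injective A K)]
      exact nonZeroDivisors.ne_zero hy₀
    have hx : x ≠ 0 := by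
      rintro rfl
      rw [map_zero, zero_div] at hη
      exact hη rfl
    apply T_scale _ (algebraMap A K y₀) hy₀K
    have hp1 : p = (p - 1) + 1 := (Nat.sub_add_cancel hp.out.pos).symm
    have e1 : algebraMap A K x / algebraMap A K y₀ * algebraMap A K y₀ ^ p =
        algebraMap A K (x * y₀ ^ (p - 1)) := by
      rw [map_mul, map_pow]
      conv_lhs => rw [hp1, pow_succ]
      field_simp
    rw [e1]
    have hne : x * y₀ ^ (p - 1) ≠ 0 :=
      mul_ne_zero hx (pow_ne_zero _ (nonZeroDivisors.ne_zero hy₀))
    obtain ⟨k, u₁, hu₁⟩ := IsDiscreteValuationRing.eq_unit_mul_pow_irreducible hne hπ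
    rw [hu₁]
    by_cases hpk : p ∣ k
    · obtain ⟨j, rfl⟩ := hpk
      apply T_scale _ (algebraMap A K π ^ j)⁻¹ (inv_ne_zero (pow_ne_zero _ hπK))
      have e2 : algebraMap A K (↑u₁ * π ^ (p * j)) * ((algebraMap A K π ^ j)⁻¹) ^ p =
          algebraMap A K ↑u₁ := by
        rw [map_mul, map_pow, inv_pow, ← pow_mul, mul_comm j p, mul_assoc,
          mul_inv_cancel₀ (pow_ne_zero _ hπK), mul_one]
      rw [e2]
      by_cases hra : ∀ r : A, IsLocalRing.residue A ↑u₁ ≠ IsLocalRing.residue A r ^ p
      · exact step2a _ hra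
      · push_neg at hra
        obtain ⟨r, hr⟩ := hra
        have hru : IsUnit r := by
          by_contra h
          have h0 := (IsLocalRing.residue_eq_zero_iff _).2 ((IsLocalRing.mem_maximalIdeal _).2 h)
          rw [h0, zero_pow hp.out.ne_zero, IsLocalRing.residue_eq_zero_iff] at hr
          exact (IsLocalRing.mem_maximalIdeal _).1 hr u₁.isUnit
        obtain ⟨ru, rfl⟩ := hru
        have hruK : algebraMap A K ↑ru ≠ 0 := by
          rw [Ne, map_eq_zero_iff _ (IsFractionRing.injective A K)]
          exact ru.ne_zero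
        apply T_scale _ (algebraMap A K ↑ru)⁻¹ (inv_ne_zero hruK)
        have hinv : algebraMap A K ↑(ru⁻¹) = (algebraMap A K ↑ru)⁻¹ :=
          eq_inv_of_mul_eq_one_left (by rw [← map_mul, Units.inv_mul, map_one])
        have e3 : algebraMap A K ↑u₁ * ((algebraMap A K ↑ru)⁻¹) ^ p =
            algebraMap A K (↑u₁ * ↑(ru⁻¹) ^ p) := by
          rw [map_mul, map_pow, hinv]
        rw [e3]
        have hmem : ((u₁ : A) * ((ru⁻¹ : Aˣ) : A) ^ p - 1 : A) ∈ 𝔪 A := by
          rw [← IsLocalRing.residue_eq_zero_iff, map_sub, map_mul, map_pow, map_one, hr, ← mul_pow,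
            ← map_mul, Units.mul_inv, map_one, one_pow, sub_self]
        rw [hπ.maximalIdeal_eq, Ideal.mem_span_singleton'] at hmem
        obtain ⟨b, hb⟩ := hmem
        obtain ⟨e, u, hw⟩ := IsDiscreteValuationRing.eq_unit_mul_pow_irreducible
          (w_ne_zero ζ hζ) hπ
        exact step3 ζ hζ P hP hπ u e hw _ b (by rw [← hb, mul_comm])
    · exact step1 hπ u₁ k hpk

include hζ hP hπ in
/-- the four cases. -/
theorem four_cases (ξ : K) (z : L) (hz : aeval z P = algebraMap K L ξ)
    (hgen : IntermediateField.adjoin K {z} = ⊤) : Four p A K L :=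
  T_all ζ hζ P hP hπ _ _ (y_pow ζ P hP ξ z hz) (adjoin_y ζ hζ z hgen)

end Main

end Groth.Agent.Lib.Helper9.DvrKummerP
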