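import Mathlib
import Groth.Prelude.Def_EtRam
import Groth.Agent.Lib.Helper9.DvrExt
import Groth.Agent.Lib.Helper9.DvrTower
import Groth.Agent.Lib.Helper9.DvrSmooth
import Groth.Agent.Lib.Helper9.DvrSmoothApp
import Groth.Agent.Lib.Helper9.DvrTame
import Groth.Agent.S9634

open TensorProduct

universe u

set_option linter.unusedSectionVars false
set_option linter.style.haveILetI false
set_option linter.overlappingInstances false

namespace Groth.Agent.Lib.Helper9.DvrTameApp

open Groth.Agent.Lib.Helper9.DvrExt Groth.Agent.Lib.Helper9.DvrTower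
  Groth.Agent.Lib.Helper9.DvrSmooth Groth.Agent.Lib.Helper9.DvrSmoothApp
  Groth.Agent.Lib.Helper9.DvrTame

local notation "𝔪" => IsLocalRing.maximalIdeal
local notation "κ" => IsLocalRing.ResidueField

/-- In characteristic zero every field extension is geometrically reduced. -/
theorem isGeometricallyReduced_of_charZero (k F : Type u) [Field k] [Field F] [Algebra k F]
    [CharZero k] : Algebra.IsGeometricallyReduced k F := by
  have key := ((Groth.Agent.S9634.result (k := k) (S := F)).out 0 1).mp
  apply key
  intro k' _ _ _ _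
  have hbij : Function.Bijective (algebraMap k k') :=
    ⟨(algebraMap k k').injective, IsPurelyInseparable.surjective_algebraMap_of_isSeparable k k'⟩
  let e : k ≃ₐ[k] k' := AlgEquiv.ofBijective (Algebra.ofId k k') hbij
  let e2 : k' ⊗[k] F ≃ₐ[k] F :=
    (Algebra.TensorProduct.congr e.symm AlgEquiv.refl).trans (Algebra.TensorProduct.lid k F)
  exact isReduced_of_injective e2.toAlgHom e2.injective


theorem tame_local (A B K L : Type u) [CommRing A] [IsDomain A] [IsDiscreteValuationRing A]
    [CommRing B] [IsDomain B] [IsDiscreteValuationRing B] [Algebra A B] [IsLocalHom (algebraMap A B)]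
    (hinj : Function.Injective (algebraMap A B))
    [Field K] [Field L] [Algebra A K] [IsFractionRing A K] [Algebra B L] [IsFractionRing B L]
    [Algebra K L] [Algebra A L] [IsScalarTower A K L] [IsScalarTower A B L]
    (he : ((Ideal.ramificationIdx' (𝔪 A) (𝔪 B) : ℕ) : κ A) ≠ 0)
    [Algebra.IsGeometricallyReduced (IsLocalRing.ResidueField A) (IsLocalRing.ResidueField B)]
    (K₁ : Type u) [Field K₁] [Algebra K K₁] [FiniteDimensional K K₁]
    (M : Type u) [Field M] [Algebra K M] [Algebra L M] [Algebra K₁ M] [IsScalarTower K L M]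
    [IsScalarTower K K₁ M]
    (hgen : Algebra.adjoin L (Set.range (algebraMap K₁ M)) = ⊤)
    (W : ValuationSubring M)
    (hW : EtRam.Dominates B ((algebraMap L M).comp (algebraMap B L)) W)
    (hA : ∀ a : A, (algebraMap K K₁) (algebraMap A K a) ∈ W.comap (algebraMap K₁ M)) :
    letI : Algebra A (W.comap (algebraMap K₁ M)) :=
      (RingHom.codRestrict ((algebraMap K K₁).comp (algebraMap A K)) (W.comap (algebraMap K₁ M))
        hA).toAlgebra
    letI : Algebra (W.comap (algebraMap K₁ M)) W :=
      (EtRam.inclOfComap W (algebraMap K₁ M)).toAlgebra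
    Ideal.ramificationIdx' (𝔪 A) (𝔪 B) ∣
        Ideal.ramificationIdx' (𝔪 A) (𝔪 (W.comap (algebraMap K₁ M))) →
    EtRam.IsWeaklyUnramified (W.comap (algebraMap K₁ M)) W ∧
      @Algebra.IsGeometricallyReduced (IsLocalRing.ResidueField (W.comap (algebraMap K₁ M)))
        (IsLocalRing.ResidueField W) _ _
        (IsLocalRing.ResidueField.map (EtRam.inclOfComap W (algebraMap K₁ M))).toAlgebra := by
  classical
  haveI : FiniteDimensional L M := finiteDimensional_of_adjoin_eq_top (K := K) hgen
  haveI : IsDiscreteValuationRing W :=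
    isDiscreteValuationRing_of_dominates (A := B) (K := L) (L := M) W hW
  have hcompat : ∀ a : A, algebraMap K₁ M (algebraMap K K₁ (algebraMap A K a)) =
      algebraMap L M (algebraMap B L (algebraMap A B a)) := by
    intro a
    rw [← IsScalarTower.algebraMap_apply K K₁ M, IsScalarTower.algebraMap_apply K L M,
      ← IsScalarTower.algebraMap_apply A K L, IsScalarTower.algebraMap_apply A B L]
  have hV : EtRam.Dominates A ((algebraMap K K₁).comp (algebraMap A K))
      (W.comap (algebraMap K₁ M)) := by
    rw [dominates_comap_iff]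
    have h1 := dominates_comp (A := A) _ W hW
    refine ⟨fun a => ?_, fun a ha => ?_⟩
    · have := h1.1 a
      simp only [RingHom.comp_apply] at this ⊢
      rw [hcompat]
      exact this
    · have := h1.2 a ha
      simp only [RingHom.comp_apply] at this ⊢
      rw [hcompat]
      exact this
  haveI : IsDiscreteValuationRing (W.comap (algebraMap K₁ M)) :=
    isDiscreteValuationRing_of_dominates (A := A) (K := K) (L := K₁) _ hV
  letI algAV : Algebra A (W.comap (algebraMap K₁ M)) :=
    (RingHom.codRestrict ((algebraMap K K₁).comp (algebraMap A K)) _ hA).toAlgebra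
  letI algBW : Algebra B W :=
    (RingHom.codRestrict ((algebraMap L M).comp (algebraMap B L)) W hW.1).toAlgebra
  letI algVW : Algebra (W.comap (algebraMap K₁ M)) W :=
    (EtRam.inclOfComap W (algebraMap K₁ M)).toAlgebra
  letI algAW : Algebra A W := ((algebraMap B W).comp (algebraMap A B)).toAlgebra
  haveI : IsScalarTower A B W := IsScalarTower.of_algebraMap_eq fun _ => rfl
  haveI : IsScalarTower A (W.comap (algebraMap K₁ M)) W := IsScalarTower.of_algebraMap_eq fun a =>
    Subtype.ext (hcompat a).symm
  haveI hlocBW : IsLocalHom (algebraMap B W) := isLocalHom_of_dominates _ W hW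
  haveI hlocVW : IsLocalHom (algebraMap (W.comap (algebraMap K₁ M)) W) :=
    EtRam.isLocalHom_inclOfComap W (algebraMap K₁ M)
  haveI hlocAV : IsLocalHom (algebraMap A (W.comap (algebraMap K₁ M))) :=
    isLocalHom_of_dominates _ _ hV
  haveI hlocAW : IsLocalHom (algebraMap A W) := by
    change IsLocalHom ((algebraMap B W).comp (algebraMap A B))
    exact RingHom.isLocalHom_comp _ _
  have hVW : Function.Injective (algebraMap (W.comap (algebraMap K₁ M)) W) := by
    intro x y hxy
    have := congrArg Subtype.val hxy
    exact Subtype.ext ((algebraMap K₁ M).injective this)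
  letI algAK₁ : Algebra A K₁ := ((algebraMap K K₁).comp (algebraMap A K)).toAlgebra
  haveI : IsScalarTower A K K₁ := IsScalarTower.of_algebraMap_eq fun _ => rfl
  haveI : IsScalarTower A (W.comap (algebraMap K₁ M)) K₁ :=
    IsScalarTower.of_algebraMap_eq fun _ => rfl
  have hAV : Function.Injective (algebraMap A (W.comap (algebraMap K₁ M))) :=
    injective_codRestrict_of_dominates _ hV
  have hBW : Function.Injective (algebraMap B W) := injective_codRestrict_of_dominates _ hW
  haveI : Module.Finite (κ A) (κ (W.comap (algebraMap K₁ M))) :=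
    finite_residueField (K := K) (L := K₁) hAV
  have hgen' : ∀ w : W, ∃ x y : (W.comap (algebraMap K₁ M)) ⊗[A] B,
      phi A B (W.comap (algebraMap K₁ M)) W y ≠ 0 ∧
        w * phi A B (W.comap (algebraMap K₁ M)) W y =
          phi A B (W.comap (algebraMap K₁ M)) W x := by
    intro w
    obtain ⟨x, y, hy, hxy⟩ := exists_quot_of_adjoin_eq_top (A := A) (B := B)
      (V := W.comap (algebraMap K₁ M)) hgen
      (W.subtype.comp (phi A B (W.comap (algebraMap K₁ M)) W).toRingHom)
      (fun v => by simp [phi]; rfl) (fun b => by simp [phi]; rfl) (w : M)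
    refine ⟨x, y, fun h => hy ?_, Subtype.ext hxy⟩
    change ((phi A B (W.comap (algebraMap K₁ M)) W y : W) : M) = 0
    rw [h]
    rfl
  intro hdvd
  obtain ⟨h1, h2⟩ := tameCore (A := A) (B := B) (V := W.comap (algebraMap K₁ M)) (W := W)
    hinj hAV hBW hVW he hdvd hgen'
  refine ⟨h1, ?_⟩
  have halg : (IsLocalRing.ResidueField.map (EtRam.inclOfComap W (algebraMap K₁ M))).toAlgebra =
      (inferInstance : Algebra (κ (W.comap (algebraMap K₁ M))) (κ W)) := by
    apply Algebra.algebra_ext
    intro r
    obtain ⟨r, rfl⟩ := IsLocalRing.residue_surjective r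
    rfl
  rw [halg]
  exact h2

end Groth.Agent.Lib.Helper9.DvrTameApp
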