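import Mathlib
import Groth.Prelude.Def_EtRam

/-!
# Epp's theorem, Artin–Schreier case: field-level preparations

* `exists_as_generator`: a Galois extension of degree `p` in characteristic `p` is generated by a
  root of `z ^ p - z = ξ`.
* `perfect_of_hk`: if `κ_A = ⋂ κ_B ^ (p ^ n)` then `κ_A` is perfect.
* `normal_form`: over a DVR with perfect residue field, every element is congruent modulo
  `℘(K)` to an integral element or to an element with pole order prime to `p`.
* `expansion`: the exact expansion of `ξ ∈ L` used in Epp's argument.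
-/

set_option autoImplicit false
set_option linter.unusedSectionVars false
set_option linter.style.haveILetI false
set_option linter.overlappingInstances false

universe u

namespace Groth.Agent.Lib.Helper9.EppAS

local notation "𝔪" => IsLocalRing.maximalIdeal
local notation "κ" => IsLocalRing.ResidueField

section Generator

theorem exists_as_generator (p : ℕ) [hp : Fact p.Prime] (L M : Type u) [Field L] [Field M]
    [Algebra L M] [CharP L p] [IsGalois L M] (hdeg : Module.finrank L M = p) :
    ∃ (z : M) (ξ : L), z ^ p - z = algebraMap L M ξ ∧ IntermediateField.adjoin L {z} = ⊤ := by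
  classical
  haveI : CharP M p := charP_of_injective_algebraMap (algebraMap L M).injective p
  haveI : FiniteDimensional L M :=
    Module.finite_of_finrank_pos (by rw [hdeg]; exact hp.out.pos)
  have hcard : Nat.card (M ≃ₐ[L] M) = p := by rw [IsGalois.card_aut_eq_finrank, hdeg]
  haveI : IsCyclic (M ≃ₐ[L] M) := isCyclic_of_prime_card hcard
  obtain ⟨σ, hσ⟩ := IsCyclic.exists_generator (α := M ≃ₐ[L] M)
  -- elements fixed by σ lie in L
  have hfix : ∀ x : M, σ x = x → ∃ l : L, algebraMap L M l = x := by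
    intro x hx
    have h1 : ∀ τ : M ≃ₐ[L] M, τ x = x := by
      intro τ
      have hle : Subgroup.zpowers σ ≤ MulAction.stabilizer (M ≃ₐ[L] M) x := by
        rw [Subgroup.zpowers_le]
        exact hx
      have := hle (hσ τ)
      exact this
    have h2 := (IsGalois.mem_bot_iff_fixed (F := L) (E := M) x).2 h1
    rw [IntermediateField.mem_bot] at h2
    exact h2
  have hσp : σ ^ p = 1 := by
    rw [← hcard]
    exact pow_card_eq_one'
  have hσ1 : σ ≠ 1 := by
    intro h1
    have h2 : ∀ τ : M ≃ₐ[L] M, τ = 1 := by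
      intro τ
      have := hσ τ
      rw [h1, Subgroup.zpowers_one_eq_bot, Subgroup.mem_bot] at this
      exact this
    haveI : Subsingleton (M ≃ₐ[L] M) := ⟨fun a b => (h2 a).trans (h2 b).symm⟩
    have h3 : Nat.card (M ≃ₐ[L] M) = 1 := Nat.card_unique
    rw [hcard] at h3
    exact hp.out.one_lt.ne' h3
  -- the nilpotent operator N = σ - 1
  haveI : CharP (Module.End L M) p :=
    charP_of_injective_algebraMap (algebraMap L (Module.End L M)).injective p
  set S : Module.End L M := σ.toLinearMap with hS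
  have hSpow : ∀ (k : ℕ) (x : M), (S ^ k) x = (σ ^ k) x := by
    intro k
    induction k with
    | zero => intro x; simp
    | succ k ih =>
      intro x
      rw [pow_succ, Module.End.mul_apply, ih, pow_succ, AlgEquiv.mul_apply]
      rfl
  have hSp : S ^ p = 1 := by
    ext x
    rw [hSpow, hσp]
    rfl
  set N : Module.End L M := S - 1 with hN
  have hNp : N ^ p = 0 := by
    rw [hN, sub_pow_char_of_commute (p := p) (h := Commute.one_right S), hSp, one_pow,
      sub_self]
  have hNapply : ∀ x : M, N x = σ x - x := fun x => rfl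
  have hN0 : N ≠ 0 := by
    intro h0
    apply hσ1
    ext x
    have := hNapply x
    rw [h0, LinearMap.zero_apply] at this
    rw [AlgEquiv.one_apply]
    exact (sub_eq_zero.1 this.symm)
  have hex : ∃ n : ℕ, N ^ n = 0 := ⟨p, hNp⟩
  obtain ⟨k, hk1, hk2⟩ : ∃ k : ℕ, N ^ (k + 1) ≠ 0 ∧ N ^ (k + 2) = 0 := by
    have hfind := Nat.find_spec hex
    have hmin := fun m => Nat.find_min hex (m := m)
    rcases hn : Nat.find hex with _ | _ | k
    · rw [hn, pow_zero] at hfind
      exact absurd hfind one_ne_zero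
    · rw [hn, zero_add, pow_one] at hfind
      exact absurd hfind hN0
    · refine ⟨k, hmin (k + 1) (by omega), ?_⟩
      rw [hn] at hfind
      exact hfind
  obtain ⟨y, hy⟩ : ∃ y : M, (N ^ (k + 1)) y ≠ 0 := by
    by_contra hcon
    push Not at hcon
    exact hk1 (LinearMap.ext hcon)
  set w : M := (N ^ k) y with hw
  have hNw : N w = (N ^ (k + 1)) y := by
    rw [hw, pow_succ', Module.End.mul_apply]
  have hNNw : N (N w) = 0 := by
    rw [hNw, ← Module.End.mul_apply, ← pow_succ', hk2, LinearMap.zero_apply]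
  obtain ⟨t₀, ht₀⟩ := hfix (N w) (by
    have := hNapply (N w)
    rw [hNNw] at this
    exact (sub_eq_zero.1 this.symm))
  have ht₀0 : t₀ ≠ 0 := by
    rintro rfl
    rw [map_zero] at ht₀
    exact hy (by rw [← hNw, ← ht₀])
  set z : M := t₀⁻¹ • w with hz
  have hNz : N z = 1 := by
    rw [hz, map_smul, ← ht₀, Algebra.smul_def, ← map_mul, inv_mul_cancel₀ ht₀0, map_one]
  have hσz : σ z = z + 1 := by
    have := hNapply z
    rw [hNz] at this
    rw [this]
    ring
  have hσξ : σ (z ^ p - z) = z ^ p - z := by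
    rw [map_sub, map_pow, hσz, add_pow_char, one_pow]
    ring
  obtain ⟨ξ, hξ⟩ := hfix _ hσξ
  refine ⟨z, ξ, hξ.symm, ?_⟩
  haveI : IsSimpleOrder (IntermediateField L M) :=
    IntermediateField.isSimpleOrder_of_finrank_prime L M (hdeg ▸ hp.out)
  rcases eq_bot_or_eq_top (IntermediateField.adjoin L {z}) with h | h
  · exfalso
    have hzmem : z ∈ (⊥ : IntermediateField L M) := by
      rw [← h]
      exact IntermediateField.mem_adjoin_simple_self L z
    rw [IntermediateField.mem_bot] at hzmem
    obtain ⟨l, hl⟩ := hzmem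
    have : σ z = z := by rw [← hl, AlgEquiv.commutes]
    rw [hσz] at this
    exact one_ne_zero (add_eq_left.1 this)
  · exact h

end Generator

section Perfect

theorem perfect_of_hk (p : ℕ) [hp : Fact p.Prime] (kA kB : Type*) [Field kA] [Field kB]
    [Algebra kA kB] [CharP kB p]
    (hk : ∀ x : kB, (∀ n : ℕ, ∃ y : kB, y ^ (p ^ n) = x) ↔ x ∈ Set.range (algebraMap kA kB)) :
    ∀ x : kA, ∃ y : kA, y ^ p = x := by
  intro x
  have h1 := (hk (algebraMap kA kB x)).2 ⟨x, rfl⟩
  obtain ⟨y, hy⟩ := h1 1
  rw [pow_one] at hy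
  have hy2 : y ∈ Set.range (algebraMap kA kB) := by
    rw [← hk]
    intro n
    obtain ⟨w, hw⟩ := h1 (n + 1)
    refine ⟨w, ?_⟩
    have h2 : (w ^ p ^ n) ^ p = y ^ p := by
      rw [← pow_mul, ← pow_succ, hw, hy]
    exact frobenius_inj kB p h2
  obtain ⟨y₀, rfl⟩ := hy2
  refine ⟨y₀, (algebraMap kA kB).injective ?_⟩
  rw [map_pow, hy]

end Perfect

section NormalForm

variable (p : ℕ) [hp : Fact p.Prime] (A K : Type u) [CommRing A] [IsDomain A]
  [IsDiscreteValuationRing A] [Field K] [Algebra A K] [IsFractionRing A K] [CharP K p]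

theorem normal_form (hperf : ∀ x : κ A, ∃ y : κ A, y ^ p = x) (π : A)
    (hπ : 𝔪 A = Ideal.span {π}) (n : ℕ) :
    ∀ η : K, (∃ c : A, η * algebraMap A K π ^ n = algebraMap A K c) →
    ∃ y : K, (∃ a : A, η - (y ^ p - y) = algebraMap A K a) ∨
      ∃ k : ℕ, 0 < k ∧ ¬ p ∣ k ∧ ∃ a : A, IsUnit a ∧
        (η - (y ^ p - y)) * algebraMap A K π ^ k = algebraMap A K a := by
  have hπirr : Irreducible π := (IsDiscreteValuationRing.irreducible_iff_uniformizer π).2 hπ
  have hπK : algebraMap A K π ≠ 0 := by
    rw [Ne, map_eq_zero_iff _ (IsFractionRing.injective A K)]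
    exact hπirr.ne_zero
  induction n with
  | zero =>
    rintro η ⟨c, hc⟩
    refine ⟨0, Or.inl ⟨c, ?_⟩⟩
    rw [pow_zero, mul_one] at hc
    rw [zero_pow hp.out.ne_zero, sub_zero, sub_zero, hc]
  | succ n ih =>
    rintro η ⟨c, hc⟩
    by_cases hcm : c ∈ 𝔪 A
    · rw [hπ, Ideal.mem_span_singleton'] at hcm
      obtain ⟨d, rfl⟩ := hcm
      apply ih η ⟨d, ?_⟩
      have : (η * algebraMap A K π ^ n) * algebraMap A K π =
          algebraMap A K d * algebraMap A K π := by
        rw [mul_assoc, ← pow_succ, hc, map_mul]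
      exact mul_right_cancel₀ hπK this
    · have hcu : IsUnit c := by
        rwa [IsLocalRing.mem_maximalIdeal, mem_nonunits_iff, not_not] at hcm
      by_cases hpn : p ∣ n + 1
      · obtain ⟨m', hm'⟩ := hpn
        obtain ⟨rbar, hrbar⟩ := hperf (IsLocalRing.residue A c)
        obtain ⟨r, rfl⟩ := IsLocalRing.residue_surjective rbar
        have h1 : c - r ^ p ∈ 𝔪 A := by
          rw [← IsLocalRing.residue_eq_zero_iff, map_sub, map_pow, hrbar, sub_self]
        rw [hπ, Ideal.mem_span_singleton'] at h1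
        obtain ⟨d, hd⟩ := h1
        have hm'n : m' ≤ n := by
          have := hp.out.two_le
          nlinarith
        set y₀ : K := algebraMap A K r * (algebraMap A K π ^ m')⁻¹ with hy₀
        have hy₀p : y₀ ^ p * algebraMap A K π ^ (n + 1) = algebraMap A K (r ^ p) := by
          rw [hy₀, mul_pow, inv_pow, ← pow_mul, mul_comm m' p, ← hm', map_pow, mul_assoc,
            inv_mul_cancel₀ (pow_ne_zero _ hπK), mul_one]
        have e1 : y₀ * algebraMap A K π ^ n = algebraMap A K (r * π ^ (n - m')) := by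
          rw [hy₀, map_mul, map_pow, mul_assoc]
          congr 1
          rw [inv_mul_eq_div, div_eq_iff (pow_ne_zero _ hπK), ← pow_add, Nat.sub_add_cancel hm'n]
        obtain ⟨y', hy'⟩ := ih (η - (y₀ ^ p - y₀)) ⟨d + r * π ^ (n - m'), by
          apply mul_right_cancel₀ hπK
          calc (η - (y₀ ^ p - y₀)) * algebraMap A K π ^ n * algebraMap A K π
              = η * algebraMap A K π ^ (n + 1) - y₀ ^ p * algebraMap A K π ^ (n + 1) +
                y₀ * algebraMap A K π ^ n * algebraMap A K π := by ring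
            _ = algebraMap A K c - algebraMap A K (r ^ p) +
                algebraMap A K (r * π ^ (n - m')) * algebraMap A K π := by rw [hc, hy₀p, e1]
            _ = algebraMap A K (d + r * π ^ (n - m')) * algebraMap A K π := by
              rw [← map_sub, ← hd, map_add, map_mul]; ring⟩
        refine ⟨y₀ + y', ?_⟩
        have hadd : (y₀ + y') ^ p - (y₀ + y') = (y₀ ^ p - y₀) + (y' ^ p - y') := by
          rw [add_pow_char]; ring
        rw [hadd, ← sub_sub]
        exact hy'
      · exact ⟨0, Or.inr ⟨n + 1, n.succ_pos, hpn, c, hcu, by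
          rw [zero_pow hp.out.ne_zero, sub_zero, sub_zero, hc]⟩⟩

end NormalForm

section Expansion

variable (p : ℕ) [hp : Fact p.Prime] (A B K L : Type u) [CommRing A] [IsDomain A]
  [IsDiscreteValuationRing A] [CommRing B] [IsDomain B] [IsDiscreteValuationRing B]
  [Algebra A B] [IsLocalHom (algebraMap A B)]
  [Field K] [Field L] [Algebra A K] [Algebra B L] [Algebra K L] [Algebra A L]
  [IsScalarTower A K L] [IsScalarTower A B L] [CharP L p]

/-- splitting an element of `B` modulo `π`. -/
theorem decompose (hw : EtRam.IsWeaklyUnramified A B) (π : A) (hπ : 𝔪 A = Ideal.span {π})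
    (hk : ∀ x : κ B, (∀ n : ℕ, ∃ y : κ B, y ^ (p ^ n) = x) ↔
      x ∈ Set.range (algebraMap (κ A) (κ B))) (c : B) :
    (∃ (a : A) (d : B), c = algebraMap A B a + algebraMap A B π * d) ∨
      ∃ (s : ℕ) (γ d : B), c = γ ^ (p ^ s) + algebraMap A B π * d ∧
        ∀ r : B, IsLocalRing.residue B γ ≠ IsLocalRing.residue B r ^ p := by
  classical
  have hmB : 𝔪 B = Ideal.span {algebraMap A B π} := by
    have h1 : (𝔪 A).map (algebraMap A B) = 𝔪 B := hw
    rw [← h1, hπ, Ideal.map_span, Set.image_singleton]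
  have hdiv : ∀ x : B, IsLocalRing.residue B x = 0 → ∃ d : B, x = algebraMap A B π * d := by
    intro x hx
    rw [IsLocalRing.residue_eq_zero_iff, hmB, Ideal.mem_span_singleton'] at hx
    obtain ⟨d, hd⟩ := hx
    exact ⟨d, by rw [← hd, mul_comm]⟩
  by_cases h : IsLocalRing.residue B c ∈ Set.range (algebraMap (κ A) (κ B))
  · left
    obtain ⟨abar, ha⟩ := h
    obtain ⟨a, rfl⟩ := IsLocalRing.residue_surjective abar
    have h1 : IsLocalRing.residue B (c - algebraMap A B a) = 0 := by
      rw [map_sub, ← ha, sub_eq_zero]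
      rfl
    obtain ⟨d, hd⟩ := hdiv _ h1
    exact ⟨a, d, by rw [← hd]; ring⟩
  · right
    rw [← hk] at h
    push Not at h
    have hfind := Nat.find_spec h
    have hmin := fun m => Nat.find_min h (m := m)
    rcases hn : Nat.find h with _ | s
    · rw [hn] at hfind
      exact absurd (by rw [pow_zero, pow_one]) (hfind (IsLocalRing.residue B c))
    · have hs := hmin s (by omega)
      push Not at hs
      obtain ⟨ybar, hy⟩ := hs
      obtain ⟨γ, rfl⟩ := IsLocalRing.residue_surjective ybar
      have h1 : IsLocalRing.residue B (c - γ ^ (p ^ s)) = 0 := by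
        rw [map_sub, map_pow, hy, sub_self]
      obtain ⟨d, hd⟩ := hdiv _ h1
      refine ⟨s, γ, d, by rw [← hd]; ring, ?_⟩
      intro r hr
      rw [hn] at hfind
      apply hfind (IsLocalRing.residue B r)
      rw [pow_succ, pow_mul', ← hr, hy]

theorem expansion (hw : EtRam.IsWeaklyUnramified A B) (π : A) (hπ : 𝔪 A = Ideal.span {π})
    (hπL : algebraMap A L π ≠ 0)
    (hk : ∀ x : κ B, (∀ n : ℕ, ∃ y : κ B, y ^ (p ^ n) = x) ↔
      x ∈ Set.range (algebraMap (κ A) (κ B))) (n : ℕ) :
    ∀ ξ : L, (∃ c : B, ξ * algebraMap A L π ^ n = algebraMap B L c) →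
    ∃ (y : L) (η : K) (J : Finset ℕ) (β : ℕ → B) (s : ℕ → ℕ) (b : B),
      ξ = y ^ p - y + algebraMap K L η +
        ∑ j ∈ J, algebraMap B L (β j) ^ (p ^ s j) * (algebraMap A L π ^ j)⁻¹ +
        algebraMap B L b ∧
      ∀ j ∈ J, 0 < j ∧ j ≤ n ∧ (p ∣ j → s j = 0) ∧
        ∀ r : B, IsLocalRing.residue B (β j) ≠ IsLocalRing.residue B r ^ p := by
  classical
  have hBπ : algebraMap B L (algebraMap A B π) = algebraMap A L π :=
    (IsScalarTower.algebraMap_apply A B L π).symm
  induction n with
  | zero =>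
    rintro ξ ⟨c, hc⟩
    rw [pow_zero, mul_one] at hc
    refine ⟨0, 0, ∅, fun _ => 0, fun _ => 0, c, ?_, ?_⟩
    · rw [hc, zero_pow hp.out.ne_zero, map_zero, Finset.sum_empty]
      ring
    · intro j hj
      exact absurd hj (Finset.notMem_empty j)
  | succ n ih =>
    rintro ξ ⟨c, hc⟩
    set ϖ : L := algebraMap A L π with hϖ
    have hξ : ξ = algebraMap B L c * (ϖ ^ (n + 1))⁻¹ := by
      rw [← hc, mul_assoc, mul_inv_cancel₀ (pow_ne_zero _ hπL), mul_one]
    have hinv : ϖ * (ϖ ^ (n + 1))⁻¹ = (ϖ ^ n)⁻¹ := by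
      rw [pow_succ, mul_inv, ← mul_assoc, mul_comm ϖ, mul_assoc, mul_inv_cancel₀ hπL, mul_one]
    have hcancel : ∀ x : L, ϖ * x * (ϖ ^ (n + 1))⁻¹ * ϖ ^ n = x := by
      intro x
      have h0 := pow_ne_zero n hπL
      rw [pow_succ, mul_inv]
      field_simp
    rcases decompose p A B hw π hπ hk c with ⟨a, d, hcd⟩ | ⟨s, γ, d, hcd, hγ⟩
    · -- leading coefficient in κ_A
      set η₀ : K := algebraMap A K a * (algebraMap A K π ^ (n + 1))⁻¹ with hη₀
      have hη₀L : algebraMap K L η₀ = algebraMap A L a * (ϖ ^ (n + 1))⁻¹ := by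
        rw [hη₀, map_mul, map_inv₀, map_pow, ← IsScalarTower.algebraMap_apply A K L,
          ← IsScalarTower.algebraMap_apply A K L]
      have h1 : (ξ - algebraMap K L η₀) * ϖ ^ n = algebraMap B L d := by
        rw [hξ, hη₀L, hcd, map_add, map_mul, hBπ, ← IsScalarTower.algebraMap_apply A B L,
          add_mul, add_sub_cancel_left]
        exact hcancel _
      obtain ⟨y, η', J, β, s, b, hsum, hJ⟩ := ih (ξ - algebraMap K L η₀) ⟨d, h1⟩
      refine ⟨y, η' + η₀, J, β, s, b, ?_, ?_⟩
      · rw [map_add]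
        linear_combination hsum
      · intro j hj
        obtain ⟨h1, h2, h3, h4⟩ := hJ j hj
        exact ⟨h1, by omega, h3, h4⟩
    · by_cases hcase : p ∣ n + 1 ∧ 0 < s
      · obtain ⟨⟨m', hm'⟩, hs⟩ := hcase
        have hm'n : m' ≤ n := by
          have := hp.out.two_le
          nlinarith
        set y₀ : L := algebraMap B L γ ^ (p ^ (s - 1)) * (ϖ ^ m')⁻¹ with hy₀
        have hy₀p : y₀ ^ p = algebraMap B L γ ^ (p ^ s) * (ϖ ^ (n + 1))⁻¹ := by
          rw [hy₀, mul_pow, inv_pow, ← pow_mul, ← pow_mul, ← pow_succ, Nat.sub_add_cancel hs,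
            mul_comm m' p, ← hm']
        have e1 : y₀ * ϖ ^ n = algebraMap B L (γ ^ (p ^ (s - 1)) * algebraMap A B π ^ (n - m')) := by
          rw [hy₀, map_mul, map_pow, map_pow, hBπ, mul_assoc]
          congr 1
          rw [inv_mul_eq_div, div_eq_iff (pow_ne_zero _ hπL), ← pow_add,
            Nat.sub_add_cancel hm'n]
        have h1 : (ξ - (y₀ ^ p - y₀)) * ϖ ^ n =
            algebraMap B L (d + γ ^ (p ^ (s - 1)) * algebraMap A B π ^ (n - m')) := by
          rw [map_add, ← e1, hξ, hy₀p, hcd, map_add, map_mul, map_pow, hBπ]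
          have : (algebraMap B L γ ^ p ^ s + ϖ * algebraMap B L d) * (ϖ ^ (n + 1))⁻¹ -
              (algebraMap B L γ ^ p ^ s * (ϖ ^ (n + 1))⁻¹ - y₀) =
              algebraMap B L d * (ϖ * (ϖ ^ (n + 1))⁻¹) + y₀ := by ring
          rw [this, hinv, add_mul, mul_assoc, inv_mul_cancel₀ (pow_ne_zero _ hπL), mul_one]
        obtain ⟨y, η, J, β, s', b, hsum, hJ⟩ := ih (ξ - (y₀ ^ p - y₀)) ⟨_, h1⟩
        refine ⟨y₀ + y, η, J, β, s', b, ?_, ?_⟩
        · rw [add_pow_char]
          linear_combination hsum
        · intro j hj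
          obtain ⟨h1, h2, h3, h4⟩ := hJ j hj
          exact ⟨h1, by omega, h3, h4⟩
      · have h1 : (ξ - algebraMap B L γ ^ (p ^ s) * (ϖ ^ (n + 1))⁻¹) * ϖ ^ n =
            algebraMap B L d := by
          rw [hξ, hcd, map_add, map_mul, map_pow, hBπ, add_mul, add_sub_cancel_left]
          exact hcancel _
        obtain ⟨y, η, J, β, s', b, hsum, hJ⟩ :=
          ih (ξ - algebraMap B L γ ^ (p ^ s) * (ϖ ^ (n + 1))⁻¹) ⟨d, h1⟩
        have hnotin : n + 1 ∉ J := by
          intro hmem
          have := (hJ _ hmem).2.1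
          omega
        refine ⟨y, η, insert (n + 1) J, Function.update β (n + 1) γ,
          Function.update s' (n + 1) s, b, ?_, ?_⟩
        · rw [Finset.sum_insert hnotin, Function.update_self, Function.update_self]
          have hcongr : ∑ j ∈ J, algebraMap B L (Function.update β (n + 1) γ j) ^
              (p ^ Function.update s' (n + 1) s j) * (ϖ ^ j)⁻¹ =
              ∑ j ∈ J, algebraMap B L (β j) ^ (p ^ s' j) * (ϖ ^ j)⁻¹ := by
            apply Finset.sum_congr rfl
            intro j hj
            have hne : j ≠ n + 1 := fun h => hnotin (h ▸ hj)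
            rw [Function.update_of_ne hne, Function.update_of_ne hne]
          rw [hcongr]
          linear_combination hsum
        · intro j hj
          rw [Finset.mem_insert] at hj
          rcases hj with rfl | hj
          · rw [Function.update_self, Function.update_self]
            refine ⟨n.succ_pos, le_rfl, fun hdvd => ?_, hγ⟩
            by_contra hs0
            exact hcase ⟨hdvd, Nat.pos_of_ne_zero hs0⟩
          · have hne : j ≠ n + 1 := fun h => hnotin (h ▸ hj)
            rw [Function.update_of_ne hne, Function.update_of_ne hne]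
            obtain ⟨h1, h2, h3, h4⟩ := hJ j hj
            exact ⟨h1, by omega, h3, h4⟩

end Expansion

end Groth.Agent.Lib.Helper9.EppAS
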