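import Mathlib
import Groth.Prelude.Def_EtRam
import Groth.Agent.Lib.Helper9.DvrExt
import Groth.Agent.Lib.Helper9.DvrEisensteinApp
import Groth.Agent.Lib.Helper9.DvrArtinSchreier
import Groth.Agent.Lib.Helper9.EppAS1
import Groth.Agent.S7157

/-!
# Epp's theorem, Artin–Schreier case: construction of the totally ramified extension `K₁`

* `isTotallyRamified_trans`: total ramification is transitive.
* `exists_kill`: over a DVR with perfect residue field, a totally ramified finite separable
  extension in which `η` becomes `℘(y₁) + (integral)`.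
* `exists_K1`: the tower `K ⊂ K_q ⊂ K₁`.
-/

set_option autoImplicit false
set_option linter.unusedSectionVars false
set_option linter.style.haveILetI false
set_option linter.overlappingInstances false

universe u

namespace Groth.Agent.Lib.Helper9.EppAS

open Groth.Agent.Lib.Helper9.DvrExt Groth.Agent.Lib.Helper9.DvrEisensteinApp

local notation "𝔪" => IsLocalRing.maximalIdeal
local notation "κ" => IsLocalRing.ResidueField

section Trans

theorem dominates_of_dominates_comp (A : Type u) [CommRing A] [IsLocalRing A] {F₁ F₂ : Type u}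
    [Field F₁] [Field F₂] (g : A →+* F₁) (f : F₁ →+* F₂) (h₁ : EtRam.IsTotallyRamified A g)
    (V : ValuationSubring F₁) (hV : EtRam.Dominates A g V) (V₂ : ValuationSubring F₂)
    (hV₂ : EtRam.Dominates A (f.comp g) V₂) :
    EtRam.Dominates V (f.comp (algebraMap V F₁)) V₂ := by
  have hc : EtRam.Dominates A g (V₂.comap f) := (dominates_comap_iff g f V₂).2 hV₂
  have heq : V₂.comap f = V := h₁.2.1 _ _ hc hV
  subst heq
  exact dominates_subtype f V₂

theorem isTotallyRamified_trans (A : Type u) [CommRing A] [IsLocalRing A] {F₁ F₂ : Type u}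
    [Field F₁] [Field F₂] (g : A →+* F₁) (f : F₁ →+* F₂) (h₁ : EtRam.IsTotallyRamified A g)
    (V : ValuationSubring F₁) (hV : EtRam.Dominates A g V)
    (h₂ : EtRam.IsTotallyRamified V (f.comp (algebraMap V F₁))) :
    EtRam.IsTotallyRamified A (f.comp g) := by
  have hdown : ∀ V₂ : ValuationSubring F₂, EtRam.Dominates V (f.comp (algebraMap V F₁)) V₂ →
      EtRam.Dominates A (f.comp g) V₂ := by
    intro V₂ h
    refine ⟨fun a => h.1 ⟨g a, hV.1 a⟩, fun a ha => ?_⟩
    apply h.2 ⟨g a, hV.1 a⟩
    rw [ValuationSubring.valuation_lt_one_iff]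
    exact hV.2 a ha
  refine ⟨?_, ?_, ?_⟩
  · obtain ⟨V₂, hV₂⟩ := h₂.1
    exact ⟨V₂, hdown V₂ hV₂⟩
  · intro V₂ V₂' h h'
    exact h₂.2.1 V₂ V₂' (dominates_of_dominates_comp A g f h₁ V hV V₂ h)
      (dominates_of_dominates_comp A g f h₁ V hV V₂' h')
  · intro V₂ h x
    have hd := dominates_of_dominates_comp A g f h₁ V hV V₂ h
    obtain ⟨v, hv⟩ := h₂.2.2 V₂ hd x
    obtain ⟨a, ha⟩ := h₁.2.2 V hV (IsLocalRing.residue V v)
    refine ⟨a, ?_⟩
    simp only at hv ha ⊢
    rw [← hv, ← sub_eq_zero, ← map_sub, IsLocalRing.residue_eq_zero_iff,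
      ValuationSubring.valuation_lt_one_iff]
    have h3 : (RingHom.codRestrict g V hV.1 a) - v ∈ 𝔪 V := by
      rw [← IsLocalRing.residue_eq_zero_iff, map_sub, ha, sub_self]
    have h4 := hd.2 _ h3
    simpa using h4

end Trans

section Kill

open Groth.Agent.Lib.Helper9.DvrArtinSchreier in
theorem exists_kill (p : ℕ) [hp : Fact p.Prime] (A K : Type u) [CommRing A] [IsDomain A]
    [IsDiscreteValuationRing A] [Field K] [Algebra A K] [IsFractionRing A K] [CharP K p]
    (hperf : ∀ x : κ A, ∃ y : κ A, y ^ p = x) (η : K) :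
    ∃ (K₁ : Type u) (_ : Field K₁) (_ : Algebra K K₁), FiniteDimensional K K₁ ∧
      Algebra.IsSeparable K K₁ ∧
      EtRam.IsTotallyRamified A ((algebraMap K K₁).comp (algebraMap A K)) ∧
      ∃ y₁ a₁ : K₁, algebraMap K K₁ η = y₁ ^ p - y₁ + a₁ ∧
        ∀ V₁ : ValuationSubring K₁,
          EtRam.Dominates A ((algebraMap K K₁).comp (algebraMap A K)) V₁ → a₁ ∈ V₁ := by
  classical
  obtain ⟨π, hπirr⟩ := IsDiscreteValuationRing.exists_irreducible A
  have hπ : 𝔪 A = Ideal.span {π} :=
    (IsDiscreteValuationRing.irreducible_iff_uniformizer π).1 hπirr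
  haveI : CharP (κ A) p := charP_residueField p A K
  obtain ⟨n, c, hc⟩ := exists_pole hπirr η
  obtain ⟨y, hy⟩ := normal_form p A K hperf π hπ n η ⟨c, hc⟩
  rcases hy with ⟨a, ha⟩ | ⟨k, hk0, hpk, a, hau, ha⟩
  · obtain ⟨K₁, _, _, _, _, hfr, hsep, htot, -⟩ :=
      Groth.Agent.S7157.result p hp.out A K π hπ 2 (by norm_num) 0
    rw [pow_zero] at hfr
    haveI : FiniteDimensional K K₁ := Module.finite_of_finrank_pos (by rw [hfr]; exact one_pos)
    refine ⟨K₁, inferInstance, inferInstance, inferInstance, hsep, ?_, algebraMap K K₁ y,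
      algebraMap K K₁ (algebraMap A K a), ?_, ?_⟩
    · rwa [← IsScalarTower.algebraMap_eq A K K₁]
    · rw [← ha, ← map_pow, ← map_sub, ← map_add]
      congr 1
      ring
    · intro V₁ hV₁
      exact hV₁.1 a
  · set η' : K := η - (y ^ p - y) with hη'
    haveI : CharP (AlgebraicClosure K) p :=
      charP_of_injective_algebraMap (algebraMap K (AlgebraicClosure K)).injective p
    obtain ⟨z₁, hz₁⟩ : ∃ z₁ : AlgebraicClosure K,
        z₁ ^ p - z₁ = algebraMap K (AlgebraicClosure K) η' := by
      have hdeg : (asPoly p (algebraMap K (AlgebraicClosure K) η')).degree ≠ 0 := by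
        rw [Polynomial.degree_eq_natDegree (asPoly_monic (p := p) _).ne_zero, asPoly_natDegree]
        exact_mod_cast hp.out.ne_zero
      obtain ⟨z₁, hz₁⟩ := IsAlgClosed.exists_root _ hdeg
      refine ⟨z₁, ?_⟩
      rw [Polynomial.IsRoot, asPoly, Polynomial.eval_sub, Polynomial.eval_sub,
        Polynomial.eval_pow, Polynomial.eval_X, Polynomial.eval_C, sub_eq_zero] at hz₁
      exact hz₁
    let K₁ : IntermediateField K (AlgebraicClosure K) := IntermediateField.adjoin K {z₁}
    set z : K₁ := IntermediateField.AdjoinSimple.gen K z₁ with hzdef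
    have hz : z ^ p - z = algebraMap K K₁ η' := by
      apply Subtype.ext
      exact hz₁
    have hgen : IntermediateField.adjoin K {z} = ⊤ := by
      apply IntermediateField.map_injective (IntermediateField.val K₁)
      rw [IntermediateField.adjoin_map, Set.image_singleton, ← AlgHom.fieldRange_eq_map,
        IntermediateField.fieldRange_val]
      rfl
    letI : Algebra A K₁ := ((algebraMap K K₁).comp (algebraMap A K)).toAlgebra
    haveI : IsScalarTower A K K₁ := IsScalarTower.of_algebraMap_eq fun _ => rfl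
    obtain ⟨htot, hfr⟩ := caseB (A := A) (K := K) (L := K₁) hπirr η' z hz hgen k hk0 hpk a hau ha
    haveI : FiniteDimensional K K₁ := finiteDimensional η' z hz hgen
    haveI : IsGalois K K₁ := isGalois η' z hz hgen
    haveI : CharP K₁ p := charP_of_injective_algebraMap (algebraMap K K₁).injective p
    refine ⟨K₁, inferInstance, inferInstance, inferInstance, inferInstance, htot,
      algebraMap K K₁ y + z, 0, ?_, fun V₁ _ => V₁.zero_mem⟩
    rw [add_zero, add_pow_char, ← map_pow]
    have : algebraMap K K₁ η = algebraMap K K₁ (y ^ p - y) + algebraMap K K₁ η' := by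
      rw [← map_add, hη']
      congr 1
      ring
    rw [this, ← hz, map_sub]
    ring

end Kill

section Tower

open Groth.Agent.Lib.Helper9.DvrArtinSchreier in
theorem exists_K1 (p : ℕ) [hp : Fact p.Prime] (A K : Type u) [CommRing A] [IsDomain A]
    [IsDiscreteValuationRing A] [Field K] [Algebra A K] [IsFractionRing A K] [CharP K p]
    (hperf : ∀ x : κ A, ∃ y : κ A, y ^ p = x) (π : A) (hπ : 𝔪 A = Ideal.span {π}) (η : K)
    (m n₀ : ℕ) (hn₀ : 1 < n₀) :
    ∃ (K₁ : Type u) (_ : Field K₁) (_ : Algebra K K₁), FiniteDimensional K K₁ ∧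
      Algebra.IsSeparable K K₁ ∧
      EtRam.IsTotallyRamified A ((algebraMap K K₁).comp (algebraMap A K)) ∧
      ∃ y₁ a₁ πq bq : K₁, algebraMap K K₁ η = y₁ ^ p - y₁ + a₁ ∧
        πq ^ (p ^ m) = algebraMap K K₁ (algebraMap A K π) +
          algebraMap K K₁ (algebraMap A K π) ^ n₀ * bq ∧
        ∀ V₁ : ValuationSubring K₁,
          EtRam.Dominates A ((algebraMap K K₁).comp (algebraMap A K)) V₁ →
            a₁ ∈ V₁ ∧ πq ∈ V₁ ∧ bq ∈ V₁ := by
  classical
  haveI : CharP (κ A) p := charP_residueField p A K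
  obtain ⟨Kq, _, _, _, _, hfr, hsep, htot, πB, b, b', hπBint, hbint, -, heq, -⟩ :=
    Groth.Agent.S7157.result p hp.out A K π hπ n₀ hn₀ m
  haveI : FiniteDimensional K Kq :=
    Module.finite_of_finrank_pos (by rw [hfr]; exact pow_pos hp.out.pos m)
  haveI := hsep
  have htot' : EtRam.IsTotallyRamified A ((algebraMap K Kq).comp (algebraMap A K)) := by
    rwa [← IsScalarTower.algebraMap_eq A K Kq]
  obtain ⟨Vq, hVq⟩ := htot'.1
  haveI : IsDiscreteValuationRing Vq :=
    isDiscreteValuationRing_of_dominates (A := A) (K := K) (L := Kq) Vq hVq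
  haveI : CharP Kq p := charP_of_injective_algebraMap (algebraMap K Kq).injective p
  have hperfq : ∀ x : κ Vq, ∃ y : κ Vq, y ^ p = x := by
    intro x
    obtain ⟨a, ha⟩ := htot'.2.2 Vq hVq x
    simp only at ha
    obtain ⟨rbar, hr⟩ := hperf (IsLocalRing.residue A a)
    obtain ⟨r, rfl⟩ := IsLocalRing.residue_surjective rbar
    refine ⟨IsLocalRing.residue Vq
      (RingHom.codRestrict ((algebraMap K Kq).comp (algebraMap A K)) Vq hVq.1 r), ?_⟩
    have h1 : r ^ p - a ∈ 𝔪 A := by
      rw [← IsLocalRing.residue_eq_zero_iff, map_sub, map_pow, hr, sub_self]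
    have h2 := hVq.2 _ h1
    rw [← ha, ← map_pow, ← map_pow, ← sub_eq_zero, ← map_sub, ← map_sub,
      IsLocalRing.residue_eq_zero_iff, ValuationSubring.valuation_lt_one_iff]
    exact h2
  obtain ⟨K₁, _, _, hfd, hsep₁, htot₁, y₁, a₁, hy₁, ha₁⟩ :=
    exists_kill p Vq Kq hperfq (algebraMap K Kq η)
  letI : Algebra K K₁ := ((algebraMap Kq K₁).comp (algebraMap K Kq)).toAlgebra
  haveI : IsScalarTower K Kq K₁ := IsScalarTower.of_algebraMap_eq fun _ => rfl
  have htotK₁ : EtRam.IsTotallyRamified A ((algebraMap K K₁).comp (algebraMap A K)) :=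
    isTotallyRamified_trans A ((algebraMap K Kq).comp (algebraMap A K)) (algebraMap Kq K₁)
      htot' Vq hVq htot₁
  refine ⟨K₁, inferInstance, inferInstance, Module.Finite.trans Kq K₁,
    Algebra.IsSeparable.trans K Kq K₁, htotK₁, y₁, a₁, algebraMap Kq K₁ πB, algebraMap Kq K₁ b,
    hy₁, ?_, ?_⟩
  · rw [← map_pow, heq, map_add, map_mul, map_pow, IsScalarTower.algebraMap_apply A K Kq]
    rfl
  · intro V₁ hV₁
    have hd := dominates_of_dominates_comp A ((algebraMap K Kq).comp (algebraMap A K))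
      (algebraMap Kq K₁) htot' Vq hVq V₁ hV₁
    refine ⟨ha₁ V₁ hd, ?_, ?_⟩
    · obtain ⟨q, hq, hqe⟩ := hπBint
      refine mem_of_isIntegral_of_forall_mem ((algebraMap K K₁).comp (algebraMap A K)) V₁ hV₁.1
        ⟨q, hq, ?_⟩
      have : (algebraMap K K₁).comp (algebraMap A K) = (algebraMap Kq K₁).comp (algebraMap A Kq) := by
        rw [IsScalarTower.algebraMap_eq A K Kq]
        rfl
      rw [this, ← Polynomial.hom_eval₂, hqe, map_zero]
    · obtain ⟨q, hq, hqe⟩ := hbint
      refine mem_of_isIntegral_of_forall_mem ((algebraMap K K₁).comp (algebraMap A K)) V₁ hV₁.1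
        ⟨q, hq, ?_⟩
      have : (algebraMap K K₁).comp (algebraMap A K) = (algebraMap Kq K₁).comp (algebraMap A Kq) := by
        rw [IsScalarTower.algebraMap_eq A K Kq]
        rfl
      rw [this, ← Polynomial.hom_eval₂, hqe, map_zero]

end Tower

end Groth.Agent.Lib.Helper9.EppAS
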