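import Mathlib
import Groth.Prelude.Def_EtRam

/-!
# Epp's theorem, Artin–Schreier case: valuation computations in the compositum

* `telescope`: `℘(x + x^p + … + x^(p^(s-1))) = x^(p^s) - x`.
* `core`: rewriting the Artin–Schreier equation after the base change.
* `typeC`: an element `t ∈ W` whose `p`-th power is congruent to the leading coefficient.
-/

set_option autoImplicit false
set_option linter.unusedSectionVars false
set_option linter.style.haveILetI false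
set_option linter.overlappingInstances false

universe u

namespace Groth.Agent.Lib.Helper9.EppAS

section Core

variable {F : Type u} [Field F] (p : ℕ) [hp : Fact p.Prime] [CharP F p]

theorem telescope (x : F) (s : ℕ) :
    (∑ i ∈ Finset.range s, x ^ (p ^ i)) ^ p - ∑ i ∈ Finset.range s, x ^ (p ^ i) =
      x ^ (p ^ s) - x := by
  induction s with
  | zero => simp [zero_pow hp.out.ne_zero]
  | succ s ih =>
    rw [Finset.sum_range_succ, add_pow_char, ← pow_mul, ← pow_succ]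
    linear_combination ih

theorem sub_as (a b : F) : (a - b) ^ p - (a - b) = (a ^ p - a) - (b ^ p - b) := by
  rw [sub_pow_char]
  ring

theorem sum_as (J : Finset ℕ) (T : ℕ → F) :
    (∑ j ∈ J, T j) ^ p - ∑ j ∈ J, T j = ∑ j ∈ J, (T j ^ p - T j) := by
  rw [sum_pow_char, Finset.sum_sub_distrib]

theorem core (W : ValuationSubring F)
    (Z Y Y₁ A₁ Bb ϖ ϖq Bq : F) (J : Finset ℕ) (β : ℕ → F) (s : ℕ → ℕ) (m n₀ : ℕ)
    (hZ : Z ^ p - Z = Y ^ p - Y + (Y₁ ^ p - Y₁ + A₁) +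
      ∑ j ∈ J, β j ^ (p ^ s j) * (ϖ ^ j)⁻¹ + Bb)
    (hϖq : ϖq ^ (p ^ m) = ϖ + ϖ ^ n₀ * Bq)
    (hϖ0 : ϖ ≠ 0) (hϖ : W.valuation ϖ < 1) (hA₁ : A₁ ∈ W) (hBb : Bb ∈ W) (hBq : Bq ∈ W)
    (hβ : ∀ j ∈ J, β j ∈ W) (hs : ∀ j ∈ J, s j < m) (hj : ∀ j ∈ J, j < n₀) (hn₀ : 1 < n₀) :
    ϖq ≠ 0 ∧ W.valuation ϖq < 1 ∧ ∃ Z' ρ : F, ρ ∈ W ∧
      Z' ^ p - Z' = ρ + ∑ j ∈ J, β j * (ϖq ^ (j * p ^ (m - s j)))⁻¹ := by
  classical
  set U : F := 1 + ϖ ^ (n₀ - 1) * Bq with hU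
  have hϖU : ϖ + ϖ ^ n₀ * Bq = ϖ * U := by
    rw [hU, mul_add, mul_one, ← mul_assoc, ← pow_succ', Nat.sub_add_cancel hn₀.le]
  have hBqv : W.valuation Bq ≤ 1 := (W.valuation_le_one_iff _).2 hBq
  have hsmall : W.valuation (ϖ ^ (n₀ - 1) * Bq) < 1 := by
    rw [map_mul, map_pow]
    calc W.valuation ϖ ^ (n₀ - 1) * W.valuation Bq ≤ W.valuation ϖ ^ (n₀ - 1) * 1 :=
          mul_le_mul_right hBqv _
      _ = W.valuation ϖ ^ (n₀ - 1) := mul_one _
      _ < 1 := pow_lt_one₀ zero_le' hϖ (by omega)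
  have hUv : W.valuation U = 1 := W.valuation.map_one_add_of_lt hsmall
  have hU0 : U ≠ 0 := by
    intro h
    rw [h, map_zero] at hUv
    exact zero_ne_one hUv
  have hUW : U ∈ W := (W.valuation_le_one_iff _).1 hUv.le
  have hϖqpow : W.valuation ϖq ^ (p ^ m) = W.valuation ϖ := by
    rw [← map_pow, hϖq, hϖU, map_mul, hUv, mul_one]
  have hϖq0 : ϖq ≠ 0 := by
    intro h
    rw [h, zero_pow (pow_ne_zero _ hp.out.ne_zero)] at hϖq
    exact mul_ne_zero hϖ0 hU0 (by rw [← hϖU, ← hϖq])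
  have hϖqv : W.valuation ϖq < 1 := by
    by_contra hcon
    push Not at hcon
    have : 1 ≤ W.valuation ϖq ^ (p ^ m) := one_le_pow₀ hcon
    rw [hϖqpow] at this
    exact absurd hϖ (not_lt.2 this)
  refine ⟨hϖq0, hϖqv, ?_⟩
  -- the differences D_j
  have hD : ∀ j ∈ J, (ϖ ^ j)⁻¹ - ((ϖq ^ (p ^ m)) ^ j)⁻¹ ∈ W := by
    intro j hjJ
    have hjn := hj j hjJ
    have hgeom : U ^ j - 1 = (∑ i ∈ Finset.range j, U ^ i) * (ϖ ^ (n₀ - 1) * Bq) := by
      rw [← geom_sum_mul]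
      congr 1
      rw [hU]
      ring
    have hsplit : ϖ ^ (n₀ - 1) = ϖ ^ j * ϖ ^ (n₀ - 1 - j) := by
      rw [← pow_add]
      congr 1
      omega
    have hform : (ϖ ^ j)⁻¹ - ((ϖq ^ (p ^ m)) ^ j)⁻¹ =
        (U ^ j)⁻¹ * ((∑ i ∈ Finset.range j, U ^ i) * (ϖ ^ (n₀ - 1 - j) * Bq)) := by
      rw [hϖq, hϖU, mul_pow]
      have h1 : (ϖ ^ j)⁻¹ - (ϖ ^ j * U ^ j)⁻¹ = (ϖ ^ j)⁻¹ * (U ^ j)⁻¹ * (U ^ j - 1) := by
        have := pow_ne_zero j hϖ0
        have := pow_ne_zero j hU0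
        field_simp
      rw [h1, hgeom, hsplit]
      have := pow_ne_zero j hϖ0
      have := pow_ne_zero j hU0
      field_simp
    rw [hform]
    have hUinv : (U ^ j)⁻¹ ∈ W := by
      rw [← W.valuation_le_one_iff, map_inv₀, map_pow, hUv, one_pow, inv_one]
    exact W.mul_mem _ _ hUinv (W.mul_mem _ _ (W.toSubring.sum_mem fun i _ => pow_mem hUW i)
      (W.mul_mem _ _ (pow_mem ((W.valuation_le_one_iff _).1 hϖ.le) _) hBq))
  set x : ℕ → F := fun j => β j * (ϖq ^ (j * p ^ (m - s j)))⁻¹ with hx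
  have hxpow : ∀ j ∈ J, x j ^ (p ^ s j) = β j ^ (p ^ s j) * ((ϖq ^ (p ^ m)) ^ j)⁻¹ := by
    intro j hjJ
    have hsj := hs j hjJ
    rw [hx]
    simp only
    rw [mul_pow, inv_pow, ← pow_mul, ← pow_mul]
    congr 3
    rw [mul_assoc, ← pow_add, Nat.sub_add_cancel hsj.le, mul_comm]
  set T : ℕ → F := fun j => ∑ i ∈ Finset.range (s j), x j ^ (p ^ i) with hT
  refine ⟨Z - Y - Y₁ - ∑ j ∈ J, T j,
    A₁ + Bb + ∑ j ∈ J, β j ^ (p ^ s j) * ((ϖ ^ j)⁻¹ - ((ϖq ^ (p ^ m)) ^ j)⁻¹), ?_, ?_⟩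
  · refine W.add_mem _ _ (W.add_mem _ _ hA₁ hBb) (W.toSubring.sum_mem fun j hjJ => ?_)
    exact W.mul_mem _ _ (pow_mem (hβ j hjJ) _) (hD j hjJ)
  · rw [sub_as, sub_as, sub_as, sum_as, hZ]
    have hT2 : ∑ j ∈ J, (T j ^ p - T j) = ∑ j ∈ J, (x j ^ (p ^ s j) - x j) := by
      apply Finset.sum_congr rfl
      intro j _
      exact telescope p (x j) (s j)
    rw [hT2, Finset.sum_sub_distrib]
    have hx2 : ∑ j ∈ J, x j ^ (p ^ s j) = ∑ j ∈ J, β j ^ (p ^ s j) * ((ϖq ^ (p ^ m)) ^ j)⁻¹ :=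
      Finset.sum_congr rfl hxpow
    rw [hx2]
    simp only [mul_sub, Finset.sum_sub_distrib]
    ring

end Core

section TypeC

variable {F : Type u} [Field F] (p : ℕ) [hp : Fact p.Prime]

theorem typeC (W : ValuationSubring F) (Z' ρ ϖq : F) (J : Finset ℕ) (β : ℕ → F) (E : ℕ → ℕ)
    (hρ : ρ ∈ W) (hZ' : Z' ^ p - Z' = ρ + ∑ j ∈ J, β j * (ϖq ^ E j)⁻¹) (hϖq0 : ϖq ≠ 0)
    (hϖq : W.valuation ϖq < 1) (hβ : ∀ j ∈ J, β j ∈ W) (hJ : J.Nonempty)
    (hE : ∀ j ∈ J, ∃ N, 0 < N ∧ E j = p * N) (hinj : Set.InjOn E J) :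
    ∃ j ∈ J, ∃ t ∈ W, W.valuation (t ^ p - β j) < 1 := by
  classical
  obtain ⟨j₀, hj₀, hmax⟩ := Finset.exists_max_image J E hJ
  obtain ⟨N, hN, hEN⟩ := hE j₀ hj₀
  have hpowlt : ∀ k : ℕ, 0 < k → W.valuation (ϖq ^ k) < 1 := by
    intro k hk
    rw [map_pow]
    exact pow_lt_one₀ zero_le' hϖq hk.ne'
  have hρv : W.valuation ρ ≤ 1 := (W.valuation_le_one_iff _).2 hρ
  have hβv : ∀ j ∈ J, W.valuation (β j) ≤ 1 := fun j hj => (W.valuation_le_one_iff _).2 (hβ j hj)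
  set t : F := Z' * ϖq ^ N with ht
  set R : F := ρ * ϖq ^ E j₀ + ∑ j ∈ J.erase j₀, β j * ϖq ^ (E j₀ - E j) with hR
  have hp1N : 0 < E j₀ - N := by
    rw [hEN]
    have : 2 * N ≤ p * N := Nat.mul_le_mul_right N hp.out.two_le
    omega
  have hEpos : 0 < E j₀ := by rw [hEN]; exact Nat.mul_pos hp.out.pos hN
  have hRv : W.valuation R < 1 := by
    rw [hR]
    refine Valuation.map_add_lt _ ?_ ?_
    · rw [map_mul]
      calc W.valuation ρ * W.valuation (ϖq ^ E j₀) ≤ 1 * W.valuation (ϖq ^ E j₀) :=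
            mul_le_mul_left hρv _
        _ = W.valuation (ϖq ^ E j₀) := one_mul _
        _ < 1 := hpowlt _ hEpos
    · refine Valuation.map_sum_lt _ one_ne_zero ?_
      intro j hj
      rw [Finset.mem_erase] at hj
      have hle := hmax j hj.2
      have hne : E j ≠ E j₀ := fun h => hj.1 (hinj hj.2 hj₀ h)
      rw [map_mul]
      calc W.valuation (β j) * W.valuation (ϖq ^ (E j₀ - E j))
          ≤ 1 * W.valuation (ϖq ^ (E j₀ - E j)) := mul_le_mul_left (hβv j hj.2) _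
        _ = W.valuation (ϖq ^ (E j₀ - E j)) := one_mul _
        _ < 1 := hpowlt _ (by omega)
  have hkey : t ^ p - t * ϖq ^ (E j₀ - N) = β j₀ + R := by
    have h1 : t ^ p = Z' ^ p * ϖq ^ E j₀ := by
      rw [ht, mul_pow, ← pow_mul, mul_comm N p, ← hEN]
    have h2 : t * ϖq ^ (E j₀ - N) = Z' * ϖq ^ E j₀ := by
      rw [ht, mul_assoc, ← pow_add]
      congr 2
      have : N ≤ E j₀ := by rw [hEN]; exact Nat.le_mul_of_pos_left N hp.out.pos
      omega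
    rw [h1, h2, ← sub_mul, hZ', add_mul, Finset.sum_mul, ← Finset.add_sum_erase J _ hj₀, hR]
    have h3 : β j₀ * (ϖq ^ E j₀)⁻¹ * ϖq ^ E j₀ = β j₀ := by
      rw [mul_assoc, inv_mul_cancel₀ (pow_ne_zero _ hϖq0), mul_one]
    have h4 : ∑ j ∈ J.erase j₀, β j * (ϖq ^ E j)⁻¹ * ϖq ^ E j₀ =
        ∑ j ∈ J.erase j₀, β j * ϖq ^ (E j₀ - E j) := by
      apply Finset.sum_congr rfl
      intro j hj
      rw [Finset.mem_erase] at hj
      have hle := hmax j hj.2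
      rw [mul_assoc]
      congr 1
      rw [inv_mul_eq_div, div_eq_iff (pow_ne_zero _ hϖq0), ← pow_add, Nat.sub_add_cancel hle]
    rw [h3, h4]
    ring
  have hc₀ : W.valuation (β j₀ + R) ≤ 1 :=
    le_trans (Valuation.map_add _ _ _) (max_le (hβv j₀ hj₀) hRv.le)
  have htv : W.valuation t ≤ 1 := by
    by_contra hcon
    push Not at hcon
    have h1 : W.valuation (t * ϖq ^ (E j₀ - N)) < W.valuation (t ^ p) := by
      rw [map_mul, map_pow _ t]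
      calc W.valuation t * W.valuation (ϖq ^ (E j₀ - N)) ≤ W.valuation t * 1 :=
            mul_le_mul_right (hpowlt _ hp1N).le _
        _ = W.valuation t := mul_one _
        _ < W.valuation t ^ p := lt_self_pow₀ hcon hp.out.one_lt
    have h2 := Valuation.map_sub_eq_of_lt_left W.valuation h1
    rw [hkey] at h2
    have h3 : 1 < W.valuation (t ^ p) := by
      rw [map_pow]
      exact one_lt_pow₀ hcon hp.out.ne_zero
    rw [← h2] at h3
    exact absurd hc₀ (not_le.2 h3)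
  refine ⟨j₀, hj₀, t, (W.valuation_le_one_iff _).1 htv, ?_⟩
  have h5 : t ^ p - β j₀ = t * ϖq ^ (E j₀ - N) + R := by
    linear_combination hkey
  rw [h5]
  refine Valuation.map_add_lt _ ?_ hRv
  rw [map_mul]
  calc W.valuation t * W.valuation (ϖq ^ (E j₀ - N)) ≤ 1 * W.valuation (ϖq ^ (E j₀ - N)) :=
        mul_le_mul_left htv _
    _ = W.valuation (ϖq ^ (E j₀ - N)) := one_mul _
    _ < 1 := hpowlt _ hp1N

end TypeC

end Groth.Agent.Lib.Helper9.EppAS
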