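import Mathlib
import Groth.Prelude.Def_EtRam
import Groth.Agent.Lib.Helper9.DvrExt
import Groth.Agent.Lib.Helper9.DvrTower
import Groth.Agent.Lib.Helper9.DvrTotRam
import Groth.Agent.Lib.Helper9.DvrSmoothApp
import Groth.Agent.Lib.Helper9.DvrArtinSchreier
import Groth.Agent.Lib.Helper9.EppAS3

/-!
# Epp's theorem, Artin–Schreier case: the local extensions are weakly unramified

* `local_C`: the case where the expansion has a term of type (C) (`J ≠ ∅`): residue degree count.
* `local_A`: the case `J = ∅`: the compositum `L₁ = L·K₁` and an unramified Artin–Schreier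
  extension on top.
-/

set_option autoImplicit false
set_option linter.unusedSectionVars false
set_option linter.style.haveILetI false
set_option linter.overlappingInstances false

universe u

open Polynomial

namespace Groth.Agent.Lib.Helper9.EppAS

open Groth.Agent.Lib.Helper9.DvrExt Groth.Agent.Lib.Helper9.DvrTower
  Groth.Agent.Lib.Helper9.DvrTotRam Groth.Agent.Lib.Helper9.DvrSmoothApp

local notation "𝔪" => IsLocalRing.maximalIdeal
local notation "κ" => IsLocalRing.ResidueField

theorem injOn_E (p : ℕ) (hp : p.Prime) (J : Finset ℕ) (s : ℕ → ℕ) (m : ℕ)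
    (hJ : ∀ j ∈ J, p ∣ j → s j = 0) (hm : ∀ j ∈ J, s j < m) :
    Set.InjOn (fun j => j * p ^ (m - s j)) (J : Set ℕ) := by
  have key : ∀ j ∈ J, ∀ j' ∈ J, s j ≤ s j' → j * p ^ (m - s j) = j' * p ^ (m - s j') → j = j' := by
    intro j hj j' hj' hle heq
    have h1 := hm j hj
    have h2 := hm j' hj'
    have h3 : m - s j = (s j' - s j) + (m - s j') := by omega
    rw [h3, pow_add, ← mul_assoc] at heq
    have h4 := Nat.eq_of_mul_eq_mul_right (pow_pos hp.pos _) heq
    rcases Nat.eq_zero_or_pos (s j' - s j) with h0 | hpos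
    · rw [h0, pow_zero, mul_one] at h4
      exact h4
    · exfalso
      have hdvd : p ∣ j' := by
        rw [← h4]
        exact Dvd.dvd.mul_left (dvd_pow_self p hpos.ne') j
      have := hJ j' hj' hdvd
      omega
  intro j hj j' hj' heq
  simp only at heq
  rcases le_total (s j) (s j') with h | h
  · exact key j hj j' hj' h heq
  · exact (key j' hj' j hj h heq.symm).symm

theorem local_C (p : ℕ) (hp : p.Prime) (A B C K L M : Type u)
    [CommRing A] [IsDomain A] [IsDiscreteValuationRing A] [CommRing B] [IsDomain B]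
    [IsDiscreteValuationRing B] [CommRing C] [IsDomain C] [IsDiscreteValuationRing C]
    [Algebra A B] [Algebra B C] [Algebra A C] [IsScalarTower A B C]
    (hAB : Function.Injective (algebraMap A B)) (hBC : Function.Injective (algebraMap B C))
    [IsLocalHom (algebraMap A B)] [IsLocalHom (algebraMap B C)]
    [Field K] [Field L] [Field M] [Algebra A K] [IsFractionRing A K] [Algebra B L]
    [IsFractionRing B L]
    [Algebra C M] [IsFractionRing C M] [Algebra K L] [Algebra L M] [Algebra K M]
    [IsScalarTower K L M]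
    [Algebra A L] [IsScalarTower A K L] [IsScalarTower A B L] [Algebra B M] [IsScalarTower B L M]
    [IsScalarTower B C M]
    [Algebra A M] [IsScalarTower A K M] [IsScalarTower A C M]
    (hw : EtRam.IsWeaklyUnramified A B) [CharP K p] (hdeg : Module.finrank L M = p)
    (π : A) (hπ : Irreducible π)
    (z : M) (ξ : L) (hz : z ^ p - z = algebraMap L M ξ)
    (y : L) (η : K) (J : Finset ℕ) (β : ℕ → B) (s : ℕ → ℕ) (b : B)
    (hξ : ξ = y ^ p - y + algebraMap K L η +
      ∑ j ∈ J, algebraMap B L (β j) ^ (p ^ s j) * (algebraMap A L π ^ j)⁻¹ + algebraMap B L b)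
    (hJ : ∀ j ∈ J, 0 < j ∧ (p ∣ j → s j = 0) ∧
      ∀ r : B, IsLocalRing.residue B (β j) ≠ IsLocalRing.residue B r ^ p)
    (hJne : J.Nonempty)
    (K₁ : Type u) [Field K₁] [Algebra K K₁] [FiniteDimensional K K₁] [Algebra.IsSeparable K K₁]
    (ht : EtRam.IsTotallyRamified A ((algebraMap K K₁).comp (algebraMap A K)))
    (m n₀ : ℕ) (hm : ∀ j ∈ J, s j < m) (hn₀ : ∀ j ∈ J, j < n₀) (hn₀1 : 1 < n₀)
    (y₁ a₁ πq bq : K₁) (hη : algebraMap K K₁ η = y₁ ^ p - y₁ + a₁)
    (hπq : πq ^ (p ^ m) = algebraMap K K₁ (algebraMap A K π) +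
      algebraMap K K₁ (algebraMap A K π) ^ n₀ * bq)
    (hint : ∀ V₁ : ValuationSubring K₁,
      EtRam.Dominates A ((algebraMap K K₁).comp (algebraMap A K)) V₁ → a₁ ∈ V₁ ∧ πq ∈ V₁ ∧ bq ∈ V₁)
    (M' : Type u) [Field M'] [Algebra K M'] [Algebra M M'] [Algebra K₁ M'] [IsScalarTower K M M']
    [IsScalarTower K K₁ M']
    (hgen : Algebra.adjoin M (Set.range (algebraMap K₁ M')) = ⊤)
    (W : ValuationSubring M')
    (hW : EtRam.Dominates C ((algebraMap M M').comp (algebraMap C M)) W) :
    (letI : Algebra (W.comap (algebraMap K₁ M')) W :=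
      (EtRam.inclOfComap W (algebraMap K₁ M')).toAlgebra
    EtRam.IsWeaklyUnramified (W.comap (algebraMap K₁ M')) W) := by
  classical
  haveI : Fact p.Prime := ⟨hp⟩
  haveI : FiniteDimensional L M := Module.finite_of_finrank_pos (by rw [hdeg]; exact hp.pos)
  letI algLM' : Algebra L M' := ((algebraMap M M').comp (algebraMap L M)).toAlgebra
  haveI : IsScalarTower L M M' := IsScalarTower.of_algebraMap_eq fun _ => rfl
  haveI : IsScalarTower K L M' := IsScalarTower.of_algebraMap_eq fun k => by
    show algebraMap K M' k = algebraMap M M' (algebraMap L M (algebraMap K L k))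
    rw [← IsScalarTower.algebraMap_apply K L M, ← IsScalarTower.algebraMap_apply K M M']
  haveI : FiniteDimensional M M' := finiteDimensional_of_adjoin_eq_top (K := K) hgen
  haveI : FiniteDimensional L M' := Module.Finite.trans M M'
  haveI : CharP M' p := charP_of_injective_algebraMap (algebraMap K M').injective p
  have hWB : EtRam.Dominates B ((algebraMap L M').comp (algebraMap B L)) W := by
    have h1 := dominates_comp (A := B) _ W hW
    have h2 : ((algebraMap M M').comp (algebraMap C M)).comp (algebraMap B C) =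
        (algebraMap L M').comp (algebraMap B L) := by
      ext b
      show algebraMap M M' (algebraMap C M (algebraMap B C b)) =
        algebraMap M M' (algebraMap L M (algebraMap B L b))
      rw [← IsScalarTower.algebraMap_apply B C M, ← IsScalarTower.algebraMap_apply B L M]
    rwa [h2] at h1
  haveI : IsDiscreteValuationRing W :=
    isDiscreteValuationRing_of_dominates (A := B) (K := L) (L := M') W hWB
  have hcompat : ∀ a : A, algebraMap K₁ M' (algebraMap K K₁ (algebraMap A K a)) =
      algebraMap L M' (algebraMap B L (algebraMap A B a)) := by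
    intro a
    rw [← IsScalarTower.algebraMap_apply K K₁ M', IsScalarTower.algebraMap_apply K L M',
      ← IsScalarTower.algebraMap_apply A K L, IsScalarTower.algebraMap_apply A B L]
  have hV : EtRam.Dominates A ((algebraMap K K₁).comp (algebraMap A K))
      (W.comap (algebraMap K₁ M')) := by
    rw [dominates_comap_iff]
    have h1 := dominates_comp (A := A) _ W hWB
    refine ⟨fun a => ?_, fun a ha => ?_⟩
    · have := h1.1 a
      simp only [RingHom.comp_apply] at this ⊢
      rw [hcompat]
      exact this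
    · have := h1.2 a ha
      simp only [RingHom.comp_apply] at this ⊢
      rw [hcompat]
      exact this
  haveI : IsDiscreteValuationRing (W.comap (algebraMap K₁ M')) :=
    isDiscreteValuationRing_of_dominates (A := A) (K := K) (L := K₁) _ hV
  letI algAV : Algebra A (W.comap (algebraMap K₁ M')) :=
    (RingHom.codRestrict ((algebraMap K K₁).comp (algebraMap A K)) _ hV.1).toAlgebra
  letI algBW : Algebra B W :=
    (RingHom.codRestrict ((algebraMap L M').comp (algebraMap B L)) W hWB.1).toAlgebra
  letI algVW : Algebra (W.comap (algebraMap K₁ M')) W :=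
    (EtRam.inclOfComap W (algebraMap K₁ M')).toAlgebra
  letI algAW : Algebra A W := ((algebraMap B W).comp (algebraMap A B)).toAlgebra
  haveI : IsScalarTower A B W := IsScalarTower.of_algebraMap_eq fun _ => rfl
  haveI : IsScalarTower A (W.comap (algebraMap K₁ M')) W := IsScalarTower.of_algebraMap_eq fun a =>
    Subtype.ext (hcompat a).symm
  haveI hlocBW : IsLocalHom (algebraMap B W) := isLocalHom_of_dominates _ W hWB
  haveI hlocVW : IsLocalHom (algebraMap (W.comap (algebraMap K₁ M')) W) :=
    EtRam.isLocalHom_inclOfComap W (algebraMap K₁ M')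
  haveI hlocAV : IsLocalHom (algebraMap A (W.comap (algebraMap K₁ M'))) :=
    isLocalHom_of_dominates _ _ hV
  have hVW : Function.Injective (algebraMap (W.comap (algebraMap K₁ M')) W) := by
    intro x y hxy
    have := congrArg Subtype.val hxy
    exact Subtype.ext ((algebraMap K₁ M').injective this)
  have hAV : Function.Injective (algebraMap A (W.comap (algebraMap K₁ M'))) :=
    injective_codRestrict_of_dominates _ hV
  have hBW : Function.Injective (algebraMap B W) := injective_codRestrict_of_dominates _ hWB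
  letI algBM' : Algebra B M' := ((algebraMap L M').comp (algebraMap B L)).toAlgebra
  haveI : IsScalarTower B L M' := IsScalarTower.of_algebraMap_eq fun _ => rfl
  haveI : IsScalarTower B W M' := IsScalarTower.of_algebraMap_eq fun _ => rfl
  -- ramification indices
  have e1 := ramificationIdx'_tower (A := A) (B := W.comap (algebraMap K₁ M')) (C := W) hAV hVW
  have e2 := ramificationIdx'_tower (A := A) (B := B) (C := W) hAB hBW
  have e3 : Ideal.ramificationIdx' (𝔪 A) (𝔪 B) = 1 := (isWeaklyUnramified_iff hAB).1 hw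
  have e4 : Ideal.ramificationIdx' (𝔪 A) (𝔪 (W.comap (algebraMap K₁ M'))) = Module.finrank K K₁ :=
    ramificationIdx'_eq_finrank_of_isTotallyRamified ht _ hV
  have e5 := ramificationIdx'_mul_finrank_le (K := L) (L := M') hBW
  haveI := finite_residueField (K := L) (L := M') hBW
  have e7 := finrank_le_of_adjoin_eq_top (K := K) hgen
  have e8 := ramificationIdx'_ne_zero hVW
  have e9 : Module.finrank L M * Module.finrank M M' = Module.finrank L M' :=
    Module.finrank_mul_finrank L M M'
  have hn : 0 < Module.finrank K K₁ := Module.finrank_pos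
  rw [e3, one_mul] at e2
  rw [e2, e4] at e1
  rw [hdeg] at e9
  -- the elements in `M'`
  obtain ⟨ha₁W, hπqW, hbqW⟩ := hint _ hV
  have hπB : algebraMap B L (algebraMap A B π) = algebraMap A L π :=
    (IsScalarTower.algebraMap_apply A B L π).symm
  have hP0 : algebraMap L M' (algebraMap A L π) ≠ 0 := by
    rw [Ne, map_eq_zero]
    rw [IsScalarTower.algebraMap_apply A B L, map_eq_zero_iff _ (IsFractionRing.injective B L),
      map_eq_zero_iff _ hAB]
    exact hπ.ne_zero
  have hPv : W.valuation (algebraMap L M' (algebraMap A L π)) < 1 := by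
    have hmem : algebraMap A B π ∈ 𝔪 B := by
      rw [IsLocalRing.mem_maximalIdeal]
      intro hu
      exact hπ.not_isUnit (isUnit_of_map_unit (algebraMap A B) π hu)
    have := hWB.2 _ hmem
    rwa [RingHom.comp_apply, hπB] at this
  have hZ : (algebraMap M M' z) ^ p - algebraMap M M' z =
      (algebraMap L M' y) ^ p - algebraMap L M' y +
      ((algebraMap K₁ M' y₁) ^ p - algebraMap K₁ M' y₁ + algebraMap K₁ M' a₁) +
      ∑ j ∈ J, (algebraMap L M' (algebraMap B L (β j))) ^ (p ^ s j) *
        ((algebraMap L M' (algebraMap A L π)) ^ j)⁻¹ +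
      algebraMap L M' (algebraMap B L b) := by
    have h1 : (algebraMap M M' z) ^ p - algebraMap M M' z = algebraMap L M' ξ := by
      rw [← map_pow, ← map_sub, hz]
      rfl
    have h2 : algebraMap L M' (algebraMap K L η) =
        (algebraMap K₁ M' y₁) ^ p - algebraMap K₁ M' y₁ + algebraMap K₁ M' a₁ := by
      rw [← IsScalarTower.algebraMap_apply K L M', IsScalarTower.algebraMap_apply K K₁ M', hη,
        map_add, map_sub, map_pow]
    rw [h1, hξ]
    simp only [map_add, map_sub, map_pow, map_sum, map_mul, map_inv₀]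
    rw [h2]
  have hϖq : (algebraMap K₁ M' πq) ^ (p ^ m) = algebraMap L M' (algebraMap A L π) +
      (algebraMap L M' (algebraMap A L π)) ^ n₀ * algebraMap K₁ M' bq := by
    rw [← map_pow, hπq, map_add, map_mul, map_pow, hcompat, hπB]
  obtain ⟨hϖq0, hϖqv, Z', ρ, hρ, hZ'⟩ := core p W _ _ _ _ _ _ _ _ J
    (fun j => algebraMap L M' (algebraMap B L (β j))) s m n₀ hZ hϖq hP0 hPv ha₁W
    (hWB.1 b) hbqW (fun j _ => hWB.1 (β j)) hm hn₀ hn₀1
  obtain ⟨j₀, hj₀, t, htW, htv⟩ := typeC p W Z' ρ (algebraMap K₁ M' πq) J
    (fun j => algebraMap L M' (algebraMap B L (β j))) (fun j => j * p ^ (m - s j)) hρ hZ'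
    hϖq0 hϖqv (fun j _ => hWB.1 (β j)) hJne
    (by
      intro j hj
      have h1 := hm j hj
      refine ⟨j * p ^ (m - s j - 1), Nat.mul_pos (hJ j hj).1 (pow_pos hp.pos _), ?_⟩
      have h2 : p ^ (m - s j) = p ^ (m - s j - 1) * p := by
        rw [← pow_succ]
        congr 1
        omega
      show j * p ^ (m - s j) = p * (j * p ^ (m - s j - 1))
      rw [h2]
      ring)
    (injOn_E p hp J s m (fun j hj => (hJ j hj).2.1) hm)
  -- residue degree
  have hf : p ≤ Module.finrank (κ B) (κ W) := by
    set βbar : κ B := IsLocalRing.residue B (β j₀) with hβbar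
    have hres2 : IsLocalRing.residue W ⟨_, hWB.1 (β j₀)⟩ = algebraMap (κ B) (κ W) βbar := rfl
    have hsres : IsLocalRing.residue W ⟨t, htW⟩ ^ p = algebraMap (κ B) (κ W) βbar := by
      rw [← hres2, ← map_pow, ← sub_eq_zero, ← map_sub, IsLocalRing.residue_eq_zero_iff,
        ValuationSubring.valuation_lt_one_iff]
      exact htv
    have hnot : ∀ y : κ B, y ^ p ≠ βbar := by
      intro y hy
      obtain ⟨r, rfl⟩ := IsLocalRing.residue_surjective y
      exact (hJ j₀ hj₀).2.2 r hy.symm
    have hirr : Irreducible (X ^ p - Polynomial.C βbar : (κ B)[X]) :=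
      X_pow_sub_C_irreducible_of_prime hp hnot
    have hroot : Polynomial.aeval (IsLocalRing.residue W ⟨t, htW⟩)
        (X ^ p - Polynomial.C βbar : (κ B)[X]) = 0 := by
      rw [map_sub, map_pow, aeval_X, aeval_C, hsres, sub_self]
    have hmin := minpoly.eq_of_irreducible_of_monic hirr hroot (monic_X_pow_sub_C βbar hp.ne_zero)
    have hdeg' : (minpoly (κ B) (IsLocalRing.residue W ⟨t, htW⟩)).natDegree = p := by
      rw [← hmin, natDegree_X_pow_sub_C]
    rw [← hdeg']
    exact minpoly.natDegree_le _
  have hone : Ideal.ramificationIdx' (𝔪 (W.comap (algebraMap K₁ M'))) (𝔪 W) = 1 := by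
    have hle1 : Ideal.ramificationIdx' (𝔪 (W.comap (algebraMap K₁ M'))) (𝔪 W) ≤ 1 := by
      by_contra hcon
      push Not at hcon
      have h1 : Module.finrank K K₁ * 2 * p ≤ p * Module.finrank K K₁ := by
        calc Module.finrank K K₁ * 2 * p
            ≤ Module.finrank K K₁ *
                Ideal.ramificationIdx' (𝔪 (W.comap (algebraMap K₁ M'))) (𝔪 W) *
                Module.finrank (κ B) (κ W) :=
              Nat.mul_le_mul (Nat.mul_le_mul_left _ hcon) hf
          _ = Ideal.ramificationIdx' (𝔪 B) (𝔪 W) * Module.finrank (κ B) (κ W) := by rw [e1]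
          _ ≤ Module.finrank L M' := e5
          _ = p * Module.finrank M M' := e9.symm
          _ ≤ p * Module.finrank K K₁ := Nat.mul_le_mul_left _ e7
      have h2 : 0 < Module.finrank K K₁ * p := Nat.mul_pos hn hp.pos
      nlinarith
    omega
  exact (isWeaklyUnramified_iff hVW).2 hone

theorem local_A (p : ℕ) (hp : p.Prime) (A B C K L M : Type u)
    [CommRing A] [IsDomain A] [IsDiscreteValuationRing A] [CommRing B] [IsDomain B]
    [IsDiscreteValuationRing B] [CommRing C] [IsDomain C] [IsDiscreteValuationRing C]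
    [Algebra A B] [Algebra B C] [Algebra A C] [IsScalarTower A B C]
    (hAB : Function.Injective (algebraMap A B)) (hBC : Function.Injective (algebraMap B C))
    [IsLocalHom (algebraMap A B)] [IsLocalHom (algebraMap B C)]
    [Field K] [Field L] [Field M] [Algebra A K] [IsFractionRing A K] [Algebra B L]
    [IsFractionRing B L]
    [Algebra C M] [IsFractionRing C M] [Algebra K L] [Algebra L M] [Algebra K M]
    [IsScalarTower K L M]
    [Algebra A L] [IsScalarTower A K L] [IsScalarTower A B L] [Algebra B M] [IsScalarTower B L M]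
    [IsScalarTower B C M]
    [Algebra A M] [IsScalarTower A K M] [IsScalarTower A C M]
    (hw : EtRam.IsWeaklyUnramified A B) [CharP K p]
    (z : M) (ξ : L) (hz : z ^ p - z = algebraMap L M ξ)
    (hgenz : IntermediateField.adjoin L {z} = ⊤)
    (y : L) (η : K) (b : B)
    (hξ : ξ = y ^ p - y + algebraMap K L η + algebraMap B L b)
    (K₁ : Type u) [Field K₁] [Algebra K K₁] [FiniteDimensional K K₁] [Algebra.IsSeparable K K₁]
    (ht : EtRam.IsTotallyRamified A ((algebraMap K K₁).comp (algebraMap A K)))
    (y₁ a₁ : K₁) (hη : algebraMap K K₁ η = y₁ ^ p - y₁ + a₁)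
    (hint : ∀ V₁ : ValuationSubring K₁,
      EtRam.Dominates A ((algebraMap K K₁).comp (algebraMap A K)) V₁ → a₁ ∈ V₁)
    (M' : Type u) [Field M'] [Algebra K M'] [Algebra M M'] [Algebra K₁ M'] [IsScalarTower K M M']
    [IsScalarTower K K₁ M']
    (hgen : Algebra.adjoin M (Set.range (algebraMap K₁ M')) = ⊤)
    (W : ValuationSubring M')
    (hW : EtRam.Dominates C ((algebraMap M M').comp (algebraMap C M)) W) :
    (letI : Algebra (W.comap (algebraMap K₁ M')) W :=
      (EtRam.inclOfComap W (algebraMap K₁ M')).toAlgebra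
    EtRam.IsWeaklyUnramified (W.comap (algebraMap K₁ M')) W) := by
  classical
  haveI : Fact p.Prime := ⟨hp⟩
  letI algLM' : Algebra L M' := ((algebraMap M M').comp (algebraMap L M)).toAlgebra
  haveI : IsScalarTower L M M' := IsScalarTower.of_algebraMap_eq fun _ => rfl
  haveI : IsScalarTower K L M' := IsScalarTower.of_algebraMap_eq fun k => by
    show algebraMap K M' k = algebraMap M M' (algebraMap L M (algebraMap K L k))
    rw [← IsScalarTower.algebraMap_apply K L M, ← IsScalarTower.algebraMap_apply K M M']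
  haveI : CharP M' p := charP_of_injective_algebraMap (algebraMap K M').injective p
  have hWB : EtRam.Dominates B ((algebraMap L M').comp (algebraMap B L)) W := by
    have h1 := dominates_comp (A := B) _ W hW
    have h2 : ((algebraMap M M').comp (algebraMap C M)).comp (algebraMap B C) =
        (algebraMap L M').comp (algebraMap B L) := by
      ext b
      show algebraMap M M' (algebraMap C M (algebraMap B C b)) =
        algebraMap M M' (algebraMap L M (algebraMap B L b))
      rw [← IsScalarTower.algebraMap_apply B C M, ← IsScalarTower.algebraMap_apply B L M]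
    rwa [h2] at h1
  have hcompat : ∀ a : A, algebraMap K₁ M' (algebraMap K K₁ (algebraMap A K a)) =
      algebraMap L M' (algebraMap B L (algebraMap A B a)) := by
    intro a
    rw [← IsScalarTower.algebraMap_apply K K₁ M', IsScalarTower.algebraMap_apply K L M',
      ← IsScalarTower.algebraMap_apply A K L, IsScalarTower.algebraMap_apply A B L]
  have hV : EtRam.Dominates A ((algebraMap K K₁).comp (algebraMap A K))
      (W.comap (algebraMap K₁ M')) := by
    rw [dominates_comap_iff]
    have h1 := dominates_comp (A := A) _ W hWB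
    refine ⟨fun a => ?_, fun a ha => ?_⟩
    · have := h1.1 a
      simp only [RingHom.comp_apply] at this ⊢
      rw [hcompat]
      exact this
    · have := h1.2 a ha
      simp only [RingHom.comp_apply] at this ⊢
      rw [hcompat]
      exact this
  have ha₁W : algebraMap K₁ M' a₁ ∈ W := hint _ hV
  -- the compositum `L₁ = L·K₁`
  let L₁ : IntermediateField L M' := IntermediateField.adjoin L (Set.range (algebraMap K₁ M'))
  have hK₁mem : ∀ k : K₁, algebraMap K₁ M' k ∈ L₁ :=
    fun k => IntermediateField.subset_adjoin L _ ⟨k, rfl⟩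
  letI algK₁L₁ : Algebra K₁ L₁ := (RingHom.codRestrict (algebraMap K₁ M') L₁ hK₁mem).toAlgebra
  haveI : IsScalarTower K₁ L₁ M' := IsScalarTower.of_algebraMap_eq fun _ => rfl
  haveI : IsScalarTower K K₁ L₁ := IsScalarTower.of_algebraMap_eq fun k => Subtype.ext (by
    show algebraMap K M' k = algebraMap K₁ M' (algebraMap K K₁ k)
    rw [← IsScalarTower.algebraMap_apply K K₁ M'])
  have hgen₁ : Algebra.adjoin L (Set.range (algebraMap K₁ L₁)) = ⊤ := by
    have halg : ∀ x ∈ Set.range (algebraMap K₁ M'), IsAlgebraic L x := by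
      rintro _ ⟨k, rfl⟩
      have h1 : IsIntegral K k := Algebra.IsIntegral.isIntegral k
      have h2 : IsIntegral K (algebraMap K₁ M' k) := h1.map (IsScalarTower.toAlgHom K K₁ M')
      exact h2.tower_top.isAlgebraic
    have h1 : L₁.toSubalgebra = Algebra.adjoin L (Set.range (algebraMap K₁ M')) :=
      IntermediateField.adjoin_toSubalgebra_of_isAlgebraic halg
    have key : ∀ x (hx : x ∈ Algebra.adjoin L (Set.range (algebraMap K₁ M'))),
        ∃ hx₁ : x ∈ L₁, (⟨x, hx₁⟩ : L₁) ∈ Algebra.adjoin L (Set.range (algebraMap K₁ L₁)) := by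
      intro x hx
      induction hx using Algebra.adjoin_induction with
      | mem x hx =>
        obtain ⟨k, rfl⟩ := hx
        exact ⟨hK₁mem k, Algebra.subset_adjoin ⟨k, rfl⟩⟩
      | algebraMap r => exact ⟨L₁.algebraMap_mem r, Subalgebra.algebraMap_mem _ r⟩
      | add x y _ _ hx hy =>
        obtain ⟨hx₁, hx₂⟩ := hx
        obtain ⟨hy₁, hy₂⟩ := hy
        exact ⟨L₁.add_mem hx₁ hy₁, Subalgebra.add_mem _ hx₂ hy₂⟩
      | mul x y _ _ hx hy =>
        obtain ⟨hx₁, hx₂⟩ := hx
        obtain ⟨hy₁, hy₂⟩ := hy
        exact ⟨L₁.mul_mem hx₁ hy₁, Subalgebra.mul_mem _ hx₂ hy₂⟩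
    rw [eq_top_iff]
    rintro ⟨x, hx⟩ -
    have hx' : x ∈ Algebra.adjoin L (Set.range (algebraMap K₁ M')) := by
      rw [← h1]
      exact hx
    obtain ⟨_, h⟩ := key x hx'
    exact h
  haveI : FiniteDimensional L L₁ := finiteDimensional_of_adjoin_eq_top (K := K) hgen₁
  let B₁ : ValuationSubring L₁ := W.comap (algebraMap L₁ M')
  have hB₁ : EtRam.Dominates B ((algebraMap L L₁).comp (algebraMap B L)) B₁ := by
    rw [dominates_comap_iff]
    exact hWB
  have htot := totRam_local A B K L hAB hw K₁ ht L₁ hgen₁ B₁ hB₁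
  have h1 := (isWeaklyUnramified_comap_iff B₁ (algebraMap K₁ L₁)).1 htot.1
  haveI : IsDiscreteValuationRing B₁ :=
    isDiscreteValuationRing_of_dominates (A := B) (K := L) (L := L₁) B₁ hB₁
  letI algB₁M' : Algebra B₁ M' := ((algebraMap L₁ M').comp (algebraMap B₁ L₁)).toAlgebra
  haveI : IsScalarTower B₁ L₁ M' := IsScalarTower.of_algebraMap_eq fun _ => rfl
  haveI : CharP L₁ p := charP_of_injective_algebraMap (algebraMap K L₁).injective p
  -- the Artin–Schreier generator
  set Z' : M' := algebraMap M M' z - algebraMap L M' y - algebraMap K₁ M' y₁ with hZ'def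
  let ξ' : L₁ := algebraMap K₁ L₁ a₁ + algebraMap L L₁ (algebraMap B L b)
  have hξ'val : algebraMap L₁ M' ξ' =
      algebraMap K₁ M' a₁ + algebraMap L M' (algebraMap B L b) := by
    rw [map_add]
    rfl
  have hZ' : Z' ^ p - Z' = algebraMap L₁ M' ξ' := by
    rw [hξ'val, hZ'def, sub_as, sub_as]
    have e1 : (algebraMap M M' z) ^ p - algebraMap M M' z = algebraMap L M' ξ := by
      rw [← map_pow, ← map_sub, hz]
      rfl
    have e2 : algebraMap L M' (algebraMap K L η) =
        (algebraMap K₁ M' y₁) ^ p - algebraMap K₁ M' y₁ + algebraMap K₁ M' a₁ := by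
      rw [← IsScalarTower.algebraMap_apply K L M', IsScalarTower.algebraMap_apply K K₁ M', hη,
        map_add, map_sub, map_pow]
    rw [e1, hξ, map_add, map_add, map_sub, map_pow, e2]
    ring
  have hξ'B₁ : ξ' ∈ B₁ := by
    show algebraMap L₁ M' ξ' ∈ W
    rw [hξ'val]
    exact W.add_mem _ _ ha₁W (hWB.1 b)
  have hgenZ' : IntermediateField.adjoin L₁ {Z'} = ⊤ := by
    rw [eq_top_iff]
    intro x hxt
    clear hxt
    have hL₁S : ∀ l : L₁, algebraMap L₁ M' l ∈ IntermediateField.adjoin L₁ {Z'} :=
      fun l => IntermediateField.algebraMap_mem _ l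
    have hZ'S : Z' ∈ IntermediateField.adjoin L₁ {Z'} :=
      IntermediateField.mem_adjoin_simple_self _ _
    have hK₁S : ∀ k : K₁, algebraMap K₁ M' k ∈ IntermediateField.adjoin L₁ {Z'} :=
      fun k => hL₁S (algebraMap K₁ L₁ k)
    have hLS : ∀ l : L, algebraMap L M' l ∈ IntermediateField.adjoin L₁ {Z'} :=
      fun l => hL₁S (algebraMap L L₁ l)
    have hzS : algebraMap M M' z ∈ IntermediateField.adjoin L₁ {Z'} := by
      have : algebraMap M M' z = Z' + algebraMap L M' y + algebraMap K₁ M' y₁ := by
        rw [hZ'def]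
        ring
      rw [this]
      exact add_mem (add_mem hZ'S (hLS y)) (hK₁S y₁)
    have hMS : ∀ x : M, algebraMap M M' x ∈ IntermediateField.adjoin L₁ {Z'} := by
      intro x
      have hx : x ∈ IntermediateField.adjoin L {z} := by
        rw [hgenz]
        trivial
      induction hx using IntermediateField.adjoin_induction with
      | mem x hx =>
        rw [Set.mem_singleton_iff] at hx
        subst hx
        exact hzS
      | algebraMap l =>
        rw [← IsScalarTower.algebraMap_apply L M M']
        exact hLS l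
      | add x y _ _ hx hy =>
        rw [map_add]
        exact add_mem hx hy
      | inv x _ hx =>
        rw [map_inv₀]
        exact inv_mem hx
      | mul x y _ _ hx hy =>
        rw [map_mul]
        exact mul_mem hx hy
    have hx : x ∈ Algebra.adjoin M (Set.range (algebraMap K₁ M')) := by
      rw [hgen]
      trivial
    induction hx using Algebra.adjoin_induction with
    | mem x hx =>
      obtain ⟨k, rfl⟩ := hx
      exact hK₁S k
    | algebraMap r => exact hMS r
    | add x y _ _ hx hy => exact add_mem hx hy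
    | mul x y _ _ hx hy => exact mul_mem hx hy
  have hcase := Groth.Agent.Lib.Helper9.DvrArtinSchreier.caseA (A := B₁) (K := L₁) (L := M')
    ξ' Z' hZ' hgenZ' ⟨⟨ξ', hξ'B₁⟩, rfl⟩
  have h2 : ∀ x : M', W.valuation x < 1 → ∃ l : L₁, W.valuation (algebraMap L₁ M' l) < 1 ∧
      ∃ w ∈ W, x = algebraMap L₁ M' l * w := by
    rcases hcase with hone | ⟨hU, -⟩
    · intro x hx
      have htop : (⊥ : Subalgebra L₁ M') = ⊤ :=
        Subalgebra.bot_eq_top_iff_finrank_eq_one.2 hone
      have hxbot : x ∈ (⊥ : Subalgebra L₁ M') := by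
        rw [htop]
        trivial
      obtain ⟨l, rfl⟩ := Algebra.mem_bot.1 hxbot
      exact ⟨l, hx, 1, W.one_mem, (mul_one _).symm⟩
    · have hd : EtRam.Dominates B₁ (algebraMap B₁ M') W := dominates_subtype (algebraMap L₁ M') W
      letI algB₁W : Algebra B₁ W := (RingHom.codRestrict (algebraMap B₁ M') W hd.1).toAlgebra
      haveI hloc : IsLocalHom (algebraMap B₁ W) := isLocalHom_of_dominates _ W hd
      obtain ⟨hwu, -⟩ := @hU W hd hloc
      refine (isWeaklyUnramified_comap_iff W (algebraMap L₁ M')).1 ?_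
      exact hwu
  rw [isWeaklyUnramified_comap_iff]
  intro x hx
  obtain ⟨l, hl, w, hw, rfl⟩ := h2 x hx
  have hl' : B₁.valuation l < 1 := (valuation_comap_lt_one_iff W (algebraMap L₁ M') l).2 hl
  obtain ⟨a, ha, w', hw', rfl⟩ := h1 l hl'
  refine ⟨a, ?_, algebraMap L₁ M' w' * w, W.mul_mem _ _ hw' hw, ?_⟩
  · exact (valuation_comap_lt_one_iff W (algebraMap L₁ M') _).1 ha
  · rw [map_mul, mul_assoc]
    rfl

end Groth.Agent.Lib.Helper9.EppAS
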