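import Mathlib
import Groth.Prelude.Def_EtRam
import Groth.Prelude.Def_Found
import Groth.Agent.Lib.Helper9.DvrExt
import Groth.Agent.Lib.Helper9.DvrTower
import Groth.Agent.Lib.Helper9.DvrTotRam
import Groth.Agent.Lib.Helper9.DvrEisensteinApp
import Groth.Agent.Lib.Helper9.EppInsep1

/-!
# Epp's trichotomy: the totally ramified separable extension `K₁ = K[x]/(x^p - π^(k+1) x - π)`

* `valuation_core`: inside a valuation ring `W` of a field of characteristic `p`: from
  `c ^ p = π (1 + π ^ k u₁)` and `θ ^ p = π (1 + π ^ k θ)` one gets `s ∈ W` with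
  `res(s) ^ p = res(u₁)`.
* `local_insep`: the local extensions of `C` along `K₁` are weakly unramified, and `[M' : M] = p`.
* `case3`: the third alternative of Epp's trichotomy.
-/

set_option autoImplicit false
set_option linter.unusedSectionVars false
set_option linter.style.haveILetI false
set_option linter.overlappingInstances false

universe u

open Polynomial TensorProduct

namespace Groth.Agent.Lib.Helper9.EppInsep

open Groth.Agent.Lib.Helper9.DvrExt Groth.Agent.Lib.Helper9.DvrTower
  Groth.Agent.Lib.Helper9.DvrTotRam Groth.Agent.Lib.Helper9.DvrEisensteinApp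
  Groth.Agent.Lib.Helper9.DvrSmoothApp

local notation "𝔪" => IsLocalRing.maximalIdeal
local notation "κ" => IsLocalRing.ResidueField

section Core

variable {F : Type u} [Field F] {p : ℕ} [hp : Fact p.Prime] [CharP F p] (W : ValuationSubring F)

theorem valuation_core (k : ℕ) (π c θ u₁ : F) (hπ0 : π ≠ 0) (hπ : W.valuation π < 1)
    (hu₁ : u₁ ∈ W) (hθW : θ ∈ W)
    (hc : c ^ p = π * (1 + π ^ k * u₁)) (hθ : θ ^ p = π * (1 + π ^ k * θ)) :
    ∃ (s : F) (hs : s ∈ W), (IsLocalRing.residue W ⟨s, hs⟩) ^ p = IsLocalRing.residue W ⟨u₁, hu₁⟩ := by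
  have hp0 : p ≠ 0 := hp.out.ne_zero
  have hπW : π ∈ W := (W.valuation_le_one_iff π).1 hπ.le
  have hθ0 : θ ≠ 0 := by
    rintro rfl
    rw [zero_pow hp0, mul_zero, add_zero, mul_one] at hθ
    exact hπ0 hθ.symm
  set E : F := 1 + π ^ k * θ with hE
  have hEW : E ∈ W := add_mem (one_mem W) (mul_mem (_root_.pow_mem hπW k) hθW)
  -- valuation of θ
  have hvθ : W.valuation θ < 1 := by
    have h1 : W.valuation θ ^ p = W.valuation π * W.valuation E := by
      rw [← map_pow, hθ, map_mul]
    have h2 : W.valuation θ ^ p < 1 := by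
      rw [h1]
      calc W.valuation π * W.valuation E ≤ W.valuation π * 1 :=
            mul_le_mul_right ((W.valuation_le_one_iff E).2 hEW) _
        _ = W.valuation π := mul_one _
        _ < 1 := hπ
    exact (pow_lt_one_iff hp0).1 h2
  have hvx : W.valuation (π ^ k * θ) < 1 := by
    rw [map_mul, map_pow]
    calc W.valuation π ^ k * W.valuation θ ≤ 1 * W.valuation θ :=
          mul_le_mul_left (pow_le_one' hπ.le k) _
      _ = W.valuation θ := one_mul _
      _ < 1 := hvθ
  have hvE : W.valuation E = 1 := Valuation.map_one_add_of_lt _ hvx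
  have hE0 : E ≠ 0 := by
    intro h0
    rw [h0, map_zero] at hvE
    exact zero_ne_one hvE
  -- the element s
  set t : F := c / θ with ht
  have htθ : t * θ = c := div_mul_cancel₀ c hθ0
  have htp : t ^ p * E = 1 + π ^ k * u₁ := by
    have h1 : t ^ p * θ ^ p = c ^ p := by rw [← mul_pow, htθ]
    rw [hθ, hc] at h1
    have h2 : π * (t ^ p * E) = π * (1 + π ^ k * u₁) := by linear_combination h1
    exact mul_left_cancel₀ hπ0 h2
  set s : F := (t - 1) / θ ^ k with hs
  have hsθ : s * θ ^ k = t - 1 := div_mul_cancel₀ _ (pow_ne_zero k hθ0)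
  have hsp : s ^ p * (π ^ k * E ^ k) = t ^ p - 1 := by
    have h1 : (s * θ ^ k) ^ p = t ^ p - 1 := by rw [hsθ, sub_pow_char, one_pow]
    rw [mul_pow, ← pow_mul, mul_comm k p, pow_mul, hθ, mul_pow] at h1
    exact h1
  have key : s ^ p * E ^ (k + 1) = u₁ - θ := by
    have h1 : π ^ k * (s ^ p * E ^ (k + 1)) = π ^ k * (u₁ - θ) := by
      have h2 : s ^ p * (π ^ k * E ^ k) * E = (t ^ p - 1) * E := by rw [hsp]
      have h3 : (t ^ p - 1) * E = π ^ k * (u₁ - θ) := by
        rw [sub_mul, htp, one_mul, hE]; ring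
      rw [← h3, ← h2, pow_succ]; ring
    exact mul_left_cancel₀ (pow_ne_zero k hπ0) h1
  have hsW : s ∈ W := by
    rw [← W.valuation_le_one_iff]
    have h1 : W.valuation s ^ p = W.valuation (u₁ - θ) := by
      rw [← map_pow, ← mul_one (W.valuation (s ^ p)), ← one_pow (k + 1), ← hvE, ← map_pow,
        ← map_mul, key]
    have h2 : W.valuation s ^ p ≤ 1 := by
      rw [h1]
      exact (W.valuation_le_one_iff _).2 (sub_mem hu₁ hθW)
    exact (pow_le_one_iff hp0).1 h2
  refine ⟨s, hsW, ?_⟩
  have hid : (⟨s, hsW⟩ : W) ^ p * (⟨E, hEW⟩ : W) ^ (k + 1) = ⟨u₁, hu₁⟩ - ⟨θ, hθW⟩ :=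
    Subtype.ext (by push_cast; exact key)
  have hresE : IsLocalRing.residue W ⟨E, hEW⟩ = 1 := by
    rw [← sub_eq_zero, ← map_one (IsLocalRing.residue W), ← map_sub,
      IsLocalRing.residue_eq_zero_iff, ValuationSubring.valuation_lt_one_iff]
    have : (((⟨E, hEW⟩ : W) - 1 : W) : F) = π ^ k * θ := by
      push_cast; rw [hE]; ring
    rw [this]
    exact hvx
  have hresθ : IsLocalRing.residue W ⟨θ, hθW⟩ = 0 := by
    rw [IsLocalRing.residue_eq_zero_iff, ValuationSubring.valuation_lt_one_iff]
    exact hvθ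
  have := congrArg (IsLocalRing.residue W) hid
  rw [map_mul, map_pow, map_pow, hresE, one_pow, mul_one, map_sub, hresθ, sub_zero] at this
  exact this

end Core

section Local

/-- The local extensions of `C` along the totally ramified `K₁` are weakly unramified and the
compositum has full degree. -/
theorem local_insep (p : ℕ) (hp : p.Prime) (A B C K L M : Type u)
    [CommRing A] [IsDomain A] [IsDiscreteValuationRing A] [CommRing B] [IsDomain B]
    [IsDiscreteValuationRing B] [CommRing C] [IsDomain C] [IsDiscreteValuationRing C]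
    [Algebra A B] [Algebra B C] [Algebra A C] [IsScalarTower A B C]
    (hAB : Function.Injective (algebraMap A B)) (hBC : Function.Injective (algebraMap B C))
    [IsLocalHom (algebraMap A B)] [IsLocalHom (algebraMap B C)] [IsLocalHom (algebraMap A C)]
    [Field K] [Field L] [Field M] [Algebra A K] [IsFractionRing A K] [Algebra B L]
    [IsFractionRing B L]
    [Algebra C M] [IsFractionRing C M] [Algebra K M]
    [Algebra A M] [IsScalarTower A K M] [IsScalarTower A C M] [CharP K p]
    (π : A) (hπ : Irreducible π)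
    (hw : EtRam.IsWeaklyUnramified A B)
    (he : Ideal.ramificationIdx' (𝔪 B) (𝔪 C) = p)
    (hsurj : ∀ x : C, ∃ b : B, x - algebraMap B C b ∈ 𝔪 C)
    (k : ℕ) (c : C) (u₁ : B)
    (hc : c ^ p = algebraMap A C π * (1 + algebraMap A C π ^ k * algebraMap B C u₁))
    (hres : ∀ w : B, IsLocalRing.residue B u₁ ≠ IsLocalRing.residue B w ^ p)
    (K₁ : Type u) [Field K₁] [Algebra K K₁] [FiniteDimensional K K₁] [Algebra.IsSeparable K K₁]
    (hfr : Module.finrank K K₁ = p)
    (ht : EtRam.IsTotallyRamified A ((algebraMap K K₁).comp (algebraMap A K)))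
    (θ : K₁)
    (hθ : θ ^ p = algebraMap K K₁ (algebraMap A K π) *
      (1 + algebraMap K K₁ (algebraMap A K π) ^ k * θ))
    (hθint : ∃ q : A[X], q.Monic ∧ q.eval₂ ((algebraMap K K₁).comp (algebraMap A K)) θ = 0)
    (M' : Type u) [Field M'] [Algebra K M'] [Algebra M M'] [Algebra K₁ M'] [IsScalarTower K M M']
    [IsScalarTower K K₁ M']
    (hgen : Algebra.adjoin M (Set.range (algebraMap K₁ M')) = ⊤)
    (W : ValuationSubring M')
    (hW : EtRam.Dominates C ((algebraMap M M').comp (algebraMap C M)) W) :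
    (letI : Algebra (W.comap (algebraMap K₁ M')) W :=
      (EtRam.inclOfComap W (algebraMap K₁ M')).toAlgebra
    EtRam.IsWeaklyUnramified (W.comap (algebraMap K₁ M')) W) ∧
      Module.finrank M M' = p := by
  classical
  haveI : Fact p.Prime := ⟨hp⟩
  have hAC : Function.Injective (algebraMap A C) := by
    rw [IsScalarTower.algebraMap_eq A B C]
    exact hBC.comp hAB
  haveI : FiniteDimensional M M' := finiteDimensional_of_adjoin_eq_top (K := K) hgen
  haveI : IsDiscreteValuationRing W :=
    isDiscreteValuationRing_of_dominates (A := C) (K := M) (L := M') W hW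
  have hcompat : ∀ a : A, algebraMap K₁ M' (algebraMap K K₁ (algebraMap A K a)) =
      algebraMap M M' (algebraMap C M (algebraMap A C a)) := by
    intro a
    rw [← IsScalarTower.algebraMap_apply K K₁ M', IsScalarTower.algebraMap_apply K M M',
      ← IsScalarTower.algebraMap_apply A K M, IsScalarTower.algebraMap_apply A C M]
  have hV : EtRam.Dominates A ((algebraMap K K₁).comp (algebraMap A K))
      (W.comap (algebraMap K₁ M')) := by
    rw [dominates_comap_iff]
    have h1 := dominates_comp (A := A) _ W hW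
    refine ⟨fun a => ?_, fun a ha => ?_⟩
    · have := h1.1 a
      simp only [RingHom.comp_apply] at this ⊢
      rw [hcompat]
      exact this
    · have := h1.2 a ha
      simp only [RingHom.comp_apply] at this ⊢
      rw [hcompat]
      exact this
  haveI : IsDiscreteValuationRing (W.comap (algebraMap K₁ M')) :=
    isDiscreteValuationRing_of_dominates (A := A) (K := K) (L := K₁) _ hV
  letI algAV : Algebra A (W.comap (algebraMap K₁ M')) :=
    (RingHom.codRestrict ((algebraMap K K₁).comp (algebraMap A K)) _ hV.1).toAlgebra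
  letI algCW : Algebra C W :=
    (RingHom.codRestrict ((algebraMap M M').comp (algebraMap C M)) W hW.1).toAlgebra
  letI algVW : Algebra (W.comap (algebraMap K₁ M')) W :=
    (EtRam.inclOfComap W (algebraMap K₁ M')).toAlgebra
  letI algAW : Algebra A W := ((algebraMap C W).comp (algebraMap A C)).toAlgebra
  haveI : IsScalarTower A C W := IsScalarTower.of_algebraMap_eq fun _ => rfl
  haveI : IsScalarTower A (W.comap (algebraMap K₁ M')) W := IsScalarTower.of_algebraMap_eq fun a =>
    Subtype.ext (hcompat a).symm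
  haveI hlocCW : IsLocalHom (algebraMap C W) := isLocalHom_of_dominates _ W hW
  haveI hlocVW : IsLocalHom (algebraMap (W.comap (algebraMap K₁ M')) W) :=
    EtRam.isLocalHom_inclOfComap W (algebraMap K₁ M')
  haveI hlocAV : IsLocalHom (algebraMap A (W.comap (algebraMap K₁ M'))) :=
    isLocalHom_of_dominates _ _ hV
  have hVW : Function.Injective (algebraMap (W.comap (algebraMap K₁ M')) W) := by
    intro x y hxy
    have := congrArg Subtype.val hxy
    exact Subtype.ext ((algebraMap K₁ M').injective this)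
  have hAV : Function.Injective (algebraMap A (W.comap (algebraMap K₁ M'))) :=
    injective_codRestrict_of_dominates _ hV
  have hCW : Function.Injective (algebraMap C W) := injective_codRestrict_of_dominates _ hW
  letI algCM' : Algebra C M' := ((algebraMap M M').comp (algebraMap C M)).toAlgebra
  haveI : IsScalarTower C M M' := IsScalarTower.of_algebraMap_eq fun _ => rfl
  haveI : IsScalarTower C W M' := IsScalarTower.of_algebraMap_eq fun _ => rfl
  -- ramification indices
  have e1 := ramificationIdx'_tower (A := A) (B := W.comap (algebraMap K₁ M')) (C := W) hAV hVW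
  have e2 := ramificationIdx'_tower (A := A) (B := C) (C := W) hAC hCW
  have e3 : Ideal.ramificationIdx' (𝔪 A) (𝔪 B) = 1 := (isWeaklyUnramified_iff hAB).1 hw
  have e3' := ramificationIdx'_tower (A := A) (B := B) (C := C) hAB hBC
  rw [e3, one_mul, he] at e3'
  have e4 : Ideal.ramificationIdx' (𝔪 A) (𝔪 (W.comap (algebraMap K₁ M'))) = Module.finrank K K₁ :=
    ramificationIdx'_eq_finrank_of_isTotallyRamified ht _ hV
  have e5 := ramificationIdx'_mul_finrank_le (K := M) (L := M') hCW
  haveI := finite_residueField (K := M) (L := M') hCW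
  have e7 := finrank_le_of_adjoin_eq_top (K := K) hgen
  have e8 := ramificationIdx'_ne_zero hCW
  rw [e3'] at e2
  rw [e2, e4, hfr] at e1
  rw [hfr] at e7
  -- e1 : p * e(C,W) = p * e(V,W)
  have heq : Ideal.ramificationIdx' (𝔪 C) (𝔪 W) =
      Ideal.ramificationIdx' (𝔪 (W.comap (algebraMap K₁ M'))) (𝔪 W) :=
    Nat.eq_of_mul_eq_mul_left hp.pos e1
  -- residue degree
  have hf : p ≤ Module.finrank (κ C) (κ W) := by
    haveI : CharP M' p := charP_of_injective_algebraMap (algebraMap K M').injective p
    have hπM0 : algebraMap M M' (algebraMap C M (algebraMap A C π)) ≠ 0 := by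
      intro h0
      have h1 := (algebraMap M M').injective (h0.trans (map_zero _).symm)
      have h2 := IsFractionRing.injective C M (h1.trans (map_zero _).symm)
      exact hπ.ne_zero (hAC (h2.trans (map_zero _).symm))
    have hπmem : algebraMap A C π ∈ 𝔪 C := by
      rw [IsLocalRing.mem_maximalIdeal]
      intro hu
      exact hπ.not_isUnit (isUnit_of_map_unit (algebraMap A C) π hu)
    have hπv := hW.2 _ hπmem
    have hu₁W := hW.1 (algebraMap B C u₁)
    simp only [RingHom.comp_apply] at hπv hu₁W
    have hθW : algebraMap K₁ M' θ ∈ W := by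
      obtain ⟨q, hq, hqθ⟩ := hθint
      refine mem_of_isIntegral_of_forall_mem
        ((algebraMap K₁ M').comp ((algebraMap K K₁).comp (algebraMap A K))) W ?_ ⟨q, hq, ?_⟩
      · intro a
        simp only [RingHom.comp_apply]
        rw [hcompat]
        exact hW.1 _
      · rw [← Polynomial.hom_eval₂, hqθ, map_zero]
    have hcM : (algebraMap M M' (algebraMap C M c)) ^ p =
        algebraMap M M' (algebraMap C M (algebraMap A C π)) *
          (1 + algebraMap M M' (algebraMap C M (algebraMap A C π)) ^ k *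
            algebraMap M M' (algebraMap C M (algebraMap B C u₁))) := by
      rw [← map_pow, ← map_pow, hc]
      simp only [map_mul, map_add, map_one, map_pow]
    have hθM : (algebraMap K₁ M' θ) ^ p =
        algebraMap M M' (algebraMap C M (algebraMap A C π)) *
          (1 + algebraMap M M' (algebraMap C M (algebraMap A C π)) ^ k * algebraMap K₁ M' θ) := by
      rw [← map_pow, hθ]
      simp only [map_mul, map_add, map_one, map_pow, hcompat]
    obtain ⟨s, hs, hsres⟩ := valuation_core W k _ _ _ _ hπM0 hπv hu₁W hθW hcM hθM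
    -- the residue of u₁
    set ū : κ C := IsLocalRing.residue C (algebraMap B C u₁) with hū
    have hres2 : IsLocalRing.residue W ⟨_, hu₁W⟩ = algebraMap (κ C) (κ W) ū := rfl
    have hnot : ∀ y : κ C, y ^ p ≠ ū := by
      intro y hy
      obtain ⟨x, rfl⟩ := IsLocalRing.residue_surjective y
      obtain ⟨b, hb⟩ := hsurj x
      have h1 : IsLocalRing.residue C x = IsLocalRing.residue C (algebraMap B C b) := by
        rw [← sub_eq_zero, ← map_sub, IsLocalRing.residue_eq_zero_iff]
        exact hb
      rw [h1, hū, ← map_pow, ← map_pow] at hy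
      have h2 : algebraMap (κ B) (κ C) (IsLocalRing.residue B (b ^ p)) =
          algebraMap (κ B) (κ C) (IsLocalRing.residue B u₁) := hy
      have h3 := (algebraMap (κ B) (κ C)).injective h2
      rw [map_pow] at h3
      exact hres b h3.symm
    have hirr : Irreducible (X ^ p - Polynomial.C ū : (κ C)[X]) :=
      X_pow_sub_C_irreducible_of_prime hp hnot
    have hroot : Polynomial.aeval (IsLocalRing.residue W ⟨s, hs⟩) (X ^ p - Polynomial.C ū : (κ C)[X]) = 0 := by
      rw [map_sub, map_pow, aeval_X, aeval_C, hsres, hres2, sub_self]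
    have hmin := minpoly.eq_of_irreducible_of_monic hirr hroot (monic_X_pow_sub_C ū hp.ne_zero)
    have hdeg' : (minpoly (κ C) (IsLocalRing.residue W ⟨s, hs⟩)).natDegree = p := by
      rw [← hmin, natDegree_X_pow_sub_C]
    rw [← hdeg']
    exact minpoly.natDegree_le _
  have hle : Ideal.ramificationIdx' (𝔪 C) (𝔪 W) * p ≤ p :=
    le_trans (le_trans (Nat.mul_le_mul_left _ hf) e5) e7
  have hone : Ideal.ramificationIdx' (𝔪 C) (𝔪 W) = 1 := by
    have : Ideal.ramificationIdx' (𝔪 C) (𝔪 W) ≤ 1 := by
      by_contra hcon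
      push Not at hcon
      have : 2 * p ≤ p := le_trans (Nat.mul_le_mul_right _ hcon) hle
      have := hp.pos
      omega
    omega
  refine ⟨(isWeaklyUnramified_iff hVW).2 (heq ▸ hone), le_antisymm e7 ?_⟩
  calc p = Ideal.ramificationIdx' (𝔪 C) (𝔪 W) * p := by rw [hone, one_mul]
    _ ≤ Ideal.ramificationIdx' (𝔪 C) (𝔪 W) * Module.finrank (κ C) (κ W) :=
        Nat.mul_le_mul_left _ hf
    _ ≤ Module.finrank M M' := e5

end Local

section FieldTensor

theorem isField_tensor_of_rank (C K M : Type u) [CommRing C] [IsDomain C]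
    [IsDiscreteValuationRing C] [Field K] [Field M] [Algebra C M] [IsFractionRing C M] [Algebra K M]
    (K₁ : Type u) [Field K₁] [Algebra K K₁] [FiniteDimensional K K₁]
    (hrank : ∀ (M' : Type u) [Field M'] [Algebra K M'] [Algebra M M'] [Algebra K₁ M']
      [IsScalarTower K M M'] [IsScalarTower K K₁ M'],
      Algebra.adjoin M (Set.range (algebraMap K₁ M')) = ⊤ →
      ∀ (W : ValuationSubring M'), EtRam.Dominates C ((algebraMap M M').comp (algebraMap C M)) W →
        Module.finrank M M' = Module.finrank K K₁) :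
    IsField (M ⊗[K] K₁) := by
  classical
  haveI : Nontrivial (M ⊗[K] K₁) := by
    have h : 0 < Module.finrank M (M ⊗[K] K₁) := by
      rw [Module.finrank_baseChange]
      exact Module.finrank_pos
    exact Module.nontrivial_of_finrank_pos (R := M) h
  obtain ⟨𝔫, h𝔫⟩ := Ideal.exists_maximal (M ⊗[K] K₁)
  letI : Field ((M ⊗[K] K₁) ⧸ 𝔫) := Ideal.Quotient.field 𝔫
  letI algK₁M : Algebra K₁ ((M ⊗[K] K₁) ⧸ 𝔫) :=
    ((Ideal.Quotient.mk 𝔫).comp
      (Algebra.TensorProduct.includeRight : K₁ →ₐ[K] M ⊗[K] K₁).toRingHom).toAlgebra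
  haveI : IsScalarTower K K₁ ((M ⊗[K] K₁) ⧸ 𝔫) := IsScalarTower.of_algebraMap_eq fun k => by
    change Ideal.Quotient.mk 𝔫 (algebraMap K (M ⊗[K] K₁) k) =
      Ideal.Quotient.mk 𝔫 ((1 : M) ⊗ₜ[K] algebraMap K K₁ k)
    rw [Algebra.TensorProduct.algebraMap_apply, Algebra.TensorProduct.tmul_one_eq_one_tmul]
  have hgen : Algebra.adjoin M (Set.range (algebraMap K₁ ((M ⊗[K] K₁) ⧸ 𝔫))) = ⊤ := by
    rw [eq_top_iff]
    intro x _
    obtain ⟨t, rfl⟩ := Ideal.Quotient.mk_surjective x
    clear * -
    induction t using TensorProduct.induction_on with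
    | zero => rw [map_zero]; exact Subalgebra.zero_mem _
    | tmul l k =>
      have : (l ⊗ₜ[K] k : M ⊗[K] K₁) = l • ((1 : M) ⊗ₜ[K] k) := by
        rw [TensorProduct.smul_tmul', smul_eq_mul, mul_one]
      rw [this]
      have h2 : Ideal.Quotient.mk 𝔫 (l • ((1 : M) ⊗ₜ[K] k)) =
          l • algebraMap K₁ ((M ⊗[K] K₁) ⧸ 𝔫) k := rfl
      rw [h2]
      exact Subalgebra.smul_mem _ (Algebra.subset_adjoin (Set.mem_range_self k)) l
    | add a b ha hb => rw [map_add]; exact Subalgebra.add_mem _ ha hb
  obtain ⟨W, hWc⟩ := exists_comap_eq (algebraMap M ((M ⊗[K] K₁) ⧸ 𝔫)) (rangeValuationSubring C M)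
  have hW : EtRam.Dominates C ((algebraMap M ((M ⊗[K] K₁) ⧸ 𝔫)).comp (algebraMap C M)) W := by
    rw [← dominates_comap_iff, hWc]
    exact dominates_rangeValuationSubring C M
  have hrank' := hrank ((M ⊗[K] K₁) ⧸ 𝔫) hgen W hW
  have hbij := compositumMap_bijective (K := K) hgen hrank'
  have hmk : ∀ t : M ⊗[K] K₁, compositumMap K M K₁ ((M ⊗[K] K₁) ⧸ 𝔫) t =
      Ideal.Quotient.mk 𝔫 t := by
    intro t
    induction t using TensorProduct.induction_on with
    | zero => simp
    | tmul l k =>
      simp only [compositumMap, Algebra.TensorProduct.lift_tmul, Algebra.ofId_apply,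
        IsScalarTower.coe_toAlgHom']
      change Ideal.Quotient.mk 𝔫 (algebraMap M (M ⊗[K] K₁) l) *
        Ideal.Quotient.mk 𝔫 ((1 : M) ⊗ₜ[K] k) = _
      rw [← map_mul, Algebra.TensorProduct.algebraMap_apply,
        Algebra.TensorProduct.tmul_mul_tmul, mul_one, one_mul]
      rfl
    | add a b ha hb => rw [map_add, map_add, ha, hb]
  have hbot : 𝔫 = ⊥ := by
    rw [eq_bot_iff]
    intro t ht
    have h1 : compositumMap K M K₁ ((M ⊗[K] K₁) ⧸ 𝔫) t = 0 := by
      rw [hmk, Ideal.Quotient.eq_zero_iff_mem]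
      exact ht
    have h2 := hbij.1 (h1.trans (map_zero _).symm)
    exact h2
  rw [Ring.isField_iff_maximal_bot, ← hbot]
  exact h𝔫

end FieldTensor

section Case3

/-- The third alternative of the trichotomy. -/
theorem case3 (p : ℕ) (hp : p.Prime) (A B C K L M : Type u)
    [CommRing A] [IsDomain A] [IsDiscreteValuationRing A] [CommRing B] [IsDomain B]
    [IsDiscreteValuationRing B] [CommRing C] [IsDomain C] [IsDiscreteValuationRing C]
    [Algebra A B] [Algebra B C] [Algebra A C] [IsScalarTower A B C]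
    (hAB : Function.Injective (algebraMap A B)) (hBC : Function.Injective (algebraMap B C))
    [IsLocalHom (algebraMap A B)] [IsLocalHom (algebraMap B C)]
    [Field K] [Field L] [Field M] [Algebra A K] [IsFractionRing A K] [Algebra B L]
    [IsFractionRing B L]
    [Algebra C M] [IsFractionRing C M] [Algebra K L] [Algebra L M] [Algebra K M]
    [IsScalarTower K L M]
    [Algebra A L] [IsScalarTower A K L] [IsScalarTower A B L] [Algebra B M] [IsScalarTower B L M]
    [IsScalarTower B C M]
    [Algebra A M] [IsScalarTower A K M] [IsScalarTower A C M]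
    (π : A) (hπ : Irreducible π)
    (hw : EtRam.IsWeaklyUnramified A B) [IsPurelyInseparable L M]
    (hdeg : Module.finrank L M = p)
    (he : Ideal.ramificationIdx' (𝔪 B) (𝔪 C) = p)
    (k : ℕ) (c : C) (u₁ : B)
    (hc : c ^ p = algebraMap B C (algebraMap A B π * (1 + algebraMap A B π ^ k * u₁)))
    (hres : ∀ w : B, IsLocalRing.residue B u₁ ≠ IsLocalRing.residue B w ^ p) :
    ∃ (K₁ : Type u) (_ : Field K₁) (_ : Algebra K K₁),
      Module.finrank K K₁ = p ∧ Algebra.IsSeparable K K₁ ∧
        EtRam.IsTotallyRamified A ((algebraMap K K₁).comp (algebraMap A K)) ∧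
        IsField (L ⊗[K] K₁) ∧ IsField (M ⊗[K] K₁) ∧
        EtRam.IsWeakSolution B K L K₁ ∧ EtRam.IsWeakSolution C K M K₁ := by
  classical
  haveI : Fact p.Prime := ⟨hp⟩
  haveI hcharL : CharP L p := charP hp hdeg
  haveI hcharK : CharP K p :=
    (RingHom.charP_iff (algebraMap K L) (algebraMap K L).injective p).2 inferInstance
  haveI hcharA : CharP A p :=
    (RingHom.charP_iff (algebraMap A K) (IsFractionRing.injective A K) p).2 inferInstance
  haveI : IsLocalHom (algebraMap A C) := by
    rw [IsScalarTower.algebraMap_eq A B C]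
    exact RingHom.isLocalHom_comp _ _
  -- the Eisenstein polynomial
  set f : A[X] := X ^ p - (Polynomial.C (π ^ (k + 1)) * X + Polynomial.C π) with hf
  have hmon : f.Monic := by
    apply monic_X_pow_sub
    exact lt_of_le_of_lt degree_linear_le (by exact_mod_cast hp.one_lt)
  have hnat : f.natDegree = p := by
    rw [hf, natDegree_sub_eq_left_of_natDegree_lt, natDegree_X_pow]
    rw [natDegree_X_pow]
    exact lt_of_le_of_lt natDegree_linear_le hp.one_lt
  have hdeg0 : 0 < f.natDegree := by rw [hnat]; exact hp.pos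
  have hπmem : π ∈ 𝔪 A := by rw [hπ.maximalIdeal_eq]; exact Ideal.mem_span_singleton_self π
  have hcoeff : ∀ n : ℕ, n < p → f.coeff n =
      -((if n = 1 then π ^ (k + 1) else 0) + (if n = 0 then π else 0)) := by
    intro n hn
    rw [hf, coeff_sub, coeff_X_pow, if_neg hn.ne, coeff_add, coeff_C_mul_X, coeff_C, zero_sub]
  have hE : f.IsEisensteinAt (𝔪 A) := by
    refine ⟨?_, ?_, ?_⟩
    · rw [hmon.leadingCoeff]
      exact (Ideal.ne_top_iff_one _).1 (IsLocalRing.maximalIdeal.isMaximal A).ne_top
    · intro n hn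
      rw [hnat] at hn
      rw [hcoeff n hn]
      refine Ideal.neg_mem_iff _ |>.2 (Ideal.add_mem _ ?_ ?_)
      · split_ifs
        · exact Ideal.pow_mem_of_mem _ hπmem _ (Nat.succ_pos k)
        · exact Ideal.zero_mem _
      · split_ifs
        · exact hπmem
        · exact Ideal.zero_mem _
    · rw [hcoeff 0 hp.pos, if_neg (by norm_num), if_pos rfl, zero_add, hπ.maximalIdeal_eq,
        Ideal.span_singleton_pow, Ideal.mem_span_singleton]
      rintro ⟨d, hd⟩
      have h1 : π * (π * -d) = π * 1 := by linear_combination hd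
      exact hπ.not_isUnit (IsUnit.of_mul_eq_one _ (mul_left_cancel₀ hπ.ne_zero h1))
  have hsep : (f.map (algebraMap A K)).Separable := by
    rw [separable_def, Polynomial.derivative_map]
    have hd : derivative f = -Polynomial.C (π ^ (k + 1)) := by
      rw [hf, derivative_sub, derivative_X_pow, derivative_add, derivative_C_mul, derivative_X,
        derivative_C, CharP.cast_eq_zero A p, map_zero, zero_mul, mul_one, add_zero, zero_sub]
    rw [hd, Polynomial.map_neg, Polynomial.map_C]
    have hne : algebraMap A K (π ^ (k + 1)) ≠ 0 := by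
      rw [Ne, map_eq_zero_iff _ (IsFractionRing.injective A K)]
      exact pow_ne_zero _ hπ.ne_zero
    have hu : IsUnit (-(Polynomial.C (algebraMap A K (π ^ (k + 1))) : K[X])) :=
      (Polynomial.isUnit_C.2 (isUnit_iff_ne_zero.2 hne)).neg
    obtain ⟨v, hv⟩ := hu
    exact ⟨0, ((v⁻¹ : K[X]ˣ) : K[X]), by rw [zero_mul, zero_add, ← hv, Units.inv_mul]⟩
  obtain ⟨K₁, instF, instAlg, instAlgA, instTower, ι, hfr, hsepK₁, htot, hιof, hιint⟩ :=
    eisenstein_ext (K := K) f hmon hE hdeg0 hsep
  rw [hnat] at hfr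
  haveI : FiniteDimensional K K₁ := Module.finite_of_finrank_pos (by rw [hfr]; exact hp.pos)
  have htot' : EtRam.IsTotallyRamified A ((algebraMap K K₁).comp (algebraMap A K)) := by
    rw [← IsScalarTower.algebraMap_eq A K K₁]
    exact htot
  have hιcomp : ι.comp (AdjoinRoot.of f) = (algebraMap K K₁).comp (algebraMap A K) := by
    ext a
    rw [RingHom.comp_apply, hιof, RingHom.comp_apply, ← IsScalarTower.algebraMap_apply]
  have hθint : f.eval₂ ((algebraMap K K₁).comp (algebraMap A K)) (ι (AdjoinRoot.root f)) = 0 := by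
    rw [← hιcomp, ← Polynomial.hom_eval₂, AdjoinRoot.eval₂_root, map_zero]
  have hθeq : (ι (AdjoinRoot.root f)) ^ p = algebraMap K K₁ (algebraMap A K π) *
      (1 + algebraMap K K₁ (algebraMap A K π) ^ k * ι (AdjoinRoot.root f)) := by
    have h1 : eval₂ ((algebraMap K K₁).comp (algebraMap A K)) (ι (AdjoinRoot.root f))
        (X ^ p - (Polynomial.C (π ^ (k + 1)) * X + Polynomial.C π) : A[X]) = 0 := hθint
    rw [eval₂_sub, eval₂_pow, eval₂_X, eval₂_add, eval₂_mul, eval₂_C, eval₂_C, eval₂_X,
      sub_eq_zero] at h1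
    rw [h1]
    simp only [RingHom.comp_apply, map_pow]
    ring
  have hsurj := residue_surj (L := L) (M := M) hp hdeg hBC he
  have hc' : c ^ p = algebraMap A C π * (1 + algebraMap A C π ^ k * algebraMap B C u₁) := by
    rw [hc]
    simp only [map_mul, map_add, map_one, map_pow, ← IsScalarTower.algebraMap_apply A B C]
  have hloc := fun (M' : Type u) [Field M'] [Algebra K M'] [Algebra M M'] [Algebra K₁ M']
      [IsScalarTower K M M'] [IsScalarTower K K₁ M']
      (hgen : Algebra.adjoin M (Set.range (algebraMap K₁ M')) = ⊤) (W : ValuationSubring M')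
      (hW : EtRam.Dominates C ((algebraMap M M').comp (algebraMap C M)) W) =>
    local_insep p hp A B C K L M hAB hBC π hπ hw he hsurj k c u₁ hc' hres K₁ hfr htot'
      (ι (AdjoinRoot.root f)) hθeq ⟨f, hmon, hθint⟩ M' hgen W hW
  refine ⟨K₁, instF, instAlg, hfr, hsepK₁, htot',
    isField_tensor_of_isTotallyRamified A B K L hAB hw K₁ htot',
    isField_tensor_of_rank C K M K₁ (fun M' _ _ _ _ _ _ hgen W hW =>
      (hloc M' hgen W hW).2.trans hfr.symm), ?_, ?_⟩
  · intro M' _ _ _ _ _ _ hgen W hW
    exact (totRam_local A B K L hAB hw K₁ htot' M' hgen W hW).1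
  · intro M' _ _ _ _ _ _ hgen W hW
    exact (hloc M' hgen W hW).1

end Case3

end Groth.Agent.Lib.Helper9.EppInsep
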