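import Mathlib

/-!
# Étaleness from an isomorphism on Kähler differentials

`formallyEtale_of_bijective_mapBaseChange`: for `R → S → T` with `T` formally smooth over `R`, if
`T ⊗[S] Ω[S/R] → Ω[T/R]` is bijective then `T` is formally étale over `S`.
-/

universe u

open KaehlerDifferential TensorProduct

namespace Groth.Agent.Lib.Helper9.KaehlerEtale

variable (R S T : Type u) [CommRing R] [CommRing S] [CommRing T] [Algebra R S] [Algebra R T]
  [Algebra S T] [IsScalarTower R S T]

theorem formallyUnramified_of_surjective_mapBaseChange
    (h : Function.Surjective (KaehlerDifferential.mapBaseChange R S T)) :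
    Algebra.FormallyUnramified S T := by
  constructor
  refine ⟨fun a b => ?_⟩
  suffices h0 : ∀ ω : Ω[T⁄S], ω = 0 by rw [h0 a, h0 b]
  intro ω
  obtain ⟨ω', rfl⟩ := KaehlerDifferential.map_surjective R S T ω
  obtain ⟨z, rfl⟩ := h ω'
  exact (KaehlerDifferential.exact_mapBaseChange_map R S T _).2 ⟨z, rfl⟩

theorem subsingleton_h1Cotangent_of_injective_mapBaseChange
    [Subsingleton (Algebra.H1Cotangent R T)]
    (h : Function.Injective (KaehlerDifferential.mapBaseChange R S T)) :
    Subsingleton (Algebra.H1Cotangent S T) := by
  refine ⟨fun a b => ?_⟩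
  suffices h0 : ∀ x : Algebra.H1Cotangent S T, x = 0 by rw [h0 a, h0 b]
  intro x
  have h1 : Algebra.H1Cotangent.δ R S T x = 0 := by
    apply h
    rw [map_zero]
    exact (Algebra.H1Cotangent.exact_δ_mapBaseChange R S T _).2 ⟨x, rfl⟩
  obtain ⟨y, rfl⟩ := (Algebra.H1Cotangent.exact_map_δ R S T x).1 h1
  rw [Subsingleton.elim y 0, map_zero]

theorem formallyEtale_of_bijective_mapBaseChange [Algebra.FormallySmooth R T]
    (h : Function.Bijective (KaehlerDifferential.mapBaseChange R S T)) :
    Algebra.FormallyEtale S T := by
  haveI := formallyUnramified_of_surjective_mapBaseChange R S T h.2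
  haveI := subsingleton_h1Cotangent_of_injective_mapBaseChange R S T h.1
  haveI : Algebra.FormallySmooth S T := ⟨inferInstance, inferInstance⟩
  exact Algebra.FormallyEtale.of_formallyUnramified_and_formallySmooth


section MvPoly

variable (R : Type u) [CommRing R] (σ : Type*) (T : Type u) [CommRing T] [Algebra R T]
  [Algebra (MvPolynomial σ R) T] [IsScalarTower R (MvPolynomial σ R) T]

/-- the differentials of the images of the variables. -/
noncomputable def dX (i : σ) : Ω[T⁄R] :=
  D R T (algebraMap (MvPolynomial σ R) T (MvPolynomial.X i))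

theorem mapBaseChange_baseChange_basis (i : σ) :
    KaehlerDifferential.mapBaseChange R (MvPolynomial σ R) T
      ((KaehlerDifferential.mvPolynomialBasis R σ).baseChange T i) = dX R σ T i := by
  rw [Module.Basis.baseChange_apply, KaehlerDifferential.mapBaseChange_tmul, one_smul,
    KaehlerDifferential.mvPolynomialBasis_apply, KaehlerDifferential.map_D]
  rfl

theorem basis_of_bijective
    (h : Function.Bijective (KaehlerDifferential.mapBaseChange R (MvPolynomial σ R) T)) :
    LinearIndependent T (dX R σ T) ∧ ⊤ ≤ Submodule.span T (Set.range (dX R σ T)) := by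
  let e := LinearEquiv.ofBijective _ h
  let b := ((KaehlerDifferential.mvPolynomialBasis R σ).baseChange T).map e
  have hb : ⇑b = dX R σ T := by
    funext i
    rw [Module.Basis.map_apply]
    exact mapBaseChange_baseChange_basis R σ T i
  rw [← hb]
  exact ⟨b.linearIndependent, b.span_eq.ge⟩

theorem bijective_of_basis (hli : LinearIndependent T (dX R σ T))
    (hsp : ⊤ ≤ Submodule.span T (Set.range (dX R σ T))) :
    Function.Bijective (KaehlerDifferential.mapBaseChange R (MvPolynomial σ R) T) := by
  let B := Module.Basis.mk hli hsp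
  let b' := (KaehlerDifferential.mvPolynomialBasis R σ).baseChange T
  let e := b'.equiv B (Equiv.refl σ)
  have : KaehlerDifferential.mapBaseChange R (MvPolynomial σ R) T = e.toLinearMap := by
    apply b'.ext
    intro i
    rw [mapBaseChange_baseChange_basis, LinearEquiv.coe_coe, Module.Basis.equiv_apply,
      Equiv.refl_apply, Module.Basis.mk_apply]
  rw [this]
  exact e.bijective

end MvPoly

end Groth.Agent.Lib.Helper9.KaehlerEtale
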