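import Mathlib
import Groth.Agent.Lib.Helper9.KaehlerEtale
import Groth.Agent.Lib.Helper9.NoetherSubst

/-!
# Étale over affine space in characteristic `p` ⇒ finite étale over affine space
-/

universe u

open KaehlerDifferential TensorProduct MvPolynomial

namespace Groth.Agent.Lib.Helper9.EtaleAffine

open Groth.Agent.Lib.Helper9.KaehlerEtale

variable {k : Type u} [Field k] {n : ℕ} {C : Type u} [CommRing C] [Algebra k C]

/-- changing the images of the variables without changing their differentials preserves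
étaleness. -/
theorem etale_transfer (ψ ψ' : MvPolynomial (Fin n) k →ₐ[k] C) (h : ψ.toRingHom.Etale)
    (hd : ∀ i, D k C (ψ' (X i)) = D k C (ψ (X i))) : ψ'.toRingHom.Etale := by
  have hb : (LinearIndependent C (fun i => D k C (ψ (X i))) ∧
      ⊤ ≤ Submodule.span C (Set.range fun i => D k C (ψ (X i)))) ∧
      Algebra.FormallySmooth k C ∧ Algebra.FinitePresentation k C := by
    letI := ψ.toRingHom.toAlgebra
    haveI : IsScalarTower k (MvPolynomial (Fin n) k) C :=
      IsScalarTower.of_algebraMap_eq (fun r => (ψ.commutes r).symm)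
    haveI : Algebra.Etale (MvPolynomial (Fin n) k) C := h
    refine ⟨?_, ?_, ?_⟩
    · exact basis_of_bijective k (Fin n) C
        (tensorKaehlerEquivOfFormallyEtale k (MvPolynomial (Fin n) k) C).bijective
    · exact Algebra.FormallySmooth.comp k (MvPolynomial (Fin n) k) C
    · exact Algebra.FinitePresentation.trans k (MvPolynomial (Fin n) k) C
  obtain ⟨⟨hli, hsp⟩, hsm, hfp⟩ := hb
  letI := ψ'.toRingHom.toAlgebra
  haveI : IsScalarTower k (MvPolynomial (Fin n) k) C :=
    IsScalarTower.of_algebraMap_eq (fun r => (ψ'.commutes r).symm)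
  have hdX : dX k (Fin n) C = fun i => D k C (ψ (X i)) := by
    funext i
    exact hd i
  have hbij := bijective_of_basis k (Fin n) C (hdX ▸ hli) (hdX ▸ hsp)
  haveI := formallyEtale_of_bijective_mapBaseChange k (MvPolynomial (Fin n) k) C hbij
  haveI : Algebra.FinitePresentation (MvPolynomial (Fin n) k) C :=
    Algebra.FinitePresentation.of_restrict_scalars_finitePresentation k _ C
  show Algebra.Etale (MvPolynomial (Fin n) k) C
  exact ⟨inferInstance, inferInstance⟩


section Algebraic

open Polynomial in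
/-- a formally unramified algebra essentially of finite type over a domain is algebraic. -/
theorem isAlgebraic_of_unramified (R S : Type u) [CommRing R] [IsDomain R] [CommRing S]
    [Algebra R S] [Algebra.FormallyUnramified R S] [Algebra.EssFiniteType R S] (y : S) :
    IsAlgebraic R y := by
  classical
  let K := FractionRing R
  haveI : Module.Finite K (K ⊗[R] S) := Algebra.FormallyUnramified.finite_of_free K (K ⊗[R] S)
  have hint : IsIntegral K ((1 : K) ⊗ₜ[R] y) := Algebra.IsIntegral.isIntegral _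
  obtain ⟨g, hgm, hg⟩ := hint
  have hg' : Polynomial.aeval ((1 : K) ⊗ₜ[R] y) g = 0 := hg
  set G := IsLocalization.integerNormalization (nonZeroDivisors R) g with hG
  have hG0 : G ≠ 0 := by
    rw [hG, Ne, IsFractionRing.integerNormalization_eq_zero_iff]
    exact hgm.ne_zero
  have h1 : Polynomial.aeval ((1 : K) ⊗ₜ[R] y) G = 0 :=
    IsLocalization.integerNormalization_aeval_eq_zero _ g hg'
  have h2 : Polynomial.aeval ((1 : K) ⊗ₜ[R] y) G = (1 : K) ⊗ₜ[R] (Polynomial.aeval y G) := by
    have := Polynomial.aeval_algHom_apply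
      (Algebra.TensorProduct.includeRight : S →ₐ[R] K ⊗[R] S) y G
    simpa using this
  rw [h2] at h1
  haveI : IsLocalizedModule (nonZeroDivisors R) (TensorProduct.mk R K S 1) :=
    (isLocalizedModule_iff_isBaseChange (nonZeroDivisors R) K _).mpr
      (TensorProduct.isBaseChange R S K)
  have h3 : TensorProduct.mk R K S 1 (Polynomial.aeval y G) = TensorProduct.mk R K S 1 0 := by
    rw [map_zero]
    exact h1
  obtain ⟨c, hc⟩ := IsLocalizedModule.exists_of_eq (S := nonZeroDivisors R) h3
  rw [smul_zero] at hc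
  refine ⟨Polynomial.C (c : R) * G, mul_ne_zero ?_ hG0, ?_⟩
  · rw [Ne, Polynomial.C_eq_zero]
    exact nonZeroDivisors.coe_ne_zero c
  · rw [map_mul, Polynomial.aeval_C, ← Algebra.smul_def]
    exact hc

end Algebraic


section Step

open Groth.Agent.Lib.Helper9.NoetherSubst

theorem aeval_cons_eq (ψ : MvPolynomial (Fin n) k →ₐ[k] C) (y : C)
    (F : MvPolynomial (Fin (n + 1)) k) :
    aeval (Fin.cons y (fun i => ψ (X i)) : Fin (n + 1) → C) F =
      Polynomial.eval₂ (ψ : MvPolynomial (Fin n) k →+* C) y (finSuccEquiv k n F) := by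
  let Φ₂ : MvPolynomial (Fin (n + 1)) k →ₐ[k] C :=
    (Polynomial.aevalTower ψ y).comp (finSuccEquiv k n).toAlgHom
  have : aeval (Fin.cons y (fun i => ψ (X i)) : Fin (n + 1) → C) = Φ₂ := by
    apply MvPolynomial.algHom_ext
    intro i
    refine Fin.cases ?_ (fun j => ?_) i
    · simp [Φ₂, finSuccEquiv_X_zero]
    · simp [Φ₂, finSuccEquiv_X_succ]
  rw [this]
  rfl

/-- transitivity of integrality for two maps out of a polynomial ring. -/
theorem isIntegralElem_trans (φ φ' : MvPolynomial (Fin n) k →ₐ[k] C)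
    (h : ∀ i, φ'.toRingHom.IsIntegralElem (φ (X i))) (c : C)
    (hc : φ.toRingHom.IsIntegralElem c) : φ'.toRingHom.IsIntegralElem c := by
  letI := φ'.toRingHom.toAlgebra
  haveI : IsScalarTower k (MvPolynomial (Fin n) k) C :=
    IsScalarTower.of_algebraMap_eq (fun r => (φ'.commutes r).symm)
  have hmem : ∀ f : MvPolynomial (Fin n) k, φ f ∈ integralClosure (MvPolynomial (Fin n) k) C := by
    intro f
    induction f using MvPolynomial.induction_on with
    | C a =>
      have : φ (MvPolynomial.C a) = algebraMap (MvPolynomial (Fin n) k) C (MvPolynomial.C a) := by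
        change φ (MvPolynomial.C a) = φ' (MvPolynomial.C a)
        rw [← MvPolynomial.algebraMap_eq, φ.commutes, φ'.commutes]
      rw [this]
      exact Subalgebra.algebraMap_mem _ _
    | add f g hf hg =>
      rw [map_add]
      exact Subalgebra.add_mem _ hf hg
    | mul_X f i hf =>
      rw [map_mul]
      exact Subalgebra.mul_mem _ hf (h i)
  obtain ⟨q, hqm, hq⟩ := hc
  let φA : MvPolynomial (Fin n) k →+* integralClosure (MvPolynomial (Fin n) k) C :=
    (φ : MvPolynomial (Fin n) k →+* C).codRestrict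
      (integralClosure (MvPolynomial (Fin n) k) C).toSubring hmem
  have hint : IsIntegral (integralClosure (MvPolynomial (Fin n) k) C) c := by
    refine ⟨q.map φA, hqm.map _, ?_⟩
    rw [Polynomial.eval₂_map]
    exact hq
  exact isIntegral_trans c hint

variable (p : ℕ) [hp : Fact p.Prime] [CharP k p]

include p in
theorem D_sub_pow (a y : C) (e : ℕ) (he : p ∣ e) : D k C (a - y ^ e) = D k C a := by
  rw [map_sub, Derivation.leibniz_pow]
  obtain ⟨m, rfl⟩ := he
  have h0 : ((p * m : ℕ) : C) = 0 := by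
    have : ((p * m : ℕ) : C) = algebraMap k C ((p * m : ℕ) : k) :=
      (map_natCast (algebraMap k C) (p * m)).symm
    rw [this, Nat.cast_mul, CharP.cast_eq_zero k p, zero_mul, map_zero]
  rw [← Nat.cast_smul_eq_nsmul C, h0, zero_smul, sub_zero]

include p in
theorem step (ψ : MvPolynomial (Fin n) k →ₐ[k] C) (hψ : ψ.toRingHom.Etale) (y : C) :
    ∃ ψ' : MvPolynomial (Fin n) k →ₐ[k] C, ψ'.toRingHom.Etale ∧ ψ'.toRingHom.IsIntegralElem y ∧
      ∀ i, ψ'.toRingHom.IsIntegralElem (ψ (X i)) := by
  -- algebraicity of `y`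
  obtain ⟨G, hG0, hG⟩ : ∃ G : Polynomial (MvPolynomial (Fin n) k), G ≠ 0 ∧
      Polynomial.eval₂ (ψ : MvPolynomial (Fin n) k →+* C) y G = 0 := by
    letI := ψ.toRingHom.toAlgebra
    haveI : Algebra.Etale (MvPolynomial (Fin n) k) C := hψ
    obtain ⟨G, hG0, hG⟩ := isAlgebraic_of_unramified (MvPolynomial (Fin n) k) C y
    exact ⟨G, hG0, hG⟩
  set F : MvPolynomial (Fin (n + 1)) k := (finSuccEquiv k n).symm G with hF
  have hF0 : F ≠ 0 := by
    rw [hF, Ne, map_eq_zero_iff _ (finSuccEquiv k n).symm.injective]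
    exact hG0
  have hFy : aeval (Fin.cons y (fun i => ψ (X i)) : Fin (n + 1) → C) F = 0 := by
    rw [aeval_cons_eq, hF, AlgEquiv.apply_symm_apply]
    exact hG
  set b : ℕ := p * (F.totalDegree + 2) with hb
  have hp1 : 1 ≤ p := hp.out.one_lt.le
  have hb1 : 1 < b := by
    have : 1 * 2 ≤ p * (F.totalDegree + 2) := Nat.mul_le_mul hp1 (by omega)
    omega
  have hbF : F.totalDegree < b := by
    have : 1 * (F.totalDegree + 2) ≤ p * (F.totalDegree + 2) := Nat.mul_le_mul_right _ hp1
    omega
  have hpb : ∀ i : ℕ, p ∣ b ^ (i + 1) := fun i =>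
    Dvd.dvd.trans (Dvd.intro _ rfl) (dvd_pow_self b (Nat.succ_ne_zero i))
  let ψ' : MvPolynomial (Fin n) k →ₐ[k] C :=
    aeval (fun i : Fin n => ψ (X i) - y ^ (b ^ (i.1 + 1)))
  have hψ'X : ∀ i, ψ' (X i) = ψ (X i) - y ^ (b ^ (i.1 + 1)) := fun i => by
    simp [ψ']
  have hy : ψ'.toRingHom.IsIntegralElem y := by
    have h1 : aeval (Fin.cons y (fun i => ψ' (X i)) : Fin (n + 1) → C) (T b F) = 0 := by
      rw [← hFy]
      change aeval _ (T1 b 1 F) = _
      rw [← AlgHom.comp_apply, comp_aeval]
      have hfun : (fun i : Fin (n + 1) =>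
          (aeval (Fin.cons y (fun i => ψ' (X i)) : Fin (n + 1) → C))
            (if i = 0 then (X 0 : MvPolynomial (Fin (n + 1)) k)
              else X i + (1 : k) • X 0 ^ b ^ i.1)) =
          (Fin.cons y (fun i => ψ (X i)) : Fin (n + 1) → C) := by
        funext i
        refine Fin.cases ?_ (fun j => ?_) i
        · simp
        · simp [hψ'X, Fin.succ_ne_zero]
      rw [hfun]
    rw [aeval_cons_eq] at h1
    have hu := T_leadingcoeff_isUnit hb1 hbF hF0
    refine ⟨hu.unit⁻¹ • finSuccEquiv k n (T b F),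
      Polynomial.monic_of_isUnit_leadingCoeff_inv_smul hu, ?_⟩
    rw [Units.smul_def, Polynomial.eval₂_smul]
    change _ * Polynomial.eval₂ (ψ' : MvPolynomial (Fin n) k →+* C) y _ = 0
    rw [h1, mul_zero]
  refine ⟨ψ', ?_, hy, ?_⟩
  · refine etale_transfer ψ ψ' hψ fun i => ?_
    rw [hψ'X]
    exact D_sub_pow p _ _ _ (hpb i.1)
  · intro i
    have : ψ (X i) = ψ' (X i) + y ^ (b ^ (i.1 + 1)) := by rw [hψ'X]; ring
    rw [this]
    refine RingHom.IsIntegralElem.add _ (RingHom.isIntegralElem_map _) ?_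
    letI := ψ'.toRingHom.toAlgebra
    exact IsIntegral.pow hy _

end Step


section Main

variable (p : ℕ) [hp : Fact p.Prime] [CharP k p]

include p in
theorem exists_etale_integral (ψ₀ : MvPolynomial (Fin n) k →ₐ[k] C) (h₀ : ψ₀.toRingHom.Etale)
    (s : Finset C) :
    ∃ φ : MvPolynomial (Fin n) k →ₐ[k] C, φ.toRingHom.Etale ∧
      ∀ c ∈ s, φ.toRingHom.IsIntegralElem c := by
  classical
  induction s using Finset.induction_on with
  | empty => exact ⟨ψ₀, h₀, fun c hc => absurd hc (Finset.notMem_empty c)⟩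
  | insert y s _ ih =>
    obtain ⟨φ, hφ, hs⟩ := ih
    obtain ⟨φ', hφ', hy, hX⟩ := step p φ hφ y
    refine ⟨φ', hφ', fun c hc => ?_⟩
    rcases Finset.mem_insert.1 hc with rfl | hc
    · exact hy
    · exact isIntegralElem_trans φ φ' hX c (hs c hc)

include p in
theorem exists_finite_etale (ψ₀ : MvPolynomial (Fin n) k →ₐ[k] C) (h₀ : ψ₀.toRingHom.Etale) :
    ∃ φ : MvPolynomial (Fin n) k →ₐ[k] C, φ.toRingHom.Finite ∧ φ.toRingHom.Etale := by
  have hft : Algebra.FiniteType k C := by
    letI := ψ₀.toRingHom.toAlgebra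
    haveI : IsScalarTower k (MvPolynomial (Fin n) k) C :=
      IsScalarTower.of_algebraMap_eq (fun r => (ψ₀.commutes r).symm)
    haveI : Algebra.Etale (MvPolynomial (Fin n) k) C := h₀
    exact Algebra.FiniteType.trans (S := MvPolynomial (Fin n) k) inferInstance inferInstance
  obtain ⟨s, hs⟩ := hft.out
  obtain ⟨φ, hφ, hint⟩ := exists_etale_integral p ψ₀ h₀ s
  refine ⟨φ, ?_, hφ⟩
  have hInt : φ.toRingHom.IsIntegral := by
    intro c
    letI := φ.toRingHom.toAlgebra
    haveI : IsScalarTower k (MvPolynomial (Fin n) k) C :=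
      IsScalarTower.of_algebraMap_eq (fun r => (φ.commutes r).symm)
    have hle : Algebra.adjoin k (s : Set C) ≤
        (integralClosure (MvPolynomial (Fin n) k) C).restrictScalars k :=
      Algebra.adjoin_le fun c hc => hint c hc
    have : c ∈ Algebra.adjoin k (s : Set C) := by rw [hs]; exact Algebra.mem_top
    exact hle this
  have hFT : φ.toRingHom.FiniteType := by
    letI := φ.toRingHom.toAlgebra
    haveI : Algebra.Etale (MvPolynomial (Fin n) k) C := hφ
    show Algebra.FiniteType (MvPolynomial (Fin n) k) C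
    infer_instance
  exact hInt.to_finite hFT

end Main

end Groth.Agent.Lib.Helper9.EtaleAffine
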