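import Mathlib

set_option autoImplicit false
universe u

namespace Groth.Agent.Lib.Helper9

open TensorProduct

/-- If `φ' : A' → A/I` is an `A`-algebra map whose kernel is contained in `I A'`, then
`A/I → A'/IA'` is bijective and is inverse to the map induced by `φ'`. -/
theorem quotient_bijective_of_ker_le {A A' : Type u} [CommRing A] [CommRing A'] [Algebra A A']
    (I : Ideal A) (φ' : A' →ₐ[A] A ⧸ I)
    (hker : ∀ z : A', φ' z = 0 → z ∈ I.map (algebraMap A A')) :
    Function.Bijective (algebraMap (A ⧸ I) (A' ⧸ I.map (algebraMap A A'))) ∧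
      ∀ x : A', algebraMap (A ⧸ I) (A' ⧸ I.map (algebraMap A A')) (φ' x) =
        Ideal.Quotient.mk (I.map (algebraMap A A')) x := by
  have hcomm : ∀ a : A, algebraMap (A ⧸ I) (A' ⧸ I.map (algebraMap A A')) (Ideal.Quotient.mk I a) =
      Ideal.Quotient.mk (I.map (algebraMap A A')) (algebraMap A A' a) := fun a => rfl
  have h2 : ∀ x : A', algebraMap (A ⧸ I) (A' ⧸ I.map (algebraMap A A')) (φ' x) =
        Ideal.Quotient.mk (I.map (algebraMap A A')) x := by
    intro x
    obtain ⟨a, ha⟩ := Ideal.Quotient.mk_surjective (φ' x)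
    have hz : φ' (x - algebraMap A A' a) = 0 := by
      rw [map_sub, AlgHom.commutes, ← ha]
      exact sub_self _
    have := hker _ hz
    rw [← ha, hcomm, eq_comm, Ideal.Quotient.eq]
    exact this
  have hkill : ∀ z ∈ I.map (algebraMap A A'), φ' z = 0 := by
    intro z hz
    have hle : I.map (algebraMap A A') ≤ RingHom.ker φ'.toRingHom := by
      rw [Ideal.map_le_iff_le_comap]
      intro a ha
      simp only [Ideal.mem_comap, RingHom.mem_ker, AlgHom.toRingHom_eq_coe, RingHom.coe_coe,
        AlgHom.commutes]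
      exact Ideal.Quotient.eq_zero_iff_mem.2 ha
    exact hle hz
  refine ⟨⟨?_, ?_⟩, h2⟩
  · rw [injective_iff_map_eq_zero]
    intro x hx
    obtain ⟨a, rfl⟩ := Ideal.Quotient.mk_surjective x
    rw [hcomm, Ideal.Quotient.eq_zero_iff_mem] at hx
    have := hkill _ hx
    rwa [AlgHom.commutes] at this
  · intro y
    obtain ⟨x, rfl⟩ := Ideal.Quotient.mk_surjective y
    exact ⟨φ' x, h2 x⟩

/-- An étale `A`-algebra `U` with an `A`-algebra map `φ : U → A/I` can be localized at some `u`
with `φ u = 1` so that `ker φ` lands inside `I U_u`. -/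
theorem exists_away_of_etale_section {A U : Type u} [CommRing A] [CommRing U] [Algebra A U]
    [Algebra.Etale A U] (I : Ideal A) (φ : U →ₐ[A] A ⧸ I) :
    ∃ u : U, φ u = 1 ∧ ∀ z : U, φ z = 0 →
      algebraMap U (Localization.Away u) z ∈ I.map (algebraMap A (Localization.Away u)) := by
  have hEt : Algebra.Etale (A ⧸ I) (U ⧸ I.map (algebraMap A U)) :=
    Algebra.Etale.of_equiv (Algebra.TensorProduct.quotIdealMapEquivQuotTensor U I).symm
  have hJ : ∀ a ∈ I.map (algebraMap A U), φ a = 0 := by
    intro z hz
    have hle : I.map (algebraMap A U) ≤ RingHom.ker φ.toRingHom := by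
      rw [Ideal.map_le_iff_le_comap]
      intro a ha
      simp only [Ideal.mem_comap, RingHom.mem_ker, AlgHom.toRingHom_eq_coe, RingHom.coe_coe,
        AlgHom.commutes]
      exact Ideal.Quotient.eq_zero_iff_mem.2 ha
    exact hle hz
  let σA : (U ⧸ I.map (algebraMap A U)) →ₐ[A] A ⧸ I := Ideal.Quotient.liftₐ _ φ hJ
  let σ : (U ⧸ I.map (algebraMap A U)) →ₐ[A ⧸ I] A ⧸ I :=
    σA.extendScalarsOfSurjective Ideal.Quotient.mk_surjective
  have hσmk : ∀ z : U, σ (Ideal.Quotient.mk _ z) = φ z := fun z => rfl
  have hσ : Function.Surjective σ := by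
    intro x
    exact ⟨algebraMap _ _ x, by rw [AlgHom.commutes]; rfl⟩
  obtain ⟨e, he, hfe⟩ : ∃ e, IsIdempotentElem e ∧ RingHom.ker σ.toRingHom = Ideal.span {e} := by
    let _ := σ.toRingHom.toAlgebra
    have : IsScalarTower (A ⧸ I) (U ⧸ I.map (algebraMap A U)) (A ⧸ I) :=
      .of_algebraMap_eq' σ.comp_algebraMap.symm
    exact (Ideal.isIdempotentElem_iff_of_fg _
      (Algebra.FinitePresentation.ker_fG_of_surjective σ hσ)).mp
      ((Algebra.FormallyEtale.iff_of_surjective hσ).mp (.of_restrictScalars (R := A ⧸ I)))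
  obtain ⟨k, rfl⟩ := Ideal.Quotient.mk_surjective e
  have hk0 : φ k = 0 := by
    rw [← hσmk]
    have : Ideal.Quotient.mk (I.map (algebraMap A U)) k ∈ RingHom.ker σ.toRingHom := by
      rw [hfe]; exact Ideal.mem_span_singleton_self _
    exact this
  have hkk : k * k - k ∈ I.map (algebraMap A U) := by
    rw [← Ideal.Quotient.eq, map_mul]
    exact he
  refine ⟨1 - k, by rw [map_sub, map_one, hk0, sub_zero], ?_⟩
  intro z hz
  have hmapmap : (I.map (algebraMap A U)).map (algebraMap U (Localization.Away (1 - k))) =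
      I.map (algebraMap A (Localization.Away (1 - k))) := by
    rw [Ideal.map_map, ← IsScalarTower.algebraMap_eq]
  have hu : IsUnit (algebraMap U (Localization.Away (1 - k)) (1 - k)) :=
    IsLocalization.Away.algebraMap_isUnit _
  have hkmem : algebraMap U (Localization.Away (1 - k)) k ∈
      I.map (algebraMap A (Localization.Away (1 - k))) := by
    have h1 : algebraMap U (Localization.Away (1 - k)) (k * k - k) ∈
        I.map (algebraMap A (Localization.Away (1 - k))) := by
      rw [← hmapmap]
      exact Ideal.mem_map_of_mem _ hkk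
    have h2 : algebraMap U (Localization.Away (1 - k)) k =
        - (↑hu.unit⁻¹ * algebraMap U (Localization.Away (1 - k)) (k * k - k)) := by
      have : algebraMap U (Localization.Away (1 - k)) (k * k - k) =
          - (algebraMap U (Localization.Away (1 - k)) (1 - k) *
            algebraMap U (Localization.Away (1 - k)) k) := by
        rw [← map_mul, ← map_neg]
        congr 1
        ring
      rw [this, mul_neg, neg_neg, ← mul_assoc, IsUnit.val_inv_mul, one_mul]
    rw [h2]
    exact neg_mem (Ideal.mul_mem_left _ _ h1)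
  have hzmem : Ideal.Quotient.mk (I.map (algebraMap A U)) z ∈ RingHom.ker σ.toRingHom := by
    change σ _ = 0
    rw [hσmk, hz]
  rw [hfe, Ideal.mem_span_singleton'] at hzmem
  obtain ⟨w, hw⟩ := hzmem
  obtain ⟨w, rfl⟩ := Ideal.Quotient.mk_surjective w
  rw [← map_mul, Ideal.Quotient.eq] at hw
  have h3 : algebraMap U (Localization.Away (1 - k)) (w * k - z) ∈
      I.map (algebraMap A (Localization.Away (1 - k))) := by
    rw [← hmapmap]
    exact Ideal.mem_map_of_mem _ hw
  have h4 : algebraMap U (Localization.Away (1 - k)) z =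
      algebraMap U (Localization.Away (1 - k)) w * algebraMap U (Localization.Away (1 - k)) k -
        algebraMap U (Localization.Away (1 - k)) (w * k - z) := by
    rw [← map_mul, ← map_sub]
    congr 1
    ring
  rw [h4]
  exact Ideal.sub_mem _ (Ideal.mul_mem_left _ _ hkmem) h3

/-- An étale `A`-algebra `U` with an `A`-algebra map `φ : U → A/I` has a principal localization
`A' = U_u`, étale over `A`, with `A/I ≃ A'/IA'` compatibly with `φ`. -/
theorem exists_etale_nbhd_of_section {A U : Type u} [CommRing A] [CommRing U] [Algebra A U]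
    [Algebra.Etale A U] (I : Ideal A) (φ : U →ₐ[A] A ⧸ I) :
    ∃ u : U, Algebra.Etale A (Localization.Away u) ∧
      Function.Bijective (algebraMap (A ⧸ I)
        (Localization.Away u ⧸ I.map (algebraMap A (Localization.Away u)))) ∧
      ∀ y : U, algebraMap (A ⧸ I)
        (Localization.Away u ⧸ I.map (algebraMap A (Localization.Away u))) (φ y) =
        Ideal.Quotient.mk (I.map (algebraMap A (Localization.Away u)))
          (algebraMap U (Localization.Away u) y) := by
  obtain ⟨u, hu1, hu⟩ := exists_away_of_etale_section I φ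
  have hunit : IsUnit (φ u) := by rw [hu1]; exact isUnit_one
  let φ' : Localization.Away u →ₐ[A] A ⧸ I := IsLocalization.Away.liftAlgHom u hunit
  have hφ' : ∀ y : U, φ' (algebraMap U (Localization.Away u) y) = φ y := fun y =>
    IsLocalization.Away.lift_eq u hunit y
  have hker : ∀ z : Localization.Away u, φ' z = 0 →
      z ∈ I.map (algebraMap A (Localization.Away u)) := by
    intro z hz
    obtain ⟨n, a, ha⟩ := IsLocalization.Away.surj u z
    have hau : IsUnit (algebraMap U (Localization.Away u) u ^ n) :=
      (IsLocalization.Away.algebraMap_isUnit u).pow n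
    have h0 : φ a = 0 := by
      rw [← hφ', ← ha, map_mul, hz, zero_mul]
    have := hu a h0
    rw [← ha] at this
    exact (Ideal.mul_unit_mem_iff_mem _ hau).1 this
  obtain ⟨hbij, h2⟩ := quotient_bijective_of_ker_le I φ' hker
  refine ⟨u, inferInstance, hbij, fun y => ?_⟩
  rw [← hφ', h2]

end Groth.Agent.Lib.Helper9
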