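import Mathlib
import Groth.Agent.Lib.Helper9.HenselSplit

set_option autoImplicit false

open TensorProduct

universe u

namespace Groth.Agent.Lib.Helper9.EtaleSplit

section
variable {R R' S : Type u} [CommRing R] [CommRing R'] [CommRing S] [Algebra R R'] [Algebra R S]
    {p : Ideal R} {P : Ideal R'} [p.IsPrime] [P.IsPrime] [P.LiesOver p]

omit [p.IsPrime] [P.IsPrime] in
theorem liesOver_comap_includeRight (p : Ideal R) (P : Ideal R') [P.LiesOver p]
    (Q : Ideal (R' ⊗[R] S)) [Q.LiesOver P] :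
    (Q.comap (Algebra.TensorProduct.includeRight : S →ₐ[R] R' ⊗[R] S).toRingHom).LiesOver p := by
  constructor
  have hQp : Q.LiesOver p := .trans _ P _
  rw [hQp.over, Ideal.under, Ideal.under, Ideal.comap_comap]
  congr 1
  exact (AlgHom.comp_algebraMap (Algebra.TensorProduct.includeRight : S →ₐ[R] R' ⊗[R] S)).symm

theorem quasiFiniteAt_comap_includeRight [Algebra.FiniteType R S]
    (H : Function.Bijective (Ideal.ResidueField.mapₐ p P (Algebra.ofId _ _) (P.over_def p)))
    (Q : Ideal (R' ⊗[R] S)) [Q.IsPrime] [Q.LiesOver P] [Algebra.QuasiFiniteAt R' Q]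
    (q : Ideal S) [q.IsPrime] (hq : q = Q.comap Algebra.TensorProduct.includeRight.toRingHom) :
    Algebra.QuasiFiniteAt R q := by
  let := Localization.AtPrime.algebraOfLiesOver p P
  let e : P.Fiber (R' ⊗[R] S) ≃ₐ[p.ResidueField] p.Fiber S :=
    ((Algebra.TensorProduct.cancelBaseChange _ _ P.ResidueField _ _).restrictScalars _).trans
      (Algebra.TensorProduct.congr (.symm <| .ofBijective (Algebra.ofId _ _) H) .refl)
  let Qt : PrimeSpectrum (P.Fiber (R' ⊗[R] S)) :=
    PrimeSpectrum.primesOverOrderIsoFiber R' (R' ⊗[R] S) P ⟨Q, ‹_›, ‹_›⟩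
  have h1 : Qt.asIdeal.comap Algebra.TensorProduct.includeRight.toRingHom = Q := by
    have := PrimeSpectrum.coe_primesOverOrderIsoFiber_symm_apply (R := R') (S := R' ⊗[R] S)
      (p := P) Qt
    rw [OrderIso.symm_apply_apply] at this
    exact this.symm
  have h2 : Algebra.QuasiFiniteAt P.ResidueField Qt.asIdeal :=
    Algebra.QuasiFiniteAt.baseChange Q Qt.asIdeal h1.symm
  have hfin : Module.Finite p.ResidueField P.ResidueField :=
    Module.Finite.of_surjective (Algebra.ofId p.ResidueField P.ResidueField).toLinearMap H.2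
  have h3 : Algebra.QuasiFiniteAt p.ResidueField Qt.asIdeal :=
    Algebra.QuasiFinite.trans p.ResidueField P.ResidueField _
  let Qh : Ideal (p.Fiber S) := Qt.asIdeal.comap e.symm.toRingHom
  have h4 : Algebra.QuasiFiniteAt p.ResidueField Qh := inferInstance
  have h5 : Qh.comap Algebra.TensorProduct.includeRight.toRingHom = q := by
    ext s
    rw [hq, ← h1]
    simp only [Ideal.mem_comap, Qh]
    have : e.symm ((1 : p.ResidueField) ⊗ₜ[R] s) =
        (1 : P.ResidueField) ⊗ₜ[R'] ((1 : R') ⊗ₜ[R] s) := by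
      simp [e]
    simp [this]
  have : q.LiesOver p := by
    rw [hq]; exact liesOver_comap_includeRight p P Q
  exact Algebra.QuasiFiniteAt.of_quasiFiniteAt_residueField p q Qh h5

end

/-- The set of primes over `p` at which `S` is quasi-finite over `R`. -/
def qfSet (R S : Type u) [CommRing R] [CommRing S] [Algebra R S] (p : Ideal R) : Set (Ideal S) :=
  {q : Ideal S | ∃ (_ : q.IsPrime), q.LiesOver p ∧ Algebra.QuasiFiniteAt R q}

theorem finite_qfSet (R S : Type u) [CommRing R] [CommRing S] [Algebra R S]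
    [Algebra.FiniteType R S] (p : Ideal R) [p.IsPrime] : (qfSet R S p).Finite :=
  finite_quasiFiniteAt_primesOver p

section
variable {R R' S : Type u} [CommRing R] [CommRing R'] [CommRing S] [Algebra R R'] [Algebra R S]
    {p : Ideal R} {P : Ideal R'} [p.IsPrime] [P.IsPrime] [P.LiesOver p]

theorem ncard_qfSet_lt [Algebra.FiniteType R S]
    (H : Function.Bijective (Ideal.ResidueField.mapₐ p P (Algebra.ofId _ _) (P.over_def p)))
    (e : R' ⊗[R] S) (he : IsIdempotentElem e) (q : Ideal S) (hq : q ∈ qfSet R S p)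
    (P' : Ideal (R' ⊗[R] S)) [P'.IsPrime] [P'.LiesOver P]
    (hP'q : P'.comap Algebra.TensorProduct.includeRight.toRingHom = q) (heP' : e ∉ P') :
    (qfSet R' ((R' ⊗[R] S) ⧸ Ideal.span {e}) P).ncard < (qfSet R S p).ncard := by
  let f : Ideal ((R' ⊗[R] S) ⧸ Ideal.span {e}) → Ideal S := fun Q₁ =>
    (Q₁.comap (Ideal.Quotient.mk (Ideal.span {e}))).comap
      (Algebra.TensorProduct.includeRight : S →ₐ[R] R' ⊗[R] S).toRingHom
  have hkey : ∀ Q₁ ∈ qfSet R' ((R' ⊗[R] S) ⧸ Ideal.span {e}) P,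
      ∃ (_ : (Q₁.comap (Ideal.Quotient.mk (Ideal.span {e}))).IsPrime),
        (Q₁.comap (Ideal.Quotient.mk (Ideal.span {e}))).LiesOver P ∧
        Algebra.QuasiFiniteAt R' (Q₁.comap (Ideal.Quotient.mk (Ideal.span {e}))) ∧
        e ∈ Q₁.comap (Ideal.Quotient.mk (Ideal.span {e})) := by
    rintro Q₁ ⟨hpr, hover, hqf⟩
    have h1 : (Q₁.comap (Ideal.Quotient.mk (Ideal.span {e}))).IsPrime := Ideal.comap_isPrime _ _
    refine ⟨h1, ?_, ?_, ?_⟩
    · constructor
      rw [hover.over, Ideal.under, Ideal.under, Ideal.comap_comap]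
      rfl
    · exact quasiFiniteAt_of_quotient_idempotent he Q₁ _ rfl
    · rw [Ideal.mem_comap, Ideal.Quotient.eq_zero_iff_mem.2 (Ideal.mem_span_singleton_self e)]
      exact Q₁.zero_mem
  have hmaps : ∀ Q₁ ∈ qfSet R' ((R' ⊗[R] S) ⧸ Ideal.span {e}) P, f Q₁ ∈ qfSet R S p \ {q} := by
    intro Q₁ hQ₁
    obtain ⟨h1, h2, h3, h4⟩ := hkey Q₁ hQ₁
    have h5 : (f Q₁).IsPrime := Ideal.comap_isPrime _ _
    refine ⟨⟨h5, liesOver_comap_includeRight p P _, quasiFiniteAt_comap_includeRight H _ (f Q₁) rfl⟩, ?_⟩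
    intro hfq
    rw [Set.mem_singleton_iff] at hfq
    have := Ideal.eq_of_comap_eq_comap_of_bijective_residueFieldMap H
      (Q₁.comap (Ideal.Quotient.mk (Ideal.span {e}))) P' (hfq.trans hP'q.symm)
    exact heP' (this ▸ h4)
  have hinj : Set.InjOn f (qfSet R' ((R' ⊗[R] S) ⧸ Ideal.span {e}) P) := by
    intro Q₁ hQ₁ Q₂ hQ₂ h
    obtain ⟨h1, h2, h3, h4⟩ := hkey Q₁ hQ₁
    obtain ⟨h1', h2', h3', h4'⟩ := hkey Q₂ hQ₂
    have := Ideal.eq_of_comap_eq_comap_of_bijective_residueFieldMap H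
      (Q₁.comap (Ideal.Quotient.mk (Ideal.span {e})))
      (Q₂.comap (Ideal.Quotient.mk (Ideal.span {e}))) h
    exact Ideal.comap_injective_of_surjective _ Ideal.Quotient.mk_surjective this
  have hfin := finite_qfSet R S p
  calc (qfSet R' ((R' ⊗[R] S) ⧸ Ideal.span {e}) P).ncard
      ≤ (qfSet R S p \ {q}).ncard :=
        Set.ncard_le_ncard_of_injOn f hmaps hinj (hfin.subset Set.sdiff_subset)
    _ < (qfSet R S p).ncard := Set.ncard_sdiff_singleton_lt_of_mem hq hfin

end

/-- associativity of binary products of algebras -/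
def prodAssocAlg (R X Y Z : Type*) [CommSemiring R] [Semiring X] [Semiring Y] [Semiring Z]
    [Algebra R X] [Algebra R Y] [Algebra R Z] : ((X × Y) × Z) ≃ₐ[R] (X × (Y × Z)) :=
  { Equiv.prodAssoc X Y Z with
    map_mul' := fun _ _ => rfl
    map_add' := fun _ _ => rfl
    commutes' := fun _ => rfl }

/-- decomposition of an algebra along an idempotent -/
noncomputable def idemProdEquiv (R : Type*) {T : Type*} [CommRing R] [CommRing T] [Algebra R T] (e : T)
    (he : IsIdempotentElem e) :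
    T ≃ₐ[R] (T ⧸ Ideal.span {1 - e}) × (T ⧸ Ideal.span {e}) :=
  AlgEquiv.ofBijective
    (AlgHom.prod (Ideal.Quotient.mkₐ R (Ideal.span {1 - e})) (Ideal.Quotient.mkₐ R (Ideal.span {e})))
    (RingHom.prod_bijective_of_isIdempotentElem he.one_sub he (by ring) (by
      rw [sub_mul, one_mul, he.eq, sub_self]))

/-- `S ≃ PUnit × S` -/
def punitProdEquiv (R S : Type u) [CommRing R] [CommRing S] [Algebra R S] :
    S ≃ₐ[R] PUnit.{u+1} × S :=
  { toFun := fun s => (PUnit.unit, s)
    invFun := fun x => x.2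
    left_inv := fun _ => rfl
    right_inv := fun _ => rfl
    map_mul' := fun _ _ => rfl
    map_add' := fun _ _ => rfl
    commutes' := fun _ => rfl }

theorem stage1 (n : ℕ) : ∀ (R S : Type u) [CommRing R] [CommRing S] [Algebra R S]
    [Algebra.FiniteType R S] (p : Ideal R) [p.IsPrime], (qfSet R S p).ncard = n →
    ∃ (R' : Type u) (_ : CommRing R') (_ : Algebra R R') (_ : Algebra.Etale R R') (P : Ideal R')
      (_ : P.IsPrime) (_ : P.LiesOver p) (A B : Type u) (_ : CommRing A) (_ : CommRing B)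
      (_ : Algebra R' A) (_ : Algebra R' B),
      Function.Bijective (Ideal.ResidueField.mapₐ p P (Algebra.ofId _ _) (P.over_def p)) ∧
      Module.Finite R' A ∧ Algebra.FiniteType R' B ∧ Nonempty ((R' ⊗[R] S) ≃ₐ[R'] A × B) ∧
      ∀ (q : Ideal B) [q.IsPrime], q.LiesOver P → ¬ Algebra.QuasiFiniteAt R' q := by
  induction n using Nat.strong_induction_on with
  | _ n IH =>
    intro R S _ _ _ _ p _ hn
    by_cases hne : (qfSet R S p).Nonempty
    · obtain ⟨q, hq⟩ := hne
      obtain ⟨hqprime, hqover, hqqf⟩ := hq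
      obtain ⟨R', _, _, _, P, _, _, e, he, P', _, _, hP'q, heP', hpP, hfin, H⟩ :=
        Algebra.exists_etale_isIdempotentElem_forall_liesOver_eq p q
      have hlt := ncard_qfSet_lt hpP e he q ⟨hqprime, hqover, hqqf⟩ P' hP'q heP'
      obtain ⟨R'', _, _, _, Q, _, _, A₂, B, _, _, _, _, hPQ, hA₂, hB, ⟨ι₁⟩, hnq⟩ :=
        IH _ (hn ▸ hlt) R' ((R' ⊗[R] S) ⧸ Ideal.span {e}) P rfl
      let : Algebra R R'' := .compHom _ (algebraMap R R')
      have : IsScalarTower R R' R'' := .of_algebraMap_eq' rfl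
      have : Algebra.Etale R R'' := .comp R R' R''
      have : Q.LiesOver p := .trans _ P _
      have hpQ : Function.Bijective
          (Ideal.ResidueField.mapₐ p Q (Algebra.ofId _ _) (Q.over_def p)) := by
        convert hPQ.comp hpP
        rw [← @AlgHom.coe_restrictScalars' R R', ← AlgHom.coe_comp]; congr 1; ext
      have hA₁ : Module.Finite R' ((R' ⊗[R] S) ⧸ Ideal.span {1 - e}) := by
        have := IsLocalization.Away.quotient_of_isIdempotentElem he
        exact Module.Finite.equiv ((IsLocalization.algEquiv (.powers e) (Localization.Away e)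
          ((R' ⊗[R] S) ⧸ Ideal.span {1 - e})).restrictScalars R').toLinearEquiv
      let c1 : R'' ⊗[R] S ≃ₐ[R''] R'' ⊗[R'] (R' ⊗[R] S) :=
        (Algebra.TensorProduct.cancelBaseChange R R' R'' R'' S).symm
      let c2 : R'' ⊗[R'] (R' ⊗[R] S) ≃ₐ[R'']
          R'' ⊗[R'] (((R' ⊗[R] S) ⧸ Ideal.span {1 - e}) × ((R' ⊗[R] S) ⧸ Ideal.span {e})) :=
        Algebra.TensorProduct.congr AlgEquiv.refl (idemProdEquiv R' e he)
      let c3 := Algebra.TensorProduct.prodRight R' R'' R'' ((R' ⊗[R] S) ⧸ Ideal.span {1 - e})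
        ((R' ⊗[R] S) ⧸ Ideal.span {e})
      let c4 := AlgEquiv.prodCongr (AlgEquiv.refl (R := R'') (A₁ := R'' ⊗[R'] ((R' ⊗[R] S) ⧸ Ideal.span {1 - e}))) ι₁
      let c5 := (prodAssocAlg R'' (R'' ⊗[R'] ((R' ⊗[R] S) ⧸ Ideal.span {1 - e})) A₂ B).symm
      refine ⟨R'', inferInstance, inferInstance, inferInstance, Q, inferInstance, inferInstance,
        (R'' ⊗[R'] ((R' ⊗[R] S) ⧸ Ideal.span {1 - e})) × A₂, B, inferInstance, inferInstance,
        inferInstance, inferInstance, hpQ, inferInstance, hB,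
        ⟨(((c1.trans c2).trans c3).trans c4).trans c5⟩, hnq⟩
    · rw [Set.not_nonempty_iff_eq_empty] at hne
      refine ⟨R, inferInstance, inferInstance, inferInstance, p, inferInstance, ⟨rfl⟩,
        PUnit.{u+1}, S, inferInstance, inferInstance, inferInstance, inferInstance, ?_,
        inferInstance, inferInstance,
        ⟨(Algebra.TensorProduct.lid R S).trans (punitProdEquiv R S)⟩, ?_⟩
      · rw! [Algebra.ofId_self, Ideal.ResidueField.mapₐ_id]; exact Function.bijective_id
      · intro q hq hqp hqf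
        have : q ∈ qfSet R S p := ⟨hq, hqp, hqf⟩
        rw [hne] at this
        exact this

noncomputable def piLastEquiv (R : Type*) {T : Type*} [CommRing R] [CommRing T] [Algebra R T] {n : ℕ}
    (e : Fin (n + 1) → T) (he : CompleteOrthogonalIdempotents e) :
    T ≃ₐ[R] (∀ i : Fin n, T ⧸ Ideal.span {1 - e i.castSucc}) ×
      (T ⧸ Ideal.span {1 - e (Fin.last n)}) :=
  AlgEquiv.ofBijective
    (AlgHom.prod (AlgHom.pi fun i : Fin n => Ideal.Quotient.mkₐ R (Ideal.span {1 - e i.castSucc}))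
      (Ideal.Quotient.mkₐ R (Ideal.span {1 - e (Fin.last n)}))) (by
    have hb := he.bijective_pi
    constructor
    · intro x y hxy
      apply hb.1
      funext i
      refine Fin.lastCases ?_ (fun j => ?_) i
      · exact congrArg Prod.snd hxy
      · exact congrFun (congrArg Prod.fst hxy) j
    · rintro ⟨a, b⟩
      obtain ⟨x, hx⟩ := hb.2 (Fin.lastCases (motive := fun i => T ⧸ Ideal.span {1 - e i}) b a)
      refine ⟨x, Prod.ext (funext fun j => ?_) ?_⟩
      · have := congrFun hx j.castSucc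
        simpa using this
      · have := congrFun hx (Fin.last n)
        simpa using this)

theorem existsUnique_prime_quotient {R T : Type*} [CommRing R] [CommRing T] [Algebra R T]
    (Q : Ideal R) (e : T) (he : IsIdempotentElem e)
    (P' : Ideal T) [P'.IsPrime] [P'.LiesOver Q] (heP' : e ∉ P')
    (H : ∀ P'' : Ideal T, P''.IsPrime → P''.LiesOver Q → e ∉ P'' → P'' = P') :
    ∃! r : Ideal (T ⧸ Ideal.span {1 - e}),
      r.IsPrime ∧ r.comap (algebraMap R (T ⧸ Ideal.span {1 - e})) = Q := by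
  have h1e : 1 - e ∈ P' := by
    have : e * (1 - e) ∈ P' := by
      rw [mul_sub, mul_one, he.eq, sub_self]; exact P'.zero_mem
    exact (Ideal.IsPrime.mem_or_mem ‹_› this).resolve_left heP'
  have hker : RingHom.ker (Ideal.Quotient.mk (Ideal.span {1 - e})) ≤ P' := by
    rw [Ideal.mk_ker, Ideal.span_singleton_le_iff_mem]; exact h1e
  have hr : (P'.map (Ideal.Quotient.mk (Ideal.span {1 - e}))).IsPrime :=
    Ideal.map_isPrime_of_surjective Ideal.Quotient.mk_surjective hker
  have hcomap : (P'.map (Ideal.Quotient.mk (Ideal.span {1 - e}))).comap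
      (Ideal.Quotient.mk (Ideal.span {1 - e})) = P' := by
    rw [Ideal.comap_map_of_surjective _ Ideal.Quotient.mk_surjective, ← RingHom.ker_eq_comap_bot,
      sup_eq_left]
    exact hker
  have halg : algebraMap R (T ⧸ Ideal.span {1 - e}) =
      (Ideal.Quotient.mk (Ideal.span {1 - e})).comp (algebraMap R T) := rfl
  refine ⟨P'.map (Ideal.Quotient.mk (Ideal.span {1 - e})), ⟨hr, ?_⟩, ?_⟩
  · rw [halg, ← Ideal.comap_comap, hcomap]
    exact (P'.over_def Q).symm
  · rintro r' ⟨hr', hr'Q⟩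
    have h1 : (r'.comap (Ideal.Quotient.mk (Ideal.span {1 - e}))).IsPrime := Ideal.comap_isPrime _ _
    have h2 : (r'.comap (Ideal.Quotient.mk (Ideal.span {1 - e}))).LiesOver Q := by
      constructor
      rw [Ideal.under, Ideal.comap_comap, ← halg]
      exact hr'Q.symm
    have h3 : 1 - e ∈ r'.comap (Ideal.Quotient.mk (Ideal.span {1 - e})) := by
      rw [Ideal.mem_comap, Ideal.Quotient.eq_zero_iff_mem.2 (Ideal.mem_span_singleton_self _)]
      exact r'.zero_mem
    have h4 : e ∉ r'.comap (Ideal.Quotient.mk (Ideal.span {1 - e})) := by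
      intro h
      apply Ideal.IsPrime.ne_top h1
      rw [Ideal.eq_top_iff_one]
      have := Ideal.add_mem _ h h3
      simpa using this
    have h5 := H _ h1 h2 h4
    rw [← Ideal.map_comap_of_surjective _ Ideal.Quotient.mk_surjective r', h5]

theorem not_prime_quotient_of_forall_mem {R T : Type*} [CommRing R] [CommRing T] [Algebra R T]
    (Q : Ideal R) (e : T)
    (H : ∀ P'' : Ideal T, P''.IsPrime → P''.LiesOver Q → e ∈ P'')
    (r : Ideal (T ⧸ Ideal.span {1 - e})) [r.IsPrime]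
    (hr : r.comap (algebraMap R (T ⧸ Ideal.span {1 - e})) = Q) : False := by
  have halg : algebraMap R (T ⧸ Ideal.span {1 - e}) =
      (Ideal.Quotient.mk (Ideal.span {1 - e})).comp (algebraMap R T) := rfl
  have h1 : (r.comap (Ideal.Quotient.mk (Ideal.span {1 - e}))).IsPrime := Ideal.comap_isPrime _ _
  have h2 : (r.comap (Ideal.Quotient.mk (Ideal.span {1 - e}))).LiesOver Q := by
    constructor
    rw [Ideal.under, Ideal.comap_comap, ← halg]
    exact hr.symm
  have h3 : 1 - e ∈ r.comap (Ideal.Quotient.mk (Ideal.span {1 - e})) := by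
    rw [Ideal.mem_comap, Ideal.Quotient.eq_zero_iff_mem.2 (Ideal.mem_span_singleton_self _)]
    exact r.zero_mem
  have h4 := H _ h1 h2
  apply Ideal.IsPrime.ne_top h1
  rw [Ideal.eq_top_iff_one]
  have := Ideal.add_mem _ h4 h3
  simpa using this

theorem closure_range_algebraMap_residueField_eq_top {R R' : Type u} [CommRing R] [CommRing R']
    [Algebra R R'] (p : Ideal R) [p.IsPrime] (P : Ideal R') [P.IsPrime] [P.LiesOver p]
    (H : Function.Bijective (Ideal.ResidueField.mapₐ p P (Algebra.ofId _ _) (P.over_def p))) :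
    Subfield.closure (Set.range (algebraMap R P.ResidueField)) = ⊤ := by
  rw [eq_top_iff]
  intro y _
  obtain ⟨x, rfl⟩ := H.2 y
  obtain ⟨a, b, -, rfl⟩ := IsFractionRing.div_surjective (A := R ⧸ p) x
  obtain ⟨a, rfl⟩ := Ideal.Quotient.mk_surjective a
  obtain ⟨b, rfl⟩ := Ideal.Quotient.mk_surjective b
  rw [map_div₀]
  have h : ∀ r : R, (Ideal.ResidueField.mapₐ p P (Algebra.ofId _ _) (P.over_def p))
      (algebraMap (R ⧸ p) p.ResidueField (Ideal.Quotient.mk p r)) = algebraMap R P.ResidueField r := by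
    intro r
    have : algebraMap (R ⧸ p) p.ResidueField (Ideal.Quotient.mk p r) = algebraMap R p.ResidueField r := by
      rw [← Ideal.Quotient.algebraMap_eq, ← IsScalarTower.algebraMap_apply]
    rw [this, AlgHom.commutes]
  rw [h, h]
  exact Subfield.div_mem _ (Subfield.subset_closure ⟨a, rfl⟩) (Subfield.subset_closure ⟨b, rfl⟩)

theorem comap_algebraMap_prod_left {R X Y : Type*} [CommRing R] [CommRing X] [CommRing Y]
    [Algebra R X] [Algebra R Y] (p₁ : Ideal X) :
    (Ideal.prod p₁ (⊤ : Ideal Y)).comap (algebraMap R (X × Y)) = p₁.comap (algebraMap R X) := by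
  ext r
  simp [Ideal.mem_prod]

theorem comap_algebraMap_prod_right {R X Y : Type*} [CommRing R] [CommRing X] [CommRing Y]
    [Algebra R X] [Algebra R Y] (p₂ : Ideal Y) :
    (Ideal.prod (⊤ : Ideal X) p₂).comap (algebraMap R (X × Y)) = p₂.comap (algebraMap R Y) := by
  ext r
  simp [Ideal.mem_prod]

theorem quasiFiniteAt_of_prod_right {R X Y : Type*} [CommRing R] [CommRing X] [CommRing Y]
    [Algebra R X] [Algebra R Y] (p₂ : Ideal Y) [p₂.IsPrime]
    [hp : (Ideal.prod (⊤ : Ideal X) p₂).IsPrime]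
    [Algebra.QuasiFiniteAt R (Ideal.prod (⊤ : Ideal X) p₂)] : Algebra.QuasiFiniteAt R p₂ := by
  refine Algebra.QuasiFiniteAt.of_surjectiveOnStalks (Ideal.prod (⊤ : Ideal X) p₂)
    (AlgHom.snd R X Y) (RingHom.surjectiveOnStalks_of_surjective Prod.snd_surjective) p₂ ?_
  ext ⟨x, y⟩
  simp [Ideal.mem_prod]

theorem stage2 (R S : Type u) [CommRing R] [CommRing S] [Algebra R S]
    [Algebra.FiniteType R S] (p : Ideal R) [p.IsPrime] :
    ∃ (R' : Type u) (_ : CommRing R') (_ : Algebra R R') (_ : Algebra.Etale R R') (p' : Ideal R')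
      (_ : p'.IsPrime) (_ : p'.LiesOver p) (n : ℕ) (A : Fin n → Type u) (_ : ∀ i, CommRing (A i))
      (_ : ∀ i, Algebra R' (A i)) (B : Type u) (_ : CommRing B) (_ : Algebra R' B),
      Function.Bijective (Ideal.ResidueField.mapₐ p p' (Algebra.ofId _ _) (p'.over_def p)) ∧
      Nonempty ((R' ⊗[R] S) ≃ₐ[R'] ((∀ i, A i) × B)) ∧
        (∀ i, Module.Finite R' (A i) ∧
          ∃! r : Ideal (A i), r.IsPrime ∧ r.comap (algebraMap R' (A i)) = p') ∧
        ∀ (q : Ideal B) [q.IsPrime], q.comap (algebraMap R' B) = p' →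
          ¬ Algebra.QuasiFiniteAt R' q := by
  obtain ⟨R', _, _, _, P, _, _, A₀, B₀, _, _, _, _, hpP, hA₀, hB₀, ⟨ι⟩, hnq⟩ :=
    stage1 _ R S p rfl
  obtain ⟨R'', _, _, _, Q, _, _, n, e, he, P', _, _, hPQ, heP', H⟩ :=
    Algebra.exists_etale_completeOrthogonalIdempotents_forall_liesOver_eq (R := R') (S := A₀) P
  let : Algebra R R'' := .compHom _ (algebraMap R R')
  have : IsScalarTower R R' R'' := .of_algebraMap_eq' rfl
  have : Algebra.Etale R R'' := .comp R R' R''
  have : Q.LiesOver p := .trans _ P _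
  have hpQ : Function.Bijective
      (Ideal.ResidueField.mapₐ p Q (Algebra.ofId _ _) (Q.over_def p)) := by
    convert hPQ.comp hpP
    rw [← @AlgHom.coe_restrictScalars' R R', ← AlgHom.coe_comp]; congr 1; ext
  let c1 : R'' ⊗[R] S ≃ₐ[R''] R'' ⊗[R'] (R' ⊗[R] S) :=
    (Algebra.TensorProduct.cancelBaseChange R R' R'' R'' S).symm
  let c2 : R'' ⊗[R'] (R' ⊗[R] S) ≃ₐ[R''] R'' ⊗[R'] (A₀ × B₀) :=
    Algebra.TensorProduct.congr AlgEquiv.refl ι
  let c3 := Algebra.TensorProduct.prodRight R' R'' R'' A₀ B₀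
  let c4 := AlgEquiv.prodCongr (piLastEquiv R'' e he)
    (AlgEquiv.refl (R := R'') (A₁ := R'' ⊗[R'] B₀))
  let c5 := prodAssocAlg R'' (∀ i : Fin n, (R'' ⊗[R'] A₀) ⧸ Ideal.span {1 - e i.castSucc})
    ((R'' ⊗[R'] A₀) ⧸ Ideal.span {1 - e (Fin.last n)}) (R'' ⊗[R'] B₀)
  refine ⟨R'', inferInstance, inferInstance, inferInstance, Q, inferInstance, inferInstance, n,
    fun i => (R'' ⊗[R'] A₀) ⧸ Ideal.span {1 - e i.castSucc}, fun i => inferInstance,
    fun i => inferInstance,
    ((R'' ⊗[R'] A₀) ⧸ Ideal.span {1 - e (Fin.last n)}) × (R'' ⊗[R'] B₀), inferInstance,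
    inferInstance, hpQ, ⟨(((c1.trans c2).trans c3).trans c4).trans c5⟩, ?_, ?_⟩
  · intro i
    refine ⟨inferInstance, ?_⟩
    exact existsUnique_prime_quotient Q (e i.castSucc) (he.idem _) (P' i) (heP' i)
      (fun P'' h1 h2 h3 => (H P'' h1 h2).2 i h3)
  · intro q hq hqQ hqf
    rcases (Ideal.ideal_prod_prime q).1 hq with ⟨p₁, hp₁, rfl⟩ | ⟨p₂, hp₂, rfl⟩
    · rw [comap_algebraMap_prod_left] at hqQ
      exact not_prime_quotient_of_forall_mem Q (e (Fin.last n))
        (fun P'' h1 h2 => (H P'' h1 h2).1) p₁ hqQ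
    · rw [comap_algebraMap_prod_right] at hqQ
      have hqf₂ : Algebra.QuasiFiniteAt R'' p₂ := quasiFiniteAt_of_prod_right
        (X := (R'' ⊗[R'] A₀) ⧸ Ideal.span {1 - e (Fin.last n)}) p₂
      have hover : p₂.LiesOver Q := ⟨hqQ.symm⟩
      have hpr : (p₂.comap (Algebra.TensorProduct.includeRight : B₀ →ₐ[R'] R'' ⊗[R'] B₀).toRingHom).IsPrime :=
        Ideal.comap_isPrime _ _
      exact hnq _ (liesOver_comap_includeRight P Q p₂)
        (quasiFiniteAt_comap_includeRight hPQ p₂ _ rfl)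

end Groth.Agent.Lib.Helper9.EtaleSplit
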