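import Mathlib

/-!
# Lifting a finite extension along an isomorphism of truncations (Stacks 0BNR-style)

`A' ⊆ A` finite, `f ∈ A'` a nonzerodivisor on `A` with `A'_f = A_f`.  Then `f^t A ⊆ A'` for some `t`,
and for `n ≥ 2t+1`, any `φ' : A'/f^n ≃ B'/g^n` with `f ↦ g` (`g` a nonzerodivisor) gives a finite
extension `B' ⊆ B ⊆ B'_g` and `A/fA ≃ B/gB`.
Everything is done at the level of the relation
`Rel a b :⇔ ∃ x y, x = f^t a, y = g^t b, φ'(x̄) = ȳ`.
-/

set_option autoImplicit false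
universe u

namespace Groth.Agent.Lib.Helper9.FiniteExtLift

section Abstract

variable {A B : Type*} [CommRing A] [CommRing B]

theorem exists_quotEquiv_of_rel (𝔞 : Ideal A) (𝔟 : Ideal B) (R : A → B → Prop)
    (htot : ∀ a, ∃ b, R a b) (hsurj : ∀ b, ∃ a, R a b)
    (hsub : ∀ a b a' b', R a b → R a' b' → R (a - a') (b - b'))
    (hone : R 1 1)
    (hmul : ∀ a b a' b', R a b → R a' b' → ∃ b'', R (a * a') b'' ∧ b'' - b * b' ∈ 𝔟)
    (hker : ∀ a b, R a b → (a ∈ 𝔞 ↔ b ∈ 𝔟)) :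
    ∃ φ : (A ⧸ 𝔞) ≃+* (B ⧸ 𝔟), ∀ a b, R a b →
      φ (Ideal.Quotient.mk 𝔞 a) = Ideal.Quotient.mk 𝔟 b := by
  classical
  choose ch hch using htot
  have hzero : R 0 0 := by simpa using hsub 1 1 1 1 hone hone
  have hadd : ∀ a b a' b', R a b → R a' b' → R (a + a') (b + b') := by
    intro a b a' b' h h'
    have h1 := hsub 0 0 a' b' hzero h'
    have h2 := hsub a b _ _ h h1
    simpa using h2
  have key : ∀ a b, R a b → Ideal.Quotient.mk 𝔟 (ch a) = Ideal.Quotient.mk 𝔟 b := by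
    intro a b h
    have h1 := hsub a (ch a) a b (hch a) h
    rw [sub_self] at h1
    rw [Ideal.Quotient.eq]
    exact (hker _ _ h1).1 (zero_mem _)
  let θ : A →+* B ⧸ 𝔟 :=
    { toFun := fun a => Ideal.Quotient.mk 𝔟 (ch a)
      map_one' := by simpa using key 1 1 hone
      map_mul' := by
        intro a a'
        obtain ⟨b'', h1, h2⟩ := hmul a (ch a) a' (ch a') (hch a) (hch a')
        rw [key _ _ h1, ← map_mul, Ideal.Quotient.eq]; exact h2
      map_zero' := by simpa using key 0 0 hzero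
      map_add' := by
        intro a a'
        rw [key _ _ (hadd _ _ _ _ (hch a) (hch a')), map_add] }
  have hθ : ∀ a b, R a b → θ a = Ideal.Quotient.mk 𝔟 b := key
  have hθsurj : Function.Surjective θ := by
    intro β
    obtain ⟨b, rfl⟩ := Ideal.Quotient.mk_surjective β
    obtain ⟨a, ha⟩ := hsurj b
    exact ⟨a, hθ a b ha⟩
  have hkerθ : RingHom.ker θ = 𝔞 := by
    ext a
    rw [RingHom.mem_ker]
    change Ideal.Quotient.mk 𝔟 (ch a) = 0 ↔ _
    rw [Ideal.Quotient.eq_zero_iff_mem]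
    exact (hker a (ch a) (hch a)).symm
  refine ⟨(Ideal.quotEquivOfEq hkerθ.symm).trans (RingHom.quotientKerEquivOfSurjective hθsurj), ?_⟩
  intro a b h
  rw [RingEquiv.trans_apply, Ideal.quotEquivOfEq_mk]
  rw [RingHom.quotientKerEquivOfSurjective_apply_mk]
  exact hθ a b h

end Abstract


section Main

open Ideal

/-- The data of the lifting problem. -/
structure Data (A' A B' : Type u) [CommRing A'] [CommRing A] [Algebra A' A] [CommRing B'] where
  f : A'
  g : B'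
  t : ℕ
  n : ℕ
  φ' : (A' ⧸ Ideal.span {f ^ n}) ≃+* (B' ⧸ Ideal.span {g ^ n})
  hinj : Function.Injective (algebraMap A' A)
  hf : algebraMap A' A f ∈ nonZeroDivisors A
  ht : ∀ a : A, ∃ x : A', algebraMap A' A x = algebraMap A' A f ^ t * a
  hg : g ∈ nonZeroDivisors B'
  hφ : φ' (Ideal.Quotient.mk _ f) = Ideal.Quotient.mk _ g
  hn : 2 * t + 1 ≤ n

variable {A' A B' : Type u} [CommRing A'] [CommRing A] [Algebra A' A] [CommRing B']
variable (D : Data A' A B')

namespace Data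

/-- the ambient localization -/
abbrev L : Type u := Localization.Away D.g

/-- image of `g` in the localization -/
noncomputable abbrev gL : D.L := algebraMap B' D.L D.g

/-- image of `f` in `A` -/
abbrev fA : A := algebraMap A' A D.f

theorem isUnit_gL : IsUnit D.gL := IsLocalization.Away.algebraMap_isUnit D.g

theorem algebraMap_L_injective : Function.Injective (algebraMap B' D.L) :=
  IsLocalization.injective D.L (Submonoid.powers_le.mpr D.hg)

/-- The basic relation. -/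
def Rel (a : A) (b : D.L) : Prop :=
  ∃ (x : A') (y : B'), algebraMap A' A x = D.fA ^ D.t * a ∧
    algebraMap B' D.L y = D.gL ^ D.t * b ∧
    D.φ' (Ideal.Quotient.mk _ x) = Ideal.Quotient.mk _ y

theorem rel_sub {a a' : A} {b b' : D.L} (h : D.Rel a b) (h' : D.Rel a' b') :
    D.Rel (a - a') (b - b') := by
  obtain ⟨x, y, h1, h2, h3⟩ := h
  obtain ⟨x', y', h1', h2', h3'⟩ := h'
  refine ⟨x - x', y - y', ?_, ?_, ?_⟩
  · rw [map_sub, h1, h1', mul_sub]
  · rw [map_sub, h2, h2', mul_sub]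
  · rw [map_sub, map_sub, map_sub, h3, h3']

theorem rel_one : D.Rel 1 1 := by
  refine ⟨D.f ^ D.t, D.g ^ D.t, ?_, ?_, ?_⟩
  · rw [map_pow, mul_one]
  · rw [map_pow, mul_one]
  · rw [map_pow, map_pow, D.hφ, map_pow]

theorem rel_zero : D.Rel 0 0 := by simpa using D.rel_sub D.rel_one D.rel_one

theorem rel_add {a a' : A} {b b' : D.L} (h : D.Rel a b) (h' : D.Rel a' b') :
    D.Rel (a + a') (b + b') := by
  have h1 := D.rel_sub D.rel_zero h'
  have h2 := D.rel_sub h h1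
  simpa using h2

theorem rel_smul {a : A} {b : D.L} {c : A'} {d : B'}
    (hcd : D.φ' (Ideal.Quotient.mk _ c) = Ideal.Quotient.mk _ d) (h : D.Rel a b) :
    D.Rel (algebraMap A' A c * a) (algebraMap B' D.L d * b) := by
  obtain ⟨x, y, h1, h2, h3⟩ := h
  refine ⟨c * x, d * y, ?_, ?_, ?_⟩
  · rw [map_mul, h1]; ring
  · rw [map_mul, h2]; ring
  · rw [map_mul, map_mul, map_mul, h3, hcd]

theorem exists_lift (c : A') : ∃ d : B', D.φ' (Ideal.Quotient.mk _ c) = Ideal.Quotient.mk _ d := by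
  obtain ⟨d, hd⟩ := Ideal.Quotient.mk_surjective (D.φ' (Ideal.Quotient.mk _ c))
  exact ⟨d, hd.symm⟩

theorem exists_lift' (d : B') : ∃ c : A', D.φ' (Ideal.Quotient.mk _ c) = Ideal.Quotient.mk _ d := by
  obtain ⟨c, hc⟩ := Ideal.Quotient.mk_surjective (D.φ'.symm (Ideal.Quotient.mk _ d))
  refine ⟨c, ?_⟩
  rw [hc, RingEquiv.apply_symm_apply]

theorem rel_total (a : A) : ∃ b, D.Rel a b := by
  obtain ⟨x, hx⟩ := D.ht a
  obtain ⟨y, hy⟩ := D.exists_lift x
  obtain ⟨u, hu⟩ := D.isUnit_gL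
  refine ⟨((u⁻¹ : D.Lˣ) : D.L) ^ D.t * algebraMap B' D.L y, x, y, hx, ?_, hy⟩
  rw [← mul_assoc, ← mul_pow, ← hu, Units.mul_inv, one_pow, one_mul]

theorem rel_algebraMap (d : B') : ∃ a, D.Rel a (algebraMap B' D.L d) := by
  obtain ⟨c, hc⟩ := D.exists_lift' d
  refine ⟨algebraMap A' A c, ?_⟩
  simpa using D.rel_smul hc D.rel_one

theorem rel_algebraMap' {c : A'} {d : B'}
    (hcd : D.φ' (Ideal.Quotient.mk _ c) = Ideal.Quotient.mk _ d) :
    D.Rel (algebraMap A' A c) (algebraMap B' D.L d) := by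
  simpa using D.rel_smul hcd D.rel_one

theorem t_le_n : D.t ≤ D.n := by have := D.hn; omega

/-- `Rel 0 b` forces `b = g^(n-t) c` with `c ∈ B'`. -/
theorem eq_of_rel_zero_left {b : D.L} (h : D.Rel 0 b) :
    ∃ c : B', b = algebraMap B' D.L (D.g ^ (D.n - D.t) * c) := by
  obtain ⟨x, y, h1, h2, h3⟩ := h
  rw [mul_zero] at h1
  have hx : x = 0 := D.hinj (by rw [h1, map_zero])
  rw [hx, map_zero, map_zero] at h3
  have hy : y ∈ Ideal.span {D.g ^ D.n} := Ideal.Quotient.eq_zero_iff_mem.mp h3.symm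
  obtain ⟨c, hc⟩ := Ideal.mem_span_singleton'.mp hy
  refine ⟨c, ?_⟩
  have hu : IsUnit (D.gL ^ D.t) := D.isUnit_gL.pow _
  apply hu.mul_left_cancel
  rw [← h2, ← hc, map_mul, map_mul, map_pow, map_pow, ← mul_assoc, ← pow_add,
    Nat.add_sub_cancel' D.t_le_n]
  ring

/-- `Rel a 0` forces `a = f^(n-t) c` with `c ∈ A'`. -/
theorem eq_of_rel_zero_right {a : A} (h : D.Rel a 0) :
    ∃ c : A', a = algebraMap A' A (D.f ^ (D.n - D.t) * c) := by
  obtain ⟨x, y, h1, h2, h3⟩ := h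
  rw [mul_zero] at h2
  have hy : y = 0 := D.algebraMap_L_injective (by rw [h2, map_zero])
  rw [hy, map_zero] at h3
  have h3' : Ideal.Quotient.mk (Ideal.span {D.f ^ D.n}) x = 0 := by
    apply D.φ'.injective; rw [h3, map_zero]
  have hx : x ∈ Ideal.span {D.f ^ D.n} := Ideal.Quotient.eq_zero_iff_mem.mp h3'
  obtain ⟨c, hc⟩ := Ideal.mem_span_singleton'.mp hx
  refine ⟨c, ?_⟩
  have hnz : D.fA ^ D.t ∈ nonZeroDivisors A := pow_mem D.hf _
  apply (mul_cancel_left_mem_nonZeroDivisors hnz).mp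
  rw [← h1, ← hc, map_mul, map_mul, map_pow, map_pow, ← mul_assoc, ← pow_add,
    Nat.add_sub_cancel' D.t_le_n]
  ring

/-- multiplicativity up to `g^(n-2t)`. -/
theorem rel_mul {a a' : A} {b b' : D.L} (h : D.Rel a b) (h' : D.Rel a' b') :
    ∃ b'' : D.L, D.Rel (a * a') b'' ∧
      ∃ c : B', b'' - b * b' = algebraMap B' D.L (D.g ^ (D.n - 2 * D.t) * c) := by
  obtain ⟨x, y, h1, h2, h3⟩ := h
  obtain ⟨x', y', h1', h2', h3'⟩ := h'
  obtain ⟨x'', hx''⟩ := D.ht (a * a')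
  obtain ⟨y'', hy''⟩ := D.exists_lift x''
  obtain ⟨u, hu⟩ := D.isUnit_gL
  have hb'' : algebraMap B' D.L y'' =
      D.gL ^ D.t * (((u⁻¹ : D.Lˣ) : D.L) ^ D.t * algebraMap B' D.L y'') := by
    rw [← mul_assoc, ← mul_pow, ← hu, Units.mul_inv, one_pow, one_mul]
  refine ⟨((u⁻¹ : D.Lˣ) : D.L) ^ D.t * algebraMap B' D.L y'', ⟨x'', y'', hx'', hb'', hy''⟩, ?_⟩
  have hxx : D.f ^ D.t * x'' = x * x' := by
    apply D.hinj
    rw [map_mul, map_mul, map_pow, hx'', h1, h1']; ring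
  have hyy : Ideal.Quotient.mk (Ideal.span {D.g ^ D.n}) (D.g ^ D.t * y'' - y * y') = 0 := by
    have e : Ideal.Quotient.mk (Ideal.span {D.g ^ D.n}) (D.g ^ D.t * y'') =
        Ideal.Quotient.mk (Ideal.span {D.g ^ D.n}) (y * y') := by
      calc Ideal.Quotient.mk (Ideal.span {D.g ^ D.n}) (D.g ^ D.t * y'')
          = D.φ' (Ideal.Quotient.mk _ (D.f ^ D.t * x'')) := by
            rw [map_mul, map_pow, map_mul, map_pow, map_mul, map_pow, D.hφ, hy'']
        _ = D.φ' (Ideal.Quotient.mk _ (x * x')) := by rw [hxx]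
        _ = Ideal.Quotient.mk (Ideal.span {D.g ^ D.n}) (y * y') := by
            rw [map_mul, map_mul, map_mul, h3, h3']
    rw [map_sub, e, sub_self]
  obtain ⟨c, hc⟩ := Ideal.mem_span_singleton'.mp (Ideal.Quotient.eq_zero_iff_mem.mp hyy)
  refine ⟨c, ?_⟩
  have hu2 : IsUnit (D.gL ^ (2 * D.t)) := D.isUnit_gL.pow _
  apply hu2.mul_left_cancel
  have h2t : 2 * D.t ≤ D.n := by have := D.hn; omega
  have e1 : D.gL ^ (2 * D.t) * algebraMap B' D.L (D.g ^ (D.n - 2 * D.t) * c) =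
      algebraMap B' D.L (c * D.g ^ D.n) := by
    rw [map_mul, map_mul, map_pow, map_pow, ← mul_assoc, ← pow_add, Nat.add_sub_cancel' h2t]
    ring
  rw [e1, hc, map_sub, map_mul, map_mul, map_pow, h2, h2']
  generalize ((u⁻¹ : D.Lˣ) : D.L) ^ D.t * algebraMap B' D.L y'' = z at hb'' ⊢
  rw [hb'']
  ring

/-- The subalgebra `B ⊆ B'_g`. -/
def Bsub : Subalgebra B' D.L where
  carrier := {b | ∃ a, D.Rel a b}
  mul_mem' := by
    rintro b b' ⟨a, h⟩ ⟨a', h'⟩
    obtain ⟨b'', hb'', c, hc⟩ := D.rel_mul h h'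
    obtain ⟨a₀, ha₀⟩ := D.rel_algebraMap (D.g ^ (D.n - 2 * D.t) * c)
    refine ⟨a * a' - a₀, ?_⟩
    have := D.rel_sub hb'' ha₀
    rwa [← hc, sub_sub_cancel] at this
  add_mem' := by
    rintro b b' ⟨a, h⟩ ⟨a', h'⟩
    exact ⟨a + a', D.rel_add h h'⟩
  algebraMap_mem' := fun d => D.rel_algebraMap d

theorem mem_Bsub {b : D.L} : b ∈ D.Bsub ↔ ∃ a, D.Rel a b := Iff.rfl

theorem algebraMap_Bsub_injective : Function.Injective (algebraMap B' D.Bsub) := by
  intro c d h
  apply D.algebraMap_L_injective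
  exact congrArg Subtype.val h

/-- kernel correspondence, forward direction -/
theorem rel_mem_of_mem {a : A} {b : D.L} (h : D.Rel a b) (a₁ : A) (ha : a₁ * D.fA = a) :
    ∃ b₁ ∈ D.Bsub, b₁ * D.gL = b := by
  obtain ⟨b₁₀, hb₁₀⟩ := D.rel_total a₁
  have h1 : D.Rel (algebraMap A' A D.f * a₁) (algebraMap B' D.L D.g * b₁₀) := D.rel_smul D.hφ hb₁₀
  have h2 := D.rel_sub h h1
  rw [← ha, mul_comm a₁, sub_self] at h2
  obtain ⟨c, hc⟩ := D.eq_of_rel_zero_left h2
  obtain ⟨k, hk⟩ : ∃ k, D.n - D.t = k + 1 := ⟨D.n - D.t - 1, by have := D.hn; omega⟩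
  rw [hk] at hc
  refine ⟨b₁₀ + algebraMap B' D.L (D.g ^ k * c), ?_, ?_⟩
  · exact D.Bsub.add_mem ⟨a₁, hb₁₀⟩ (D.Bsub.algebraMap_mem _)
  · rw [sub_eq_iff_eq_add] at hc
    rw [hc, pow_succ, map_mul, map_mul, map_mul]
    ring

/-- kernel correspondence, backward direction -/
theorem rel_mem_of_mem' {a : A} {b : D.L} (h : D.Rel a b) (b₁ : D.L) (hb₁ : b₁ ∈ D.Bsub)
    (hb : b₁ * D.gL = b) : ∃ a₁ : A, a₁ * D.fA = a := by
  obtain ⟨a₁₀, ha₁₀⟩ := hb₁
  have h1 : D.Rel (algebraMap A' A D.f * a₁₀) (algebraMap B' D.L D.g * b₁) := D.rel_smul D.hφ ha₁₀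
  have h2 := D.rel_sub h h1
  rw [← hb, mul_comm b₁, sub_self] at h2
  obtain ⟨c, hc⟩ := D.eq_of_rel_zero_right h2
  obtain ⟨k, hk⟩ : ∃ k, D.n - D.t = k + 1 := ⟨D.n - D.t - 1, by have := D.hn; omega⟩
  rw [hk] at hc
  refine ⟨a₁₀ + algebraMap A' A (D.f ^ k * c), ?_⟩
  rw [sub_eq_iff_eq_add] at hc
  rw [hc, pow_succ, map_mul, map_mul, map_mul]
  ring

theorem finite_Bsub [Module.Finite A' A] : Module.Finite B' D.Bsub := by
  classical
  obtain ⟨s, hs⟩ := (Module.Finite.fg_top : (⊤ : Submodule A' A).FG)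
  -- choose partners
  have hch : ∀ a : A, ∃ b : D.Bsub, D.Rel a b.1 := fun a => by
    obtain ⟨b, hb⟩ := D.rel_total a
    exact ⟨⟨b, a, hb⟩, hb⟩
  choose ch hch using hch
  let T : Finset D.Bsub := insert 1 (s.image ch)
  refine ⟨⟨T, ?_⟩⟩
  have hspan : ∀ a ∈ Submodule.span A' (s : Set A),
      ∃ b ∈ Submodule.span B' (T : Set D.Bsub), D.Rel a b.1 := by
    intro a ha
    induction ha using Submodule.span_induction with
    | mem a ha =>
      refine ⟨ch a, Submodule.subset_span ?_, hch a⟩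
      simp only [T, Finset.coe_insert, Finset.coe_image]
      exact Set.mem_insert_of_mem _ ⟨a, ha, rfl⟩
    | zero => exact ⟨0, zero_mem _, D.rel_zero⟩
    | add a a' _ _ iha iha' =>
      obtain ⟨b, hb, hr⟩ := iha
      obtain ⟨b', hb', hr'⟩ := iha'
      exact ⟨b + b', add_mem hb hb', D.rel_add hr hr'⟩
    | smul c a _ iha =>
      obtain ⟨b, hb, hr⟩ := iha
      obtain ⟨d, hd⟩ := D.exists_lift c
      refine ⟨d • b, Submodule.smul_mem _ _ hb, ?_⟩
      have := D.rel_smul hd hr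
      rw [Algebra.smul_def]
      simpa [Algebra.smul_def] using this
  rw [eq_top_iff]
  rintro ⟨b, a, hab⟩ -
  obtain ⟨b₁, hb₁, hr⟩ := hspan a (hs ▸ Submodule.mem_top)
  have h0 := D.rel_sub hab hr
  rw [sub_self] at h0
  obtain ⟨c, hc⟩ := D.eq_of_rel_zero_left h0
  have : (⟨b, a, hab⟩ : D.Bsub) = b₁ + (D.g ^ (D.n - D.t) * c) • (1 : D.Bsub) := by
    apply Subtype.ext
    rw [sub_eq_iff_eq_add] at hc
    simp only [Subalgebra.coe_add, Subalgebra.coe_one, Algebra.smul_def,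
      mul_one, Subalgebra.coe_algebraMap]
    rw [hc, add_comm]
  rw [this]
  refine add_mem hb₁ (Submodule.smul_mem _ _ (Submodule.subset_span ?_))
  simp [T]

/-- The main output: the isomorphism of quotients. -/
theorem exists_equiv :
    ∃ φ : (A ⧸ Ideal.span {algebraMap A' A D.f}) ≃+*
        (D.Bsub ⧸ Ideal.span {algebraMap B' D.Bsub D.g}),
      ∀ (a' : A') (b' : B'),
        D.φ' (Ideal.Quotient.mk _ a') = Ideal.Quotient.mk _ b' →
        φ (Ideal.Quotient.mk _ (algebraMap A' A a')) =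
          Ideal.Quotient.mk _ (algebraMap B' D.Bsub b') := by
  obtain ⟨φ, hφ⟩ := exists_quotEquiv_of_rel (Ideal.span {algebraMap A' A D.f})
    (Ideal.span {algebraMap B' D.Bsub D.g}) (fun a (b : D.Bsub) => D.Rel a b.1)
    (fun a => by
      obtain ⟨b, hb⟩ := D.rel_total a
      exact ⟨⟨b, a, hb⟩, hb⟩)
    (fun b => b.2)
    (fun a b a' b' h h' => D.rel_sub h h')
    D.rel_one
    (fun a b a' b' h h' => by
      obtain ⟨b'', hb'', c, hc⟩ := D.rel_mul h h'
      refine ⟨⟨b'', _, hb''⟩, hb'', ?_⟩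
      rw [Ideal.mem_span_singleton']
      obtain ⟨k, hk⟩ : ∃ k, D.n - 2 * D.t = k + 1 :=
        ⟨D.n - 2 * D.t - 1, by have := D.hn; omega⟩
      rw [hk] at hc
      refine ⟨algebraMap B' D.Bsub (D.g ^ k * c), ?_⟩
      apply Subtype.ext
      change algebraMap B' D.L (D.g ^ k * c) * algebraMap B' D.L D.g =
        b'' - b.1 * b'.1
      rw [hc, pow_succ, map_mul, map_mul, map_mul]
      ring)
    (fun a b h => by
      rw [Ideal.mem_span_singleton', Ideal.mem_span_singleton']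
      constructor
      · rintro ⟨a₁, ha₁⟩
        obtain ⟨b₁, hb₁, hb⟩ := D.rel_mem_of_mem h a₁ ha₁
        exact ⟨⟨b₁, hb₁⟩, Subtype.ext hb⟩
      · rintro ⟨b₁, hb₁⟩
        exact D.rel_mem_of_mem' h b₁.1 b₁.2 (congrArg Subtype.val hb₁))
  refine ⟨φ, fun a' b' h => hφ _ _ ?_⟩
  exact D.rel_algebraMap' h

end Data

end Main

section Top

variable {A' A : Type u} [CommRing A'] [CommRing A] [Algebra A' A]

/-- From `A'_f = A_f` and finiteness, a uniform exponent `t` with `f^t A ⊆ A'`. -/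
theorem exists_pow_mul_mem [Module.Finite A' A] (f : A')
    (hf : algebraMap A' A f ∈ nonZeroDivisors A)
    (hloc : Function.Surjective (IsLocalization.Away.map (Localization.Away f)
      (Localization.Away (algebraMap A' A f)) (algebraMap A' A) f)) :
    ∃ t : ℕ, ∀ a : A, ∃ x : A', algebraMap A' A x = algebraMap A' A f ^ t * a := by
  classical
  -- pointwise
  have hpt : ∀ a : A, ∃ (k : ℕ) (x : A'), algebraMap A' A x = algebraMap A' A f ^ k * a := by
    intro a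
    obtain ⟨z, hz⟩ := hloc (algebraMap A (Localization.Away (algebraMap A' A f)) a)
    obtain ⟨x, y, rfl⟩ := IsLocalization.exists_mk'_eq (Submonoid.powers f) z
    obtain ⟨fk, k, hk⟩ := y
    dsimp only at hk
    subst hk
    refine ⟨k, x, ?_⟩
    rw [IsLocalization.Away.map, IsLocalization.map_mk', IsLocalization.mk'_eq_iff_eq_mul] at hz
    have hinj : Function.Injective (algebraMap A (Localization.Away (algebraMap A' A f))) :=
      IsLocalization.injective _ (Submonoid.powers_le.mpr hf)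
    apply hinj
    rw [hz, map_mul, mul_comm]
    simp
  -- the submodules
  obtain ⟨s, hs⟩ := (Module.Finite.fg_top : (⊤ : Submodule A' A).FG)
  have hfin : ∀ s : Finset A, ∃ t : ℕ, ∀ a ∈ s, ∃ x : A',
      algebraMap A' A x = algebraMap A' A f ^ t * a := by
    intro s
    induction s using Finset.induction_on with
    | empty => exact ⟨0, by simp⟩
    | insert a s _ ih =>
      obtain ⟨t, ht⟩ := ih
      obtain ⟨k, x, hx⟩ := hpt a
      refine ⟨t + k, ?_⟩
      intro b hb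
      rcases Finset.mem_insert.mp hb with rfl | hb
      · exact ⟨f ^ t * x, by rw [map_mul, map_pow, hx, pow_add]; ring⟩
      · obtain ⟨y, hy⟩ := ht b hb
        exact ⟨f ^ k * y, by rw [map_mul, map_pow, hy, pow_add]; ring⟩
  obtain ⟨t, ht⟩ := hfin s
  refine ⟨t, fun a => ?_⟩
  have ha : a ∈ Submodule.span A' (s : Set A) := hs ▸ Submodule.mem_top
  induction ha using Submodule.span_induction with
  | mem a ha => exact ht a ha
  | zero => exact ⟨0, by simp⟩
  | add a b _ _ iha ihb =>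
    obtain ⟨x, hx⟩ := iha
    obtain ⟨y, hy⟩ := ihb
    exact ⟨x + y, by rw [map_add, hx, hy, mul_add]⟩
  | smul c a _ iha =>
    obtain ⟨x, hx⟩ := iha
    exact ⟨c * x, by rw [map_mul, hx, Algebra.smul_def]; ring⟩

end Top

end Groth.Agent.Lib.Helper9.FiniteExtLift
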