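import Mathlib
import Groth.Prelude.Def_EtRam
import Groth.Agent.Lib.Helper9.DvrExt
import Groth.Agent.Lib.Helper9.DvrMono
import Groth.Agent.Lib.Helper9.DvrCompositum

/-!
# Multi-Kummer extensions of the fraction field of a DVR are tamely ramified

`A` a DVR with fraction field `K`, `L = K(t_1, …, t_r)` with `t_j ^ n_j = c_j`, `c_j ∈ A` a unit or a
uniformizer and `n_j` invertible in the residue field: `L` is tamely ramified over `A`.
-/

open Polynomial

universe u

set_option linter.unusedSectionVars false
set_option linter.style.haveILetI false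
set_option linter.overlappingInstances false

namespace Groth.Agent.Lib.Helper9.KummerTame

open Groth.Agent.Lib.Helper9.DvrExt Groth.Agent.Lib.Helper9.DvrMono
  Groth.Agent.Lib.Helper9.DvrCompositum

local notation "𝔪" => IsLocalRing.maximalIdeal
local notation "κ" => IsLocalRing.ResidueField

section

variable {A K L : Type u} [CommRing A] [IsDomain A] [IsDiscreteValuationRing A]
  [Field K] [Algebra A K] [IsFractionRing A K] [Field L] [Algebra K L] [FiniteDimensional K L]

/-- unramified implies tamely ramified. -/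
theorem tame_of_unramified
    (h : EtRam.IsUnramifiedExt A ((algebraMap K L).comp (algebraMap A K))) :
    EtRam.IsTamelyRamified A ((algebraMap K L).comp (algebraMap A K)) := by
  intro V hV hloc
  letI algAV : Algebra A V :=
    (RingHom.codRestrict ((algebraMap K L).comp (algebraMap A K)) V hV.1).toAlgebra
  obtain ⟨hwu, hsep⟩ := @h V hV hloc
  refine ⟨hsep, ?_⟩
  intro p hp hchar hdvd
  haveI : IsDiscreteValuationRing V :=
    isDiscreteValuationRing_of_dominates (A := A) (K := K) (L := L) V hV
  have hinj : Function.Injective (algebraMap A V) := injective_codRestrict_of_dominates V hV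
  have h1 : Ideal.ramificationIdx' (𝔪 A) (𝔪 V) = 1 := (isWeaklyUnramified_iff hinj).1 hwu
  rw [h1] at hdvd
  exact hp.one_lt.ne' (Nat.dvd_one.1 hdvd)

/-- `K(t)` with `t ^ n` a unit of `A`, `n` invertible in the residue field: tame (even unramified). -/
theorem tame_kummer_unit (t : L) (n : ℕ) (hn : 0 < n) (hnκ : ((n : ℕ) : κ A) ≠ 0) (c : A)
    (hc : IsUnit c) (ht : t ^ n = algebraMap K L (algebraMap A K c))
    (hgen : IntermediateField.adjoin K {t} = ⊤) :
    EtRam.IsTamelyRamified A ((algebraMap K L).comp (algebraMap A K)) := by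
  letI algAL : Algebra A L := ((algebraMap K L).comp (algebraMap A K)).toAlgebra
  haveI : IsScalarTower A K L := IsScalarTower.of_algebraMap_eq fun _ => rfl
  apply tame_of_unramified
  have hy : (X ^ n - C c : A[X]).eval₂ (algebraMap A L) t = 0 := by
    rw [eval₂_sub, eval₂_pow, eval₂_X, eval₂_C, ht]
    exact sub_self _
  have hsep : ((X ^ n - C c : A[X]).map (IsLocalRing.residue A)).Separable := by
    rw [Polynomial.map_sub, Polynomial.map_pow, Polynomial.map_X, Polynomial.map_C]
    refine Polynomial.separable_X_pow_sub_C _ hnκ ?_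
    intro h0
    exact ((IsLocalRing.residue_eq_zero_iff c).1 h0) hc
  exact unramified_of_separable (X ^ n - C c : A[X]) t hy (monic_X_pow_sub_C c hn.ne') hgen hsep

/-- `K(t)` with `t ^ n` a uniformizer of `A`, `n` invertible in the residue field: tame. -/
theorem tame_kummer_unif (t : L) (n : ℕ) (hn : 0 < n) (hnκ : ((n : ℕ) : κ A) ≠ 0) (π : A)
    (hπ : Irreducible π) (ht : t ^ n = algebraMap K L (algebraMap A K π))
    (hgen : IntermediateField.adjoin K {t} = ⊤) :
    EtRam.IsTamelyRamified A ((algebraMap K L).comp (algebraMap A K)) := by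
  classical
  -- degree bound
  have hroot : Polynomial.aeval t (X ^ n - C (algebraMap A K π) : K[X]) = 0 := by
    rw [map_sub, map_pow, aeval_X, aeval_C, ht, sub_self]
  have hne : (X ^ n - C (algebraMap A K π) : K[X]) ≠ 0 :=
    (monic_X_pow_sub_C _ hn.ne').ne_zero
  have hint : IsIntegral K t := IsIntegral.of_finite K t
  have hfin : Module.finrank K L ≤ n := by
    have h1 : Module.finrank K L = (minpoly K t).natDegree := by
      rw [← IntermediateField.adjoin.finrank hint, hgen, IntermediateField.finrank_top']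
    rw [h1]
    calc (minpoly K t).natDegree ≤ (X ^ n - C (algebraMap A K π) : K[X]).natDegree :=
          Polynomial.natDegree_le_of_dvd (minpoly.dvd K t hroot) hne
      _ = n := natDegree_X_pow_sub_C
  intro V hV hloc
  letI algAV : Algebra A V :=
    (RingHom.codRestrict ((algebraMap K L).comp (algebraMap A K)) V hV.1).toAlgebra
  haveI : IsDiscreteValuationRing V :=
    isDiscreteValuationRing_of_dominates (A := A) (K := K) (L := L) V hV
  have hinj : Function.Injective (algebraMap A V) := injective_codRestrict_of_dominates V hV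
  letI algAL : Algebra A L := ((algebraMap K L).comp (algebraMap A K)).toAlgebra
  haveI : IsScalarTower A K L := IsScalarTower.of_algebraMap_eq fun _ => rfl
  haveI : IsScalarTower A V L := IsScalarTower.of_algebraMap_eq fun _ => rfl
  have hπm : π ∈ 𝔪 A := (IsLocalRing.mem_maximalIdeal π).2 hπ.not_isUnit
  have hvπ : V.valuation (algebraMap K L (algebraMap A K π)) < 1 := hV.2 π hπm
  have hvt : V.valuation t < 1 := by
    by_contra hnot
    have h1 : 1 ≤ V.valuation t := not_lt.1 hnot
    have h2 : 1 ≤ V.valuation t ^ n := one_le_pow₀ h1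
    rw [← map_pow, ht] at h2
    exact (not_lt.2 h2) hvπ
  have htV : t ∈ V := (V.valuation_le_one_iff t).1 hvt.le
  set t' : V := ⟨t, htV⟩ with ht'def
  have ht'm : t' ∈ 𝔪 V := (ValuationSubring.valuation_lt_one_iff V t').2 hvt
  have ht'pow : t' ^ n = algebraMap A V π := Subtype.ext (by
    rw [SubmonoidClass.coe_pow]
    exact ht)
  have ht'0 : t' ≠ 0 := by
    intro h0
    rw [h0, zero_pow hn.ne'] at ht'pow
    have : algebraMap A V π = algebraMap A V 0 := by rw [← ht'pow, map_zero]
    exact hπ.ne_zero (hinj this)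
  obtain ⟨ϖ, hϖ⟩ := IsDiscreteValuationRing.exists_irreducible V
  obtain ⟨k, w, hw⟩ := IsDiscreteValuationRing.eq_unit_mul_pow_irreducible ht'0 hϖ
  have hk0 : k ≠ 0 := by
    rintro rfl
    rw [pow_zero, mul_one] at hw
    exact ((IsLocalRing.mem_maximalIdeal t').1 ht'm) (hw ▸ w.isUnit)
  have hmapπ : algebraMap A V π = ((w ^ n : Vˣ) : V) * ϖ ^ (k * n) := by
    rw [← ht'pow, hw, mul_pow, ← pow_mul, Units.val_pow_eq_pow_val]
  have he : Ideal.ramificationIdx' (𝔪 A) (𝔪 V) = k * n :=
    ramificationIdx'_eq_of_map_uniformizer hπ hϖ hmapπ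
  have hef := ramificationIdx'_mul_finrank_le (A := A) (B := V) (K := K) (L := L) hinj
  haveI hfinres : Module.Finite (κ A) (κ V) :=
    finite_residueField (A := A) (B := V) (K := K) (L := L) hinj
  have hfpos : 0 < Module.finrank (κ A) (κ V) := Module.finrank_pos
  rw [he] at hef
  have hle : k * n * Module.finrank (κ A) (κ V) ≤ n := hef.trans hfin
  have hk1 : k = 1 ∧ Module.finrank (κ A) (κ V) = 1 := by
    have h1 : k * Module.finrank (κ A) (κ V) * n ≤ 1 * n := by
      calc k * Module.finrank (κ A) (κ V) * n = k * n * Module.finrank (κ A) (κ V) := by ring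
        _ ≤ n := hle
        _ = 1 * n := (one_mul n).symm
    have h2 : k * Module.finrank (κ A) (κ V) ≤ 1 := Nat.le_of_mul_le_mul_right h1 hn
    have hkpos : 0 < k := Nat.pos_of_ne_zero hk0
    constructor
    · nlinarith
    · nlinarith
  refine ⟨?_, ?_⟩
  · have hbot : (⊥ : Subalgebra (κ A) (κ V)) = ⊤ := Subalgebra.bot_eq_top_of_finrank_eq_one hk1.2
    rw [Algebra.isSeparable_def]
    intro x
    have hx : x ∈ (⊥ : Subalgebra (κ A) (κ V)) := hbot ▸ Algebra.mem_top
    obtain ⟨a, rfl⟩ := Algebra.mem_bot.1 hx
    exact isSeparable_algebraMap a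
  · intro p hp hchar hdvd
    rw [he, hk1.1, one_mul] at hdvd
    exact hnκ ((CharP.cast_eq_zero_iff (κ A) p n).2 hdvd)

end

section Multi

variable {A K : Type u} [CommRing A] [IsDomain A] [IsDiscreteValuationRing A]
  [Field K] [Algebra A K] [IsFractionRing A K]

/-- generation lemma: if `L` is generated over `K` by `S₁ ∪ S₂` with `S₁ ⊆ E₁`, `S₂ ⊆ E₂`, then `L` is
generated as an `E₂`-algebra by `E₁`. -/
theorem adjoin_range_eq_top {L : Type u} [Field L] [Algebra K L] [Algebra.IsAlgebraic K L]
    (E₁ E₂ : IntermediateField K L) (S₁ S₂ : Set L) (h₁ : S₁ ⊆ E₁) (h₂ : S₂ ⊆ E₂)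
    (hgen : IntermediateField.adjoin K (S₁ ∪ S₂) = ⊤) :
    Algebra.adjoin E₂ (Set.range (algebraMap E₁ L)) = ⊤ := by
  rw [eq_top_iff]
  intro x _
  have hx : x ∈ Algebra.adjoin K (S₁ ∪ S₂) := by
    have h := IntermediateField.adjoin_toSubalgebra (F := K) (E := L) (S₁ ∪ S₂)
    rw [← h, hgen]
    exact Algebra.mem_top
  induction hx using Algebra.adjoin_induction with
  | mem y hy =>
    rcases hy with hy | hy
    · exact Algebra.subset_adjoin ⟨⟨y, h₁ hy⟩, rfl⟩
    · exact Subalgebra.algebraMap_mem _ (⟨y, h₂ hy⟩ : E₂)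
  | algebraMap k =>
    exact Subalgebra.algebraMap_mem _ (algebraMap K E₂ k)
  | add y z _ _ hy hz => exact add_mem (hy trivial) (hz trivial)
  | mul y z _ _ hy hz => exact mul_mem (hy trivial) (hz trivial)

/-- **Multi-Kummer extensions are tame.** -/
theorem tame_multi : ∀ (r : ℕ) (L : Type u) [Field L] [Algebra K L] [FiniteDimensional K L]
    (t : Fin r → L) (n : Fin r → ℕ) (c : Fin r → A),
    (∀ j, 0 < n j) → (∀ j, ((n j : ℕ) : κ A) ≠ 0) → (∀ j, IsUnit (c j) ∨ Irreducible (c j)) →
    (∀ j, t j ^ n j = algebraMap K L (algebraMap A K (c j))) →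
    IntermediateField.adjoin K (Set.range t) = ⊤ →
    EtRam.IsTamelyRamified A ((algebraMap K L).comp (algebraMap A K)) := by
  intro r
  induction r with
  | zero =>
    intro L _ _ _ t n c hn hnκ hc ht hgen
    have hgen' : IntermediateField.adjoin K {(1 : L)} = ⊤ := by
      rw [← hgen, Set.range_eq_empty t, IntermediateField.adjoin_empty]
      exact IntermediateField.adjoin_one
    exact tame_kummer_unit (1 : L) 1 one_pos (by rw [Nat.cast_one]; exact one_ne_zero) 1
      isUnit_one (by simp) hgen'
  | succ r ih =>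
    intro L _ _ _ t n c hn hnκ hc ht hgen
    set L₁ : IntermediateField K L :=
      IntermediateField.adjoin K (Set.range (fun j : Fin r => t j.castSucc)) with hL₁
    set L₂ : IntermediateField K L := IntermediateField.adjoin K {t (Fin.last r)} with hL₂
    have h₁ : EtRam.IsTamelyRamified A ((algebraMap K L₁).comp (algebraMap A K)) := by
      refine ih L₁ (fun j => ⟨t j.castSucc, IntermediateField.subset_adjoin K _ ⟨j, rfl⟩⟩)
        (fun j => n j.castSucc) (fun j => c j.castSucc) (fun j => hn _) (fun j => hnκ _)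
        (fun j => hc _) ?_ ?_
      · intro j
        apply Subtype.ext
        rw [SubmonoidClass.coe_pow]
        exact ht _
      · apply IntermediateField.lift_injective
        rw [IntermediateField.lift_adjoin, IntermediateField.lift_top, ← Set.range_comp]
        rfl
    have h₂ : EtRam.IsTamelyRamified A ((algebraMap K L₂).comp (algebraMap A K)) := by
      have hmem : t (Fin.last r) ∈ L₂ := IntermediateField.mem_adjoin_simple_self K _
      have hgen₂ : IntermediateField.adjoin K {(⟨t (Fin.last r), hmem⟩ : L₂)} = ⊤ := by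
        apply IntermediateField.lift_injective
        rw [IntermediateField.lift_adjoin_simple, IntermediateField.lift_top]
      have ht₂ : (⟨t (Fin.last r), hmem⟩ : L₂) ^ n (Fin.last r) =
          algebraMap K L₂ (algebraMap A K (c (Fin.last r))) := by
        apply Subtype.ext
        rw [SubmonoidClass.coe_pow]
        exact ht _
      rcases hc (Fin.last r) with hu | hirr
      · exact tame_kummer_unit _ (n (Fin.last r)) (hn _) (hnκ _) (c (Fin.last r)) hu ht₂ hgen₂
      · exact tame_kummer_unif _ (n (Fin.last r)) (hn _) (hnκ _) (c (Fin.last r)) hirr ht₂ hgen₂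
    have hrange : Set.range t = Set.range (fun j : Fin r => t j.castSucc) ∪ {t (Fin.last r)} := by
      ext x
      constructor
      · rintro ⟨j, rfl⟩
        induction j using Fin.lastCases with
        | last => exact Or.inr rfl
        | cast j => exact Or.inl ⟨j, rfl⟩
      · rintro (⟨j, rfl⟩ | rfl)
        · exact ⟨_, rfl⟩
        · exact ⟨_, rfl⟩
    have hunion : IntermediateField.adjoin K
        (Set.range (fun j : Fin r => t j.castSucc) ∪ {t (Fin.last r)}) = ⊤ := by
      rw [← hrange]; exact hgen
    have hunion' : IntermediateField.adjoin K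
        ({t (Fin.last r)} ∪ Set.range (fun j : Fin r => t j.castSucc)) = ⊤ := by
      rw [Set.union_comm]; exact hunion
    have hs₁ : Set.range (fun j : Fin r => t j.castSucc) ⊆ (L₁ : Set L) :=
      IntermediateField.subset_adjoin K _
    have hs₂ : ({t (Fin.last r)} : Set L) ⊆ (L₂ : Set L) := IntermediateField.subset_adjoin K _
    exact tame_compositum A K L₁ L₂ L (adjoin_range_eq_top L₁ L₂ _ _ hs₁ hs₂ hunion)
      (adjoin_range_eq_top L₂ L₁ _ _ hs₂ hs₁ hunion') h₁ h₂

end Multi

end Groth.Agent.Lib.Helper9.KummerTame
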