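import Mathlib
import Groth.Prelude.Def_EtRam
import Groth.Agent.Lib.Helper9.DvrExt
import Groth.Agent.Lib.Helper9.DvrEisensteinApp
import Groth.Agent.Lib.Helper9.KummerTame

/-!
# Fields generated by a finite unramified algebra over a DVR are unramified

`A` a DVR with fraction field `K`, `B` a finite formally unramified `A`-algebra, `β : B → L` a ring
map to a field extension `L/K`, compatible with `A → K → L`, such that `L` is generated over `K` by
the image of `β`.  Then `L/K` is finite and unramified (in the valuation-subring sense) over `A`.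
-/

open Polynomial

universe u

set_option linter.unusedSectionVars false
set_option linter.style.haveILetI false
set_option linter.overlappingInstances false

namespace Groth.Agent.Lib.Helper9.FiniteUnram

open Groth.Agent.Lib.Helper9.DvrExt Groth.Agent.Lib.Helper9.DvrEisensteinApp
  Groth.Agent.Lib.Helper9.KummerTame

local notation "𝔪" => IsLocalRing.maximalIdeal
local notation "κ" => IsLocalRing.ResidueField

variable {A K L B : Type u} [CommRing A] [IsDomain A] [IsDiscreteValuationRing A]
  [Field K] [Algebra A K] [IsFractionRing A K] [Field L] [Algebra K L]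
  [CommRing B] [Algebra A B] [Module.Finite A B]
  (β : B →+* L) (hβ : ∀ a, β (algebraMap A B a) = algebraMap K L (algebraMap A K a))
  (hgen : IntermediateField.adjoin K (Set.range β) = ⊤)

include hβ in
theorem isIntegral_beta (b : B) : IsIntegral K (β b) := by
  letI algAL : Algebra A L := ((algebraMap K L).comp (algebraMap A K)).toAlgebra
  haveI : IsScalarTower A K L := IsScalarTower.of_algebraMap_eq fun _ => rfl
  let βA : B →ₐ[A] L := { β with commutes' := hβ }
  have h1 : IsIntegral A b := Algebra.IsIntegral.isIntegral b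
  have h2 : IsIntegral A (βA b) := h1.map βA
  exact h2.tower_top

include hβ hgen in
theorem exists_eq_div (x : L) :
    ∃ (b : B) (a : A), a ≠ 0 ∧ x * algebraMap K L (algebraMap A K a) = β b := by
  classical
  let T : Subalgebra K L :=
    { carrier := {x | ∃ (b : B) (a : A), a ≠ 0 ∧ x * algebraMap K L (algebraMap A K a) = β b}
      mul_mem' := by
        rintro x x' ⟨b, a, ha, h⟩ ⟨b', a', ha', h'⟩
        refine ⟨b * b', a * a', mul_ne_zero ha ha', ?_⟩
        rw [map_mul, map_mul, map_mul, ← h, ← h']
        ring
      add_mem' := by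
        rintro x x' ⟨b, a, ha, h⟩ ⟨b', a', ha', h'⟩
        refine ⟨b * algebraMap A B a' + b' * algebraMap A B a, a * a', mul_ne_zero ha ha', ?_⟩
        simp only [map_add, map_mul, hβ]
        rw [← h, ← h']
        ring
      algebraMap_mem' := by
        intro k
        obtain ⟨a₁, a₂, ha₂, rfl⟩ := IsFractionRing.div_surjective (A := A) k
        have ha₂0 : a₂ ≠ 0 := nonZeroDivisors.ne_zero ha₂
        refine ⟨algebraMap A B a₁, a₂, ha₂0, ?_⟩
        rw [hβ, ← map_mul]
        congr 1
        have : algebraMap A K a₂ ≠ 0 := by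
          rw [Ne, map_eq_zero_iff _ (IsFractionRing.injective A K)]; exact ha₂0
        field_simp }
  have hT : Algebra.adjoin K (Set.range β) ≤ T := by
    apply Algebra.adjoin_le
    rintro _ ⟨b, rfl⟩
    exact ⟨b, 1, one_ne_zero, by rw [map_one, map_one, mul_one]⟩
  have h1 : (IntermediateField.adjoin K (Set.range β)).toSubalgebra =
      Algebra.adjoin K (Set.range β) :=
    IntermediateField.adjoin_toSubalgebra_of_isAlgebraic (by
      rintro _ ⟨b, rfl⟩
      exact (isIntegral_beta β hβ b).isAlgebraic)
  have h2 : x ∈ Algebra.adjoin K (Set.range β) := by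
    rw [← h1, hgen]; exact Algebra.mem_top
  exact hT h2

include hβ hgen in
theorem finiteDimensional : FiniteDimensional K L := by
  classical
  obtain ⟨s, hs⟩ := (Module.Finite.fg_top : (⊤ : Submodule A B).FG)
  refine ⟨⟨s.image β, ?_⟩⟩
  rw [eq_top_iff]
  intro x _
  have hspan : ∀ b : B, β b ∈ Submodule.span K ((s.image β : Finset L) : Set L) := by
    intro b
    have hbs : b ∈ Submodule.span A (s : Set B) := hs ▸ Submodule.mem_top
    induction hbs using Submodule.span_induction with
    | mem y hy =>
      apply Submodule.subset_span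
      rw [Finset.coe_image]
      exact ⟨y, hy, rfl⟩
    | zero => rw [map_zero]; exact Submodule.zero_mem _
    | add y z _ _ hy hz => rw [map_add]; exact add_mem hy hz
    | smul c y _ hy =>
      rw [Algebra.smul_def, map_mul, hβ, ← Algebra.smul_def]
      exact Submodule.smul_mem _ _ hy
  obtain ⟨b, a, ha, hx⟩ := exists_eq_div β hβ hgen x
  have hb := hspan b
  have ha' : algebraMap K L (algebraMap A K a) ≠ 0 := by
    rw [Ne, map_eq_zero, map_eq_zero_iff _ (IsFractionRing.injective A K)]; exact ha
  have hx' : x = (algebraMap A K a)⁻¹ • β b := by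
    rw [Algebra.smul_def, ← hx, map_inv₀]
    field_simp
  rw [hx']
  exact Submodule.smul_mem _ _ hb

include hβ hgen in
/-- **`L` is unramified over `A`.** -/
theorem isUnramifiedExt [Algebra.FormallyUnramified A B] :
    EtRam.IsUnramifiedExt A ((algebraMap K L).comp (algebraMap A K)) := by
  classical
  haveI := finiteDimensional β hβ hgen
  intro V hV hloc
  letI algAV : Algebra A V :=
    (RingHom.codRestrict ((algebraMap K L).comp (algebraMap A K)) V hV.1).toAlgebra
  haveI : IsDiscreteValuationRing V :=
    isDiscreteValuationRing_of_dominates (A := A) (K := K) (L := L) V hV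
  have hinj : Function.Injective (algebraMap A V) := injective_codRestrict_of_dominates V hV
  -- `β` lands in `V`
  have hβV : ∀ b, β b ∈ V := by
    intro b
    obtain ⟨p, hp, hpb⟩ := Algebra.IsIntegral.isIntegral (R := A) b
    refine mem_of_isIntegral_of_forall_mem ((algebraMap K L).comp (algebraMap A K)) V hV.1
      ⟨p, hp, ?_⟩
    have h1 := congrArg β hpb
    rw [map_zero, Polynomial.hom_eval₂] at h1
    have h2 : β.comp (algebraMap A B) = (algebraMap K L).comp (algebraMap A K) :=
      RingHom.ext fun a => hβ a
    rw [h2] at h1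
    exact h1
  set βV : B →+* V := β.codRestrict V hβV with hβVdef
  have hβVA : ∀ a, βV (algebraMap A B a) = algebraMap A V a := fun a => Subtype.ext (hβ a)
  set 𝔫 : Ideal B := (𝔪 V).comap βV with h𝔫
  haveI : 𝔫.IsPrime := Ideal.comap_isPrime _ _
  have hunits : ∀ s : 𝔫.primeCompl, IsUnit (βV s) := fun s => by
    by_contra h
    exact s.2 ((IsLocalRing.mem_maximalIdeal _).2 h)
  set γ : Localization.AtPrime 𝔫 →+* V := IsLocalization.lift (M := 𝔫.primeCompl) hunits with hγ
  have hγB : ∀ b, γ (algebraMap B (Localization.AtPrime 𝔫) b) = βV b := fun b =>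
    IsLocalization.lift_eq _ b
  have hγA : ∀ a, γ (algebraMap A (Localization.AtPrime 𝔫) a) = algebraMap A V a := by
    intro a
    rw [IsScalarTower.algebraMap_apply A B (Localization.AtPrime 𝔫), hγB, hβVA]
  -- `γ` is local
  have hγloc : ∀ x, IsUnit (γ x) → IsUnit x := by
    intro x hx
    obtain ⟨b, s, rfl⟩ := IsLocalization.exists_mk'_eq 𝔫.primeCompl x
    have h1 : γ (IsLocalization.mk' (Localization.AtPrime 𝔫) b s) *
        γ (algebraMap B (Localization.AtPrime 𝔫) s) =
        γ (algebraMap B (Localization.AtPrime 𝔫) b) := by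
      rw [← map_mul, IsLocalization.mk'_spec]
    rw [hγB, hγB] at h1
    have h2 : IsUnit (βV b) := h1 ▸ hx.mul (hunits s)
    have h3 : b ∈ 𝔫.primeCompl := fun hb => ((IsLocalRing.mem_maximalIdeal _).1 hb) h2
    have h4 : IsUnit (algebraMap B (Localization.AtPrime 𝔫) b) :=
      IsLocalization.map_units _ (⟨b, h3⟩ : 𝔫.primeCompl)
    have h5 : IsLocalization.mk' (Localization.AtPrime 𝔫) b s *
        algebraMap B (Localization.AtPrime 𝔫) s = algebraMap B (Localization.AtPrime 𝔫) b :=
      IsLocalization.mk'_spec _ _ _
    exact isUnit_of_mul_isUnit_left (h5 ▸ h4)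
  haveI hγlocal : IsLocalHom γ := ⟨hγloc⟩
  haveI : IsLocalHom (algebraMap A (Localization.AtPrime 𝔫)) := ⟨fun a ha => by
    have h1 : IsUnit (γ (algebraMap A (Localization.AtPrime 𝔫) a)) := ha.map γ
    rw [hγA] at h1
    exact isUnit_of_map_unit (algebraMap A V) a h1⟩
  haveI : Algebra.FormallyUnramified A (Localization.AtPrime 𝔫) :=
    Algebra.FormallyUnramified.comp A B _
  haveI : Algebra.EssFiniteType A (Localization.AtPrime 𝔫) := Algebra.EssFiniteType.comp A B _
  have hmS : (𝔪 A).map (algebraMap A (Localization.AtPrime 𝔫)) = 𝔪 (Localization.AtPrime 𝔫) :=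
    Algebra.FormallyUnramified.map_maximalIdeal
  obtain ⟨π, hπ⟩ := IsDiscreteValuationRing.exists_irreducible A
  have hmS' : 𝔪 (Localization.AtPrime 𝔫) =
      Ideal.span {algebraMap A (Localization.AtPrime 𝔫) π} := by
    rw [← hmS, hπ.maximalIdeal_eq, Ideal.map_span, Set.image_singleton]
  have hπV : algebraMap A V π ≠ 0 := by
    rw [Ne, map_eq_zero_iff _ hinj]; exact hπ.ne_zero
  have hπVnu : ¬ IsUnit (algebraMap A V π) := fun h =>
    hπ.not_isUnit (isUnit_of_map_unit (algebraMap A V) π h)
  -- key surjectivity
  have hsurj_aux : ∀ k : ℕ, ∀ (v : V) (x : Localization.AtPrime 𝔫),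
      v * algebraMap A V π ^ k = γ x → ∃ x', γ x' = v := by
    intro k
    induction k with
    | zero =>
      intro v x h
      exact ⟨x, by rw [← h, pow_zero, mul_one]⟩
    | succ k ih =>
      intro v x h
      have hxm : x ∈ 𝔪 (Localization.AtPrime 𝔫) := by
        rw [IsLocalRing.mem_maximalIdeal]
        intro hxu
        have h1 : IsUnit (γ x) := hxu.map γ
        rw [← h, pow_succ, ← mul_assoc] at h1
        exact hπVnu (isUnit_of_mul_isUnit_right h1)
      rw [hmS', Ideal.mem_span_singleton'] at hxm
      obtain ⟨x', hx'⟩ := hxm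
      apply ih v x'
      have h2 : v * algebraMap A V π ^ k * algebraMap A V π = γ x' * algebraMap A V π := by
        rw [mul_assoc, ← pow_succ, h, ← hx', map_mul, hγA]
      exact mul_right_cancel₀ hπV h2
  have hsurj : Function.Surjective γ := by
    intro v
    obtain ⟨b, a, ha, hx⟩ := exists_eq_div β hβ hgen (v : L)
    obtain ⟨k, u, rfl⟩ := IsDiscreteValuationRing.eq_unit_mul_pow_irreducible ha hπ
    have h1 : v * algebraMap A V π ^ k =
        γ (algebraMap B (Localization.AtPrime 𝔫) b *
          algebraMap A (Localization.AtPrime 𝔫) ((u⁻¹ : Aˣ) : A)) := by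
      rw [map_mul, hγB, hγA]
      have h2 : v * algebraMap A V ((u : A) * π ^ k) = βV b := Subtype.ext hx
      have h3 : algebraMap A V (u : A) * algebraMap A V ((u⁻¹ : Aˣ) : A) = 1 := by
        rw [← map_mul, Units.mul_inv, map_one]
      rw [← h2, map_mul, map_pow]
      calc v * algebraMap A V π ^ k
          = v * algebraMap A V π ^ k *
            (algebraMap A V (u : A) * algebraMap A V ((u⁻¹ : Aˣ) : A)) := by rw [h3, mul_one]
        _ = _ := by ring
    exact hsurj_aux k v _ h1
  have hcomp : γ.comp (algebraMap A (Localization.AtPrime 𝔫)) = algebraMap A V :=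
    RingHom.ext hγA
  constructor
  · change (𝔪 A).map (algebraMap A V) = 𝔪 V
    apply le_antisymm
    · rw [Ideal.map_le_iff_le_comap]
      intro a ha
      exact (IsLocalRing.mem_maximalIdeal _).2 fun hu =>
        (IsLocalRing.mem_maximalIdeal a).1 ha (isUnit_of_map_unit _ a hu)
    · intro v hv
      obtain ⟨x, rfl⟩ := hsurj v
      have hx : x ∈ 𝔪 (Localization.AtPrime 𝔫) := by
        rw [IsLocalRing.mem_maximalIdeal]
        intro hxu
        exact (IsLocalRing.mem_maximalIdeal _).1 hv (hxu.map γ)
      rw [← hmS] at hx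
      have h1 := Ideal.mem_map_of_mem γ hx
      rw [Ideal.map_map, hcomp] at h1
      exact h1
  · rw [Algebra.isSeparable_def]
    intro y
    obtain ⟨v, rfl⟩ := IsLocalRing.residue_surjective y
    obtain ⟨x, rfl⟩ := hsurj v
    have hsepx : IsSeparable (κ A) (IsLocalRing.residue (Localization.AtPrime 𝔫) x) :=
      Algebra.IsSeparable.isSeparable _ _
    have hintx : IsIntegral (κ A) (IsLocalRing.residue (Localization.AtPrime 𝔫) x) :=
      Algebra.IsIntegral.isIntegral _
    have hcompκ : (IsLocalRing.ResidueField.map γ).comp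
        (algebraMap (κ A) (κ (Localization.AtPrime 𝔫))) = algebraMap (κ A) (κ V) := by
      ext a
      obtain ⟨a, rfl⟩ := IsLocalRing.residue_surjective a
      simp only [RingHom.comp_apply, IsLocalRing.ResidueField.algebraMap_residue,
        IsLocalRing.ResidueField.map_residue, hγA]
    have hroot : Polynomial.aeval (IsLocalRing.residue V (γ x))
        (minpoly (κ A) (IsLocalRing.residue (Localization.AtPrime 𝔫) x)) = 0 := by
      have h1 := minpoly.aeval (κ A) (IsLocalRing.residue (Localization.AtPrime 𝔫) x)
      rw [Polynomial.aeval_def] at h1 ⊢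
      have h2 := congrArg (IsLocalRing.ResidueField.map γ) h1
      rw [map_zero, Polynomial.hom_eval₂, hcompκ, IsLocalRing.ResidueField.map_residue] at h2
      exact h2
    exact hsepx.of_dvd (minpoly.dvd (κ A) _ hroot)

/-- **`L` is tamely ramified over `A`.** -/
theorem isTamelyRamified [Algebra.FormallyUnramified A B]
    (hβ : ∀ a, β (algebraMap A B a) = algebraMap K L (algebraMap A K a))
    (hgen : IntermediateField.adjoin K (Set.range β) = ⊤) :
    EtRam.IsTamelyRamified A ((algebraMap K L).comp (algebraMap A K)) := by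
  haveI := finiteDimensional β hβ hgen
  exact tame_of_unramified (isUnramifiedExt β hβ hgen)

end Groth.Agent.Lib.Helper9.FiniteUnram
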