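import Mathlib
import Groth.Prelude.Def_Pi1
import Groth.Agent.Lib.Helper9.DecompRing

/-!
# `R^H[1/F'(e)]` is standard étale over `R^G`

For a finite group `G` acting on a ring `R`, a subgroup `H`, and `e ∈ R^H`, let
`F = ∏_{c ∈ G/H} (X - c e)`.  Then `R^H[1/F'(e)] ≅ R^G[X]/(F)[1/F']` (Lagrange interpolation).
-/

open Polynomial

universe u

set_option linter.unusedSectionVars false

namespace Groth.Agent.Lib.Helper9.FixedEtale

open Groth.Agent.Lib.Helper9.DecompRing

variable {G R : Type u} [Group G] [Finite G] [CommRing R] [MulSemiringAction G R]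
  (H : Subgroup G) (e : R) (he : e ∈ FixedPoints.subring R H)

/-- the conjugate roots `c • e`. -/
noncomputable def root (c : G ⧸ H) : R := Quotient.out c • e

include he in
theorem smul_root (σ : G) (c : G ⧸ H) : σ • root H e c = root H e (σ • c) := by
  unfold root
  rw [← mul_smul, smul_out_eq H he]

include he in
theorem root_one : root H e ((1 : G) : G ⧸ H) = e :=
  (mem_fixed_iff H e).1 he _ (out_one_mem H)

/-- `F = ∏ (X - c e)` over `R`. -/
noncomputable def FR : R[X] :=
  letI : Fintype (G ⧸ H) := Fintype.ofFinite _
  ∏ c : G ⧸ H, (X - C (root H e c))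

/-- the cofactor `∏_{c' ≠ c} (X - c' e)`. -/
noncomputable def Fc (c : G ⧸ H) : R[X] :=
  letI : Fintype (G ⧸ H) := Fintype.ofFinite _
  open Classical in
  ∏ c' ∈ (Finset.univ : Finset (G ⧸ H)).erase c, (X - C (root H e c'))

theorem FR_monic : (FR H e).Monic := by
  unfold FR
  exact monic_prod_of_monic _ _ fun c _ => monic_X_sub_C _

theorem mul_Fc (c : G ⧸ H) : (X - C (root H e c)) * Fc H e c = FR H e := by
  classical
  unfold Fc FR
  letI : Fintype (G ⧸ H) := Fintype.ofFinite _
  exact Finset.mul_prod_erase _ _ (Finset.mem_univ c)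

theorem derivative_FR :
    derivative (FR H e) =
      letI : Fintype (G ⧸ H) := Fintype.ofFinite _
      ∑ c : G ⧸ H, Fc H e c := by
  classical
  unfold FR Fc
  letI : Fintype (G ⧸ H) := Fintype.ofFinite _
  rw [derivative_prod_finset]
  refine Finset.sum_congr rfl fun c _ => ?_
  rw [derivative_sub, derivative_X, derivative_C, sub_zero, mul_one]

/-- Lagrange interpolation identity. -/
theorem lagrange (h : R[X]) :
    FR H e ∣ h * derivative (FR H e) -
      letI : Fintype (G ⧸ H) := Fintype.ofFinite _
      ∑ c : G ⧸ H, C (h.eval (root H e c)) * Fc H e c := by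
  classical
  letI : Fintype (G ⧸ H) := Fintype.ofFinite _
  rw [derivative_FR, Finset.mul_sum, ← Finset.sum_sub_distrib]
  refine Finset.dvd_sum fun c _ => ?_
  rw [← sub_mul]
  obtain ⟨w, hw⟩ := X_sub_C_dvd_sub_C_eval (a := root H e c) (p := h)
  rw [hw, mul_right_comm, mul_Fc]
  exact Dvd.intro _ rfl

theorem eval_root_FR (c : G ⧸ H) : (FR H e).eval (root H e c) = 0 := by
  rw [← mul_Fc H e c, eval_mul, eval_sub, eval_X, eval_C, sub_self, zero_mul]

theorem eval_Fc_of_ne {c c' : G ⧸ H} (hne : c ≠ c') : (Fc H e c).eval (root H e c') = 0 := by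
  classical
  unfold Fc
  letI : Fintype (G ⧸ H) := Fintype.ofFinite _
  rw [eval_prod]
  refine Finset.prod_eq_zero (Finset.mem_erase.mpr ⟨hne.symm, Finset.mem_univ c'⟩) ?_
  rw [eval_sub, eval_X, eval_C, sub_self]

theorem eval_derivative_FR (c : G ⧸ H) :
    (derivative (FR H e)).eval (root H e c) = (Fc H e c).eval (root H e c) := by
  classical
  letI : Fintype (G ⧸ H) := Fintype.ofFinite _
  rw [derivative_FR, eval_finset_sum]
  refine Finset.sum_eq_single c (fun c' _ hne => eval_Fc_of_ne H e hne) ?_
  intro h; exact absurd (Finset.mem_univ c) h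

include he in
/-- invariance of `F` under `G`. -/
theorem map_FR (σ : G) : (FR H e).map (MulSemiringAction.toRingHom G R σ) = FR H e := by
  unfold FR
  letI : Fintype (G ⧸ H) := Fintype.ofFinite _
  rw [Polynomial.map_prod]
  have : ∀ c : G ⧸ H, (X - C (root H e c)).map (MulSemiringAction.toRingHom G R σ) =
      X - C (root H e (σ • c)) := by
    intro c
    rw [Polynomial.map_sub, map_X, map_C, MulSemiringAction.toRingHom_apply, smul_root H e he]
  simp only [this]
  exact Fintype.prod_equiv (MulAction.toPerm σ) _ _ (fun c => rfl)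


include he in
theorem map_Fc (σ : G) (c : G ⧸ H) :
    (Fc H e c).map (MulSemiringAction.toRingHom G R σ) = Fc H e (σ • c) := by
  have h1 : (X - C (root H e (σ • c))) * (Fc H e c).map (MulSemiringAction.toRingHom G R σ) =
      (X - C (root H e (σ • c))) * Fc H e (σ • c) := by
    rw [mul_Fc, ← map_FR H e he σ, ← mul_Fc H e c, Polynomial.map_mul, Polynomial.map_sub, map_X,
      map_C, MulSemiringAction.toRingHom_apply, smul_root H e he]
  exact (monic_X_sub_C _).isRegular.left h1

/-- the interpolation polynomial of `s ∈ R^H`. -/
noncomputable def Ls (s : R) : R[X] :=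
  letI : Fintype (G ⧸ H) := Fintype.ofFinite _
  ∑ c : G ⧸ H, C (root H s c) * Fc H e c

include he in
theorem map_Ls (s : R) (hs : s ∈ FixedPoints.subring R H) (σ : G) :
    (Ls H e s).map (MulSemiringAction.toRingHom G R σ) = Ls H e s := by
  unfold Ls
  letI : Fintype (G ⧸ H) := Fintype.ofFinite _
  rw [Polynomial.map_sum]
  have : ∀ c : G ⧸ H, (C (root H s c) * Fc H e c).map (MulSemiringAction.toRingHom G R σ) =
      C (root H s (σ • c)) * Fc H e (σ • c) := by
    intro c
    rw [Polynomial.map_mul, map_C, MulSemiringAction.toRingHom_apply, smul_root H s hs,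
      map_Fc H e he]
  simp only [this]
  exact Fintype.sum_equiv (MulAction.toPerm σ) _ _ (fun c => rfl)

include he in
theorem eval_Ls (s : R) (hs : s ∈ FixedPoints.subring R H) :
    (Ls H e s).eval e = s * (derivative (FR H e)).eval e := by
  classical
  unfold Ls
  letI : Fintype (G ⧸ H) := Fintype.ofFinite _
  rw [eval_finset_sum]
  have h1 : ∀ c : G ⧸ H, c ≠ ((1 : G) : G ⧸ H) → (C (root H s c) * Fc H e c).eval e = 0 := by
    intro c hc
    rw [eval_mul]
    nth_rewrite 2 [← root_one H e he]
    rw [eval_Fc_of_ne H e hc, mul_zero]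
  rw [Finset.sum_eq_single ((1 : G) : G ⧸ H) (fun c _ hc => h1 c hc)
    (fun h => absurd (Finset.mem_univ _) h), eval_mul, eval_C, root_one H s hs]
  congr 1
  have := eval_derivative_FR H e ((1 : G) : G ⧸ H)
  rw [root_one H e he] at this
  exact this.symm

section Descent

/-- a `G`-invariant polynomial descends to the invariants. -/
theorem exists_map_eq (p : R[X]) (hp : ∀ σ : G, p.map (MulSemiringAction.toRingHom G R σ) = p) :
    ∃ p' : (FixedPoints.subring R G)[X], p'.map (FixedPoints.subring R G).subtype = p := by
  have : p ∈ Polynomial.lifts (FixedPoints.subring R G).subtype := by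
    rw [Polynomial.lifts_iff_coeff_lifts]
    intro n
    refine ⟨⟨p.coeff n, fun σ => ?_⟩, rfl⟩
    have := congrArg (fun r => r.coeff n) (hp σ)
    simpa [coeff_map] using this
  exact (Polynomial.mem_lifts _).1 this

theorem eval_smul_map (p : (FixedPoints.subring R G)[X]) (σ : G) (x : R) :
    (p.map (FixedPoints.subring R G).subtype).eval (σ • x) =
      σ • (p.map (FixedPoints.subring R G).subtype).eval x := by
  rw [eval_map, eval_map]
  have h := Polynomial.hom_eval₂ p (FixedPoints.subring R G).subtype
    (MulSemiringAction.toRingHom G R σ) x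
  rw [MulSemiringAction.toRingHom_apply, MulSemiringAction.toRingHom_apply] at h
  rw [h]
  congr 1
  ext a
  exact (a.2 σ).symm

theorem coe_aeval (p : (FixedPoints.subring R G)[X]) (x : FixedPoints.subring R H) :
    ((aeval x p : FixedPoints.subring R H) : R) =
      (p.map (FixedPoints.subring R G).subtype).eval (x : R) := by
  rw [eval_map, aeval_def]
  exact Polynomial.hom_eval₂ p (algebraMap (FixedPoints.subring R G) (FixedPoints.subring R H))
    (FixedPoints.subring R H).subtype x

end Descent


section Main

include he in
/-- the key divisibility for injectivity. -/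
theorem key_dvd (F b : (FixedPoints.subring R G)[X])
    (hF : F.map (FixedPoints.subring R G).subtype = FR H e) (m : ℕ)
    (h0 : ((derivative (FR H e)).eval e) ^ m *
      (b.map (FixedPoints.subring R G).subtype).eval e = 0) :
    F ∣ b * (derivative F) ^ (m + 1) := by
  classical
  letI : Fintype (G ⧸ H) := Fintype.ofFinite _
  have hι : Function.Injective (FixedPoints.subring R G).subtype := Subtype.val_injective
  have hFm : F.Monic := Polynomial.monic_of_injective hι (hF ▸ FR_monic H e)
  have hF' : (derivative F).map (FixedPoints.subring R G).subtype = derivative (FR H e) := by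
    rw [← derivative_map, hF]
  rw [← Polynomial.map_dvd_map _ hι hFm, hF]
  have hQ : ∀ c : G ⧸ H,
      ((b * derivative F ^ m).map (FixedPoints.subring R G).subtype).eval (root H e c) = 0 := by
    intro c
    unfold root
    rw [eval_smul_map, Polynomial.map_mul, Polynomial.map_pow, hF', eval_mul, eval_pow,
      mul_comm, h0, smul_zero]
  have hl := lagrange H e ((b * derivative F ^ m).map (FixedPoints.subring R G).subtype)
  simp only [hQ, map_zero, zero_mul, Finset.sum_const_zero, sub_zero] at hl
  rw [pow_succ, ← mul_assoc, Polynomial.map_mul, hF']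
  exact hl

include he in
theorem etale_away :
    ∃ g : FixedPoints.subring R H, (g : R) = (derivative (FR H e)).eval e ∧
      Algebra.Etale (FixedPoints.subring R G) (Localization.Away g) := by
  classical
  letI : Fintype (G ⧸ H) := Fintype.ofFinite _
  have hι : Function.Injective (FixedPoints.subring R G).subtype := Subtype.val_injective
  obtain ⟨F, hF⟩ := exists_map_eq (FR H e) (map_FR H e he)
  have hFm : F.Monic := Polynomial.monic_of_injective hι (hF ▸ FR_monic H e)
  have hF' : (derivative F).map (FixedPoints.subring R G).subtype = derivative (FR H e) := by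
    rw [← derivative_map, hF]
  set e' : FixedPoints.subring R H := ⟨e, he⟩ with he'
  set g : FixedPoints.subring R H := aeval e' (derivative F) with hg
  have hgc : (g : R) = (derivative (FR H e)).eval e := by
    rw [hg, coe_aeval, hF']
  refine ⟨g, hgc, ?_⟩
  let P : StandardEtalePair (FixedPoints.subring R G) :=
    ⟨F, hFm, derivative F, ⟨1, 0, 1, by simp⟩⟩
  let x : Localization.Away g := algebraMap (FixedPoints.subring R H) _ e'
  have hFe : aeval e' F = 0 := by
    apply Subtype.ext
    rw [coe_aeval, hF]
    have := eval_root_FR H e ((1 : G) : G ⧸ H)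
    rwa [root_one H e he] at this
  have hx : P.HasMap x := by
    refine ⟨?_, ?_⟩
    · show aeval x F = 0
      rw [Polynomial.aeval_algebraMap_apply, hFe, map_zero]
    · show IsUnit (aeval x (derivative F))
      rw [Polynomial.aeval_algebraMap_apply]
      exact IsLocalization.Away.algebraMap_isUnit g
  have hxg : aeval x (derivative F) = algebraMap (FixedPoints.subring R H) (Localization.Away g) g := by
    rw [Polynomial.aeval_algebraMap_apply]
  have hφX : ∀ p : (FixedPoints.subring R G)[X], P.lift x hx (aeval P.X p) = aeval x p := by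
    intro p
    rw [← Polynomial.aeval_algHom_apply, StandardEtalePair.lift_X]
  have huX : IsUnit (aeval P.X (derivative F)) := P.hasMap_X.2
  have hbij : Function.Bijective (P.lift x hx) := by
    constructor
    · -- injectivity
      rw [injective_iff_map_eq_zero]
      intro z hz
      let PP : StandardEtalePresentation (FixedPoints.subring R G) P.Ring :=
        { P := P, x := P.X, hasMap := P.hasMap_X,
          lift_bijective := by
            rw [StandardEtalePair.lift_X_left]; exact Function.bijective_id }
      obtain ⟨b, n, hbn⟩ := PP.exists_mul_aeval_x_g_pow_eq_aeval_x z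
      change z * (aeval P.X (derivative F)) ^ n = aeval P.X b at hbn
      have h1 : aeval x b = 0 := by
        rw [← hφX, ← hbn, map_mul, hz, zero_mul]
      rw [Polynomial.aeval_algebraMap_apply, ← map_zero (algebraMap (FixedPoints.subring R H) _)] at h1
      obtain ⟨m, hm⟩ := IsLocalization.Away.exists_of_eq g h1
      rw [mul_zero] at hm
      have hm' : ((derivative (FR H e)).eval e) ^ m *
          (b.map (FixedPoints.subring R G).subtype).eval e = 0 := by
        have := congrArg (fun t : FixedPoints.subring R H => (t : R)) hm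
        simp only [Subring.coe_mul, Subring.coe_pow, Subring.coe_zero] at this
        rwa [hgc, coe_aeval] at this
      obtain ⟨w, hw⟩ := key_dvd H e he F b hF m hm'
      have h2 : aeval P.X (b * derivative F ^ (m + 1)) = 0 := by
        rw [hw, map_mul]
        have : aeval P.X F = 0 := P.hasMap_X.1
        rw [this, zero_mul]
      rw [map_mul, map_pow, ← hbn, mul_assoc, ← pow_add] at h2
      exact (huX.pow _).mul_left_eq_zero.1 h2
    · -- surjectivity
      have hS : ∀ s : FixedPoints.subring R H,
          algebraMap (FixedPoints.subring R H) (Localization.Away g) s ∈ (P.lift x hx).range := by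
        intro s
        obtain ⟨L, hL⟩ := exists_map_eq (Ls H e s) (map_Ls H e he s s.2)
        have h1 : aeval e' L = s * g := by
          apply Subtype.ext
          rw [coe_aeval, hL, Subring.coe_mul, hgc]
          exact eval_Ls H e he s s.2
        have h2 : algebraMap (FixedPoints.subring R H) (Localization.Away g) s *
            P.lift x hx (aeval P.X (derivative F)) = P.lift x hx (aeval P.X L) := by
          rw [hφX, hφX, hxg, ← map_mul, ← h1, Polynomial.aeval_algebraMap_apply]
        refine ⟨aeval P.X L * ↑huX.unit⁻¹, ?_⟩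
        rw [map_mul]
        change P.lift x hx (aeval P.X L) * P.lift x hx ↑huX.unit⁻¹ = _
        rw [← h2, mul_assoc, ← map_mul, IsUnit.mul_val_inv, map_one, mul_one]
      intro z
      obtain ⟨n, a, hna⟩ := IsLocalization.Away.surj g z
      obtain ⟨a', ha'⟩ := hS a
      replace ha' : P.lift x hx a' = algebraMap (FixedPoints.subring R H) (Localization.Away g) a := ha'
      refine ⟨a' * (↑huX.unit⁻¹) ^ n, ?_⟩
      have h3 : P.lift x hx (↑huX.unit⁻¹) * algebraMap (FixedPoints.subring R H) (Localization.Away g) g = 1 := by
        rw [← hxg, ← hφX, ← map_mul, IsUnit.val_inv_mul, map_one]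
      rw [map_mul, map_pow]
      change P.lift x hx a' * _ = z
      rw [ha', ← hna, mul_assoc, ← mul_pow, mul_comm (algebraMap _ _ g), h3, one_pow, mul_one]
  have : Algebra.IsStandardEtale (FixedPoints.subring R G) (Localization.Away g) :=
    ⟨⟨{ P := P, x := x, hasMap := hx, lift_bijective := hbij }⟩⟩
  infer_instance

end Main

end Groth.Agent.Lib.Helper9.FixedEtale
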