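import Mathlib

/-!
# Transferring geometric reducedness between isomorphic pairs of fields

If `k₂ ⊆ l₂` and `k₃ ⊆ l₃` have the same images inside a common overfield `Ω` (more precisely
`l₃ ⊆ l₂` and `k₂ = k₃` inside `Ω`) then `l₂/k₂` geometrically reduced implies `l₃/k₃`
geometrically reduced.
-/

open TensorProduct

set_option linter.unusedSectionVars false
set_option linter.style.haveILetI false

namespace Groth.Agent.Lib.Helper9.GRTransfer

/-- Geometric reducedness over `k` passes to `k'` when `k → k'` is surjective (hence bijective). -/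
theorem isGeometricallyReduced_of_surjective (k k' l : Type*) [Field k] [Field k'] [Field l]
    [Algebra k k'] [Algebra k' l] [Algebra k l] [IsScalarTower k k' l]
    (h : Function.Surjective (algebraMap k k')) [Algebra.IsGeometricallyReduced k l] :
    Algebra.IsGeometricallyReduced k' l := by
  rw [Algebra.isGeometricallyReduced_field_iff]
  haveI : Algebra.IsAlgebraic k k' := ⟨fun x => by
    obtain ⟨y, rfl⟩ := h x
    exact isAlgebraic_algebraMap y⟩
  haveI : Algebra.IsAlgebraic k (AlgebraicClosure k') := Algebra.IsAlgebraic.trans k k' _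
  haveI hred : IsReduced (AlgebraicClosure k' ⊗[k] l) := inferInstance
  haveI c1 : TensorProduct.CompatibleSMul k k' (AlgebraicClosure k') l := ⟨fun s m n => by
    obtain ⟨z, rfl⟩ := h s
    rw [algebraMap_smul, algebraMap_smul, TensorProduct.smul_tmul]⟩
  exact isReduced_of_injective
    (Algebra.TensorProduct.equivOfCompatibleSMul k k' k' (AlgebraicClosure k') l)
    (Algebra.TensorProduct.equivOfCompatibleSMul k k' k' (AlgebraicClosure k') l).injective

/-- Transfer of geometric reducedness between two field extensions having the same image in a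
common overfield. -/
theorem gr_transfer {k₂ l₂ k₃ l₃ Ω : Type*} [Field k₂] [Field l₂] [Field k₃] [Field l₃] [Field Ω]
    [Algebra k₂ l₂] [Algebra k₃ l₃] (j₂ : l₂ →+* Ω) (j₃ : l₃ →+* Ω)
    (hl : ∀ x : l₃, ∃ y : l₂, j₂ y = j₃ x)
    (hk : ∀ x : k₂, ∃ y : k₃, j₃ (algebraMap k₃ l₃ y) = j₂ (algebraMap k₂ l₂ x))
    (hk' : ∀ y : k₃, ∃ x : k₂, j₂ (algebraMap k₂ l₂ x) = j₃ (algebraMap k₃ l₃ y))
    [Algebra.IsGeometricallyReduced k₂ l₂] : Algebra.IsGeometricallyReduced k₃ l₃ := by
  choose φ hφ using hl
  choose ε hε using hk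
  have hj₂ := j₂.injective
  have hj₃ := j₃.injective
  have hi₃ := (algebraMap k₃ l₃).injective
  let φr : l₃ →+* l₂ :=
    { toFun := φ
      map_one' := hj₂ (by rw [hφ, map_one, map_one])
      map_mul' := fun x y => hj₂ (by rw [hφ, map_mul, map_mul, hφ, hφ])
      map_zero' := hj₂ (by rw [hφ, map_zero, map_zero])
      map_add' := fun x y => hj₂ (by rw [hφ, map_add, map_add, hφ, hφ]) }
  let εr : k₂ →+* k₃ :=
    { toFun := ε
      map_one' := hi₃ (hj₃ (by rw [hε, map_one, map_one, map_one, map_one]))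
      map_mul' := fun x y => hi₃ (hj₃ (by
        rw [hε, map_mul, map_mul, map_mul, map_mul, hε, hε]))
      map_zero' := hi₃ (hj₃ (by rw [hε, map_zero, map_zero, map_zero, map_zero]))
      map_add' := fun x y => hi₃ (hj₃ (by
        rw [hε, map_add, map_add, map_add, map_add, hε, hε])) }
  have hsurj : Function.Surjective εr := by
    intro y
    obtain ⟨x, hx⟩ := hk' y
    exact ⟨x, hi₃ (hj₃ (by show j₃ (algebraMap k₃ l₃ (ε x)) = _; rw [hε, hx]))⟩
  letI : Algebra k₂ k₃ := εr.toAlgebra
  letI : Algebra k₂ l₃ := ((algebraMap k₃ l₃).comp εr).toAlgebra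
  haveI : IsScalarTower k₂ k₃ l₃ := IsScalarTower.of_algebraMap_eq (fun _ => rfl)
  let φa : l₃ →ₐ[k₂] l₂ :=
    { φr with
      commutes' := fun x => hj₂ (by
        show j₂ (φ (algebraMap k₃ l₃ (ε x))) = _
        rw [hφ, hε]) }
  haveI : Algebra.IsGeometricallyReduced k₂ l₃ :=
    Algebra.IsGeometricallyReduced.of_injective φa φr.injective
  exact isGeometricallyReduced_of_surjective k₂ k₃ l₃ hsurj

end Groth.Agent.Lib.Helper9.GRTransfer
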