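import Mathlib

open TensorProduct IntermediateField

universe u

set_option linter.unusedSectionVars false
set_option linter.style.haveILetI false
set_option linter.overlappingInstances false

namespace Groth.Agent.Lib.Helper9.GaloisClosureP

section

variable {K : Type u} [Field K]
  (P : ∀ (M : Type u) [Field M] [Algebra K M], Prop)
  (hP : ∀ (L₁ L₂ M : Type u) [Field L₁] [Field L₂] [Field M] [Algebra K L₁] [Algebra K L₂]
    [Algebra K M] [Algebra L₁ M] [Algebra L₂ M] [IsScalarTower K L₁ M] [IsScalarTower K L₂ M]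
    [FiniteDimensional K L₁] [FiniteDimensional K L₂],
    Algebra.adjoin L₂ (Set.range (algebraMap L₁ M)) = ⊤ →
    Algebra.adjoin L₁ (Set.range (algebraMap L₂ M)) = ⊤ → P L₁ → P L₂ → P M)

/-- generation of a quotient of a tensor product of fields. -/
theorem adjoin_eq_top_of_surjective {L₁ L₂ F : Type u} [Field L₁] [Field L₂] [Field F]
    [Algebra K L₁] [Algebra K L₂] [Algebra L₁ F] [Algebra L₂ F]
    (φ : L₁ ⊗[K] L₂ →+* F) (hφ : Function.Surjective φ)
    (h₁ : ∀ a : L₁, φ (a ⊗ₜ 1) = algebraMap L₁ F a) (h₂ : ∀ b : L₂, φ (1 ⊗ₜ b) = algebraMap L₂ F b) :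
    Algebra.adjoin L₂ (Set.range (algebraMap L₁ F)) = ⊤ ∧
      Algebra.adjoin L₁ (Set.range (algebraMap L₂ F)) = ⊤ := by
  have key : ∀ a b, φ (a ⊗ₜ[K] b) = algebraMap L₁ F a * algebraMap L₂ F b := by
    intro a b
    rw [← h₁, ← h₂, ← map_mul, Algebra.TensorProduct.tmul_mul_tmul, one_mul, mul_one]
  constructor
  · rw [eq_top_iff]
    intro x _
    obtain ⟨t, rfl⟩ := hφ x
    induction t using TensorProduct.induction_on with
    | zero => rw [map_zero]; exact Subalgebra.zero_mem _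
    | tmul a b =>
      rw [key, mul_comm]
      exact Subalgebra.mul_mem _ (Subalgebra.algebraMap_mem _ _) (Algebra.subset_adjoin ⟨a, rfl⟩)
    | add x y hx hy =>
      rw [map_add]; exact Subalgebra.add_mem _ (hx Algebra.mem_top) (hy Algebra.mem_top)
  · rw [eq_top_iff]
    intro x _
    obtain ⟨t, rfl⟩ := hφ x
    induction t using TensorProduct.induction_on with
    | zero => rw [map_zero]; exact Subalgebra.zero_mem _
    | tmul a b =>
      rw [key]
      exact Subalgebra.mul_mem _ (Subalgebra.algebraMap_mem _ _) (Algebra.subset_adjoin ⟨b, rfl⟩)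
    | add x y hx hy =>
      rw [map_add]; exact Subalgebra.add_mem _ (hx Algebra.mem_top) (hy Algebra.mem_top)

include hP in
theorem exists_common (L₁ L₂ : Type u) [Field L₁] [Field L₂] [Algebra K L₁] [Algebra K L₂]
    [FiniteDimensional K L₁] [FiniteDimensional K L₂] [Algebra.IsSeparable K L₁]
    [Algebra.IsSeparable K L₂] (h₁ : P L₁) (h₂ : P L₂) :
    ∃ (M : Type u) (_ : Field M) (_ : Algebra K M) (_ : FiniteDimensional K M)
      (_ : Algebra.IsSeparable K M) (_ : L₁ →ₐ[K] M) (_ : L₂ →ₐ[K] M), P M := by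
  classical
  obtain ⟨m, hm⟩ := Ideal.exists_maximal (L₁ ⊗[K] L₂)
  letI fld : Field ((L₁ ⊗[K] L₂) ⧸ m) := Ideal.Quotient.field m
  let f₁ : L₁ →ₐ[K] (L₁ ⊗[K] L₂) ⧸ m :=
    (Ideal.Quotient.mkₐ K m).comp Algebra.TensorProduct.includeLeft
  let f₂ : L₂ →ₐ[K] (L₁ ⊗[K] L₂) ⧸ m :=
    (Ideal.Quotient.mkₐ K m).comp Algebra.TensorProduct.includeRight
  letI alg₂ : Algebra L₂ ((L₁ ⊗[K] L₂) ⧸ m) := f₂.toRingHom.toAlgebra
  haveI : IsScalarTower K L₁ ((L₁ ⊗[K] L₂) ⧸ m) := inferInstance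
  haveI : IsScalarTower K L₂ ((L₁ ⊗[K] L₂) ⧸ m) :=
    IsScalarTower.of_algebraMap_eq fun k => (f₂.commutes k).symm
  haveI hfin : FiniteDimensional K ((L₁ ⊗[K] L₂) ⧸ m) :=
    Module.Finite.of_surjective (Ideal.Quotient.mkₐ K m).toLinearMap Ideal.Quotient.mk_surjective
  haveI : Algebra.FormallyUnramified K L₁ := Algebra.FormallyUnramified.of_isSeparable _ _
  haveI : Algebra.FormallyUnramified K L₂ := Algebra.FormallyUnramified.of_isSeparable _ _
  haveI : Algebra.FormallyUnramified L₁ (L₁ ⊗[K] L₂) := inferInstance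
  haveI : Algebra.FormallyUnramified K (L₁ ⊗[K] L₂) :=
    Algebra.FormallyUnramified.comp K L₁ (L₁ ⊗[K] L₂)
  haveI : Algebra.FormallyUnramified K ((L₁ ⊗[K] L₂) ⧸ m) :=
    Algebra.FormallyUnramified.of_surjective (Ideal.Quotient.mkₐ K m) Ideal.Quotient.mk_surjective
  haveI hsep : Algebra.IsSeparable K ((L₁ ⊗[K] L₂) ⧸ m) :=
    Algebra.FormallyUnramified.isSeparable K _
  obtain ⟨hg, hg₁⟩ := adjoin_eq_top_of_surjective (K := K) (L₁ := L₁) (L₂ := L₂)
    (F := (L₁ ⊗[K] L₂) ⧸ m) (Ideal.Quotient.mk m) Ideal.Quotient.mk_surjective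
    (fun a => rfl) (fun b => rfl)
  exact ⟨(L₁ ⊗[K] L₂) ⧸ m, fld, inferInstance, hfin, hsep, f₁, f₂,
    hP L₁ L₂ ((L₁ ⊗[K] L₂) ⧸ m) hg hg₁ h₁ h₂⟩

include hP in
theorem exists_galois (L : Type u) [Field L] [Algebra K L] [FiniteDimensional K L]
    [Algebra.IsSeparable K L] (hL : P L) :
    ∃ (M : Type u) (_ : Field M) (_ : Algebra K M) (_ : FiniteDimensional K M) (_ : IsGalois K M)
      (_ : L →ₐ[K] M), P M := by
  classical
  -- the predicate on intermediate fields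
  have hQsup : ∀ E₁ : IntermediateField K (AlgebraicClosure L),
      (FiniteDimensional K E₁ ∧ P E₁) → ∀ E₂ : IntermediateField K (AlgebraicClosure L),
      (FiniteDimensional K E₂ ∧ P E₂) → (FiniteDimensional K ↥(E₁ ⊔ E₂) ∧ P ↥(E₁ ⊔ E₂)) := by
    rintro E₁ ⟨hf₁, hP₁⟩ E₂ ⟨hf₂, hP₂⟩
    haveI := hf₁
    haveI := hf₂
    refine ⟨inferInstance, ?_⟩
    letI alg₁ : Algebra E₁ ↥(E₁ ⊔ E₂) :=
      (IntermediateField.inclusion (le_sup_left : E₁ ≤ E₁ ⊔ E₂)).toRingHom.toAlgebra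
    letI alg₂ : Algebra E₂ ↥(E₁ ⊔ E₂) :=
      (IntermediateField.inclusion (le_sup_right : E₂ ≤ E₁ ⊔ E₂)).toRingHom.toAlgebra
    haveI : IsScalarTower K E₁ ↥(E₁ ⊔ E₂) := IsScalarTower.of_algebraMap_eq fun k => rfl
    haveI : IsScalarTower K E₂ ↥(E₁ ⊔ E₂) := IsScalarTower.of_algebraMap_eq fun k => rfl
    have hsub : (E₁ ⊔ E₂).toSubalgebra = E₁.toSubalgebra ⊔ E₂.toSubalgebra :=
      IntermediateField.sup_toSubalgebra_of_left E₁ E₂
    have hmem : ∀ x : AlgebraicClosure L, x ∈ E₁ ⊔ E₂ →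
        x ∈ Algebra.adjoin K ((E₁ : Set (AlgebraicClosure L)) ∪ E₂) := by
      intro x hx
      have h1 : x ∈ (E₁ ⊔ E₂).toSubalgebra := hx
      rw [hsub] at h1
      have h2 : E₁.toSubalgebra ⊔ E₂.toSubalgebra =
          Algebra.adjoin K ((E₁ : Set (AlgebraicClosure L)) ∪ E₂) := by
        rw [Algebra.adjoin_union]
        congr 1
        · exact (Algebra.adjoin_eq _).symm
        · exact (Algebra.adjoin_eq _).symm
      rwa [h2] at h1
    have hg : ∀ (S : Subalgebra E₂ ↥(E₁ ⊔ E₂)), (∀ a : E₁, algebraMap E₁ ↥(E₁ ⊔ E₂) a ∈ S) →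
        S = ⊤ := by
      intro S hS
      rw [eq_top_iff]
      rintro ⟨x, hx⟩ -
      have key : ∀ y ∈ Algebra.adjoin K ((E₁ : Set (AlgebraicClosure L)) ∪ E₂),
          ∃ hy : y ∈ E₁ ⊔ E₂, (⟨y, hy⟩ : ↥(E₁ ⊔ E₂)) ∈ S := by
        intro y hy
        induction hy using Algebra.adjoin_induction with
        | mem y hy =>
          rcases hy with hy | hy
          · exact ⟨(le_sup_left : E₁ ≤ E₁ ⊔ E₂) hy, hS ⟨y, hy⟩⟩
          · exact ⟨(le_sup_right : E₂ ≤ E₁ ⊔ E₂) hy, S.algebraMap_mem ⟨y, hy⟩⟩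
        | algebraMap k =>
          exact ⟨(E₁ ⊔ E₂).algebraMap_mem k, S.algebraMap_mem (algebraMap K E₂ k)⟩
        | add y z _ _ hy hz =>
          obtain ⟨hy1, hy2⟩ := hy
          obtain ⟨hz1, hz2⟩ := hz
          exact ⟨(E₁ ⊔ E₂).add_mem hy1 hz1, S.add_mem hy2 hz2⟩
        | mul y z _ _ hy hz =>
          obtain ⟨hy1, hy2⟩ := hy
          obtain ⟨hz1, hz2⟩ := hz
          exact ⟨(E₁ ⊔ E₂).mul_mem hy1 hz1, S.mul_mem hy2 hz2⟩
      obtain ⟨_, h2⟩ := key x (hmem x hx)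
      exact h2
    have hg' : ∀ (S : Subalgebra E₁ ↥(E₁ ⊔ E₂)), (∀ a : E₂, algebraMap E₂ ↥(E₁ ⊔ E₂) a ∈ S) →
        S = ⊤ := by
      intro S hS
      rw [eq_top_iff]
      rintro ⟨x, hx⟩ -
      have key : ∀ y ∈ Algebra.adjoin K ((E₁ : Set (AlgebraicClosure L)) ∪ E₂),
          ∃ hy : y ∈ E₁ ⊔ E₂, (⟨y, hy⟩ : ↥(E₁ ⊔ E₂)) ∈ S := by
        intro y hy
        induction hy using Algebra.adjoin_induction with
        | mem y hy =>
          rcases hy with hy | hy
          · exact ⟨(le_sup_left : E₁ ≤ E₁ ⊔ E₂) hy, S.algebraMap_mem ⟨y, hy⟩⟩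
          · exact ⟨(le_sup_right : E₂ ≤ E₁ ⊔ E₂) hy, hS ⟨y, hy⟩⟩
        | algebraMap k =>
          exact ⟨(E₁ ⊔ E₂).algebraMap_mem k, S.algebraMap_mem (algebraMap K E₁ k)⟩
        | add y z _ _ hy hz =>
          obtain ⟨hy1, hy2⟩ := hy
          obtain ⟨hz1, hz2⟩ := hz
          exact ⟨(E₁ ⊔ E₂).add_mem hy1 hz1, S.add_mem hy2 hz2⟩
        | mul y z _ _ hy hz =>
          obtain ⟨hy1, hy2⟩ := hy
          obtain ⟨hz1, hz2⟩ := hz
          exact ⟨(E₁ ⊔ E₂).mul_mem hy1 hz1, S.mul_mem hy2 hz2⟩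
      obtain ⟨_, h2⟩ := key x (hmem x hx)
      exact h2
    exact hP E₁ E₂ ↥(E₁ ⊔ E₂)
      (hg _ fun a => Algebra.subset_adjoin ⟨a, rfl⟩)
      (hg' _ fun a => Algebra.subset_adjoin ⟨a, rfl⟩) hP₁ hP₂
  have hQrange : ∀ f : L →ₐ[K] AlgebraicClosure L,
      FiniteDimensional K f.fieldRange ∧ P f.fieldRange := by
    intro f
    haveI hfin : FiniteDimensional K f.fieldRange := f.toLinearMap.finiteDimensional_range
    refine ⟨hfin, ?_⟩
    let f' : L →ₐ[K] f.fieldRange := f.codRestrict f.fieldRange.toSubalgebra fun x => ⟨x, rfl⟩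
    letI alg : Algebra L f.fieldRange := f'.toRingHom.toAlgebra
    haveI : IsScalarTower K L f.fieldRange :=
      IsScalarTower.of_algebraMap_eq fun k => (f'.commutes k).symm
    have hsurj : Function.Surjective (algebraMap L f.fieldRange) := by
      rintro ⟨_, ⟨x, rfl⟩⟩
      exact ⟨x, rfl⟩
    have hg : Algebra.adjoin L (Set.range (algebraMap L f.fieldRange)) = ⊤ := by
      rw [eq_top_iff]
      intro y _
      obtain ⟨x, rfl⟩ := hsurj y
      exact Subalgebra.algebraMap_mem _ x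
    exact hP L L f.fieldRange hg hg hL hL
  have hQ : FiniteDimensional K (normalClosure K L (AlgebraicClosure L)) ∧
      P (normalClosure K L (AlgebraicClosure L)) := by
    haveI : Nonempty (L →ₐ[K] AlgebraicClosure L) :=
      ⟨IsScalarTower.toAlgHom K L (AlgebraicClosure L)⟩
    have h1 : normalClosure K L (AlgebraicClosure L) =
        Finset.univ.sup' Finset.univ_nonempty (fun f : L →ₐ[K] AlgebraicClosure L => f.fieldRange) := by
      rw [Finset.sup'_eq_sup, Finset.sup_univ_eq_iSup]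
      rfl
    rw [h1]
    exact Finset.sup'_induction Finset.univ_nonempty
      (fun f : L →ₐ[K] AlgebraicClosure L => f.fieldRange)
      (p := fun E : IntermediateField K (AlgebraicClosure L) => FiniteDimensional K E ∧ P E)
      hQsup (fun f _ => hQrange f)
  obtain ⟨hfin, hPM⟩ := hQ
  haveI : ∀ f : L →ₐ[K] AlgebraicClosure L, Algebra.IsSeparable K f.fieldRange := by
    intro f
    let e : L ≃ₐ[K] f.fieldRange := AlgEquiv.ofInjectiveField f
    exact AlgEquiv.Algebra.isSeparable e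
  haveI hsep : Algebra.IsSeparable K (normalClosure K L (AlgebraicClosure L)) := by
    rw [normalClosure_def]
    infer_instance
  haveI hgal : IsGalois K (normalClosure K L (AlgebraicClosure L)) := ⟨⟩
  exact ⟨normalClosure K L (AlgebraicClosure L), inferInstance, inferInstance, hfin, hgal,
    IsScalarTower.toAlgHom K L (normalClosure K L (AlgebraicClosure L)), hPM⟩

end

end Groth.Agent.Lib.Helper9.GaloisClosureP
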