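import Mathlib
import Groth.Prelude.Def_PiSp

/-!
# Residue field extensions of Galois covers

For a Galois cover `Z → X` (in the sense of `PiSp.IsGaloisCover`) and a point `z` of `Z`,
automorphisms of `Z` induce all the embeddings of `κ(z)` over `κ(x)`.
-/

universe u

set_option linter.unusedSectionVars false
set_option linter.style.haveILetI false

namespace Groth.Agent.Lib.Helper9.GaloisCoverRes

open AlgebraicGeometry CategoryTheory

variable {X : Scheme.{u}} (Z : FEt.Cat X) (z : Z.left)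

/-- `σ` induces `γ` on the residue field at `z`. -/
def Rel (σ : Z.left ⟶ Z.left) (γ : Z.left.residueField z ⟶ Z.left.residueField z) : Prop :=
  Spec.map γ ≫ Z.left.fromSpecResidueField z = Z.left.fromSpecResidueField z ≫ σ

theorem rel_id : Rel Z z (𝟙 _) (𝟙 _) := by
  simp [Rel]

theorem Rel.comp {σ τ : Z.left ⟶ Z.left} {γ δ : Z.left.residueField z ⟶ Z.left.residueField z}
    (h : Rel Z z σ γ) (h' : Rel Z z τ δ) : Rel Z z (σ ≫ τ) (δ ≫ γ) := by
  unfold Rel at *
  rw [Spec.map_comp, Category.assoc, h', ← Category.assoc, h, Category.assoc]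

theorem Rel.eq_id {γ : Z.left.residueField z ⟶ Z.left.residueField z} (h : Rel Z z (𝟙 _) γ) :
    γ = 𝟙 _ := by
  unfold Rel at h
  rw [Category.comp_id] at h
  have h1 : Spec.map γ = 𝟙 _ := by
    rw [← cancel_mono (Z.left.fromSpecResidueField z), h, Category.id_comp]
  rw [← Spec.map_id] at h1
  exact Spec.map_injective h1

theorem Rel.fixes {σ : Aut Z} {γ : Z.left.residueField z ⟶ Z.left.residueField z}
    (h : Rel Z z σ.hom.left γ) : Z.hom.residueFieldMap z ≫ γ = Z.hom.residueFieldMap z := by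
  unfold Rel at h
  have hw : σ.hom.left ≫ Z.hom = Z.hom := Over.w σ.hom.hom
  have h1 : Spec.map γ ≫ Z.left.fromSpecResidueField z ≫ Z.hom =
      Z.left.fromSpecResidueField z ≫ Z.hom := by
    rw [← Category.assoc, h, Category.assoc, hw]
  rw [← Scheme.Hom.SpecMap_residueFieldMap_fromSpecResidueField, ← Category.assoc,
    cancel_mono, ← Spec.map_comp] at h1
  exact Spec.map_injective h1

/-- iterated composition. -/
def gpow {R : CommRingCat.{u}} (γ : R ⟶ R) : ℕ → (R ⟶ R)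
  | 0 => 𝟙 _
  | m + 1 => γ ≫ gpow γ m

theorem Rel.pow {σ : Aut Z} {γ : Z.left.residueField z ⟶ Z.left.residueField z}
    (h : Rel Z z σ.hom.left γ) (m : ℕ) :
    Rel Z z (σ ^ m).hom.left (gpow γ m) := by
  induction m with
  | zero =>
    rw [pow_zero]
    exact rel_id Z z
  | succ m ih =>
    rw [pow_succ']
    have := Rel.comp Z z ih h
    exact this

theorem exists_aut_of_embeddings (hZ : PiSp.IsGaloisCover Z)
    (Ω : Type u) [Field Ω] [IsAlgClosed Ω]
    (j₀ j₁ : Z.left.residueField z ⟶ CommRingCat.of Ω)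
    (hj : Z.hom.residueFieldMap z ≫ j₀ = Z.hom.residueFieldMap z ≫ j₁) :
    ∃ (σ : Aut Z) (γ : Z.left.residueField z ⟶ Z.left.residueField z),
      Rel Z z σ.hom.left γ ∧ j₁ = γ ≫ j₀ := by
  classical
  let ξ : Spec (CommRingCat.of Ω) ⟶ X :=
    Spec.map (Z.hom.residueFieldMap z ≫ j₀) ≫ X.fromSpecResidueField (Z.hom.base z)
  have h0 : (Spec.map j₀ ≫ Z.left.fromSpecResidueField z) ≫ Z.hom = ξ := by
    rw [Category.assoc, ← Scheme.Hom.SpecMap_residueFieldMap_fromSpecResidueField,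
      ← Category.assoc, ← Spec.map_comp]
    rfl
  have h1 : (Spec.map j₁ ≫ Z.left.fromSpecResidueField z) ≫ Z.hom = ξ := by
    rw [Category.assoc, ← Scheme.Hom.SpecMap_residueFieldMap_fromSpecResidueField,
      ← Category.assoc, ← Spec.map_comp, ← hj]
    rfl
  let s₀ : FEt.fiberObj ξ Z := ⟨Spec.map j₀ ≫ Z.left.fromSpecResidueField z, h0⟩
  let s₁ : FEt.fiberObj ξ Z := ⟨Spec.map j₁ ≫ Z.left.fromSpecResidueField z, h1⟩
  obtain ⟨σ, hσ⟩ := hZ.2 Ω ξ s₀ s₁
  have h2 : (Spec.map j₀ ≫ Z.left.fromSpecResidueField z) ≫ σ.hom.left =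
      Spec.map j₁ ≫ Z.left.fromSpecResidueField z := congrArg Subtype.val hσ
  -- the point
  have hpt : σ.hom.left.base z = z := by
    have h3 := congrArg (fun t => t.base (IsLocalRing.closedPoint Ω)) h2
    simpa using h3
  obtain ⟨z', hz', γ, hγ⟩ : ∃ z' : Z.left, z' = z ∧
      ∃ γ : Z.left.residueField z' ⟶ Z.left.residueField z,
        Spec.map γ ≫ Z.left.fromSpecResidueField z' =
          Z.left.fromSpecResidueField z ≫ σ.hom.left := by
    let t : Spec (CommRingCat.of ↑(Z.left.residueField z)) ⟶ Z.left :=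
      Z.left.fromSpecResidueField z ≫ σ.hom.left
    have h := Scheme.descResidueField_stalkClosedPointTo_fromSpecResidueField
      (Z.left.residueField z) Z.left t
    refine ⟨_, ?_, _, h⟩
    show (Z.left.fromSpecResidueField z ≫ σ.hom.left) _ = z
    rw [Scheme.Hom.comp_apply, Scheme.fromSpecResidueField_apply]
    exact hpt
  subst hz'
  refine ⟨σ, γ, hγ, ?_⟩
  have h4 : Spec.map j₁ ≫ Z.left.fromSpecResidueField z' =
      Spec.map (γ ≫ j₀) ≫ Z.left.fromSpecResidueField z' := by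
    rw [← h2, Category.assoc, ← hγ, ← Category.assoc, ← Spec.map_comp]
  rw [cancel_mono] at h4
  exact Spec.map_injective h4

theorem gpow_ofHom {K L : Type u} [Field K] [Field L] [Algebra K L] (γ : L ≃ₐ[K] L) (m : ℕ) :
    gpow (CommRingCat.ofHom ((γ : L ≃ₐ[K] L) : L →+* L)) m =
      CommRingCat.ofHom (((γ ^ m : L ≃ₐ[K] L)) : L →+* L) := by
  induction m with
  | zero => rfl
  | succ m ih =>
    rw [gpow, ih, pow_succ]
    rfl

local notation "Kx" => X.residueField (Z.hom.base z)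
local notation "Lz" => Z.left.residueField z

theorem isGalois_and_dvd (hZ : PiSp.IsGaloisCover Z) [Finite (Aut Z)]
    [Algebra Kx Lz] (halg : algebraMap Kx Lz = (Z.hom.residueFieldMap z).hom)
    [FiniteDimensional Kx Lz] [Algebra.IsSeparable Kx Lz] :
    IsGalois Kx Lz ∧ ∀ p : ℕ, p.Prime → p ∣ Module.finrank Kx Lz → p ∣ Nat.card (Aut Z) := by
  classical
  let j₀ : Lz →ₐ[Kx] AlgebraicClosure Lz := IsScalarTower.toAlgHom Kx Lz (AlgebraicClosure Lz)
  have key : ∀ j : Lz →ₐ[Kx] AlgebraicClosure Lz, ∃ (σ : Aut Z) (γ : Lz ≃ₐ[Kx] Lz),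
      Rel Z z σ.hom.left (CommRingCat.ofHom ((γ : Lz ≃ₐ[Kx] Lz) : Lz →+* Lz)) ∧
        ∀ l, j l = j₀ (γ l) := by
    intro j
    have hj : Z.hom.residueFieldMap z ≫ CommRingCat.ofHom (j₀ : Lz →+* AlgebraicClosure Lz) =
        Z.hom.residueFieldMap z ≫ CommRingCat.ofHom (j : Lz →+* AlgebraicClosure Lz) := by
      ext a
      show j₀ ((Z.hom.residueFieldMap z).hom a) = j ((Z.hom.residueFieldMap z).hom a)
      rw [← halg, AlgHom.commutes, AlgHom.commutes]
    obtain ⟨σ, γ', hrel, hγ'⟩ := exists_aut_of_embeddings Z z hZ (AlgebraicClosure Lz) _ _ hj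
    have hfix := hrel.fixes
    let γalg : Lz →ₐ[Kx] Lz :=
      { γ'.hom with
        commutes' := fun a => by
          have := congrArg (fun h => h.hom a) hfix
          rw [halg]
          exact this }
    let γ : Lz ≃ₐ[Kx] Lz := AlgEquiv.ofBijective γalg (AlgHom.bijective γalg)
    refine ⟨σ, γ, ?_, fun l => ?_⟩
    · have : CommRingCat.ofHom ((γ : Lz ≃ₐ[Kx] Lz) : Lz →+* Lz) = γ' := by
        ext l; rfl
      exact (congrArg (Rel Z z σ.hom.left) this).mpr hrel
    · exact congrArg (fun h => h.hom l) hγ'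
  have hj₀inj : Function.Injective j₀ := j₀.toRingHom.injective
  have hcard : Nat.card (Lz ≃ₐ[Kx] Lz) = Module.finrank Kx Lz := by
    rw [← Field.finSepDegree_eq_finrank_of_isSeparable Kx Lz]
    unfold Field.finSepDegree Field.Emb
    refine Nat.card_congr (Equiv.ofBijective (fun γ => j₀.comp (γ : Lz →ₐ[Kx] Lz)) ⟨?_, ?_⟩)
    · intro γ γ' h
      ext l
      exact hj₀inj (congrArg (fun f => f l) h)
    · intro j
      obtain ⟨σ, γ, -, hγ⟩ := key j
      exact ⟨γ, AlgHom.ext fun l => (hγ l).symm⟩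
  refine ⟨IsGalois.of_card_aut_eq_finrank Kx Lz hcard, fun p hp hdvd => ?_⟩
  haveI : Fact p.Prime := ⟨hp⟩
  rw [← hcard] at hdvd
  obtain ⟨γ₀, hγ₀⟩ := exists_prime_orderOf_dvd_card' p hdvd
  obtain ⟨σ, γ, hrel, hγ⟩ := key (j₀.comp (γ₀ : Lz →ₐ[Kx] Lz))
  have hγeq : γ = γ₀ := by
    ext l
    exact (hj₀inj (hγ l)).symm
  subst hγeq
  have hpow := hrel.pow Z z (orderOf σ)
  have e1 : σ ^ orderOf σ = 1 := pow_orderOf_eq_one σ
  have e2 : (σ ^ orderOf σ).hom.left = 𝟙 _ :=
    congrArg (fun τ : Aut Z => (Iso.hom τ).left) e1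
  have hpow' : Rel Z z (𝟙 _) (CommRingCat.ofHom (((γ ^ orderOf σ : Lz ≃ₐ[Kx] Lz)) : Lz →+* Lz)) := by
    have h3 := e2 ▸ hpow
    exact (congrArg (Rel Z z (𝟙 _)) (gpow_ofHom (K := Kx) (L := Lz) γ (orderOf σ))).mp h3
  have h1 := Rel.eq_id Z z hpow'
  have h2 : γ ^ orderOf σ = 1 := by
    ext l
    exact congrArg (fun h => h.hom l) h1
  rw [← hγ₀]
  exact (orderOf_dvd_of_pow_eq_one h2).trans (orderOf_dvd_natCard σ)

end Groth.Agent.Lib.Helper9.GaloisCoverRes
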