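import Mathlib
import Groth.Prelude.Def_EtRam
import Groth.Agent.Lib.Helper9.DvrExt
import Groth.Agent.Lib.Helper9.DvrEisensteinApp

/-!
# Galois extensions of degree prime to the residue characteristic are tamely ramified

`A` a DVR with fraction field `K`, `L/K` finite Galois with `[L:K]` prime to the residue
characteristic of `A`.  Then `L/K` is tamely ramified with respect to `A` (in the valuation-subring
sense of `EtRam.IsTamelyRamified`).
-/

open Polynomial

universe u

set_option linter.unusedSectionVars false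
set_option linter.style.haveILetI false
set_option linter.overlappingInstances false

namespace Groth.Agent.Lib.Helper9.GaloisTame

open Groth.Agent.Lib.Helper9.DvrExt Groth.Agent.Lib.Helper9.DvrEisensteinApp

local notation "𝔪" => IsLocalRing.maximalIdeal
local notation "κ" => IsLocalRing.ResidueField

theorem isSeparable_of_not_dvd_finrank {F E : Type*} [Field F] [Field E] [Algebra F E]
    [FiniteDimensional F E]
    (h : ∀ p : ℕ, p.Prime → CharP F p → ¬ p ∣ Module.finrank F E) : Algebra.IsSeparable F E := by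
  rw [Algebra.isSeparable_def]
  intro x
  have hx : IsIntegral F x := Algebra.IsIntegral.isIntegral x
  obtain ⟨q, hq⟩ := CharP.exists F
  rcases CharP.char_is_prime_or_zero F q with hq' | hq'
  · haveI := hq
    rcases Polynomial.separable_or q (minpoly.irreducible hx) with hs | ⟨_, g, _, hg⟩
    · exact hs
    · exfalso
      apply h q hq' hq
      have h1 : q ∣ (minpoly F x).natDegree := by
        rw [← hg, Polynomial.natDegree_expand]; exact dvd_mul_left _ _
      exact h1.trans (minpoly.degree_dvd hx)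
  · subst hq'
    haveI : CharZero F := CharP.charP_to_charZero F
    exact (minpoly.irreducible hx).separable

section Dict

variable {L B : Type u} [Field L] [CommRing B] [IsDomain B] [IsDedekindDomain B]
  [Algebra B L] [IsFractionRing B L]
  (V : ValuationSubring L) (hBV : ∀ b : B, algebraMap B L b ∈ V)

/-- the map `B → V`. -/
noncomputable def toV : B →+* V := (algebraMap B L).codRestrict V hBV

theorem toV_coe (b : B) : ((toV V hBV b : V) : L) = algebraMap B L b := rfl

theorem toV_injective : Function.Injective (toV V hBV) := fun a b h =>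
  IsFractionRing.injective B L (congrArg (fun v : V => (v : L)) h)

/-- the centre of `V` on `B`. -/
noncomputable def centre : Ideal B := (𝔪 V).comap (toV V hBV)

instance : (centre V hBV).IsPrime := Ideal.comap_isPrime _ _

theorem mem_centre {b : B} : b ∈ centre V hBV ↔ ¬ IsUnit (toV V hBV b) := by
  rw [centre, Ideal.mem_comap, IsLocalRing.mem_maximalIdeal, mem_nonunits_iff]

theorem isUnit_toV_of_not_mem {s : B} (hs : s ∉ centre V hBV) : IsUnit (toV V hBV s) := by
  by_contra h
  exact hs ((mem_centre V hBV).2 h)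

/-- `V = B_P`: every element of `V` is a fraction with denominator outside the centre. -/
theorem exists_mul_eq (hP : centre V hBV ≠ ⊥) (v : V) :
    ∃ s : B, s ∉ centre V hBV ∧ ∃ a : B, v * toV V hBV s = toV V hBV a := by
  classical
  set P := centre V hBV with hPdef
  have hS : P.primeCompl ≤ nonZeroDivisors B := P.primeCompl_le_nonZeroDivisors
  let S' : Subalgebra B L := Localization.subalgebra.ofField L P.primeCompl hS
  haveI : IsLocalization.AtPrime S' P :=
    Localization.subalgebra.isLocalization_ofField L P.primeCompl hS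
  haveI : IsFractionRing S' L := Localization.subalgebra.isFractionRing_ofField L P.primeCompl hS
  haveI : IsDiscreteValuationRing S' :=
    IsLocalization.AtPrime.isDiscreteValuationRing_of_dedekind_domain B hP S'
  have hmem : ∀ x : L, x ∈ S' ↔ ∃ (a s : B) (_ : s ∈ P.primeCompl),
      x = algebraMap B L a * (algebraMap B L s)⁻¹ := fun x => Iff.rfl
  -- units
  have hunitL : ∀ s : B, s ∉ P → (algebraMap B L s)⁻¹ ∈ V := by
    intro s hs
    obtain ⟨u, hu⟩ := isUnit_toV_of_not_mem V hBV hs
    have h1 : ((u⁻¹ : Vˣ) : V) * toV V hBV s = 1 := by rw [← hu]; exact u.inv_mul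
    have h2 : (((u⁻¹ : Vˣ) : V) : L) * algebraMap B L s = 1 :=
      congrArg (fun v : V => (v : L)) h1
    have h3 : (algebraMap B L s)⁻¹ = (((u⁻¹ : Vˣ) : V) : L) :=
      (eq_inv_of_mul_eq_one_left h2).symm
    rw [h3]; exact ((u⁻¹ : Vˣ) : V).2
  have h1 : ∀ b : S', algebraMap S' L b ∈ V := by
    rintro ⟨x, hx⟩
    obtain ⟨a, s, hs, rfl⟩ := (hmem x).1 hx
    exact V.mul_mem _ _ (hBV a) (hunitL s hs)
  have h2 : ∀ b : S', b ∈ 𝔪 S' → V.valuation (algebraMap S' L b) < 1 := by
    rintro ⟨x, hx⟩ hb
    obtain ⟨a, s, hs, rfl⟩ := (hmem x).1 hx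
    -- `a ∈ P`
    have haP : a ∈ P := by
      by_contra haP
      apply (IsLocalRing.mem_maximalIdeal _).1 hb
      have hinv : algebraMap B L s * (algebraMap B L a)⁻¹ ∈ S' :=
        (hmem _).2 ⟨s, a, haP, rfl⟩
      refine isUnit_iff_exists_inv.2 ⟨⟨_, hinv⟩, Subtype.ext ?_⟩
      have ha0 : algebraMap B L a ≠ 0 := by
        rw [Ne, map_eq_zero_iff _ (IsFractionRing.injective B L)]
        rintro rfl; exact haP (zero_mem _)
      have hs0 : algebraMap B L s ≠ 0 := by
        rw [Ne, map_eq_zero_iff _ (IsFractionRing.injective B L)]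
        rintro rfl; exact hs (zero_mem _)
      show algebraMap B L a * (algebraMap B L s)⁻¹ * (algebraMap B L s * (algebraMap B L a)⁻¹) = 1
      field_simp
    have haV : toV V hBV a ∈ 𝔪 V := haP
    have hprod : toV V hBV a * ⟨(algebraMap B L s)⁻¹, hunitL s hs⟩ ∈ 𝔪 V :=
      Ideal.mul_mem_right _ _ haV
    exact (V.valuation_lt_one_iff _).1 hprod
  have hVeq := eq_rangeValuationSubring (B := S') (K₁ := L) V h1 h2
  have hv : (v : L) ∈ rangeValuationSubring S' L := hVeq ▸ v.2
  obtain ⟨⟨x, hx⟩, hxv⟩ := hv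
  obtain ⟨a, s, hs, rfl⟩ := (hmem x).1 hx
  refine ⟨s, hs, a, Subtype.ext ?_⟩
  have hs0 : algebraMap B L s ≠ 0 := by
    rw [Ne, map_eq_zero_iff _ (IsFractionRing.injective B L)]
    rintro rfl; exact hs (zero_mem _)
  show (v : L) * algebraMap B L s = algebraMap B L a
  rw [← hxv]
  show algebraMap B L a * (algebraMap B L s)⁻¹ * algebraMap B L s = algebraMap B L a
  field_simp

theorem isMaximal_centre (hP : centre V hBV ≠ ⊥) : (centre V hBV).IsMaximal :=
  Ideal.IsPrime.isMaximal inferInstance hP

/-- residues of `V` are represented by elements of `B`. -/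
theorem exists_sub_mem (hP : centre V hBV ≠ ⊥) (v : V) : ∃ b : B, v - toV V hBV b ∈ 𝔪 V := by
  obtain ⟨s, hs, a, hsa⟩ := exists_mul_eq V hBV hP v
  haveI := isMaximal_centre V hBV hP
  obtain ⟨t, ht⟩ := Ideal.Quotient.exists_inv (I := centre V hBV) (a := Ideal.Quotient.mk _ s)
    (by rwa [Ne, Ideal.Quotient.eq_zero_iff_mem])
  obtain ⟨t, rfl⟩ := Ideal.Quotient.mk_surjective t
  rw [← map_mul, ← map_one (Ideal.Quotient.mk (centre V hBV)), Ideal.Quotient.eq] at ht
  refine ⟨a * t, ?_⟩
  have h1 : toV V hBV (s * t - 1) ∈ 𝔪 V := ht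
  have h2 : v - toV V hBV (a * t) = - (v * toV V hBV (s * t - 1)) := by
    rw [map_mul, ← hsa, map_sub, map_mul, map_one]; ring
  rw [h2]
  exact neg_mem (Ideal.mul_mem_left _ _ h1)

theorem map_centre (hP : centre V hBV ≠ ⊥) : (centre V hBV).map (toV V hBV) = 𝔪 V := by
  apply le_antisymm
  · exact Ideal.map_comap_le
  · intro v hv
    obtain ⟨s, hs, a, hsa⟩ := exists_mul_eq V hBV hP v
    obtain ⟨u, hu⟩ := isUnit_toV_of_not_mem V hBV hs
    have ha : a ∈ centre V hBV := by
      show toV V hBV a ∈ 𝔪 V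
      rw [← hsa]; exact Ideal.mul_mem_right _ _ hv
    have h1 : v = toV V hBV a * ((u⁻¹ : Vˣ) : V) := by
      rw [← hsa, ← hu, mul_assoc, Units.mul_inv, mul_one]
    rw [h1]
    exact Ideal.mul_mem_right _ _ (Ideal.mem_map_of_mem _ ha)

theorem exists_mul_eq_of_mem_map (hP : centre V hBV ≠ ⊥) (J : Ideal B) (v : V)
    (hv : v ∈ J.map (toV V hBV)) :
    ∃ s : B, s ∉ centre V hBV ∧ ∃ c ∈ J, v * toV V hBV s = toV V hBV c := by
  induction hv using Submodule.span_induction with
  | mem y hy =>
    obtain ⟨c, hc, rfl⟩ := hy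
    exact ⟨1, (Ideal.ne_top_iff_one _).1 (Ideal.IsPrime.ne_top inferInstance), c, hc,
      by rw [map_one, mul_one]⟩
  | zero => exact ⟨1, (Ideal.ne_top_iff_one _).1 (Ideal.IsPrime.ne_top inferInstance), 0,
      J.zero_mem, by rw [map_zero, zero_mul]⟩
  | add y z _ _ hy hz =>
    obtain ⟨s, hs, c, hc, h⟩ := hy
    obtain ⟨s', hs', c', hc', h'⟩ := hz
    refine ⟨s * s', fun hss => (Ideal.IsPrime.mem_or_mem inferInstance hss).elim hs hs',
      c * s' + c' * s, J.add_mem (J.mul_mem_right _ hc) (J.mul_mem_right _ hc'), ?_⟩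
    rw [map_add, map_mul, map_mul, map_mul, ← h, ← h']; ring
  | smul w y _ hy =>
    obtain ⟨s, hs, c, hc, h⟩ := hy
    obtain ⟨t, ht, a, hta⟩ := exists_mul_eq V hBV hP w
    refine ⟨t * s, fun hss => (Ideal.IsPrime.mem_or_mem inferInstance hss).elim ht hs,
      a * c, J.mul_mem_left _ hc, ?_⟩
    rw [smul_eq_mul, map_mul, map_mul, ← h, ← hta]; ring

theorem mem_pow_iff (hP : centre V hBV ≠ ⊥) (n : ℕ) (b : B) :
    b ∈ centre V hBV ^ n ↔ toV V hBV b ∈ 𝔪 V ^ n := by
  constructor
  · intro hb
    rw [← map_centre V hBV hP, ← Ideal.map_pow]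
    exact Ideal.mem_map_of_mem _ hb
  · intro hb
    rw [← map_centre V hBV hP, ← Ideal.map_pow] at hb
    obtain ⟨s, hs, c, hc, h⟩ := exists_mul_eq_of_mem_map V hBV hP _ _ hb
    rw [← map_mul] at h
    have h1 : b * s = c := toV_injective V hBV h
    rw [← h1, mul_comm] at hc
    exact (Ideal.IsPrime.mul_mem_pow _ hc).resolve_left hs

theorem ramificationIdx'_eq {A : Type u} [CommRing A] [Algebra A B] [Algebra A V]
    (hcomp : ∀ a, algebraMap A V a = toV V hBV (algebraMap A B a)) (hP : centre V hBV ≠ ⊥)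
    (I : Ideal A) :
    Ideal.ramificationIdx' I (𝔪 V) = Ideal.ramificationIdx' I (centre V hBV) := by
  unfold Ideal.ramificationIdx'
  congr 1
  ext n
  simp only [Set.mem_setOf_eq, Ideal.map_le_iff_le_comap]
  constructor
  · intro h a ha
    rw [Ideal.mem_comap, mem_pow_iff V hBV hP, ← hcomp]
    exact h ha
  · intro h a ha
    rw [Ideal.mem_comap, hcomp, ← mem_pow_iff V hBV hP]
    exact h ha

end Dict

section Main

variable {A K L : Type u} [CommRing A] [IsDomain A] [IsDiscreteValuationRing A] [Field K]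
  [Algebra A K] [IsFractionRing A K] [Field L] [Algebra K L] [FiniteDimensional K L] [IsGalois K L]

theorem isTamelyRamified_of_isGalois
    (h : ∀ p : ℕ, p.Prime → CharP (A ⧸ 𝔪 A) p → ¬ p ∣ Module.finrank K L) :
    EtRam.IsTamelyRamified A ((algebraMap K L).comp (algebraMap A K)) := by
  classical
  letI algAL : Algebra A L := ((algebraMap K L).comp (algebraMap A K)).toAlgebra
  haveI : IsScalarTower A K L := IsScalarTower.of_algebraMap_eq fun _ => rfl
  haveI : IsFractionRing (integralClosure A L) L :=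
    integralClosure.isFractionRing_of_finite_extension K L
  haveI : IsDedekindDomain (integralClosure A L) :=
    IsIntegralClosure.isDedekindDomain A K L (integralClosure A L)
  haveI : Module.Finite A (integralClosure A L) :=
    IsIntegralClosure.finite A K L (integralClosure A L)
  letI := IsIntegralClosure.MulSemiringAction A K L (integralClosure A L)
  haveI : IsGaloisGroup (L ≃ₐ[K] L) A (integralClosure A L) :=
    IsGaloisGroup.of_isFractionRing _ _ _ K L
  intro V hV
  letI algAV : Algebra A V :=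
    (RingHom.codRestrict ((algebraMap K L).comp (algebraMap A K)) V hV.1).toAlgebra
  intro hloc
  haveI : IsDiscreteValuationRing V :=
    isDiscreteValuationRing_of_dominates (A := A) (K := K) (L := L) V hV
  have hinj : Function.Injective (algebraMap A V) := injective_codRestrict_of_dominates V hV
  have hBV : ∀ b : integralClosure A L, algebraMap (integralClosure A L) L b ∈ V := by
    intro b
    obtain ⟨p, hp, hpb⟩ := b.2
    exact mem_of_isIntegral_of_forall_mem ((algebraMap K L).comp (algebraMap A K)) V hV.1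
      ⟨p, hp, hpb⟩
  have hcomp : ∀ a, algebraMap A V a = toV V hBV (algebraMap A (integralClosure A L) a) :=
    fun a => Subtype.ext rfl
  have hinjAB : Function.Injective (algebraMap A (integralClosure A L)) := by
    intro a b hab
    apply hinj
    rw [hcomp, hcomp, hab]
  haveI : FaithfulSMul A (integralClosure A L) :=
    (faithfulSMul_iff_algebraMap_injective A _).2 hinjAB
  haveI : Module.IsTorsionFree A (integralClosure A L) := inferInstance
  obtain ⟨π, hπ⟩ := IsDiscreteValuationRing.exists_irreducible A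
  have hP : centre V hBV ≠ ⊥ := by
    intro h0
    have h1 : algebraMap A (integralClosure A L) π ∈ centre V hBV := by
      show toV V hBV (algebraMap A (integralClosure A L) π) ∈ 𝔪 V
      rw [← hcomp]
      exact (IsLocalRing.mem_maximalIdeal _).2 fun hu =>
        hπ.not_isUnit (isUnit_of_map_unit _ π hu)
    rw [h0, Ideal.mem_bot, map_eq_zero_iff _ hinjAB] at h1
    exact hπ.ne_zero h1
  haveI hPmax : (centre V hBV).IsMaximal := isMaximal_centre V hBV hP
  haveI hlies : (centre V hBV).LiesOver (𝔪 A) := ⟨by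
    ext a
    rw [Ideal.under, Ideal.mem_comap]
    show a ∈ 𝔪 A ↔ toV V hBV (algebraMap A (integralClosure A L) a) ∈ 𝔪 V
    rw [← hcomp, IsLocalRing.mem_maximalIdeal, IsLocalRing.mem_maximalIdeal, mem_nonunits_iff,
      mem_nonunits_iff, not_iff_not]
    exact ⟨fun hu => hu.map _, fun hu => isUnit_of_map_unit _ a hu⟩⟩
  have hid := Ideal.ncard_primesOver_mul_ramificationIdxIn_mul_inertiaDegIn (𝔪 A)
    (integralClosure A L) (L ≃ₐ[K] L)
  rw [Ideal.ramificationIdxIn_eq_ramificationIdx (𝔪 A) (centre V hBV) (L ≃ₐ[K] L),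
    Ideal.inertiaDegIn_eq_inertiaDeg (𝔪 A) (centre V hBV) (L ≃ₐ[K] L),
    IsGalois.card_aut_eq_finrank K L] at hid
  have he_dvd : (centre V hBV).ramificationIdx A ∣ Module.finrank K L :=
    ⟨((𝔪 A).primesOver (integralClosure A L)).ncard * (centre V hBV).inertiaDeg A, by
      rw [← hid]; ring⟩
  have hf_dvd : (centre V hBV).inertiaDeg A ∣ Module.finrank K L :=
    ⟨((𝔪 A).primesOver (integralClosure A L)).ncard * (centre V hBV).ramificationIdx A, by
      rw [← hid]; ring⟩
  have hbridge : (𝔪 A).ramificationIdx' (centre V hBV) = (centre V hBV).ramificationIdx A :=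
    Ideal.ramificationIdx'_eq_ramificationIdx (𝔪 A) (centre V hBV)
      (IsDiscreteValuationRing.not_a_field A)
  have he : Ideal.ramificationIdx' (𝔪 A) (𝔪 V) = (centre V hBV).ramificationIdx A :=
    (ramificationIdx'_eq V hBV hcomp hP (𝔪 A)).trans hbridge
  refine ⟨?_, fun p hp hchar hdvd => h p hp hchar ((he ▸ hdvd).trans he_dvd)⟩
  -- separability of the residue extension
  letI : Field (A ⧸ 𝔪 A) := Ideal.Quotient.field _
  letI : Field (integralClosure A L ⧸ centre V hBV) := Ideal.Quotient.field _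
  have hfdeg : (centre V hBV).inertiaDeg A =
      Module.finrank (A ⧸ 𝔪 A) (integralClosure A L ⧸ centre V hBV) :=
    Ideal.inertiaDeg_eq_of_isMaximal (𝔪 A) (centre V hBV)
  haveI : FiniteDimensional (A ⧸ 𝔪 A) (integralClosure A L ⧸ centre V hBV) :=
    inferInstance
  haveI hsepE : Algebra.IsSeparable (A ⧸ 𝔪 A) (integralClosure A L ⧸ centre V hBV) :=
    isSeparable_of_not_dvd_finrank fun p hp hchar hdvd =>
      h p hp hchar ((hfdeg ▸ hdvd).trans hf_dvd)
  let ρ : (integralClosure A L ⧸ centre V hBV) →+* κ V :=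
    Ideal.Quotient.lift (centre V hBV) ((IsLocalRing.residue V).comp (toV V hBV))
      (fun b hb => (IsLocalRing.residue_eq_zero_iff _).2 hb)
  have hρ : ρ.comp (algebraMap (A ⧸ 𝔪 A) (integralClosure A L ⧸ centre V hBV)) =
      algebraMap (κ A) (κ V) := by
    ext a
    show IsLocalRing.residue V (toV V hBV (algebraMap A (integralClosure A L) a)) =
      algebraMap (κ A) (κ V) (IsLocalRing.residue A a)
    rw [← hcomp, IsLocalRing.ResidueField.algebraMap_residue]
  rw [Algebra.isSeparable_def]
  intro y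
  obtain ⟨v, rfl⟩ := IsLocalRing.residue_surjective y
  obtain ⟨b, hb⟩ := exists_sub_mem V hBV hP v
  have hvb : IsLocalRing.residue V v = ρ (Ideal.Quotient.mk _ b) := by
    show _ = IsLocalRing.residue V (toV V hBV b)
    rw [← sub_eq_zero, ← map_sub, IsLocalRing.residue_eq_zero_iff]
    exact hb
  have hsepx : IsSeparable (A ⧸ 𝔪 A) (Ideal.Quotient.mk (centre V hBV) b) :=
    Algebra.IsSeparable.isSeparable _ _
  let q : (κ A)[X] := minpoly (A ⧸ 𝔪 A) (Ideal.Quotient.mk (centre V hBV) b)
  have hroot : Polynomial.aeval (IsLocalRing.residue V v) q = 0 := by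
    have h1 := minpoly.aeval (A ⧸ 𝔪 A) (Ideal.Quotient.mk (centre V hBV) b)
    rw [Polynomial.aeval_def] at h1 ⊢
    have h2 := congrArg ρ h1
    rw [map_zero, Polynomial.hom_eval₂, hρ, ← hvb] at h2
    exact h2
  have hq : q.Separable := hsepx
  exact hq.of_dvd (minpoly.dvd (κ A) _ hroot)

end Main

end Groth.Agent.Lib.Helper9.GaloisTame
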