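import Mathlib
import Groth.Agent.Lib.Helper9.HenselSplit

set_option autoImplicit false

namespace Groth.Agent.Lib.Helper9.HenselRank1

open Polynomial IsLocalRing

universe u v

open Groth.Agent.Lib.Helper9

theorem exists_root_of_local_algebra {R : Type u} [CommRing R] [IsLocalRing R] (F : R[X])
    (a₀ : R) (h₁ : F.eval a₀ ∈ maximalIdeal R)
    (h₂ : IsUnit (F.derivative.eval a₀))
    (D : Type v) [CommRing D] [IsLocalRing D] [Algebra R D] [Algebra (AdjoinRoot F) D]
    [IsScalarTower R (AdjoinRoot F) D] [Module.Finite R D] [Module.Flat R D]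
    (hfrac : ∀ c : D, ∃ b s : AdjoinRoot F, IsUnit (algebraMap (AdjoinRoot F) D s) ∧
      c * algebraMap (AdjoinRoot F) D s = algebraMap (AdjoinRoot F) D b)
    (hroot : algebraMap (AdjoinRoot F) D (AdjoinRoot.root F - AdjoinRoot.of F a₀) ∈
      maximalIdeal D) :
    ∃ a : R, F.IsRoot a ∧ a - a₀ ∈ maximalIdeal R := by
  classical
  have hloc : IsLocalHom (algebraMap R D) := isLocalHom_of_isIntegral
  have hff : Module.FaithfullyFlat R D := Module.FaithfullyFlat.of_flat_of_isLocalHom
  have hinj : Function.Injective (algebraMap R D) := FaithfulSMul.algebraMap_injective R D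
  have h𝔪C : Ideal.map (algebraMap R D) (maximalIdeal R) ≤ maximalIdeal D :=
    ((IsLocalRing.local_hom_TFAE (algebraMap R D)).out 0 2).mp hloc
  set B := AdjoinRoot F with hB
  set x : D := algebraMap B D (AdjoinRoot.root F) with hx
  set δ : D := x - algebraMap R D a₀ with hδ
  have hδ' : δ = algebraMap B D (AdjoinRoot.root F - AdjoinRoot.of F a₀) := by
    rw [hδ, hx, map_sub]
    congr 1
    exact IsScalarTower.algebraMap_apply R B D a₀
  have hδ𝔪 : δ ∈ maximalIdeal D := hδ' ▸ hroot
  set G := F /ₘ (X - C a₀) with hG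
  have hFG : F = (X - C a₀) * G + C (F.eval a₀) := by
    calc F = F %ₘ (X - C a₀) + (X - C a₀) * (F /ₘ (X - C a₀)) :=
          (modByMonic_add_div F (X - C a₀)).symm
      _ = (X - C a₀) * G + C (F.eval a₀) := by
          rw [modByMonic_X_sub_C_eq_C_eval, hG]; ring
  have hGa : G.eval a₀ = F.derivative.eval a₀ := by
    conv_rhs => rw [hFG]
    simp
  have hxF : aeval x F = 0 := by
    rw [hx, aeval_algebraMap_apply, AdjoinRoot.aeval_eq, AdjoinRoot.mk_self, map_zero]
  have hxG : δ * aeval x G + algebraMap R D (F.eval a₀) = 0 := by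
    have := hxF
    rw [hFG] at this
    simpa [hδ] using this
  have hGunit : IsUnit (aeval x G) := by
    have h1 : aeval x G - algebraMap R D (G.eval a₀) ∈ maximalIdeal D := by
      have h2 : aeval x G - algebraMap R D (G.eval a₀) =
          (G.map (algebraMap R D)).eval x - (G.map (algebraMap R D)).eval (algebraMap R D a₀) := by
        rw [eval_map_algebraMap, eval_map, eval₂_at_apply]
      obtain ⟨w, hw⟩ := Polynomial.sub_dvd_eval_sub x (algebraMap R D a₀) (G.map (algebraMap R D))
      rw [h2, hw]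
      exact Ideal.mul_mem_right _ _ hδ𝔪
    have h3 : IsUnit (algebraMap R D (G.eval a₀)) := (hGa ▸ h₂).map _
    by_contra hnu
    have h4 : aeval x G ∈ maximalIdeal D := (mem_maximalIdeal _).2 hnu
    have h5 : algebraMap R D (G.eval a₀) ∈ maximalIdeal D := by
      have := Ideal.sub_mem _ h4 h1
      simpa using this
    exact (mem_maximalIdeal _).1 h5 h3
  have hδm : δ ∈ Ideal.map (algebraMap R D) (maximalIdeal R) := by
    obtain ⟨u, hu⟩ := hGunit.exists_right_inv
    have : δ = - (algebraMap R D (F.eval a₀)) * u := by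
      have h6 : δ * aeval x G = - algebraMap R D (F.eval a₀) := by linear_combination hxG
      calc δ = δ * (aeval x G * u) := by rw [hu, mul_one]
        _ = (δ * aeval x G) * u := by ring
        _ = _ := by rw [h6]
    rw [this]
    exact Ideal.mul_mem_right _ _ (Ideal.neg_mem_iff _ |>.2 (Ideal.mem_map_of_mem _ h₁))
  have hB_approx : ∀ b : B, ∃ r : R, algebraMap B D b - algebraMap R D r ∈
      Ideal.map (algebraMap R D) (maximalIdeal R) := by
    intro b
    obtain ⟨p, rfl⟩ := AdjoinRoot.mk_surjective b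
    refine ⟨p.eval a₀, ?_⟩
    have h1 : algebraMap B D (AdjoinRoot.mk F p) = (p.map (algebraMap R D)).eval x := by
      rw [eval_map_algebraMap, hx, aeval_algebraMap_apply, AdjoinRoot.aeval_eq]
    have h2 : algebraMap R D (p.eval a₀) = (p.map (algebraMap R D)).eval (algebraMap R D a₀) := by
      rw [eval_map, eval₂_at_apply]
    obtain ⟨w, hw⟩ := Polynomial.sub_dvd_eval_sub x (algebraMap R D a₀) (p.map (algebraMap R D))
    rw [h1, h2, hw]
    exact Ideal.mul_mem_right _ _ hδm
  have hsurj : Function.Surjective (algebraMap R D) := by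
    have hN : (⊤ : Submodule R D) ≤ LinearMap.range (Algebra.linearMap R D) := by
      apply Submodule.le_of_le_smul_of_le_jacobson_bot (I := maximalIdeal R)
        (Module.finite_def.1 inferInstance) (IsLocalRing.maximalIdeal_le_jacobson _)
      intro c _
      obtain ⟨b, s, hs, hcs⟩ := hfrac c
      obtain ⟨rb, hrb⟩ := hB_approx b
      obtain ⟨rs, hrs⟩ := hB_approx s
      have hrsu : IsUnit rs := by
        by_contra hnu
        have h1 : algebraMap R D rs ∈ maximalIdeal D :=
          h𝔪C (Ideal.mem_map_of_mem _ ((mem_maximalIdeal _).2 hnu))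
        have h2 : algebraMap B D s ∈ maximalIdeal D := by
          have := Ideal.add_mem _ (h𝔪C hrs) h1
          simpa using this
        exact (mem_maximalIdeal _).1 h2 hs
      obtain ⟨u, hu⟩ := hrsu.exists_right_inv
      have hc : c = algebraMap R D (rb * u) +
          algebraMap R D u * ((algebraMap B D b - algebraMap R D rb) -
            c * (algebraMap B D s - algebraMap R D rs)) := by
        have hu' : algebraMap R D rs * algebraMap R D u = 1 := by
          rw [← map_mul, hu, map_one]
        rw [map_mul]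
        linear_combination (algebraMap R D u) * hcs - c * hu'
      rw [hc]
      refine Submodule.add_mem_sup (LinearMap.mem_range_self _ _) ?_
      rw [Ideal.smul_top_eq_map, Submodule.restrictScalars_mem]
      exact Ideal.mul_mem_left _ _ (Ideal.sub_mem _ hrb (Ideal.mul_mem_left _ _ hrs))
    intro c
    obtain ⟨r, hr⟩ := hN (Submodule.mem_top (x := c))
    exact ⟨r, hr⟩
  let e : R ≃ₐ[R] D := AlgEquiv.ofBijective (Algebra.ofId R D) ⟨hinj, hsurj⟩
  let φ : B →ₐ[R] R := (e.symm : D →ₐ[R] R).comp (IsScalarTower.toAlgHom R B D)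
  refine ⟨φ (AdjoinRoot.root F), ?_, ?_⟩
  · have : aeval (φ (AdjoinRoot.root F)) F = 0 := by
      rw [aeval_algHom_apply, AdjoinRoot.aeval_eq, AdjoinRoot.mk_self, map_zero]
    rw [IsRoot.def, ← this, coe_aeval_eq_eval]
  · have hφ : algebraMap R D (φ (AdjoinRoot.root F)) = x := by
      show algebraMap R D (e.symm (algebraMap B D (AdjoinRoot.root F))) = x
      have := e.apply_symm_apply (algebraMap B D (AdjoinRoot.root F))
      exact this
    by_contra hnu
    have hu : IsUnit (φ (AdjoinRoot.root F) - a₀) := by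
      by_contra h; exact hnu ((mem_maximalIdeal _).2 h)
    have : IsUnit δ := by
      have h1 := hu.map (algebraMap R D)
      rwa [map_sub, hφ] at h1
    exact (mem_maximalIdeal _).1 hδ𝔪 this

section AtPrime

variable {R : Type u} [CommRing R] [IsLocalRing R] (F : R[X]) (a₀ : R)

noncomputable def pointHom (h₁ : F.eval a₀ ∈ maximalIdeal R) : AdjoinRoot F →+* ResidueField R :=
  AdjoinRoot.lift (residue R) (residue R a₀) (by
    rw [eval₂_at_apply]; exact (residue_eq_zero_iff _).2 h₁)

theorem pointHom_surjective (h₁ : F.eval a₀ ∈ maximalIdeal R) :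
    Function.Surjective (pointHom F a₀ h₁) := by
  intro y
  obtain ⟨r, rfl⟩ := residue_surjective y
  exact ⟨AdjoinRoot.of F r, AdjoinRoot.lift_of _⟩

noncomputable def pointIdeal (h₁ : F.eval a₀ ∈ maximalIdeal R) : Ideal (AdjoinRoot F) :=
  RingHom.ker (pointHom F a₀ h₁)

instance pointIdeal_isMaximal (h₁ : F.eval a₀ ∈ maximalIdeal R) :
    (pointIdeal F a₀ h₁).IsMaximal :=
  RingHom.ker_isMaximal_of_surjective _ (pointHom_surjective F a₀ h₁)

theorem root_sub_mem_pointIdeal (h₁ : F.eval a₀ ∈ maximalIdeal R) :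
    AdjoinRoot.root F - AdjoinRoot.of F a₀ ∈ pointIdeal F a₀ h₁ := by
  rw [pointIdeal, RingHom.mem_ker, map_sub, pointHom, AdjoinRoot.lift_root, AdjoinRoot.lift_of,
    sub_self]

theorem pointIdeal_liesOver (h₁ : F.eval a₀ ∈ maximalIdeal R) :
    (pointIdeal F a₀ h₁).LiesOver (maximalIdeal R) := by
  constructor
  ext r
  rw [Ideal.mem_comap, pointIdeal, RingHom.mem_ker]
  have : pointHom F a₀ h₁ (algebraMap R (AdjoinRoot F) r) = residue R r := AdjoinRoot.lift_of _
  rw [this, residue_eq_zero_iff]

theorem exists_root_of_finite_atPrime (hF : F.Monic) (h₁ : F.eval a₀ ∈ maximalIdeal R)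
    (h₂ : IsUnit (F.derivative.eval a₀))
    (hfin : Module.Finite R (Localization.AtPrime (pointIdeal F a₀ h₁))) :
    ∃ a : R, F.IsRoot a ∧ a - a₀ ∈ maximalIdeal R := by
  have hfree : Module.Free R (AdjoinRoot F) := hF.free_adjoinRoot
  have hflat : Module.Flat R (Localization.AtPrime (pointIdeal F a₀ h₁)) :=
    Module.Flat.trans R (AdjoinRoot F) _
  refine exists_root_of_local_algebra F a₀ h₁ h₂ (Localization.AtPrime (pointIdeal F a₀ h₁)) ?_ ?_
  · intro c
    obtain ⟨⟨b, s⟩, hbs⟩ := IsLocalization.surj (pointIdeal F a₀ h₁).primeCompl c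
    exact ⟨b, s, IsLocalization.map_units _ s, hbs⟩
  · rw [IsLocalization.AtPrime.to_map_mem_maximal_iff _ (pointIdeal F a₀ h₁)]
    exact root_sub_mem_pointIdeal F a₀ h₁

end AtPrime

end Groth.Agent.Lib.Helper9.HenselRank1
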