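import Mathlib
import Groth.Agent.Lib.Helper82.IndSysDL

/-!
# A directed union of étale subalgebras is ind-étale
-/

set_option autoImplicit false
open CategoryTheory CategoryTheory.Limits
universe u

namespace Groth.Agent.Lib.Helper9.IndEtaleUnion

open Groth.Agent.Lib.Helper82

open Groth.Agent.Lib.Helper87.IndEt in
/-- an étale algebra is ind-étale. -/
theorem isIndEtale_of_etale' (A B : Type u) [CommRing A] [CommRing B] [Algebra A B]
    [Algebra.Etale A B] : EtPBC.IsIndEtale A B := by
  show HasPres A B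
  rw [hasPres_iff]
  constructor
  · intro b
    exact ⟨B, inferInstance, inferInstance, inferInstance, AlgHom.id A B, b, rfl⟩
  · intro E _ _ _ g a ha
    exact ⟨B, inferInstance, inferInstance, inferInstance, g, AlgHom.id A B, AlgHom.id_comp g, ha⟩

variable (A T : Type u) [CommRing A] [CommRing T] [Algebra A T]

/-- the index set: étale subalgebras. -/
def EtSub : Type u := {S : Subalgebra A T // Algebra.Etale A S}

instance : Preorder (EtSub A T) := inferInstanceAs (Preorder {S : Subalgebra A T // Algebra.Etale A S})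

variable {A T}

theorem isIndEtale_of_finite_subsets
    (h : ∀ F : Finset T, ∃ S : Subalgebra A T, Algebra.Etale A S ∧ (F : Set T) ⊆ S) :
    EtPBC.IsIndEtale A T := by
  classical
  haveI : Nonempty (EtSub A T) := by
    obtain ⟨S, hS, -⟩ := h ∅
    exact ⟨⟨S, hS⟩⟩
  haveI : IsDirectedOrder (EtSub A T) := by
    refine ⟨fun S₁ S₂ => ?_⟩
    haveI := S₁.2
    haveI := S₂.2
    have h1 : S₁.1.FG := (Subalgebra.fg_iff_finiteType S₁.1).2 inferInstance
    have h2 : S₂.1.FG := (Subalgebra.fg_iff_finiteType S₂.1).2 inferInstance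
    obtain ⟨F₁, hF₁⟩ := h1
    obtain ⟨F₂, hF₂⟩ := h2
    obtain ⟨S₃, hS₃, hF⟩ := h (F₁ ∪ F₂)
    refine ⟨⟨S₃, hS₃⟩, ?_, ?_⟩
    · show S₁.1 ≤ S₃
      rw [← hF₁]
      exact Algebra.adjoin_le fun x hx => hF (by simp [hx])
    · show S₂.1 ≤ S₃
      rw [← hF₂]
      exact Algebra.adjoin_le fun x hx => hF (by simp [hx])
  let d : IndSys A T :=
    { J := EtSub A T
      R := fun j => j.1
      t := fun {i j} f => Subalgebra.inclusion (leOfHom f)
      t_comp := fun f g x => rfl
      φ := fun j => j.1.val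
      φ_t := fun f x => rfl
      surj := fun b => by
        obtain ⟨S, hS, hb⟩ := h {b}
        exact ⟨⟨S, hS⟩, ⟨b, hb (by simp)⟩, rfl⟩
      eq := fun j x y hxy => ⟨j, 𝟙 j, by
        have : x = y := Subtype.ext hxy
        rw [this]⟩ }
  refine d.isIndEtale fun j => ?_
  haveI : Algebra.Etale A j.1 := j.2
  exact isIndEtale_of_etale' A j.1

end Groth.Agent.Lib.Helper9.IndEtaleUnion
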