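import Mathlib
import Groth.Agent.Lib.Helper9.FixedEtale

/-!
# The invariants of the inertia group are étale over the invariants of the whole group

`exists_moved`: there is `a ∈ R^I` which every `σ` in the decomposition group but not in `I` moves
modulo `q`.  `etale_inertia`: `R^I[1/g]` is étale over `R^G` for some `g ∉ q`.
-/

open Polynomial
open scoped Pointwise

universe u

set_option linter.unusedSectionVars false

namespace Groth.Agent.Lib.Helper9.InertiaMove

open Groth.Agent.Lib.Helper9.DecompRing Groth.Agent.Lib.Helper9.FixedEtale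

variable {G R : Type u} [Group G] [Finite G] [CommRing R] [MulSemiringAction G R]
  (q : Ideal R) [q.IsPrime]

/-- an element acting trivially mod `q` on the inertia invariants lies in the inertia group. -/
theorem mem_inertia_of_forall (σ : G)
    (h : ∀ s ∈ FixedPoints.subring R (q.inertia G), σ • s - s ∈ q) : σ ∈ q.inertia G := by
  classical
  intro r
  show σ • r - r ∈ q
  letI : Fintype (q.inertia G) := Fintype.ofFinite _
  obtain ⟨P, hP⟩ := (Polynomial.mem_lifts _).1
    (Algebra.IsInvariant.charpoly_mem_lifts (FixedPoints.subring R (q.inertia G)) R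
      (q.inertia G) r)
  set cp := MulSemiringAction.charpoly (q.inertia G) r with hcp
  let φ : R →+* R ⧸ q := (Ideal.Quotient.mk q).comp (MulSemiringAction.toRingHom G R σ)
  have key : cp.map φ = cp.map (Ideal.Quotient.mk q) := by
    rw [← hP, Polynomial.map_map, Polynomial.map_map]
    congr 1
    ext s
    simp only [RingHom.comp_apply, φ]
    rw [Ideal.Quotient.eq]
    exact h _ s.2
  have h0 : (cp.map φ).eval (φ r) = 0 := by
    rw [Polynomial.eval_map_apply, MulSemiringAction.eval_charpoly, map_zero]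
  rw [key, hcp, MulSemiringAction.charpoly_eq, Polynomial.map_prod, eval_prod] at h0
  obtain ⟨τ, -, hτ⟩ := Finset.prod_eq_zero_iff.1 h0
  rw [Polynomial.map_sub, map_X, map_C, eval_sub, eval_X, eval_C, sub_eq_zero] at hτ
  have h1 : σ • r - (τ : G) • r ∈ q := Ideal.Quotient.eq.1 hτ
  have h2 : (τ : G) • r - r ∈ q := τ.2 r
  have := q.add_mem h1 h2
  rwa [sub_add_sub_cancel] at this

/-- the difference map `s ↦ σ s - s` modulo `q`. -/
noncomputable def delta (σ : G) : FixedPoints.subring R (q.inertia G) →+ R ⧸ q where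
  toFun s := Ideal.Quotient.mk q (σ • (s : R) - s)
  map_zero' := by simp
  map_add' a b := by
    rw [← map_add]
    congr 1
    rw [Subring.coe_add, smul_add]
    ring

theorem delta_apply (σ : G) (s : FixedPoints.subring R (q.inertia G)) :
    delta q σ s = Ideal.Quotient.mk q (σ • (s : R) - s) := rfl

theorem delta_mul (σ : G) (x y : FixedPoints.subring R (q.inertia G)) :
    delta q σ (x * y) = Ideal.Quotient.mk q (σ • (x : R)) * delta q σ y +
      delta q σ x * Ideal.Quotient.mk q (y : R) := by
  simp only [delta_apply]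
  rw [← map_mul, ← map_mul, ← map_add]
  congr 1
  rw [Subring.coe_mul, smul_mul']
  ring

theorem delta_eq_zero_iff (σ : G) (s : FixedPoints.subring R (q.inertia G)) :
    delta q σ s = 0 ↔ σ • (s : R) - s ∈ q := by
  rw [delta_apply, Ideal.Quotient.eq_zero_iff_mem]

theorem exists_delta_ne (σ : G) (hσ : σ ∉ q.inertia G) :
    ∃ s : FixedPoints.subring R (q.inertia G), delta q σ s ≠ 0 := by
  by_contra h
  push Not at h
  exact hσ (mem_inertia_of_forall q σ fun s hs => (delta_eq_zero_iff q σ ⟨s, hs⟩).1 (h ⟨s, hs⟩))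

theorem delta_pow (σ : G) (a : FixedPoints.subring R (q.inertia G)) (ha : delta q σ a = 0)
    (n : ℕ) : delta q σ (a ^ n) = 0 := by
  induction n with
  | zero =>
    rw [pow_zero, delta_eq_zero_iff]
    simp
  | succ n ih => rw [pow_succ, delta_mul, ha, ih, mul_zero, zero_mul, add_zero]

theorem delta_of_mem (σ : G) (hσ : σ • q = q) (s : FixedPoints.subring R (q.inertia G))
    (hs : (s : R) ∈ q) : delta q σ s = 0 := by
  rw [delta_eq_zero_iff]
  refine q.sub_mem ?_ hs
  have := (Ideal.smul_mem_pointwise_smul_iff (a := σ) (S := q) (x := (s : R))).2 hs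
  rwa [hσ] at this


/-- a single element of `R^I` moved modulo `q` by every element of a finite set of elements of the
decomposition group outside the inertia group. -/
theorem exists_moved (T : Finset G) (hT : ∀ σ ∈ T, σ ∉ q.inertia G ∧ σ • q = q) :
    ∃ a : FixedPoints.subring R (q.inertia G), ∀ σ ∈ T, delta q σ a ≠ 0 := by
  classical
  by_contra hcon
  push Not at hcon
  have hcover : ⋃ σ ∈ T, (0 : FixedPoints.subring R (q.inertia G)) +ᵥ
      (((delta q σ).ker : AddSubgroup (FixedPoints.subring R (q.inertia G))) :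
        Set (FixedPoints.subring R (q.inertia G))) = Set.univ := by
    rw [Set.eq_univ_iff_forall]
    intro a
    obtain ⟨σ, hσ, h0⟩ := hcon a
    simp only [Set.mem_iUnion, zero_vadd]
    exact ⟨σ, hσ, h0⟩
  obtain ⟨σ₀, hσ₀, hfin⟩ := AddSubgroup.exists_finiteIndex_of_leftCoset_cover hcover
  haveI : Finite (FixedPoints.subring R (q.inertia G) ⧸ (delta q σ₀).ker) :=
    AddSubgroup.finite_quotient_of_finiteIndex
  haveI hrange : Finite (delta q σ₀).range :=
    Finite.of_equiv _ (QuotientAddGroup.quotientKerEquivRange (delta q σ₀)).toEquiv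
  obtain ⟨x, hx⟩ := exists_delta_ne q σ₀ (hT σ₀ hσ₀).1
  set q₀ : Ideal (FixedPoints.subring R (q.inertia G)) :=
    q.comap (FixedPoints.subring R (q.inertia G)).subtype with hq₀
  haveI : q₀.IsPrime := Ideal.comap_isPrime _ _
  haveI hfinite : Finite (FixedPoints.subring R (q.inertia G) ⧸ q₀) := by
    refine Finite.of_injective (fun c : FixedPoints.subring R (q.inertia G) ⧸ q₀ =>
      ((⟨delta q σ₀ (Quotient.out c), ⟨_, rfl⟩⟩,
        ⟨delta q σ₀ (x * Quotient.out c), ⟨_, rfl⟩⟩) :
        (delta q σ₀).range × (delta q σ₀).range)) ?_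
    intro c c' hcc
    simp only [Prod.mk.injEq, Subtype.mk.injEq] at hcc
    obtain ⟨h1, h2⟩ := hcc
    have hd1 : delta q σ₀ (Quotient.out c - Quotient.out c') = 0 := by
      rw [map_sub, h1, sub_self]
    have hd2 : delta q σ₀ (x * (Quotient.out c - Quotient.out c')) = 0 := by
      rw [mul_sub, map_sub, h2, sub_self]
    rw [delta_mul, hd1, mul_zero, zero_add] at hd2
    have hd3 : Ideal.Quotient.mk q
        ((Quotient.out c - Quotient.out c' : FixedPoints.subring R (q.inertia G)) : R) = 0 :=
      (mul_eq_zero.1 hd2).resolve_left hx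
    rw [← Ideal.Quotient.mk_out c, ← Ideal.Quotient.mk_out c', Ideal.Quotient.eq]
    have hd4 : ((Quotient.out c - Quotient.out c' : FixedPoints.subring R (q.inertia G)) : R) ∈ q :=
      Ideal.Quotient.eq_zero_iff_mem.1 hd3
    exact hd4
  obtain ⟨u, hu⟩ := IsCyclic.exists_monoid_generator
    (α := (FixedPoints.subring R (q.inertia G) ⧸ q₀)ˣ)
  obtain ⟨a, ha⟩ := Ideal.Quotient.mk_surjective (u : FixedPoints.subring R (q.inertia G) ⧸ q₀)
  obtain ⟨σ, hσ, h0⟩ := hcon a
  obtain ⟨s, hs⟩ := exists_delta_ne q σ (hT σ hσ).1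
  apply hs
  by_cases hsq : (s : R) ∈ q
  · exact delta_of_mem q σ (hT σ hσ).2 s hsq
  · have hne : Ideal.Quotient.mk q₀ s ≠ 0 := by
      rw [Ne, Ideal.Quotient.eq_zero_iff_mem]
      exact hsq
    obtain ⟨b, hb⟩ := (Finite.isField_of_domain
      (FixedPoints.subring R (q.inertia G) ⧸ q₀)).mul_inv_cancel hne
    have hunit : IsUnit (Ideal.Quotient.mk q₀ s) := IsUnit.of_mul_eq_one _ hb
    obtain ⟨n, hn⟩ := hu hunit.unit
    have hn' : (u : FixedPoints.subring R (q.inertia G) ⧸ q₀) ^ n = Ideal.Quotient.mk q₀ s := by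
      have := congrArg (fun v : (FixedPoints.subring R (q.inertia G) ⧸ q₀)ˣ =>
        (v : FixedPoints.subring R (q.inertia G) ⧸ q₀)) hn
      simpa using this
    have heq : Ideal.Quotient.mk q₀ s = Ideal.Quotient.mk q₀ (a ^ n) := by
      rw [map_pow, ha, hn']
    have hmem' : s - a ^ n ∈ q₀ := Ideal.Quotient.eq.1 heq
    have hmem : ((s - a ^ n : FixedPoints.subring R (q.inertia G)) : R) ∈ q := hmem'
    have := delta_of_mem q σ (hT σ hσ).2 (s - a ^ n) hmem
    rw [map_sub, delta_pow q σ a h0 n, sub_zero] at this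
    exact this


theorem eval_derivative_FR_self (H : Subgroup G) (e : R) (he : e ∈ FixedPoints.subring R H) :
    (derivative (FR H e)).eval e =
      letI : Fintype (G ⧸ H) := Fintype.ofFinite _
      open Classical in
      ∏ c ∈ (Finset.univ : Finset (G ⧸ H)).erase ((1 : G) : G ⧸ H), (e - root H e c) := by
  classical
  letI : Fintype (G ⧸ H) := Fintype.ofFinite _
  have h := eval_derivative_FR H e ((1 : G) : G ⧸ H)
  rw [root_one H e he] at h
  rw [h]
  unfold Fc
  rw [eval_prod]
  refine Finset.prod_congr rfl fun c _ => ?_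
  rw [eval_sub, eval_X, eval_C]

/-- **The invariants of the inertia group are étale over the invariants of the group** at the
prime below `q`. -/
theorem etale_inertia :
    ∃ g : FixedPoints.subring R (q.inertia G),
      g ∉ q.comap (FixedPoints.subring R (q.inertia G)).subtype ∧
      Algebra.Etale (FixedPoints.subring R G) (Localization.Away g) := by
  classical
  letI : Fintype G := Fintype.ofFinite G
  set D := MulAction.stabilizer G q with hD
  have hID : q.inertia G ≤ D := Ideal.inertia_le_stabilizer q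
  obtain ⟨e₀, he₀D, he₀q, he₀⟩ := exists_e D q le_rfl
  have he₀I : e₀ ∈ FixedPoints.subring R (q.inertia G) := fun τ => he₀D ⟨τ, hID τ.2⟩
  obtain ⟨a, ha⟩ := exists_moved q (Finset.univ.filter fun σ : G => σ ∉ q.inertia G ∧ σ • q = q)
    (fun σ hσ => (Finset.mem_filter.1 hσ).2)
  obtain ⟨a', ha'q, ha'⟩ : ∃ a' : FixedPoints.subring R (q.inertia G), (a' : R) ∉ q ∧
      ∀ σ : G, σ ∉ q.inertia G → σ • q = q → delta q σ a' ≠ 0 := by
    by_cases haq : (a : R) ∈ q
    · refine ⟨a + 1, ?_, ?_⟩
      · intro h
        rw [Subring.coe_add, Subring.coe_one] at h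
        have := q.sub_mem h haq
        rw [add_sub_cancel_left] at this
        exact (Ideal.IsPrime.ne_top inferInstance) ((Ideal.eq_top_iff_one q).2 this)
      · intro σ h1 h2
        rw [map_add]
        have : delta q σ 1 = 0 := by rw [delta_eq_zero_iff]; simp
        rw [this, add_zero]
        exact ha σ (Finset.mem_filter.2 ⟨Finset.mem_univ _, h1, h2⟩)
    · exact ⟨a, haq, fun σ h1 h2 => ha σ (Finset.mem_filter.2 ⟨Finset.mem_univ _, h1, h2⟩)⟩
  set e : R := (a' : R) * e₀ with he
  have heI : e ∈ FixedPoints.subring R (q.inertia G) := Subring.mul_mem _ a'.2 he₀I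
  have hmove : ∀ σ : G, σ ∉ q.inertia G → e - σ • e ∉ q := by
    intro σ hσ
    by_cases hσD : σ ∈ D
    · have h1 : σ • e₀ = e₀ := he₀D ⟨σ, hσD⟩
      have h2 : e - σ • e = ((a' : R) - σ • (a' : R)) * e₀ := by
        rw [he, smul_mul', h1]; ring
      rw [h2]
      intro hmem
      rcases Ideal.IsPrime.mem_or_mem inferInstance hmem with h | h
      · apply ha' σ hσ (MulAction.mem_stabilizer_iff.1 hσD)
        rw [delta_eq_zero_iff]
        have := q.neg_mem h
        rwa [neg_sub] at this
      · exact he₀q h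
    · intro hmem
      have h1 : σ • e ∈ q := by
        rw [he, smul_mul']
        exact q.mul_mem_left _ (he₀ σ hσD)
      have h2 : e ∈ q := by
        have := q.add_mem hmem h1
        rwa [sub_add_cancel] at this
      rcases Ideal.IsPrime.mem_or_mem inferInstance h2 with h | h
      · exact ha'q h
      · exact he₀q h
  obtain ⟨g, hg, hét⟩ := etale_away (q.inertia G) e heI
  refine ⟨g, ?_, hét⟩
  rw [Ideal.mem_comap]
  show (g : R) ∉ q
  rw [hg, eval_derivative_FR_self _ e heI, Ideal.IsPrime.prod_mem_iff]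
  push Not
  intro c hc
  exact hmove _ (out_not_mem (q.inertia G) (Finset.ne_of_mem_erase hc))

end Groth.Agent.Lib.Helper9.InertiaMove
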