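import Mathlib

/-!
# The inertia ring is unramified

Ring-level core: `A ⊆ C ⊆ B` domains, `G` finite acting on `B` with `B^G = A`, `P` a maximal ideal of
`B`, `I` its inertia group and `B^I = C`.  Then `Q = P ∩ C` has ramification index one over `A` and
separable residue field extension.
-/

universe u

set_option linter.unusedSectionVars false
set_option linter.style.haveILetI false
set_option linter.overlappingInstances false

namespace Groth.Agent.Lib.Helper9.InertiaRing

open Ideal Pointwise

section Card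

variable {R S G : Type*} [CommRing R] [CommRing S] [Algebra R S] [Group G]
  [MulSemiringAction G S] [IsGaloisGroup G R S] [Finite G]

attribute [local instance] Ideal.Quotient.field in
/-- `|D| = |I| * |Aut|`. -/
theorem card_stabilizer_eq_card_inertia_mul_card_aut (p : Ideal R) [p.IsMaximal]
    (P : Ideal S) [P.LiesOver p] [P.IsMaximal] :
    Nat.card (MulAction.stabilizer G P) =
      Nat.card (P.inertia G) * Nat.card ((S ⧸ P) ≃ₐ[R ⧸ p] (S ⧸ P)) := by
  have : Subgroup.index _ = _ := Nat.card_congr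
    (Ideal.Quotient.stabilizerQuotientInertiaEquiv G p P).toEquiv
  rw [← this, ← ((inertia G P).subgroupOf (MulAction.stabilizer G P)).card_mul_index,
    Nat.card_congr (Subgroup.subgroupOfEquivOfLe (inertia_le_stabilizer (M := G) P)).toEquiv,
    AddSubgroup.subgroupOf_inertia]

/-- `g * |D| = |G|`. -/
theorem ncard_primesOver_mul_card_stabilizer (p : Ideal R) [p.IsMaximal]
    (P : Ideal S) [P.LiesOver p] [P.IsMaximal] :
    (p.primesOver S).ncard * Nat.card (MulAction.stabilizer G P) = Nat.card G := by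
  rw [← Algebra.IsInvariant.orbit_eq_primesOver R S G p P]
  simpa using Nat.card_congr (MulAction.orbitProdStabilizerEquivGroup G P)

end Card

section Core

/-- `P` is the only prime of `B` over `Q = P ∩ B^I`. -/
theorem primesOver_eq_singleton {C B G : Type*} [CommRing C] [CommRing B] [Algebra C B]
    [Group G] [Finite G] [MulSemiringAction G B]
    (P : Ideal B) [P.IsPrime] (Q : Ideal C) [P.LiesOver Q]
    [IsGaloisGroup (P.inertia G) C B] : Q.primesOver B = {P} := by
  refine Set.eq_singleton_iff_unique_mem.mpr ⟨⟨inferInstance, inferInstance⟩, ?_⟩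
  rintro P' ⟨_, _⟩
  obtain ⟨σ, rfl⟩ := exists_smul_eq_of_isGaloisGroup Q P P' (P.inertia G)
  exact inertia_le_stabilizer (M := G) P σ.2

attribute [local instance] Ideal.Quotient.field in
/-- the residue field of `P` has no automorphism over that of `P ∩ B^I`. -/
theorem aut_residue_eq_one {C B G : Type*} [CommRing C] [CommRing B] [Algebra C B]
    [Group G] [Finite G] [MulSemiringAction G B]
    (P : Ideal B) [P.IsMaximal] (Q : Ideal C) [Q.IsMaximal] [P.LiesOver Q]
    [IsGaloisGroup (P.inertia G) C B] (τ : (B ⧸ P) ≃ₐ[C ⧸ Q] (B ⧸ P)) : τ = 1 := by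
  obtain ⟨g, rfl⟩ := Ideal.Quotient.stabilizerHom_surjective (P.inertia G) Q P τ
  ext x
  obtain ⟨b, rfl⟩ := Ideal.Quotient.mk_surjective x
  rw [Ideal.Quotient.stabilizerHom_apply, AlgEquiv.one_apply, Ideal.Quotient.eq]
  exact g.1.2 b

attribute [local instance] Ideal.Quotient.field in
/-- restriction of automorphisms of `B/P` to `C/Q` is injective, so there are at most
`finSepDegree` of them. -/
theorem card_aut_le_finSepDegree {A C B G : Type*} [CommRing A] [CommRing C] [CommRing B]
    [Algebra A C] [Algebra C B] [Algebra A B] [IsScalarTower A C B]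
    [Group G] [Finite G] [MulSemiringAction G B]
    [Module.Finite A C]
    (p : Ideal A) [p.IsMaximal] (P : Ideal B) [P.IsMaximal] [P.LiesOver p]
    (Q : Ideal C) [Q.IsMaximal] [P.LiesOver Q] [Q.LiesOver p]
    [IsGaloisGroup (P.inertia G) C B] :
    Nat.card ((B ⧸ P) ≃ₐ[A ⧸ p] (B ⧸ P)) ≤ Field.finSepDegree (A ⧸ p) (C ⧸ Q) := by
  classical
  haveI : IsScalarTower (A ⧸ p) (C ⧸ Q) (B ⧸ P) := IsScalarTower.of_algebraMap_eq fun x => by
    obtain ⟨a, rfl⟩ := Ideal.Quotient.mk_surjective x
    simp only [Ideal.Quotient.algebraMap_mk_of_liesOver]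
    rw [← IsScalarTower.algebraMap_apply]
  haveI : Module.Finite (A ⧸ p) (C ⧸ Q) := inferInstance
  haveI : Algebra.IsAlgebraic (A ⧸ p) (C ⧸ Q) := Algebra.IsAlgebraic.of_finite _ _
  rw [Field.finSepDegree_eq_of_isAlgClosed (A ⧸ p) (C ⧸ Q) (AlgebraicClosure (B ⧸ P))]
  haveI : Finite ((C ⧸ Q) →ₐ[A ⧸ p] AlgebraicClosure (B ⧸ P)) := inferInstance
  refine Nat.card_le_card_of_injective
    (fun σ : (B ⧸ P) ≃ₐ[A ⧸ p] (B ⧸ P) =>
      (IsScalarTower.toAlgHom (A ⧸ p) (B ⧸ P) (AlgebraicClosure (B ⧸ P))).comp
        ((σ : (B ⧸ P) →ₐ[A ⧸ p] (B ⧸ P)).comp (IsScalarTower.toAlgHom (A ⧸ p) (C ⧸ Q) (B ⧸ P)))) ?_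
  intro σ τ hστ
  have h1 : ∀ c : C ⧸ Q, σ (algebraMap (C ⧸ Q) (B ⧸ P) c) = τ (algebraMap (C ⧸ Q) (B ⧸ P) c) := by
    intro c
    have := congrArg (fun f => f c) hστ
    exact (algebraMap (B ⧸ P) (AlgebraicClosure (B ⧸ P))).injective this
  let ρ : (B ⧸ P) ≃ₐ[C ⧸ Q] (B ⧸ P) :=
    AlgEquiv.ofRingEquiv (f := (σ.trans τ.symm).toRingEquiv) (fun c => by
      show τ.symm (σ (algebraMap (C ⧸ Q) (B ⧸ P) c)) = algebraMap (C ⧸ Q) (B ⧸ P) c
      rw [h1, AlgEquiv.symm_apply_apply])
  have hρ : ρ = 1 := aut_residue_eq_one (G := G) P Q ρ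
  ext x
  have h2 : τ.symm (σ x) = x := congrArg (fun f => f x) hρ
  have h3 := congrArg τ h2
  rwa [AlgEquiv.apply_symm_apply] at h3

attribute [local instance] Ideal.Quotient.field in
/-- **The inertia ring is unramified**: ramification index one and separable residue extension. -/
theorem unramified_inertiaRing {A C B G : Type*} [CommRing A] [CommRing C] [CommRing B]
    [IsDomain A] [IsDomain C] [IsDomain B]
    [Algebra A C] [Algebra C B] [Algebra A B] [IsScalarTower A C B]
    [Group G] [Finite G] [MulSemiringAction G B] [IsGaloisGroup G A B]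
    [Module.Finite A B] [Module.Flat A B] [Module.Finite A C] [Module.Finite C B] [Module.Flat C B]
    (p : Ideal A) [p.IsMaximal] (P : Ideal B) [P.IsMaximal] [P.LiesOver p]
    (Q : Ideal C) [Q.IsMaximal] [P.LiesOver Q] [Q.LiesOver p]
    [IsGaloisGroup (P.inertia G) C B] :
    Q.ramificationIdx A = 1 ∧ Algebra.IsSeparable (A ⧸ p) (C ⧸ Q) := by
  classical
  have h1 := ncard_primesOver_mul_ramificationIdxIn_mul_inertiaDegIn p B G
  rw [ramificationIdxIn_eq_ramificationIdx p P G, inertiaDegIn_eq_inertiaDeg p P G] at h1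
  have h2 := ncard_primesOver_mul_card_stabilizer (G := G) p P
  have hG : 0 < Nat.card G := Nat.card_pos
  have hg : (p.primesOver B).ncard ≠ 0 := by
    intro h0; rw [h0, zero_mul] at h2; omega
  have hD : Nat.card (MulAction.stabilizer G P) = P.ramificationIdx A * P.inertiaDeg A :=
    Nat.eq_of_mul_eq_mul_left (Nat.pos_of_ne_zero hg) (h2.trans h1.symm)
  have h3 := card_stabilizer_eq_card_inertia_mul_card_aut (G := G) p P
  have h4 := ncard_primesOver_mul_ramificationIdxIn_mul_inertiaDegIn Q B (P.inertia G)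
  rw [primesOver_eq_singleton (G := G) P Q, Set.ncard_singleton, one_mul,
    ramificationIdxIn_eq_ramificationIdx Q P (P.inertia G),
    inertiaDegIn_eq_inertiaDeg Q P (P.inertia G)] at h4
  have he : P.ramificationIdx A = Q.ramificationIdx A * P.ramificationIdx C :=
    ramificationIdx_tower Q P
  have hf : P.inertiaDeg A = Q.inertiaDeg A * P.inertiaDeg C := inertiaDeg_tower Q P
  have hI : 0 < Nat.card (P.inertia G) := Nat.card_pos
  have haut : Nat.card ((B ⧸ P) ≃ₐ[A ⧸ p] (B ⧸ P)) = Q.ramificationIdx A * Q.inertiaDeg A := by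
    apply Nat.eq_of_mul_eq_mul_left hI
    rw [← h3, hD, he, hf, ← h4]; ring
  have h6 := card_aut_le_finSepDegree (G := G) p P Q
  haveI : Module.Finite (A ⧸ p) (C ⧸ Q) := inferInstance
  have h7 : Field.finSepDegree (A ⧸ p) (C ⧸ Q) ≤ Module.finrank (A ⧸ p) (C ⧸ Q) :=
    Field.finSepDegree_le_finrank _ _
  have h8 : Q.inertiaDeg A = Module.finrank (A ⧸ p) (C ⧸ Q) := inertiaDeg_eq_of_isMaximal p Q
  have hfpos : 0 < Module.finrank (A ⧸ p) (C ⧸ Q) := Module.finrank_pos
  have hepos : 0 < Q.ramificationIdx A := by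
    rcases Nat.eq_zero_or_pos (Q.ramificationIdx A) with h0 | h0
    · rw [h0, zero_mul] at he
      rw [he, zero_mul] at hD
      have : 0 < Nat.card (MulAction.stabilizer G P) := Nat.card_pos
      omega
    · exact h0
  rw [haut, h8] at h6
  have h9 : Q.ramificationIdx A * Module.finrank (A ⧸ p) (C ⧸ Q) ≤
      Module.finrank (A ⧸ p) (C ⧸ Q) := h6.trans h7
  have he1 : Q.ramificationIdx A = 1 := by
    by_contra hne
    have h2e : 2 ≤ Q.ramificationIdx A := by omega
    have := Nat.mul_le_mul_right (Module.finrank (A ⧸ p) (C ⧸ Q)) h2e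
    omega
  refine ⟨he1, ?_⟩
  rw [← Field.finSepDegree_eq_finrank_iff]
  rw [he1, one_mul] at h6
  exact le_antisymm h7 h6

end Core

section Etale

open IsLocalRing

attribute [local instance] Ideal.Quotient.field in
/-- ramification index one and separable residue extension give formal unramifiedness of the
localization (over a local base). -/
theorem formallyUnramified_localization {A C : Type*} [CommRing A] [IsLocalRing A] [CommRing C]
    [Algebra A C] [Algebra.EssFiniteType A C] (Q : Ideal C) [Q.IsMaximal]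
    [Q.LiesOver (maximalIdeal A)] (he : Q.ramificationIdx A = 1)
    (hsep : Algebra.IsSeparable (A ⧸ maximalIdeal A) (C ⧸ Q)) :
    Algebra.FormallyUnramified A (Localization.AtPrime Q) := by
  classical
  have hunder : Q.under A = maximalIdeal A := (Ideal.LiesOver.over (p := maximalIdeal A) (P := Q)).symm
  haveI : IsLocalHom (algebraMap A (Localization.AtPrime Q)) := ⟨fun a ha => by
    by_contra hnu
    have h1 : a ∈ maximalIdeal A := (mem_maximalIdeal a).2 hnu
    rw [← hunder, Ideal.mem_comap] at h1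
    have h2 : algebraMap C (Localization.AtPrime Q) (algebraMap A C a) ∈
        maximalIdeal (Localization.AtPrime Q) := by
      rw [← Localization.AtPrime.map_eq_maximalIdeal]
      exact Ideal.mem_map_of_mem _ h1
    rw [← IsScalarTower.algebraMap_apply] at h2
    exact (mem_maximalIdeal _).1 h2 ha⟩
  rw [Algebra.FormallyUnramified.iff_map_maximalIdeal_eq]
  refine ⟨?_, ?_⟩
  · let ρ : (C ⧸ Q) →+* IsLocalRing.ResidueField (Localization.AtPrime Q) :=
      (IsLocalization.AtPrime.equivQuotMaximalIdeal Q (Localization.AtPrime Q)).toRingHom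
    have hρsurj : Function.Surjective ρ :=
      (IsLocalization.AtPrime.equivQuotMaximalIdeal Q (Localization.AtPrime Q)).surjective
    have hρ : ρ.comp (algebraMap (A ⧸ maximalIdeal A) (C ⧸ Q)) =
        algebraMap (IsLocalRing.ResidueField A) (IsLocalRing.ResidueField (Localization.AtPrime Q)) := by
      ext a
      show Ideal.Quotient.mk _ (algebraMap C (Localization.AtPrime Q) (algebraMap A C a)) =
        algebraMap (IsLocalRing.ResidueField A) (IsLocalRing.ResidueField (Localization.AtPrime Q)) (residue A a)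
      rw [IsLocalRing.ResidueField.algebraMap_residue, ← IsScalarTower.algebraMap_apply]
      rfl
    rw [Algebra.isSeparable_def]
    intro y
    obtain ⟨x, rfl⟩ := hρsurj y
    have hsepx : IsSeparable (A ⧸ maximalIdeal A) x := Algebra.IsSeparable.isSeparable _ _
    let q : Polynomial (IsLocalRing.ResidueField A) := minpoly (A ⧸ maximalIdeal A) x
    have hroot : Polynomial.aeval (ρ x) q = 0 := by
      have h1 := minpoly.aeval (A ⧸ maximalIdeal A) x
      rw [Polynomial.aeval_def] at h1 ⊢
      have h2 := congrArg ρ h1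
      rw [map_zero, Polynomial.hom_eval₂, hρ] at h2
      exact h2
    have hq : q.Separable := hsepx
    exact hq.of_dvd (minpoly.dvd (IsLocalRing.ResidueField A) _ hroot)
  · rw [Ideal.ramificationIdx_def, ENat.toNat_eq_iff_eq_natCast, Nat.cast_one,
      Module.length_eq_one_iff, isSimpleModule_iff_isCoatom, ← Ideal.isMaximal_def,
      IsLocalRing.isMaximal_iff, hunder] at he
    exact he

/-- In a one-dimensional domain with finitely many maximal ideals, the localization at a maximal
ideal is a localization away from one element. -/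
theorem exists_isLocalization_away {C : Type*} [CommRing C] [IsDomain C] [Ring.DimensionLEOne C]
    (hfin : {Q' : Ideal C | Q'.IsMaximal}.Finite) (Q : Ideal C) [Q.IsMaximal] :
    ∃ s : C, s ∉ Q ∧ IsLocalization.AtPrime (Localization.Away s) Q := by
  classical
  let F : Finset (Ideal C) := hfin.toFinset.erase Q
  have hF : ∀ Q' : Ideal C, Q'.IsMaximal → Q' ≠ Q → Q' ∈ F := fun Q' h1 h2 =>
    Finset.mem_erase.2 ⟨h2, hfin.mem_toFinset.2 h1⟩
  have hF' : ∀ Q' ∈ F, Q'.IsMaximal ∧ Q' ≠ Q := fun Q' h =>
    ⟨hfin.mem_toFinset.1 (Finset.mem_of_mem_erase h), Finset.ne_of_mem_erase h⟩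
  have hJ : ¬ (∏ Q' ∈ F, Q') ≤ Q := by
    intro hle
    obtain ⟨Q', hQ', hle'⟩ := (Ideal.IsPrime.prod_le inferInstance).1 hle
    obtain ⟨hmax, hne⟩ := hF' Q' hQ'
    exact hne (hmax.eq_of_le (Ideal.IsMaximal.ne_top inferInstance) hle')
  obtain ⟨s, hsJ, hsQ⟩ := Set.not_subset.1 hJ
  have hsmem : ∀ Q' ∈ F, s ∈ Q' := fun Q' hQ' =>
    (Ideal.prod_le_inf.trans (Finset.inf_le hQ')) hsJ
  refine ⟨s, hsQ, ?_⟩
  have hle : Submonoid.powers s ≤ Q.primeCompl := by
    rintro _ ⟨n, rfl⟩
    exact fun h => hsQ (Ideal.IsPrime.mem_of_pow_mem inferInstance n h)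
  refine IsLocalization.of_le (Submonoid.powers s) Q.primeCompl hle ?_
  intro t ht
  have ht0 : t ≠ 0 := fun h0 => ht (h0 ▸ Q.zero_mem)
  -- `s ∈ radical (t)`
  have hrad : s ∈ (Ideal.span {t}).radical := by
    rw [Ideal.radical_eq_sInf, Ideal.mem_sInf]
    rintro P ⟨hPt, hPprime⟩
    have hP0 : P ≠ ⊥ := by
      rintro rfl
      exact ht0 ((Ideal.mem_bot).1 (hPt (Ideal.mem_span_singleton_self t)))
    have hPmax : P.IsMaximal := hPprime.isMaximal hP0
    have hPQ : P ≠ Q := by
      rintro rfl
      exact ht (hPt (Ideal.mem_span_singleton_self t))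
    exact hsmem P (hF P hPmax hPQ)
  obtain ⟨n, hn⟩ := hrad
  obtain ⟨c, hc⟩ := Ideal.mem_span_singleton'.1 hn
  have hunit : IsUnit (algebraMap C (Localization.Away s) (s ^ n)) := by
    rw [map_pow]
    exact (IsLocalization.Away.algebraMap_isUnit s).pow n
  rw [← hc, map_mul] at hunit
  exact isUnit_of_mul_isUnit_right hunit

attribute [local instance] Ideal.Quotient.field in
theorem etale_localization {A C : Type*} [CommRing A] [IsLocalRing A] [IsNoetherianRing A]
    [CommRing C] [IsDomain C] [Ring.DimensionLEOne C] [Algebra A C] [Module.Finite A C]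
    [Module.Flat A C]
    (hfin : {Q' : Ideal C | Q'.IsMaximal}.Finite) (Q : Ideal C) [Q.IsMaximal]
    [Q.LiesOver (maximalIdeal A)] (he : Q.ramificationIdx A = 1)
    (hsep : Algebra.IsSeparable (A ⧸ maximalIdeal A) (C ⧸ Q)) :
    Algebra.Etale A (Localization.AtPrime Q) := by
  haveI := formallyUnramified_localization Q he hsep
  haveI : Module.Flat C (Localization.AtPrime Q) := IsLocalization.flat _ Q.primeCompl
  haveI : Module.Flat A (Localization.AtPrime Q) := Module.Flat.trans A C _
  obtain ⟨s, hs, hloc⟩ := exists_isLocalization_away hfin Q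
  let e : Localization.Away s ≃ₐ[C] Localization.AtPrime Q :=
    IsLocalization.algEquiv Q.primeCompl _ _
  haveI : Algebra.FinitePresentation C (Localization.Away s) :=
    IsLocalization.Away.finitePresentation s
  haveI : Algebra.FinitePresentation A C :=
    Algebra.FinitePresentation.of_finiteType.1 inferInstance
  haveI : Algebra.FinitePresentation A (Localization.Away s) :=
    Algebra.FinitePresentation.trans A C _
  haveI : Algebra.FinitePresentation A (Localization.AtPrime Q) :=
    Algebra.FinitePresentation.equiv (e.restrictScalars A)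
  exact Algebra.Etale.of_formallyUnramified_of_flat

end Etale

end Groth.Agent.Lib.Helper9.InertiaRing
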