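import Mathlib
import Groth.Agent.Lib.Helper9.InertiaRing

/-!
# The inertia field of a DVR: invariants and étaleness
-/

universe u

set_option linter.unusedSectionVars false
set_option linter.style.haveILetI false
set_option linter.overlappingInstances false

namespace Groth.Agent.Lib.Helper9.InertiaRingApp

open IsLocalRing Groth.Agent.Lib.Helper9.InertiaRing

attribute [local instance] Ideal.Quotient.field in
theorem main (A K L B : Type u) [CommRing A] [IsDomain A]
    [IsDiscreteValuationRing A] [Field K] [Field L] [Algebra A K] [IsFractionRing A K] [Algebra K L]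
    [Algebra A L] [IsScalarTower A K L] [FiniteDimensional K L] [IsGalois K L]
    [CommRing B] [Algebra A B] [Algebra B L] [IsScalarTower A B L] [IsIntegralClosure B A L]
    [MulSemiringAction (L ≃ₐ[K] L) B]
    (hact : ∀ (σ : L ≃ₐ[K] L) (b : B), algebraMap B L (σ • b) = σ (algebraMap B L b))
    (m : Ideal B) [m.IsMaximal]
    (F : IntermediateField K L)
    (hF : F = IntermediateField.fixedField (m.inertia (L ≃ₐ[K] L)))
    (B' : Type u) [CommRing B'] [Algebra A B'] [Algebra B' B] [IsScalarTower A B' B] [Algebra B' L]
    [IsScalarTower B' B L]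
    [Algebra B' F] [IsScalarTower B' F L] [IsIntegralClosure B' A F] :
    (∀ b : B, (∀ σ ∈ m.inertia (L ≃ₐ[K] L), σ • b = b) ↔ b ∈ Set.range (algebraMap B' B)) ∧
      Algebra.Etale A (Localization.AtPrime (m.comap (algebraMap B' B))) := by
  classical
  -- basic instances for `B`
  haveI : IsDomain B :=
    (IsIntegralClosure.algebraMap_injective B A L).isDomain (algebraMap B L)
  haveI : IsFractionRing B L := IsIntegralClosure.isFractionRing_of_finite_extension A K L B
  haveI : IsDedekindDomain B := IsIntegralClosure.isDedekindDomain A K L B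
  haveI : Module.Finite A B := IsIntegralClosure.finite A K L B
  haveI : Algebra.IsIntegral A B := IsIntegralClosure.isIntegral_algebra A L
  haveI : SMulDistribClass (L ≃ₐ[K] L) B L := ⟨fun σ b l => by
    rw [Algebra.smul_def, Algebra.smul_def, AlgEquiv.smul_def, map_mul, hact]
    rfl⟩
  haveI : IsGaloisGroup (L ≃ₐ[K] L) A B := IsGaloisGroup.of_isFractionRing _ _ _ K L
  have hinjAB : Function.Injective (algebraMap A B) := by
    have h1 : Function.Injective (algebraMap A L) := by
      rw [IsScalarTower.algebraMap_eq A K L]
      exact (algebraMap K L).injective.comp (IsFractionRing.injective A K)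
    rw [IsScalarTower.algebraMap_eq A B L] at h1
    exact Function.Injective.of_comp h1
  haveI : FaithfulSMul A B := (faithfulSMul_iff_algebraMap_injective A B).2 hinjAB
  haveI : Module.IsTorsionFree A B := inferInstance
  haveI : Module.Flat A B := inferInstance
  -- instances for `B'`
  haveI : IsScalarTower A F L := IsScalarTower.of_algebraMap_eq fun a => by
    rw [IsScalarTower.algebraMap_apply A K L, IsScalarTower.algebraMap_apply A K F,
      ← IsScalarTower.algebraMap_apply K F L]
  haveI : IsScalarTower A B' F :=
    IsScalarTower.of_algebraMap_eq fun a => by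
      apply (algebraMap F L).injective
      rw [← IsScalarTower.algebraMap_apply A _ L, ← IsScalarTower.algebraMap_apply B' _ L,
        IsScalarTower.algebraMap_apply B' B L, ← IsScalarTower.algebraMap_apply A B' B,
        ← IsScalarTower.algebraMap_apply A B L]
  haveI : IsDomain B' :=
    (IsIntegralClosure.algebraMap_injective B' A F).isDomain (algebraMap B' _)
  haveI : IsFractionRing B' F :=
    IsIntegralClosure.isFractionRing_of_finite_extension A K _ B'
  haveI : IsDedekindDomain B' := IsIntegralClosure.isDedekindDomain A K F B'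
  haveI : Module.Finite A B' := IsIntegralClosure.finite A K F B'
  haveI : Algebra.IsIntegral A B' := IsIntegralClosure.isIntegral_algebra A F
  haveI : Algebra.IsIntegral B' B := Algebra.IsIntegral.tower_top (R := A)
  have hinjB'B : Function.Injective (algebraMap B' B) := by
    have h1 : Function.Injective (algebraMap B' L) := by
      rw [IsScalarTower.algebraMap_eq B' F L]
      exact (algebraMap F L).injective.comp (IsFractionRing.injective B' F)
    rw [IsScalarTower.algebraMap_eq B' B L] at h1
    exact Function.Injective.of_comp h1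
  haveI : FaithfulSMul B' B := (faithfulSMul_iff_algebraMap_injective B' B).2 hinjB'B
  haveI : Module.Finite B' B := Module.Finite.of_restrictScalars_finite A B' B
  haveI : Module.IsTorsionFree B' B := inferInstance
  haveI : Module.Flat B' B := inferInstance
  have hinjAB' : Function.Injective (algebraMap A B') := by
    rw [IsScalarTower.algebraMap_eq A B' B] at hinjAB
    exact Function.Injective.of_comp hinjAB
  haveI : FaithfulSMul A B' := (faithfulSMul_iff_algebraMap_injective A B').2 hinjAB'
  haveI : Module.IsTorsionFree A B' := inferInstance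
  haveI : Module.Flat A B' := inferInstance
  -- Galois group
  haveI : IsGaloisGroup (m.inertia (L ≃ₐ[K] L)) F L := by
    subst hF
    exact IsGaloisGroup.subgroup (L ≃ₐ[K] L) K L _
  haveI : SMulDistribClass (m.inertia (L ≃ₐ[K] L)) B L :=
    ⟨fun σ b l => smul_distrib_smul (σ : L ≃ₐ[K] L) b l⟩
  haveI : IsGaloisGroup (m.inertia (L ≃ₐ[K] L)) B' B :=
    IsGaloisGroup.of_isFractionRing _ B' B F L
  -- ideals
  have hQdef : m.comap (algebraMap B' B) = m.under B' := rfl
  haveI : (m.comap (algebraMap B' B)).IsMaximal :=
    Ideal.isMaximal_comap_of_isIntegral_of_isMaximal m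
  haveI : m.LiesOver (m.comap (algebraMap B' B)) := ⟨rfl⟩
  have hmA : m.under A = maximalIdeal A :=
    IsLocalRing.eq_maximalIdeal (Ideal.isMaximal_comap_of_isIntegral_of_isMaximal m)
  haveI : m.LiesOver (maximalIdeal A) := ⟨hmA.symm⟩
  haveI : (m.comap (algebraMap B' B)).LiesOver (maximalIdeal A) := ⟨by
    rw [Ideal.under, Ideal.comap_comap, ← IsScalarTower.algebraMap_eq]; exact hmA.symm⟩
  have hfin : {Q' : Ideal B' | Q'.IsMaximal}.Finite := by
    refine (IsDedekindDomain.primesOver_finite (maximalIdeal A) B').subset ?_
    intro Q' hQ'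
    haveI : Q'.IsMaximal := hQ'
    refine ⟨hQ'.isPrime, ⟨?_⟩⟩
    exact (IsLocalRing.eq_maximalIdeal (Ideal.isMaximal_comap_of_isIntegral_of_isMaximal Q')).symm
  obtain ⟨he, hsep⟩ := unramified_inertiaRing (A := A) (C := B') (B := B) (G := L ≃ₐ[K] L)
    (maximalIdeal A) m (m.comap (algebraMap B' B))
  refine ⟨?_, etale_localization hfin _ he hsep⟩
  intro b
  haveI : SMulCommClass (m.inertia (L ≃ₐ[K] L)) B' B := IsGaloisGroup.commutes
  constructor
  · intro h
    obtain ⟨a, ha⟩ := Algebra.IsInvariant.isInvariant (A := B')
      (G := m.inertia (L ≃ₐ[K] L)) b (fun g => h g.1 g.2)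
    exact ⟨a, ha⟩
  · rintro ⟨a, rfl⟩ σ hσ
    exact smul_algebraMap (⟨σ, hσ⟩ : m.inertia (L ≃ₐ[K] L)) a

end Groth.Agent.Lib.Helper9.InertiaRingApp
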