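import Mathlib

/-!
# Invariants of a UFD: counting lemma and principal contraction
-/

open scoped Pointwise

namespace Groth.Agent.Lib.Helper9.InvUFD

set_option linter.unusedSectionVars false

section Nakayama

variable {C M : Type*} [CommRing C] [AddCommGroup M] [Module C M]

/-- Nakayama at a prime, in element form. -/
theorem exists_smul_mem_of_forall_exists [Module.Finite C M] (q' : Ideal C) [q'.IsPrime]
    (N : Submodule C M) (x : C) (hx : x ∈ q')
    (h : ∀ m : M, ∃ c : C, c ∉ q' ∧ ∃ n ∈ N, ∃ m' : M, c • m = n + x • m') :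
    ∀ m : M, ∃ d : C, d ∉ q' ∧ d • m ∈ N := by
  have hsub : Subsingleton (LocalizedModule q'.primeCompl (M ⧸ N)) := by
    have hfin : Module.Finite (Localization q'.primeCompl) (LocalizedModule q'.primeCompl (M ⧸ N)) :=
      inferInstance
    have htop : (⊤ : Submodule (Localization q'.primeCompl)
        (LocalizedModule q'.primeCompl (M ⧸ N))) = ⊥ := by
      apply Submodule.eq_bot_of_le_smul_of_le_jacobson_bot
        (IsLocalRing.maximalIdeal (Localization.AtPrime q')) _ Module.Finite.fg_top
      · intro y _
        induction y using LocalizedModule.induction_on with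
        | h m s =>
          obtain ⟨m, rfl⟩ := Submodule.Quotient.mk_surjective _ m
          obtain ⟨c, hc, n, hn, m', hm'⟩ := h m
          have h1 : (LocalizedModule.mk (Submodule.Quotient.mk m) s :
              LocalizedModule q'.primeCompl (M ⧸ N)) =
              (Localization.mk x (⟨c, hc⟩ * s) : Localization q'.primeCompl) •
                LocalizedModule.mk (Submodule.Quotient.mk m') (1 : q'.primeCompl) := by
            rw [LocalizedModule.mk_smul_mk, mul_one, LocalizedModule.mk_eq]
            refine ⟨1, ?_⟩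
            rw [one_smul, one_smul]
            have e1 : c • (Submodule.Quotient.mk m : M ⧸ N) = x • Submodule.Quotient.mk m' := by
              rw [← Submodule.Quotient.mk_smul, ← Submodule.Quotient.mk_smul, hm',
                Submodule.Quotient.mk_add, (Submodule.Quotient.mk_eq_zero N).mpr hn, zero_add]
            calc (⟨c, hc⟩ * s : q'.primeCompl) • (Submodule.Quotient.mk m : M ⧸ N)
                = (s : C) • c • (Submodule.Quotient.mk m : M ⧸ N) := by
                  rw [Submonoid.smul_def, Submonoid.coe_mul, mul_comm, mul_smul]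
              _ = s • x • (Submodule.Quotient.mk m' : M ⧸ N) := by rw [e1]; rfl
          rw [h1]
          refine Submodule.smul_mem_smul ?_ trivial
          rw [Localization.mk_eq_mk', IsLocalization.AtPrime.mk'_mem_maximal_iff
            (Localization.AtPrime q') q']
          exact hx
      · rw [IsLocalRing.jacobson_eq_maximalIdeal _ bot_ne_top]
    refine ⟨fun a b => ?_⟩
    have ha : a ∈ (⊤ : Submodule (Localization q'.primeCompl)
        (LocalizedModule q'.primeCompl (M ⧸ N))) := trivial
    have hb : b ∈ (⊤ : Submodule (Localization q'.primeCompl)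
        (LocalizedModule q'.primeCompl (M ⧸ N))) := trivial
    rw [htop, Submodule.mem_bot] at ha hb
    rw [ha, hb]
  rw [LocalizedModule.subsingleton_iff] at hsub
  intro m
  obtain ⟨r, hr, hr0⟩ := hsub (Submodule.Quotient.mk m)
  refine ⟨r, hr, ?_⟩
  rwa [← Submodule.Quotient.mk_smul, Submodule.Quotient.mk_eq_zero] at hr0

end Nakayama

section Count

universe u

variable {A H : Type u} [CommRing A] [IsDomain A] [Group H] [Finite H] [MulSemiringAction H A]
  [FaithfulSMul H A]

local notation "C" => FixedPoints.subring A H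

instance isInvariant_fixedPoints : Algebra.IsInvariant (FixedPoints.subring A H) A H :=
  ⟨fun b hb => ⟨⟨b, hb⟩, rfl⟩⟩

instance smulCommClass_fixedPoints : SMulCommClass H (FixedPoints.subring A H) A :=
  ⟨fun h c a => by
    rw [Subring.smul_def, Subring.smul_def, smul_eq_mul, smul_eq_mul, smul_mul', c.2 h]⟩

instance isGaloisGroup_fixedPoints : IsGaloisGroup H (FixedPoints.subring A H) A where
  faithful := inferInstance
  commutes := inferInstance
  isInvariant := inferInstance

theorem card_eq_finrank_fixedPoints : Nat.card H = Module.finrank (FixedPoints.subring A H) A :=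
  IsGaloisGroup.card_eq_finrank' H (FixedPoints.subring A H) A

/-- The norm of `z` under a finite group. -/
noncomputable def nrm (z : A) : A :=
  letI : Fintype H := Fintype.ofFinite H
  ∏ h : H, h • z

theorem nrm_mem (z : A) : nrm (H := H) z ∈ FixedPoints.subring A H := by
  intro g
  letI : Fintype H := Fintype.ofFinite H
  show g • (∏ h : H, h • z) = ∏ h : H, h • z
  rw [Finset.smul_prod']
  simp_rw [← mul_smul]
  exact Fintype.prod_equiv (Equiv.mulLeft g) _ _ (fun h => rfl)

theorem dvd_nrm (z : A) : z ∣ nrm (H := H) z := by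
  letI : Fintype H := Fintype.ofFinite H
  have : (1 : H) • z ∣ ∏ h : H, h • z := Finset.dvd_prod_of_mem _ (Finset.mem_univ 1)
  rwa [one_smul] at this

variable {f : A} (hf : Prime f) (hH : ∀ h : H, f ∣ h • f)

include hH in
theorem dvd_smul_iff (h : H) (a : A) : f ∣ h • a ↔ f ∣ a := by
  constructor
  · rintro ⟨w, hw⟩
    have : a = h⁻¹ • f * h⁻¹ • w := by rw [← smul_mul', ← hw, inv_smul_smul]
    rw [this]
    exact Dvd.dvd.mul_right (hH h⁻¹) _
  · rintro ⟨w, rfl⟩
    rw [smul_mul']
    exact Dvd.dvd.mul_right (hH h) _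

include hf hH in
theorem not_dvd_nrm {z : A} (hz : ¬ f ∣ z) : ¬ f ∣ nrm (H := H) z := by
  letI : Fintype H := Fintype.ofFinite H
  intro hdvd
  obtain ⟨h, _, hh⟩ := (Prime.dvd_finset_prod_iff hf _).mp hdvd
  exact hz ((dvd_smul_iff hH h z).mp hh)

/-- the span of `1, f, …, f^(k-1)` over the invariants. -/
def powSpan (f : A) (k : ℕ) : Submodule (FixedPoints.subring A H) A :=
  Submodule.span (FixedPoints.subring A H) (Set.range fun i : Fin k => f ^ (i : ℕ))

theorem powSpan_mono (f : A) (k : ℕ) : powSpan (H := H) f k ≤ powSpan f (k + 1) := by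
  apply Submodule.span_mono
  rintro _ ⟨i, rfl⟩
  exact ⟨i.castSucc, rfl⟩

theorem pow_mem_powSpan (f : A) (k : ℕ) : f ^ k ∈ powSpan (H := H) f (k + 1) :=
  Submodule.subset_span ⟨Fin.last k, rfl⟩

variable (hres : ∀ a : A, ∃ b c : A, b ∈ FixedPoints.subring A H ∧ c ∈ FixedPoints.subring A H ∧
  ¬ f ∣ c ∧ f ∣ c * a - b)

include hf hres in
theorem span_step (k : ℕ) : ∀ a : A, ∃ c : FixedPoints.subring A H, ¬ f ∣ (c : A) ∧
    ∃ n ∈ powSpan (H := H) f k, ∃ a' : A, c • a = n + f ^ k * a' := by
  induction k with
  | zero =>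
    intro a
    refine ⟨1, ?_, 0, Submodule.zero_mem _, a, by simp⟩
    intro h
    exact hf.not_unit (isUnit_of_dvd_one (by simpa using h))
  | succ k ih =>
    intro a
    obtain ⟨c, hc, n, hn, a', ha'⟩ := ih a
    obtain ⟨b, c', hb, hc', hfc', w, hw⟩ := hres a'
    refine ⟨⟨c', hc'⟩ * c, ?_, (⟨c', hc'⟩ : FixedPoints.subring A H) • n +
      (⟨b, hb⟩ : FixedPoints.subring A H) • f ^ k, ?_, w, ?_⟩
    · intro h
      rcases hf.dvd_or_dvd (by simpa using h) with h | h
      · exact hfc' h
      · exact hc h
    · exact Submodule.add_mem _ (Submodule.smul_mem _ _ (powSpan_mono f k hn))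
        (Submodule.smul_mem _ _ (pow_mem_powSpan f k))
    · rw [mul_smul, ha']
      simp only [Subring.smul_def, smul_eq_mul]
      have : c' * a' = b + f * w := by rw [← hw]; ring
      rw [pow_succ, mul_add, mul_left_comm c' (f ^ k) a', this]
      ring

include hf hH hres in
/-- The counting lemma: if the invariant element `x = f ^ e * z` (`f ∤ z`, `e ≥ 1`) and the residue
field extension at `f` is trivial, then `|H| ≤ e`. -/
theorem card_le [Module.Finite (FixedPoints.subring A H) A] {x : A}
    (hx : x ∈ FixedPoints.subring A H) (e : ℕ) (he : 1 ≤ e) (z : A) (hxz : x = f ^ e * z)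
    (hz : ¬ f ∣ z) : Nat.card H ≤ e := by
  classical
  have hprime : (Ideal.span {f}).IsPrime := (Ideal.span_singleton_prime hf.ne_zero).mpr hf
  set q' : Ideal (FixedPoints.subring A H) :=
    Ideal.comap (algebraMap (FixedPoints.subring A H) A) (Ideal.span {f}) with hq'
  have hq'prime : q'.IsPrime := Ideal.comap_isPrime _ _
  have hmem : ∀ c : FixedPoints.subring A H, c ∈ q' ↔ f ∣ (c : A) := by
    intro c
    rw [hq', Ideal.mem_comap, Ideal.mem_span_singleton]
    rfl
  have hxq : (⟨x, hx⟩ : FixedPoints.subring A H) ∈ q' := by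
    rw [hmem]
    show f ∣ x
    rw [hxz]
    exact Dvd.dvd.mul_right (dvd_pow_self f (by omega)) z
  obtain ⟨w, hw⟩ := dvd_nrm (H := H) z
  have key := exists_smul_mem_of_forall_exists q' (powSpan (H := H) f e) ⟨x, hx⟩ hxq (by
    intro a
    obtain ⟨c, hc, n, hn, a', ha'⟩ := span_step hf hres e a
    refine ⟨⟨nrm z, nrm_mem z⟩ * c, ?_, (⟨nrm z, nrm_mem z⟩ : FixedPoints.subring A H) • n,
      Submodule.smul_mem _ _ hn, w * a', ?_⟩
    · rw [hmem]
      intro h
      rcases hf.dvd_or_dvd (by simpa using h) with h | h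
      · exact not_dvd_nrm hf hH hz h
      · exact hc h
    · rw [mul_smul, ha']
      simp only [Subring.smul_def, smul_eq_mul]
      rw [mul_add, hxz]
      congr 1
      rw [hw]
      ring)
  -- rank computation
  have hrank0 : Module.rank (FixedPoints.subring A H) (A ⧸ powSpan (H := H) f e) = 0 := by
    rw [rank_eq_zero_iff]
    intro y
    obtain ⟨y, rfl⟩ := Submodule.Quotient.mk_surjective _ y
    obtain ⟨d, hd, hdy⟩ := key y
    refine ⟨d, ?_, ?_⟩
    · rintro rfl
      exact hd q'.zero_mem
    · rw [← Submodule.Quotient.mk_smul, Submodule.Quotient.mk_eq_zero]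
      exact hdy
  have hrk := rank_quotient_add_rank_of_isDomain (powSpan (H := H) f e)
  rw [hrank0, zero_add] at hrk
  have hle : Module.rank (FixedPoints.subring A H) A ≤ (e : Cardinal) := by
    rw [← hrk]
    have hset : (Set.range fun i : Fin e => f ^ (i : ℕ)) =
        ((Finset.univ.image fun i : Fin e => f ^ (i : ℕ) : Finset A) : Set A) := by
      rw [Finset.coe_image, Finset.coe_univ, Set.image_univ]
    unfold powSpan
    rw [hset]
    refine (rank_span_finset_le _).trans ?_
    have := Finset.card_image_le (s := (Finset.univ : Finset (Fin e))) (f := fun i : Fin e => f ^ (i : ℕ))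
    rw [Finset.card_univ, Fintype.card_fin] at this
    exact_mod_cast this
  exact (card_eq_finrank_fixedPoints (A := A) (H := H)).trans_le (Module.finrank_le_of_rank_le hle)

end Count

section Main

universe u

variable {A B G : Type u} [CommRing A] [IsDomain A] [UniqueFactorizationMonoid A]
    [CommRing B] [Algebra B A] [FaithfulSMul B A] [Module.Finite B A]
    [Group G] [Finite G] [MulSemiringAction G A] [FaithfulSMul G A] [SMulCommClass G B A]
    [Algebra.IsInvariant B A G]
    (q : Ideal B) [q.IsPrime] (hq : q.height = 1) (p : Ideal A) [p.IsPrime] [p.LiesOver q]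
    (hres : ∀ a : A, ∃ b c : B, c ∉ q ∧ algebraMap B A c * a - algebraMap B A b ∈ p)

include hq in
theorem exists_prime_gen : ∃ f : A, Prime f ∧ p = Ideal.span {f} := by
  have hinj : Function.Injective (algebraMap B A) := FaithfulSMul.algebraMap_injective B A
  have : IsDomain B := hinj.isDomain
  have hqne : q ≠ ⊥ := Ideal.ne_bot_of_height_eq_one hq
  have hqp : q = Ideal.comap (algebraMap B A) p := Ideal.LiesOver.over
  have hpne : p ≠ ⊥ := by
    rintro rfl
    apply hqne
    rw [hqp, Ideal.comap_bot_of_injective _ hinj]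
  obtain ⟨f, hfp, hf⟩ := Ideal.IsPrime.exists_mem_prime_of_ne_bot ‹p.IsPrime› hpne
  refine ⟨f, hf, ?_⟩
  have hP' : (Ideal.span {f}).IsPrime := (Ideal.span_singleton_prime hf.ne_zero).mpr hf
  have hle : Ideal.span {f} ≤ p := (Ideal.span_singleton_le_iff_mem p).mpr hfp
  by_contra hne
  obtain ⟨y, hyp, hyP⟩ := Set.not_subset.mp (fun h : (p : Set A) ⊆ Ideal.span {f} =>
    hne (le_antisymm h hle))
  have hlt := Ideal.comap_lt_comap_of_integral_mem_sdiff (R := B) hle ⟨hyp, hyP⟩
    (Algebra.IsIntegral.isIntegral y)
  rw [← hqp] at hlt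
  have h1 := (Ideal.height_le_iff (p := q) (n := 1)).mp hq.le _ (Ideal.comap_isPrime _ _) hlt
  have h2 : (Ideal.comap (algebraMap B A) (Ideal.span {f})).height = 0 := by
    rw [← ENat.lt_one_iff_eq_zero]
    exact_mod_cast h1
  rw [Ideal.height_eq_zero_iff_eq_bot] at h2
  exact Ideal.comap_ne_bot_of_integral_mem hf.ne_zero (Ideal.mem_span_singleton_self f)
    (Algebra.IsIntegral.isIntegral f) h2

theorem smul_span_singleton (σ : G) (f : A) :
    σ • (Ideal.span {f} : Ideal A) = Ideal.span {σ • f} := by
  rw [Ideal.pointwise_smul_def, Ideal.map_span, Set.image_singleton]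
  rfl

theorem mem_stabilizer_iff {f : A} (hf : Prime f) (σ : G) :
    σ ∈ MulAction.stabilizer G (Ideal.span {f} : Ideal A) ↔ f ∣ σ • f := by
  rw [MulAction.mem_stabilizer_iff, smul_span_singleton]
  constructor
  · intro h
    rw [← Ideal.mem_span_singleton, ← h]
    exact Ideal.mem_span_singleton_self _
  · intro h
    have hσ : Prime (σ • f) := (MulEquiv.prime_iff (MulSemiringAction.toRingEquiv G A σ)).mpr hf
    rw [Ideal.span_singleton_eq_span_singleton]
    exact (hf.associated_of_dvd hσ h).symm

theorem smul_algebraMap' (σ : G) (b : B) : σ • algebraMap B A b = algebraMap B A b := by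
  rw [Algebra.algebraMap_eq_smul_one, smul_comm, smul_one]

include hres in
/-- Key divisibility: every element of `q` is divisible by `f ^ |D|`, `D` the stabilizer of `(f)`. -/
theorem pow_card_stabilizer_dvd {f : A} (hf : Prime f) (hp : p = Ideal.span {f}) (x : B)
    (hx : x ∈ q) :
    f ^ Nat.card (MulAction.stabilizer G (Ideal.span {f} : Ideal A)) ∣ algebraMap B A x := by
  set H : Subgroup G := MulAction.stabilizer G (Ideal.span {f} : Ideal A) with hHdef
  have hqp : q = Ideal.comap (algebraMap B A) p := Ideal.LiesOver.over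
  by_cases hX0 : algebraMap B A x = 0
  · rw [hX0]; exact dvd_zero _
  have hH : ∀ h : H, f ∣ h • f := fun h => (mem_stabilizer_iff hf h.1).mp h.2
  have hBC : ∀ b : B, algebraMap B A b ∈ FixedPoints.subring A H := fun b h =>
    smul_algebraMap' h.1 b
  -- finiteness over the invariants of `H`
  have hfin : Module.Finite (FixedPoints.subring A H) A := by
    obtain ⟨s, hs⟩ := (Module.finite_def (R := B) (M := A)).mp inferInstance
    refine ⟨⟨s, ?_⟩⟩
    rw [eq_top_iff]
    intro a _
    have ha : a ∈ Submodule.span B (s : Set A) := by rw [hs]; trivial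
    clear * - ha hBC
    induction ha using Submodule.span_induction with
    | mem y hy => exact Submodule.subset_span hy
    | zero => exact Submodule.zero_mem _
    | add y z _ _ hy hz => exact Submodule.add_mem _ hy hz
    | smul b y _ hy =>
      have : b • y = (⟨algebraMap B A b, hBC b⟩ : FixedPoints.subring A H) • y := by
        rw [Algebra.smul_def, Subring.smul_def, smul_eq_mul]
      rw [this]
      exact Submodule.smul_mem _ _ hy
  have hres' : ∀ a : A, ∃ b c : A, b ∈ FixedPoints.subring A H ∧ c ∈ FixedPoints.subring A H ∧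
      ¬ f ∣ c ∧ f ∣ c * a - b := by
    intro a
    obtain ⟨b, c, hc, hbc⟩ := hres a
    refine ⟨algebraMap B A b, algebraMap B A c, hBC b, hBC c, ?_, ?_⟩
    · intro h
      apply hc
      rw [hqp, Ideal.mem_comap, hp, Ideal.mem_span_singleton]
      exact h
    · rw [← Ideal.mem_span_singleton, ← hp]
      exact hbc
  have hfX : f ∣ algebraMap B A x := by
    rw [← Ideal.mem_span_singleton, ← hp, ← Ideal.mem_comap, ← hqp]
    exact hx
  have hfm : FiniteMultiplicity f (algebraMap B A x) :=
    FiniteMultiplicity.of_not_isUnit hf.not_unit hX0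
  obtain ⟨z, hz1, hz2⟩ := hfm.exists_eq_pow_mul_and_not_dvd
  have he : 1 ≤ multiplicity f (algebraMap B A x) :=
    hfm.le_multiplicity_of_pow_dvd (by simpa using hfX)
  have hcard := card_le (H := H) hf hH hres' (hBC x) _ he z hz1 hz2
  exact (pow_dvd_pow f hcard).trans ⟨z, hz1⟩

theorem emultiplicity_smul (σ : G) (a b : A) :
    emultiplicity (σ • a) (σ • b) = emultiplicity a b :=
  emultiplicity_map_eq (MulSemiringAction.toRingEquiv G A σ)

theorem emultiplicity_nrm_le {f : A} (hf : Prime f) :
    emultiplicity f (nrm (H := G) f) ≤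
      (Nat.card (MulAction.stabilizer G (Ideal.span {f} : Ideal A)) : ℕ∞) := by
  classical
  letI : Fintype G := Fintype.ofFinite G
  have hnrm : nrm (H := G) f = ∏ σ : G, σ • f := by
    unfold nrm
    congr!
  rw [hnrm, Finset.emultiplicity_prod hf]
  have hterm : ∀ σ : G, emultiplicity f (σ • f) ≤
      if σ ∈ MulAction.stabilizer G (Ideal.span {f} : Ideal A) then (1 : ℕ∞) else 0 := by
    intro σ
    split_ifs with h
    · have hσ : Prime (σ • f) := (MulEquiv.prime_iff (MulSemiringAction.toRingEquiv G A σ)).mpr hf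
      have : emultiplicity f (σ • f) < (2 : ℕ) := by
        rw [emultiplicity_lt_iff_not_dvd]
        rintro ⟨w, hw⟩
        rw [pow_two, mul_assoc] at hw
        rcases hσ.irreducible.isUnit_or_isUnit hw with h1 | h1
        · exact hf.not_unit h1
        · exact hf.not_unit (isUnit_of_mul_isUnit_left h1)
      have h2 : emultiplicity f (σ • f) + 1 ≤ ((1 : ℕ) : ℕ∞) + 1 := by
        have := Order.add_one_le_of_lt this
        exact_mod_cast this
      exact_mod_cast (ENat.add_le_add_iff_right (by simp)).mp h2
    · rw [nonpos_iff_eq_zero, emultiplicity_eq_zero]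
      exact fun hd => h ((mem_stabilizer_iff hf σ).mpr hd)
  refine (Finset.sum_le_sum fun σ _ => hterm σ).trans ?_
  rw [Finset.sum_boole, Nat.card_eq_fintype_card, Fintype.card_subtype]

omit [UniqueFactorizationMonoid A] [FaithfulSMul B A] [Module.Finite B A] [Finite G]
  [FaithfulSMul G A] [SMulCommClass G B A] [Algebra.IsInvariant B A G] [IsDomain A] in
/-- `q` is generated by (the preimage of) the norm of a generator of `p`. -/
theorem exists_gen (A B G : Type u) [CommRing A] [IsDomain A] [UniqueFactorizationMonoid A]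
    [CommRing B] [Algebra B A] [FaithfulSMul B A] [Module.Finite B A]
    [Group G] [Finite G] [MulSemiringAction G A] [FaithfulSMul G A] [SMulCommClass G B A]
    [Algebra.IsInvariant B A G]
    (q : Ideal B) [q.IsPrime] (hq : q.height = 1) (p : Ideal A) [p.IsPrime] [p.LiesOver q]
    (hres : ∀ a : A, ∃ b c : B, c ∉ q ∧ algebraMap B A c * a - algebraMap B A b ∈ p) :
    ∃ t : B, t ≠ 0 ∧ q = Ideal.span {t} := by
  classical
  have hinj : Function.Injective (algebraMap B A) := FaithfulSMul.algebraMap_injective B A
  have hqp : q = Ideal.comap (algebraMap B A) p := Ideal.LiesOver.over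
  obtain ⟨f, hf, hp⟩ := exists_prime_gen q hq p
  have ht_inv : ∀ g : G, g • nrm (H := G) f = nrm (H := G) f := fun g => nrm_mem f g
  obtain ⟨tB, htB⟩ := Algebra.IsInvariant.isInvariant (A := B) (B := A) (G := G) _ ht_inv
  have ht0 : nrm (H := G) f ≠ 0 := by
    letI : Fintype G := Fintype.ofFinite G
    have hnrm : nrm (H := G) f = ∏ σ : G, σ • f := by
      unfold nrm
      congr!
    rw [hnrm, Finset.prod_ne_zero_iff]
    intro σ _
    exact ((MulEquiv.prime_iff (MulSemiringAction.toRingEquiv G A σ)).mpr hf).ne_zero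
  have htB0 : tB ≠ 0 := by
    rintro rfl
    exact ht0 (by rw [← htB, map_zero])
  have htq : tB ∈ q := by
    rw [hqp, Ideal.mem_comap, htB, hp, Ideal.mem_span_singleton]
    exact dvd_nrm f
  refine ⟨tB, htB0, le_antisymm ?_ ((Ideal.span_singleton_le_iff_mem q).mpr htq)⟩
  intro x hx
  -- `t ∣ X`
  have hdvd : nrm (H := G) f ∣ algebraMap B A x := by
    rw [UniqueFactorizationMonoid.dvd_iff_emultiplicity_le ht0]
    intro π hπ
    by_cases hπt : π ∣ nrm (H := G) f
    · letI : Fintype G := Fintype.ofFinite G
      have hnrm : nrm (H := G) f = ∏ σ : G, σ • f := by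
        unfold nrm
        congr!
      obtain ⟨σ, -, hσ⟩ := (Prime.dvd_finset_prod_iff hπ _).mp (hnrm ▸ hπt)
      have hσp : Prime (σ • f) := (MulEquiv.prime_iff (MulSemiringAction.toRingEquiv G A σ)).mpr hf
      have hassoc : Associated π (σ • f) := hπ.associated_of_dvd hσp hσ
      rw [← emultiplicity_eq_of_associated_left hassoc, ← emultiplicity_eq_of_associated_left hassoc]
      have h1 : emultiplicity (σ • f) (nrm (H := G) f) = emultiplicity f (nrm (H := G) f) := by
        conv_lhs => rw [← ht_inv σ]
        exact emultiplicity_smul σ _ _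
      have h2 : emultiplicity (σ • f) (algebraMap B A x) = emultiplicity f (algebraMap B A x) := by
        conv_lhs => rw [← smul_algebraMap' σ x]
        exact emultiplicity_smul σ _ _
      rw [h1, h2]
      refine (emultiplicity_nrm_le hf).trans ?_
      rw [← pow_dvd_iff_le_emultiplicity]
      exact pow_card_stabilizer_dvd q p hres hf hp x hx
    · rw [emultiplicity_eq_zero.mpr hπt]
      exact zero_le
  obtain ⟨y, hy⟩ := hdvd
  have hyinv : ∀ g : G, g • y = y := by
    intro g
    have h1 : g • algebraMap B A x = g • (nrm (H := G) f * y) := by rw [hy]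
    rw [smul_algebraMap', smul_mul', ht_inv g, hy] at h1
    exact (mul_left_cancel₀ ht0 h1).symm
  obtain ⟨yB, hyB⟩ := Algebra.IsInvariant.isInvariant (A := B) (B := A) (G := G) y hyinv
  rw [Ideal.mem_span_singleton]
  refine ⟨yB, hinj ?_⟩
  rw [map_mul, htB, hyB, hy]

end Main

section Local

theorem isUnit_of_isUnit_algebraMap (A B G : Type*) [CommRing A] [CommRing B] [Algebra B A]
    [FaithfulSMul B A] [Group G] [MulSemiringAction G A] [SMulCommClass G B A]
    [Algebra.IsInvariant B A G] (b : B) (hb : IsUnit (algebraMap B A b)) : IsUnit b := by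
  have hinj : Function.Injective (algebraMap B A) := FaithfulSMul.algebraMap_injective B A
  obtain ⟨u, hu⟩ := hb
  have hyinv : ∀ g : G, g • (↑u⁻¹ : A) = ↑u⁻¹ := by
    intro g
    have h1 : g • (↑u⁻¹ : A) * algebraMap B A b = 1 := by
      have : g • algebraMap B A b = algebraMap B A b := by
        rw [Algebra.algebraMap_eq_smul_one, smul_comm, smul_one]
      rw [← this, ← smul_mul', ← hu, Units.inv_mul, smul_one]
    have h2 : algebraMap B A b * (↑u⁻¹ : A) = 1 := by rw [← hu, Units.mul_inv]
    exact left_inv_eq_right_inv h1 h2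
  obtain ⟨y, hy⟩ := Algebra.IsInvariant.isInvariant (A := B) (B := A) (G := G) _ hyinv
  refine IsUnit.of_mul_eq_one y (hinj ?_)
  rw [map_mul, hy, ← hu, Units.mul_inv, map_one]

theorem isLocalRing_of_isInvariant (A B G : Type*) [CommRing A] [CommRing B] [Algebra B A]
    [FaithfulSMul B A] [Group G] [MulSemiringAction G A] [SMulCommClass G B A]
    [Algebra.IsInvariant B A G] [IsLocalRing A] : IsLocalRing B := by
  have : Nontrivial B := (algebraMap B A).domain_nontrivial
  refine IsLocalRing.of_nonunits_add fun a b ha hb => ?_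
  have ha' : algebraMap B A a ∈ nonunits A := fun h => ha (isUnit_of_isUnit_algebraMap A B G a h)
  have hb' : algebraMap B A b ∈ nonunits A := fun h => hb (isUnit_of_isUnit_algebraMap A B G b h)
  have hab := IsLocalRing.nonunits_add ha' hb'
  intro h
  apply hab
  rw [← map_add]
  exact h.map _

end Local

end Groth.Agent.Lib.Helper9.InvUFD
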