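import Mathlib
import Groth.Agent.S14676
import Groth.Agent.S7853
import Groth.Agent.S0549

/-!
# Descent of finite separable extensions of the fraction field of a completion (Krasner)

Algebraic route: Newton's lemma in the finite free algebra `Â[X]/(f)` + Nakayama.
-/

universe u

set_option linter.unusedSectionVars false
set_option linter.style.haveILetI false

namespace Groth.Agent.Lib.Helper9.KrasnerDescent

open Polynomial IsLocalRing

section Complete

/-- adic completeness transports along linear equivalences. -/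
theorem isAdicComplete_of_linearEquiv {R M N : Type*} [CommRing R] (I : Ideal R)
    [AddCommGroup M] [Module R M] [AddCommGroup N] [Module R N] (e : M ≃ₗ[R] N)
    [IsAdicComplete I M] : IsAdicComplete I N := by
  have key : ∀ (n : ℕ) (x : N), x ∈ (I ^ n • ⊤ : Submodule R N) ↔
      e.symm x ∈ (I ^ n • ⊤ : Submodule R M) := by
    intro n x
    have h1 : (I ^ n • ⊤ : Submodule R N) = (I ^ n • ⊤ : Submodule R M).map e.toLinearMap := by
      rw [Submodule.map_smul'', Submodule.map_top, LinearMap.range_eq_top.2 e.surjective]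
    rw [h1]
    constructor
    · rintro ⟨y, hy, rfl⟩
      simpa using hy
    · intro h
      exact ⟨e.symm x, h, by simp⟩
  haveI : IsHausdorff I N := by
    refine ⟨fun x hx => ?_⟩
    have : e.symm x = 0 := by
      apply IsHausdorff.haus (inferInstance : IsHausdorff I M)
      intro n
      have := hx n
      rw [SModEq.sub_mem, sub_zero] at this ⊢
      exact (key n x).1 this
    simpa using congrArg e this
  haveI : IsPrecomplete I N := by
    refine ⟨fun f hf => ?_⟩
    obtain ⟨L, hL⟩ := IsPrecomplete.prec (inferInstance : IsPrecomplete I M)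
      (f := fun n => e.symm (f n)) (by
        intro m n hmn
        have := hf hmn
        rw [SModEq.sub_mem] at this ⊢
        rw [← map_sub]
        exact (key m _).1 this)
    refine ⟨e L, fun n => ?_⟩
    have := hL n
    rw [SModEq.sub_mem] at this ⊢
    rw [key, map_sub, LinearEquiv.symm_apply_apply]
    exact this
  exact {}

/-- A finite free algebra over an adically complete ring is adically complete. -/
theorem isAdicComplete_map_of_finite_free {R S : Type*} [CommRing R] (I : Ideal R)
    [IsAdicComplete I R] [CommRing S] [Algebra R S] [Module.Finite R S] [Module.Free R S] :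
    IsAdicComplete (I.map (algebraMap R S)) S := by
  classical
  rcases subsingleton_or_nontrivial R with hR | hR
  · haveI : Subsingleton S := Module.subsingleton R S
    infer_instance
  let b := (Module.Free.chooseBasis R S).reindex (Fintype.equivFin _)
  haveI : IsAdicComplete I (Fin (Fintype.card (Module.Free.ChooseBasisIndex R S)) → R) :=
    Groth.Agent.S7853.isAdicComplete_pi (I := I) _
  haveI : IsAdicComplete I S := isAdicComplete_of_linearEquiv I b.equivFun.symm
  haveI : IsHausdorff (I.map (algebraMap R S)) S := IsHausdorff.map_algebraMap_iff.2 inferInstance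
  haveI : IsPrecomplete (I.map (algebraMap R S)) S :=
    IsPrecomplete.map_algebraMap_iff.2 inferInstance
  exact {}

end Complete

section Newton

/-- **Newton's lemma** in an adically complete ring. -/
theorem newton {S : Type u} [CommRing S] (J : Ideal S) [IsAdicComplete J S] (g : S[X]) (θ c : S)
    (hc : c ∈ J) (h : g.eval θ = (g.derivative.eval θ) ^ 2 * c) :
    ∃ θ' : S, g.IsRoot θ' ∧ θ' - θ ∈ J := by
  set d := g.derivative.eval θ with hd
  set T := taylor θ g with hT
  set T₂ := T.divX.divX with hT₂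
  have hT0 : T.coeff 0 = d ^ 2 * c := by rw [hT, taylor_coeff_zero, h]
  have hT1 : T.divX.coeff 0 = d := by rw [coeff_divX, hT, taylor_coeff_one]
  have hTexp : T = (T₂ * X + C d) * X + C (d ^ 2 * c) := by
    conv_lhs => rw [← divX_mul_X_add T, ← divX_mul_X_add T.divX, hT0, hT1]
  set G : S[X] := C c + X + X ^ 2 * T₂.comp (C d * X) with hG
  have hPG : T.comp (C d * X) = C (d ^ 2) * G := by
    conv_lhs => rw [hTexp]
    simp only [add_comp, mul_comp, X_comp, C_comp, hG, map_mul, map_pow, pow_comp]
    ring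
  have hG0 : G.eval 0 = c := by simp [hG]
  have hG'0 : G.derivative.eval 0 = 1 := by
    simp [hG, derivative_mul, derivative_comp]
  obtain ⟨y, ⟨hyJ, hy⟩, -⟩ := Groth.Agent.S14676.result S J G 0 (by rw [hG0]; exact hc)
    (by rw [hG'0, map_one]; exact isUnit_one)
  rw [sub_zero] at hyJ
  refine ⟨d * y + θ, ?_, ?_⟩
  · have h1 : (T.comp (C d * X)).eval y = 0 := by
      rw [hPG, eval_mul, (show G.eval y = 0 from hy), mul_zero]
    rw [eval_comp, eval_mul, eval_C, eval_X, hT, taylor_eval] at h1
    exact h1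
  · rw [add_sub_cancel_right]
    exact Ideal.mul_mem_left _ _ hyJ

end Newton

section Perturb

variable {R : Type u} [CommRing R] [IsLocalRing R]

theorem aeval_mem_map {S : Type*} [CommRing S] [Algebra R S] (I : Ideal R) (q : R[X])
    (hq : ∀ i, q.coeff i ∈ I) (x : S) : aeval x q ∈ I.map (algebraMap R S) := by
  rw [aeval_eq_sum_range]
  refine Ideal.sum_mem _ fun i _ => ?_
  rw [Algebra.smul_def]
  exact Ideal.mul_mem_right _ _ (Ideal.mem_map_of_mem _ (hq i))

/-- Perturbing a monic `f` by a polynomial with coefficients deep in the maximal ideal keeps a root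
in `R[X]/(f)`, close to the tautological one. -/
theorem exists_root_of_close [IsAdicComplete (maximalIdeal R) R] (f : R[X]) (hf : f.Monic)
    (b : R[X]) (D : R)
    (hb : aeval (AdjoinRoot.root f) b * aeval (AdjoinRoot.root f) f.derivative =
      algebraMap R (AdjoinRoot f) D)
    (N : ℕ) (hN : maximalIdeal R ^ N ≤ Ideal.span {D ^ 2} * maximalIdeal R)
    (gh : R[X]) (hgh : ∀ i, (gh - f).coeff i ∈ maximalIdeal R ^ N) :
    ∃ θ' : AdjoinRoot f, aeval θ' gh = 0 ∧
      θ' - AdjoinRoot.root f ∈ (maximalIdeal R).map (algebraMap R (AdjoinRoot f)) := by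
  set S := AdjoinRoot f
  set J := (maximalIdeal R).map (algebraMap R S) with hJ
  haveI : Module.Finite R S := hf.finite_adjoinRoot
  haveI : Module.Free R S := hf.free_adjoinRoot
  haveI : IsAdicComplete J S := isAdicComplete_map_of_finite_free (maximalIdeal R)
  set ρ : S := AdjoinRoot.root f with hρ
  set DS : S := algebraMap R S D with hDS
  have hfρ : aeval ρ f = 0 := by rw [hρ, AdjoinRoot.aeval_eq, AdjoinRoot.mk_self]
  -- elements of `(𝔪^N) S` are `D² · J`
  have hmem : ∀ x : S, x ∈ (maximalIdeal R ^ N).map (algebraMap R S) → ∃ j ∈ J, x = DS ^ 2 * j := by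
    intro x hx
    have h1 := Ideal.map_mono (f := algebraMap R S) hN hx
    rw [Ideal.map_mul, Ideal.map_span, Set.image_singleton, Ideal.mem_span_singleton_mul] at h1
    obtain ⟨j, hj, rfl⟩ := h1
    exact ⟨j, hj, by rw [hDS, map_pow]⟩
  set q := gh - f with hq
  obtain ⟨j₀, hj₀, he₀⟩ := hmem (aeval ρ q) (aeval_mem_map _ q hgh ρ)
  have hq' : ∀ i, q.derivative.coeff i ∈ maximalIdeal R ^ N := by
    intro i
    rw [coeff_derivative]
    exact Ideal.mul_mem_right _ _ (hgh _)
  obtain ⟨j₁, hj₁, he₁⟩ := hmem (aeval ρ q.derivative) (aeval_mem_map _ q.derivative hq' ρ)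
  have hgρ : aeval ρ gh = DS ^ 2 * j₀ := by
    have : gh = q + f := by rw [hq]; ring
    rw [this, map_add, hfρ, add_zero, he₀]
  have hg'ρ : aeval ρ gh.derivative = aeval ρ f.derivative + DS ^ 2 * j₁ := by
    have : gh = q + f := by rw [hq]; ring
    rw [this, derivative_add, map_add, he₁, add_comm]
  set d := aeval ρ gh.derivative with hd
  set bθ := aeval ρ b with hbθ
  have hu : IsUnit (1 + DS * bθ * j₁) := by
    have hjac := IsAdicComplete.le_jacobson_bot J hj₁
    have := (Ideal.mem_jacobson_bot.1 hjac) (DS * bθ)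
    rw [add_comm, mul_comm]
    exact this
  obtain ⟨u, hu'⟩ := hu
  have hD : DS = d * (bθ * ↑u⁻¹) := by
    have h1 : bθ * d = DS * (u : S) := by
      rw [hg'ρ, mul_add, hb, hu']
      ring
    calc DS = DS * (u : S) * ↑u⁻¹ := by rw [mul_assoc, Units.mul_inv, mul_one]
      _ = bθ * d * ↑u⁻¹ := by rw [h1]
      _ = d * (bθ * ↑u⁻¹) := by ring
  set w := bθ * ↑u⁻¹ with hw
  have hkey : aeval ρ gh = d ^ 2 * (w ^ 2 * j₀) := by
    rw [hgρ]
    conv_lhs => rw [hD]
    ring
  obtain ⟨θ', hroot, hclose⟩ := newton J (gh.map (algebraMap R S)) ρ (w ^ 2 * j₀)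
    (Ideal.mul_mem_left _ _ hj₀) (by
      rw [eval_map_algebraMap, derivative_map, eval_map_algebraMap]
      exact hkey)
  refine ⟨θ', ?_, hclose⟩
  have := hroot
  rwa [IsRoot, eval_map_algebraMap] at this

/-- Nakayama: an element close to the root generates `R[X]/(f)`. -/
theorem adjoin_eq_top_of_close (f : R[X]) (hf : f.Monic) (θ' : AdjoinRoot f)
    (h : θ' - AdjoinRoot.root f ∈ (maximalIdeal R).map (algebraMap R (AdjoinRoot f))) :
    Algebra.adjoin R {θ'} = ⊤ := by
  haveI : Module.Finite R (AdjoinRoot f) := hf.finite_adjoinRoot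
  have hfg : (⊤ : Submodule R (AdjoinRoot f)).FG := Module.Finite.fg_top
  have hle : (⊤ : Submodule R (AdjoinRoot f)) ≤ Subalgebra.toSubmodule (Algebra.adjoin R {θ'}) := by
    refine Submodule.le_of_le_smul_of_le_jacobson_bot hfg
      (IsLocalRing.maximalIdeal_le_jacobson ⊥) ?_
    intro x _
    obtain ⟨p, rfl⟩ := AdjoinRoot.mk_surjective x
    rw [← AdjoinRoot.aeval_eq]
    have h1 : aeval (AdjoinRoot.root f) p - aeval θ' p ∈
        (maximalIdeal R).map (algebraMap R (AdjoinRoot f)) := by
      rw [← eval_map_algebraMap, ← eval_map_algebraMap]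
      obtain ⟨z, hz⟩ := sub_dvd_eval_sub (AdjoinRoot.root f) θ' (p.map (algebraMap R (AdjoinRoot f)))
      rw [hz]
      refine Ideal.mul_mem_right _ _ ?_
      rw [← neg_sub]
      exact Ideal.neg_mem_iff _ |>.2 h
    have h2 : aeval (AdjoinRoot.root f) p - aeval θ' p ∈
        (maximalIdeal R • ⊤ : Submodule R (AdjoinRoot f)) := by
      rw [Ideal.smul_top_eq_map]
      exact h1
    have h3 : aeval θ' p ∈ Subalgebra.toSubmodule (Algebra.adjoin R {θ'}) := by
      rw [Subalgebra.mem_toSubmodule]
      exact aeval_mem_adjoin_singleton R θ'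
    have := Submodule.add_mem_sup h3 h2
    rwa [add_sub_cancel] at this
  apply top_le_iff.1
  intro x _
  exact hle (Submodule.mem_top)

end Perturb

section Main

open TensorProduct IntermediateField

theorem exists_descent (A K : Type u) [CommRing A] [IsDomain A] [Field K] [Algebra A K]
    [IsFractionRing A K]
    (Ah : Type u) [CommRing Ah] [IsDomain Ah] [IsDiscreteValuationRing Ah]
    [IsAdicComplete (maximalIdeal Ah) Ah] [Algebra A Ah]
    (hdense : ∀ (x : Ah) (N : ℕ), ∃ a : A, x - algebraMap A Ah a ∈ maximalIdeal Ah ^ N)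
    (Kh : Type u) [Field Kh] [Algebra Ah Kh] [IsFractionRing Ah Kh] [Algebra A Kh] [Algebra K Kh]
    [IsScalarTower A Ah Kh] [IsScalarTower A K Kh]
    (M : Type u) [Field M] [Algebra Kh M] [FiniteDimensional Kh M] [Algebra.IsSeparable Kh M] :
    ∃ (L : Type u) (_ : Field L) (_ : Algebra K L), FiniteDimensional K L ∧
      Algebra.IsSeparable K L ∧ Nonempty ((Kh ⊗[K] L) ≃ₐ[Kh] M) := by
  classical
  letI : Algebra Ah M := ((algebraMap Kh M).comp (algebraMap Ah Kh)).toAlgebra
  haveI : IsScalarTower Ah Kh M := IsScalarTower.of_algebraMap_eq fun _ => rfl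
  letI : Algebra K M := ((algebraMap Kh M).comp (algebraMap K Kh)).toAlgebra
  haveI : IsScalarTower K Kh M := IsScalarTower.of_algebraMap_eq fun _ => rfl
  letI : Algebra A M := ((algebraMap Kh M).comp (algebraMap A Kh)).toAlgebra
  haveI : IsScalarTower A Kh M := IsScalarTower.of_algebraMap_eq fun _ => rfl
  haveI : IsScalarTower A Ah M := IsScalarTower.of_algebraMap_eq fun a => by
    change algebraMap Kh M (algebraMap A Kh a) =
      algebraMap Kh M (algebraMap Ah Kh (algebraMap A Ah a))
    rw [← IsScalarTower.algebraMap_apply A Ah Kh]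
  haveI : IsScalarTower A K M := IsScalarTower.of_algebraMap_eq fun a => by
    change algebraMap Kh M (algebraMap A Kh a) =
      algebraMap Kh M (algebraMap K Kh (algebraMap A K a))
    rw [← IsScalarTower.algebraMap_apply A K Kh]
  have hinjAh : Function.Injective (algebraMap Ah Kh) := IsFractionRing.injective Ah Kh
  -- primitive element, made integral
  obtain ⟨θ₀, hθ₀⟩ := Field.exists_primitive_element Kh M
  have halg₀ : IsAlgebraic Ah θ₀ :=
    (IsFractionRing.isAlgebraic_iff Ah Kh M).2 (Algebra.IsAlgebraic.isAlgebraic θ₀)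
  obtain ⟨y, hy0, hint⟩ := halg₀.exists_integral_multiple
  set θ : M := y • θ₀ with hθ
  have hyK : algebraMap Ah Kh y ≠ 0 := fun h => hy0 (hinjAh (by rw [h, map_zero]))
  have hθtop : Kh⟮θ⟯ = ⊤ := by
    rw [eq_top_iff, ← hθ₀, IntermediateField.adjoin_simple_le_iff]
    have h1 : θ₀ = (algebraMap Ah Kh y)⁻¹ • θ := by
      rw [hθ, ← IsScalarTower.algebraMap_smul Kh y θ₀, smul_smul, inv_mul_cancel₀ hyK, one_smul]
    rw [h1]
    exact IntermediateField.smul_mem _ (mem_adjoin_simple_self Kh θ)
  set f := minpoly Ah θ with hf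
  have hfmonic : f.Monic := minpoly.monic hint
  have hfK : minpoly Kh θ = f.map (algebraMap Ah Kh) :=
    minpoly.isIntegrallyClosed_eq_field_fractions' Kh hint
  have hθint : IsIntegral Kh θ := Algebra.IsIntegral.isIntegral θ
  set n := f.natDegree with hn
  have hnM : Module.finrank Kh M = n := by
    rw [← IntermediateField.finrank_top', ← hθtop, IntermediateField.adjoin.finrank hθint, hfK,
      hfmonic.natDegree_map]
  -- Bezout relation over `Ah`
  have hsep : (minpoly Kh θ).Separable := Algebra.IsSeparable.isSeparable Kh θ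
  obtain ⟨a₀, b₀, hab⟩ := hsep
  obtain ⟨d₁, ha'⟩ := IsLocalization.integerNormalization_map_to_map (nonZeroDivisors Ah) a₀
  obtain ⟨d₂, hb'⟩ := IsLocalization.integerNormalization_map_to_map (nonZeroDivisors Ah) b₀
  set a' := IsLocalization.integerNormalization (nonZeroDivisors Ah) a₀ with ha'def
  set b' := IsLocalization.integerNormalization (nonZeroDivisors Ah) b₀ with hb'def
  set D : Ah := (d₁ : Ah) * (d₂ : Ah) with hD
  have hD0 : D ≠ 0 := mul_ne_zero (nonZeroDivisors.ne_zero d₁.2) (nonZeroDivisors.ne_zero d₂.2)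
  set bpoly : Ah[X] := C (d₁ : Ah) * b' with hbpoly
  have hbez : C (d₂ : Ah) * a' * f + bpoly * f.derivative = C D := by
    apply Polynomial.map_injective _ hinjAh
    simp only [Polynomial.map_add, Polynomial.map_mul, Polynomial.map_C, hbpoly, ha', hb',
      ← derivative_map, ← hfK]
    rw [hD, map_mul, C_mul]
    simp only [Algebra.smul_def, Polynomial.algebraMap_apply]
    linear_combination (C (algebraMap Ah Kh ↑d₁) * C (algebraMap Ah Kh ↑d₂)) * hab
  have hb : aeval (AdjoinRoot.root f) bpoly * aeval (AdjoinRoot.root f) f.derivative =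
      algebraMap Ah (AdjoinRoot f) D := by
    have h1 := congrArg (aeval (AdjoinRoot.root f)) hbez
    rw [map_add, map_mul (aeval (AdjoinRoot.root f)) _ f, AdjoinRoot.aeval_eq f,
      AdjoinRoot.mk_self, mul_zero, zero_add, aeval_C, map_mul] at h1
    exact h1
  -- the exponent `N`
  obtain ⟨ϖ, hϖ⟩ := IsDiscreteValuationRing.exists_irreducible Ah
  have hm : maximalIdeal Ah = Ideal.span {ϖ} := hϖ.maximalIdeal_eq
  obtain ⟨s₀, hs₀⟩ := IsDiscreteValuationRing.ideal_eq_span_pow_irreducible
    (s := Ideal.span {D ^ 2}) (by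
      rw [Ne, Ideal.span_singleton_eq_bot]; exact pow_ne_zero 2 hD0) hϖ
  have hN : maximalIdeal Ah ^ (s₀ + 1) ≤ Ideal.span {D ^ 2} * maximalIdeal Ah := by
    rw [hs₀, hm, Ideal.span_singleton_pow, Ideal.span_singleton_mul_span_singleton, pow_succ]
  -- the approximating polynomial over `A`
  choose a ha using fun i : ℕ => hdense (f.coeff i) (s₀ + 1)
  set g : A[X] := X ^ n + ∑ i ∈ Finset.range n, C (a i) * X ^ i with hg
  have hsumdeg : (∑ i ∈ Finset.range n, C (a i) * X ^ i : A[X]).degree < n := by
    refine (degree_sum_le _ _).trans_lt ?_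
    refine (Finset.sup_lt_iff (WithBot.bot_lt_coe n)).2 ?_
    intro i hi
    refine (degree_C_mul_X_pow_le i (a i)).trans_lt ?_
    exact WithBot.coe_lt_coe.2 (Finset.mem_range.1 hi)
  have hgmonic : g.Monic := monic_X_pow_add hsumdeg
  have hgdeg : g.natDegree = n := by
    rw [hg, natDegree_add_eq_left_of_degree_lt, natDegree_X_pow]
    rwa [degree_X_pow]
  set gh : Ah[X] := g.map (algebraMap A Ah) with hghdef
  have hgcoeff : ∀ i, g.coeff i = if i = n then 1 else if i < n then a i else 0 := by
    intro i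
    rw [hg, coeff_add, coeff_X_pow, finset_sum_coeff]
    simp only [coeff_C_mul_X_pow]
    rw [Finset.sum_ite_eq (Finset.range n) i (fun j => a j)]
    simp only [Finset.mem_range]
    split_ifs with h1 h2 <;> simp <;> omega
  have hgh : ∀ i, (gh - f).coeff i ∈ maximalIdeal Ah ^ (s₀ + 1) := by
    intro i
    rw [coeff_sub, hghdef, coeff_map, hgcoeff]
    split_ifs with h1 h2
    · rw [h1, map_one]
      have : f.coeff n = 1 := hfmonic.coeff_natDegree
      rw [this, sub_self]; exact zero_mem _
    · have := ha i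
      rw [← Ideal.neg_mem_iff, neg_sub]
      exact this
    · rw [map_zero, coeff_eq_zero_of_natDegree_lt (by omega), sub_self]; exact zero_mem _
  obtain ⟨θ', hθ'root, hθ'close⟩ :=
    exists_root_of_close f hfmonic bpoly D hb (s₀ + 1) hN gh hgh
  have hadj := adjoin_eq_top_of_close f hfmonic θ' hθ'close
  -- map to `M`
  have hθf : eval₂ (Algebra.ofId Ah M) θ f = 0 := by
    change eval₂ (algebraMap Ah M) θ f = 0
    rw [← aeval_def]; exact minpoly.aeval Ah θ
  let ι : AdjoinRoot f →ₐ[Ah] M := AdjoinRoot.liftAlgHom f (Algebra.ofId Ah M) θ hθf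
  have hιroot : ι (AdjoinRoot.root f) = θ := AdjoinRoot.liftAlgHom_root f _ θ hθf
  set β : M := ι θ' with hβ
  have hβg : aeval β g = 0 := by
    rw [← aeval_map_algebraMap Ah β g, hβ, aeval_algHom_apply, hθ'root, map_zero]
  have hθmem : θ ∈ Kh⟮β⟯ := by
    have h1 : AdjoinRoot.root f ∈ Algebra.adjoin Ah {θ'} := by rw [hadj]; trivial
    have h2 : θ ∈ (Algebra.adjoin Ah {θ'}).map ι := ⟨_, h1, hιroot⟩
    rw [AlgHom.map_adjoin_singleton] at h2
    have h3 : Algebra.adjoin Ah {β} ≤ (Kh⟮β⟯.toSubalgebra).restrictScalars Ah :=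
      Algebra.adjoin_le (by
        rw [Set.singleton_subset_iff]
        exact mem_adjoin_simple_self Kh β)
    exact h3 h2
  have hβtop : Kh⟮β⟯ = ⊤ := by
    rw [eq_top_iff, ← hθtop, IntermediateField.adjoin_simple_le_iff]
    exact hθmem
  have hβint : IsIntegral Kh β := Algebra.IsIntegral.isIntegral β
  set gKh : Kh[X] := g.map (algebraMap A Kh) with hgKh
  have hgKhmonic : gKh.Monic := hgmonic.map _
  have hgKhdeg : gKh.natDegree = n := by rw [hgKh, hgmonic.natDegree_map, hgdeg]
  have hminβ : gKh = minpoly Kh β := by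
    refine eq_of_monic_of_dvd_of_natDegree_le (minpoly.monic hβint) hgKhmonic ?_ ?_
    · apply minpoly.dvd
      rw [hgKh, aeval_map_algebraMap]
      exact hβg
    · rw [hgKhdeg, ← hnM, ← IntermediateField.finrank_top', ← hβtop,
        IntermediateField.adjoin.finrank hβint]
  set gK : K[X] := g.map (algebraMap A K) with hgK
  have hgKmap : gK.map (algebraMap K Kh) = gKh := by
    rw [hgK, hgKh, Polynomial.map_map, ← IsScalarTower.algebraMap_eq]
  have hgKmonic : gK.Monic := hgmonic.map _
  have hgKirr : Irreducible gK := by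
    refine Monic.irreducible_of_irreducible_map (algebraMap K Kh) gK hgKmonic ?_
    rw [hgKmap, hminβ]
    exact minpoly.irreducible hβint
  have hgKsep : gK.Separable := by
    rw [← separable_map (algebraMap K Kh), hgKmap, hminβ]
    exact Algebra.IsSeparable.isSeparable Kh β
  haveI : Fact (Irreducible gK) := ⟨hgKirr⟩
  have hgKne : gK ≠ 0 := hgKmonic.ne_zero
  haveI : FiniteDimensional K (AdjoinRoot gK) := (AdjoinRoot.powerBasis hgKne).finite
  have hLrank : Module.finrank K (AdjoinRoot gK) = n := by
    rw [(AdjoinRoot.powerBasis hgKne).finrank, AdjoinRoot.powerBasis_dim, hgK,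
      hgmonic.natDegree_map, hgdeg]
  -- separability of `L`
  have hrootsep : IsSeparable K (AdjoinRoot.root gK) := by
    unfold IsSeparable
    rw [← minpoly.eq_of_irreducible_of_monic hgKirr (by
      rw [AdjoinRoot.aeval_eq, AdjoinRoot.mk_self]) hgKmonic]
    exact hgKsep
  haveI : Algebra.IsSeparable K (AdjoinRoot gK) := by
    have h1 : Algebra.IsSeparable K K⟮AdjoinRoot.root gK⟯ :=
      (IntermediateField.isSeparable_adjoin_simple_iff_isSeparable K (AdjoinRoot gK)).2 hrootsep
    have h2 : K⟮AdjoinRoot.root gK⟯ = ⊤ := by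
      apply IntermediateField.toSubalgebra_injective
      rw [IntermediateField.adjoin_simple_toSubalgebra_of_isAlgebraic
        (Algebra.IsAlgebraic.isAlgebraic _), AdjoinRoot.adjoinRoot_eq_top,
        IntermediateField.top_toSubalgebra]
    rw [h2] at h1
    exact Algebra.IsSeparable.of_algHom K _ (IntermediateField.topEquiv (F := K)
      (E := AdjoinRoot gK)).symm.toAlgHom
  -- the comparison map
  have hβgK : eval₂ (Algebra.ofId K M) β gK = 0 := by
    change eval₂ (algebraMap K M) β gK = 0
    rw [← aeval_def, hgK, aeval_map_algebraMap]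
    exact hβg
  let σ : AdjoinRoot gK →ₐ[K] M := AdjoinRoot.liftAlgHom gK (Algebra.ofId K M) β hβgK
  have hσroot : σ (AdjoinRoot.root gK) = β := AdjoinRoot.liftAlgHom_root gK _ β hβgK
  let Ψ : Kh ⊗[K] AdjoinRoot gK →ₐ[Kh] M :=
    Algebra.TensorProduct.lift (Algebra.ofId Kh M) σ (fun _ _ => Commute.all _ _)
  have hΨsurj : Function.Surjective Ψ := by
    rw [← AlgHom.range_eq_top, eq_top_iff]
    have h1 : Algebra.adjoin Kh {β} = ⊤ := by
      rw [← IntermediateField.adjoin_simple_toSubalgebra_of_isAlgebraic hβint.isAlgebraic, hβtop,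
        IntermediateField.top_toSubalgebra]
    rw [← h1]
    refine Algebra.adjoin_le ?_
    rw [Set.singleton_subset_iff]
    exact ⟨1 ⊗ₜ AdjoinRoot.root gK, by simp [Ψ, hσroot]⟩
  have hrank : Module.finrank Kh (Kh ⊗[K] AdjoinRoot gK) = Module.finrank Kh M := by
    rw [Module.finrank_baseChange, hLrank, hnM]
  have hΨinj : Function.Injective Ψ :=
    (LinearMap.injective_iff_surjective_of_finrank_eq_finrank (f := Ψ.toLinearMap) hrank).2 hΨsurj
  exact ⟨AdjoinRoot gK, inferInstance, inferInstance, inferInstance, inferInstance,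
    ⟨AlgEquiv.ofBijective Ψ ⟨hΨinj, hΨsurj⟩⟩⟩

end Main

end Groth.Agent.Lib.Helper9.KrasnerDescent
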