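import Mathlib
import Groth.Agent.Lib.Helper9.KrasnerDescent

universe u

set_option linter.unusedSectionVars false
set_option linter.style.haveILetI false

namespace Groth.Agent.Lib.Helper9.KrasnerIso

open Polynomial IsLocalRing

/-- In an integral extension of domains every nonzero element divides a nonzero base element. -/
theorem exists_mul_eq_algebraMap {A C : Type*} [CommRing A] [Nontrivial A] [CommRing C] [IsDomain C]
    [Algebra A C] [Algebra.IsIntegral A C] (s : C) (hs : s ≠ 0) :
    ∃ (s' : C) (a : A), a ≠ 0 ∧ s * s' = algebraMap A C a := by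
  have h := Ideal.comap_ne_bot_of_integral_mem (R := A) hs (Ideal.mem_span_singleton_self s)
    (Algebra.IsIntegral.isIntegral s)
  obtain ⟨a, ha, ha0⟩ := Submodule.exists_mem_ne_zero_of_ne_bot h
  rw [Ideal.mem_comap, Ideal.mem_span_singleton'] at ha
  obtain ⟨s', hs'⟩ := ha
  exact ⟨s', a, ha0, by rw [mul_comm, hs']⟩

/-- Same with a power of the uniformizer on the right. -/
theorem exists_mul_eq_pow {A C : Type*} [CommRing A] [IsDomain A] [IsDiscreteValuationRing A]
    (ϖ : A) (hϖ : Irreducible ϖ) [CommRing C] [IsDomain C]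
    [Algebra A C] [Algebra.IsIntegral A C] (s : C) (hs : s ≠ 0) :
    ∃ (s' : C) (d : ℕ), s * s' = algebraMap A C (ϖ ^ d) := by
  obtain ⟨s', a, ha0, hs'⟩ := exists_mul_eq_algebraMap (A := A) s hs
  obtain ⟨d, u, hu⟩ := IsDiscreteValuationRing.eq_unit_mul_pow_irreducible ha0 hϖ
  refine ⟨s' * algebraMap A C ((u⁻¹ : Aˣ) : A), d, ?_⟩
  rw [← mul_assoc, hs', ← map_mul, hu]
  congr 1
  rw [mul_comm (u : A), mul_assoc, Units.mul_inv, mul_one]

section Main

open IntermediateField

variable (A : Type u) [CommRing A] [IsDomain A] [IsDiscreteValuationRing A]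
    (ϖ : A) (hϖ : Irreducible ϖ)
    (K : Type u) [Field K] [Algebra A K] [IsFractionRing A K]
    (L : Type u) [Field L] [Algebra K L] [Algebra A L] [IsScalarTower A K L]
    [FiniteDimensional K L] [Algebra.IsSeparable K L]
    (B : Type u) [CommRing B] [Algebra A B] [Algebra B L] [IsScalarTower A B L]
    [IsIntegralClosure B A L]

include hϖ in
/-- An integral primitive element with controlled derivative of its minimal polynomial. -/
theorem exists_generator :
    ∃ (θ : B) (b₀ : B) (d : ℕ), IsIntegral A θ ∧ K⟮algebraMap B L θ⟯ = ⊤ ∧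
      minpoly K (algebraMap B L θ) = (minpoly A θ).map (algebraMap A K) ∧
      aeval θ (minpoly A θ).derivative * b₀ = algebraMap A B (ϖ ^ d) := by
  have hinjBL : Function.Injective (algebraMap B L) := IsIntegralClosure.algebraMap_injective B A L
  haveI : IsDomain B := hinjBL.isDomain
  haveI : Algebra.IsIntegral A B := IsIntegralClosure.isIntegral_algebra A L
  obtain ⟨θ₀, hθ₀⟩ := Field.exists_primitive_element K L
  have halg₀ : IsAlgebraic A θ₀ :=
    (IsFractionRing.isAlgebraic_iff A K L).2 (Algebra.IsAlgebraic.isAlgebraic θ₀)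
  obtain ⟨y, hy0, hint⟩ := halg₀.exists_integral_multiple
  have hinjAK : Function.Injective (algebraMap A K) := IsFractionRing.injective A K
  have hyK : algebraMap A K y ≠ 0 := fun h => hy0 (hinjAK (by rw [h, map_zero]))
  set θ : B := IsIntegralClosure.mk' B (y • θ₀) hint with hθ
  have hθL : algebraMap B L θ = y • θ₀ := IsIntegralClosure.algebraMap_mk' B (y • θ₀) hint
  have hθtop : K⟮algebraMap B L θ⟯ = ⊤ := by
    rw [eq_top_iff, ← hθ₀, IntermediateField.adjoin_simple_le_iff]
    have h1 : θ₀ = (algebraMap A K y)⁻¹ • algebraMap B L θ := by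
      rw [hθL, ← IsScalarTower.algebraMap_smul K y θ₀, smul_smul, inv_mul_cancel₀ hyK, one_smul]
    rw [h1]
    exact IntermediateField.smul_mem _ (mem_adjoin_simple_self K _)
  have hθint : IsIntegral A θ := Algebra.IsIntegral.isIntegral θ
  have hθLint : IsIntegral A (algebraMap B L θ) := hθint.algebraMap
  have hmin : minpoly A (algebraMap B L θ) = minpoly A θ := minpoly.algebraMap_eq hinjBL θ
  have hfK : minpoly K (algebraMap B L θ) = (minpoly A θ).map (algebraMap A K) := by
    rw [← hmin]
    exact minpoly.isIntegrallyClosed_eq_field_fractions' K hθLint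
  have hsep : (minpoly K (algebraMap B L θ)).Separable := Algebra.IsSeparable.isSeparable K _
  have hD : aeval θ (minpoly A θ).derivative ≠ 0 := by
    intro h0
    have h1 := hsep.aeval_derivative_ne_zero (minpoly.aeval K (algebraMap B L θ))
    apply h1
    rw [hfK, derivative_map, aeval_map_algebraMap, aeval_algebraMap_apply, h0, map_zero]
  obtain ⟨b₀, d, hb₀⟩ := exists_mul_eq_pow ϖ hϖ _ hD
  exact ⟨θ, b₀, d, hθint, hθtop, hfK, hb₀⟩

include hϖ in
theorem algEquiv_of_quotient [IsAdicComplete (maximalIdeal A) A]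
    (θ b₀ : B) (d : ℕ) (hθint : IsIntegral A θ) (hθtop : K⟮algebraMap B L θ⟯ = ⊤)
    (hfK : minpoly K (algebraMap B L θ) = (minpoly A θ).map (algebraMap A K))
    (hb₀ : aeval θ (minpoly A θ).derivative * b₀ = algebraMap A B (ϖ ^ d))
    (C : Type u) [CommRing C] [IsDomain C] [IsDiscreteValuationRing C]
    [Algebra A C] [Module.Finite A C] (m : ℕ) (hm : 2 * d + 1 < m)
    (e : (B ⧸ Ideal.span {algebraMap A B (ϖ ^ m)}) ≃ₐ[A]
          (C ⧸ Ideal.span {algebraMap A C (ϖ ^ m)})) :
    Nonempty (B ≃ₐ[A] C) := by
  classical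
  have hinjBL : Function.Injective (algebraMap B L) := IsIntegralClosure.algebraMap_injective B A L
  haveI : IsDomain B := hinjBL.isDomain
  haveI : Algebra.IsIntegral A B := IsIntegralClosure.isIntegral_algebra A L
  have hinjAK : Function.Injective (algebraMap A K) := IsFractionRing.injective A K
  have hinjAL : Function.Injective (algebraMap A L) := by
    rw [IsScalarTower.algebraMap_eq A K L]
    exact (algebraMap K L).injective.comp hinjAK
  have hinjAB : Function.Injective (algebraMap A B) := by
    intro x y hxy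
    apply hinjAL
    rw [IsScalarTower.algebraMap_apply A B L, hxy, ← IsScalarTower.algebraMap_apply A B L]
  haveI : FaithfulSMul A B := (faithfulSMul_iff_algebraMap_injective A B).2 hinjAB
  haveI : FaithfulSMul A L := (faithfulSMul_iff_algebraMap_injective A L).2 hinjAL
  haveI : Module.Finite A B := IsIntegralClosure.finite A K L B
  haveI : Module.Free A B := IsIntegralClosure.module_free A K L B
  have hrankB : Module.finrank A B = Module.finrank K L := IsIntegralClosure.rank A K L B
  set ϖB : B := algebraMap A B ϖ with hϖB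
  set ϖC : C := algebraMap A C ϖ with hϖC
  have hϖBnu : ¬ IsUnit ϖB := fun h => hϖ.not_isUnit (isUnit_of_map_unit (algebraMap A B) ϖ h)
  have hϖB0 : ϖB ≠ 0 := fun h => hϖ.ne_zero (hinjAB (by rw [← hϖB, h, map_zero]))
  set IB : Ideal B := Ideal.span {algebraMap A B (ϖ ^ m)} with hIB
  set IC : Ideal C := Ideal.span {algebraMap A C (ϖ ^ m)} with hIC
  set qB : B →ₐ[A] B ⧸ IB := Ideal.Quotient.mkₐ A IB with hqB
  set qC : C →ₐ[A] C ⧸ IC := Ideal.Quotient.mkₐ A IC with hqC
  have hqBs : Function.Surjective qB := Ideal.Quotient.mkₐ_surjective A IB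
  have hqCs : Function.Surjective qC := Ideal.Quotient.mkₐ_surjective A IC
  have hqC0 : ∀ x : C, qC x = 0 ↔ ∃ z, x = ϖC ^ m * z := by
    intro x
    rw [hqC, Ideal.Quotient.mkₐ_eq_mk, Ideal.Quotient.eq_zero_iff_mem, hIC,
      Ideal.mem_span_singleton', map_pow]
    constructor
    · rintro ⟨z, hz⟩; exact ⟨z, by rw [← hz, mul_comm]⟩
    · rintro ⟨z, hz⟩; exact ⟨z, by rw [hz, mul_comm]⟩
  have hqB0 : ∀ x : B, qB x = 0 ↔ ∃ z, x = ϖB ^ m * z := by
    intro x
    rw [hqB, Ideal.Quotient.mkₐ_eq_mk, Ideal.Quotient.eq_zero_iff_mem, hIB,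
      Ideal.mem_span_singleton', map_pow]
    constructor
    · rintro ⟨z, hz⟩; exact ⟨z, by rw [← hz, mul_comm]⟩
    · rintro ⟨z, hz⟩; exact ⟨z, by rw [hz, mul_comm]⟩
  -- `ϖ` does not die in `C`
  have hϖC0 : ϖC ≠ 0 := by
    intro h0
    have h1 : qB (ϖB ^ (m - 1)) = 0 := by
      apply e.injective
      rw [map_zero, hϖB, ← map_pow, AlgHom.commutes, AlgEquiv.commutes, ← AlgHom.commutes qC,
        map_pow, ← hϖC, h0, zero_pow (by omega), map_zero]
    obtain ⟨z, hz⟩ := (hqB0 _).1 h1
    have h2 : ϖB ^ (m - 1) * (1 - ϖB * z) = 0 := by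
      have : ϖB ^ m = ϖB ^ (m - 1) * ϖB := by
        rw [← pow_succ]; congr 1; omega
      rw [mul_sub, mul_one, ← mul_assoc, ← this, ← hz, sub_self]
    rcases mul_eq_zero.1 h2 with h3 | h3
    · exact hϖB0 ((pow_eq_zero_iff (by omega)).1 h3)
    · exact hϖBnu (IsUnit.of_mul_eq_one z (sub_eq_zero.1 h3).symm)
  have hinjAC : Function.Injective (algebraMap A C) := by
    rw [injective_iff_map_eq_zero]
    intro a ha
    by_contra ha0
    obtain ⟨k, u, hu⟩ := IsDiscreteValuationRing.eq_unit_mul_pow_irreducible ha0 hϖ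
    rw [hu, map_mul, map_pow] at ha
    rcases mul_eq_zero.1 ha with h | h
    · exact ((u.isUnit.map (algebraMap A C)).ne_zero) h
    · exact hϖC0 (eq_zero_of_pow_eq_zero h)
  haveI : FaithfulSMul A C := (faithfulSMul_iff_algebraMap_injective A C).2 hinjAC
  haveI : Module.Free A C := inferInstance
  haveI : Algebra.IsIntegral A C := inferInstance
  set J : Ideal C := (maximalIdeal A).map (algebraMap A C) with hJ
  haveI : IsAdicComplete J C := KrasnerDescent.isAdicComplete_map_of_finite_free (maximalIdeal A)
  have hϖJ : ϖC ∈ J := Ideal.mem_map_of_mem _ hϖ.not_isUnit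
  set f := minpoly A θ with hf
  -- lifts
  obtain ⟨c, hc⟩ := hqCs (e (qB θ))
  obtain ⟨c', hc'⟩ := hqCs (e (qB b₀))
  have hkey : ∀ p : A[X], qC (aeval c p) = e (qB (aeval θ p)) := by
    intro p
    rw [← aeval_algHom_apply, hc, ← aeval_algHom_apply, ← AlgEquiv.coe_algHom,
      ← aeval_algHom_apply]
  obtain ⟨c₁, hc₁⟩ := (hqC0 _).1 (show qC (aeval c f) = 0 by
    rw [hkey, hf, minpoly.aeval, map_zero, map_zero])
  obtain ⟨c₂, hc₂⟩ := (hqC0 _).1 (show qC (aeval c f.derivative * c' - ϖC ^ d) = 0 by
    rw [map_sub, map_mul, hkey, hc', ← map_mul, ← map_mul, hb₀, AlgHom.commutes,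
      AlgEquiv.commutes, hϖC, ← map_pow, AlgHom.commutes, sub_self])
  set g := aeval c f.derivative with hg
  have hmd : m = d + (m - d) := by omega
  have hm2d : m = 2 * d + (m - 2 * d) := by omega
  have hu : IsUnit (1 + ϖC ^ (m - d) * c₂) := by
    have hjac := IsAdicComplete.le_jacobson_bot J
      (Ideal.pow_mem_of_mem J hϖJ (m - d) (by omega))
    have := (Ideal.mem_jacobson_bot.1 hjac) c₂
    rwa [add_comm] at this
  obtain ⟨u, hu'⟩ := hu
  have hgc : g * c' = ϖC ^ d * u := by
    have : g * c' = ϖC ^ d + ϖC ^ m * c₂ := by rw [← hc₂]; ring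
    rw [this, hu']
    conv_lhs => rw [hmd, pow_add]
    ring
  have hϖd : ϖC ^ d = g * (c' * ↑u⁻¹) := by
    calc ϖC ^ d = ϖC ^ d * u * ↑u⁻¹ := by rw [mul_assoc, Units.mul_inv, mul_one]
      _ = g * (c' * ↑u⁻¹) := by rw [← hgc]; ring
  set t : C := (c' * ↑u⁻¹) ^ 2 * (ϖC ^ (m - 2 * d) * c₁) with ht
  have htJ : t ∈ J := Ideal.mul_mem_left _ _ (Ideal.mul_mem_right _ _
    (Ideal.pow_mem_of_mem J hϖJ (m - 2 * d) (by omega)))
  have hft : aeval c f = g ^ 2 * t := by
    rw [hc₁]
    conv_lhs => rw [hm2d, pow_add, pow_mul', hϖd]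
    rw [ht]
    ring
  obtain ⟨c₀, hc₀root, -⟩ := KrasnerDescent.newton J (f.map (algebraMap A C)) c t htJ (by
    rw [eval_map_algebraMap, derivative_map, eval_map_algebraMap]
    exact hft)
  have hc₀ : aeval c₀ f = 0 := by
    have := hc₀root
    rwa [IsRoot, eval_map_algebraMap] at this
  -- the fraction field of `C`
  let M := FractionRing C
  have hinjCM : Function.Injective (algebraMap C M) := IsFractionRing.injective C M
  have hinjAM : Function.Injective (algebraMap A M) := by
    rw [IsScalarTower.algebraMap_eq A C M]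
    exact hinjCM.comp hinjAC
  letI : Algebra K M := (IsFractionRing.lift hinjAM).toAlgebra
  haveI : IsScalarTower A K M := IsScalarTower.of_algebraMap_eq fun a =>
    (IsFractionRing.lift_algebraMap hinjAM a).symm
  -- the embedding `L → M`
  have hθLint : IsIntegral K (algebraMap B L θ) := Algebra.IsIntegral.isIntegral _
  let pb := IntermediateField.adjoin.powerBasis hθLint
  have hroot : aeval (algebraMap C M c₀) (minpoly K pb.gen) = 0 := by
    rw [IntermediateField.adjoin.powerBasis_gen, IntermediateField.minpoly_gen, hfK,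
      aeval_map_algebraMap, aeval_algebraMap_apply, hc₀, map_zero]
  let σ₀ : K⟮algebraMap B L θ⟯ →ₐ[K] M := pb.lift (algebraMap C M c₀) hroot
  let σ : L →ₐ[K] M := σ₀.comp
    ((IntermediateField.equivOfEq hθtop).trans IntermediateField.topEquiv).symm.toAlgHom
  have hσinj : Function.Injective σ := σ.toRingHom.injective
  -- spanning sets
  set n := Module.finrank K L with hn
  let bB : Module.Basis (Fin n) A B := Module.finBasisOfFinrankEq A B hrankB
  choose cs hcs using fun i => hqCs (e (qB (bB i)))
  have hspanC : Submodule.span A (Set.range cs) = ⊤ := by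
    have hfg : (⊤ : Submodule A C).FG := Module.Finite.fg_top
    have hle : (⊤ : Submodule A C) ≤ Submodule.span A (Set.range cs) := by
      refine Submodule.le_of_le_smul_of_le_jacobson_bot hfg
        (IsLocalRing.maximalIdeal_le_jacobson ⊥) ?_
      intro x _
      obtain ⟨b, hb⟩ := hqBs (e.symm (qC x))
      have hx : qC x = qC (∑ i, bB.repr b i • cs i) := by
        rw [map_sum]
        simp only [map_smul, hcs]
        have : qC x = e (qB b) := by rw [hb, AlgEquiv.apply_symm_apply]
        rw [this]
        conv_lhs => rw [← bB.sum_repr b]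
        rw [map_sum, map_sum]
        simp only [map_smul]
      obtain ⟨z, hz⟩ := (hqC0 _).1 (show qC (x - ∑ i, bB.repr b i • cs i) = 0 by
        rw [map_sub, hx, sub_self])
      have h1 : ∑ i, bB.repr b i • cs i ∈ Submodule.span A (Set.range cs) :=
        Submodule.sum_mem _ fun i _ => Submodule.smul_mem _ _ (Submodule.subset_span ⟨i, rfl⟩)
      have h2 : x - ∑ i, bB.repr b i • cs i ∈ (maximalIdeal A • ⊤ : Submodule A C) := by
        rw [hz]
        have : ϖC ^ m * z = ϖ • (ϖC ^ (m - 1) * z) := by
          rw [Algebra.smul_def, ← mul_assoc, ← hϖC, ← pow_succ']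
          congr 2
          omega
        rw [this]
        exact Submodule.smul_mem_smul hϖ.not_isUnit Submodule.mem_top
      have := Submodule.add_mem_sup h1 h2
      rwa [add_sub_cancel] at this
    exact top_le_iff.1 hle
  have hspanM : Submodule.span K (Set.range (fun i => algebraMap C M (cs i))) = ⊤ := by
    have hC : ∀ y : C, algebraMap C M y ∈
        Submodule.span K (Set.range (fun i => algebraMap C M (cs i))) := by
      have : (⊤ : Submodule A C) ≤
          ((Submodule.span K (Set.range (fun i => algebraMap C M (cs i)))).restrictScalars A).comap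
            (IsScalarTower.toAlgHom A C M).toLinearMap := by
        rw [← hspanC, Submodule.span_le]
        rintro _ ⟨i, rfl⟩
        exact Submodule.subset_span ⟨i, rfl⟩
      intro y
      exact this (Submodule.mem_top (x := y))
    rw [eq_top_iff]
    intro x _
    obtain ⟨y, s, hs, rfl⟩ := IsFractionRing.div_surjective (A := C) x
    have hs0 : (s : C) ≠ 0 := nonZeroDivisors.ne_zero hs
    obtain ⟨s', a, ha0, hsa⟩ := exists_mul_eq_algebraMap (A := A) s hs0
    have haK : algebraMap A K a ≠ 0 := fun h => ha0 (hinjAK (by rw [h, map_zero]))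
    have hsM : algebraMap C M s ≠ 0 := fun h => hs0 (hinjCM (by rw [h, map_zero]))
    have : algebraMap C M y / algebraMap C M s =
        (algebraMap A K a)⁻¹ • algebraMap C M (y * s') := by
      rw [Algebra.smul_def, map_inv₀, ← IsScalarTower.algebraMap_apply A K M,
        IsScalarTower.algebraMap_apply A C M, ← hsa, map_mul, map_mul]
      have hs'M : algebraMap C M s' ≠ 0 := by
        intro h
        apply ha0
        apply hinjAC
        rw [← hsa, map_zero]
        have : s' = 0 := hinjCM (by rw [h, map_zero])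
        rw [this, mul_zero]
      rw [mul_inv, div_eq_mul_inv]
      symm
      calc (algebraMap C M s)⁻¹ * (algebraMap C M s')⁻¹ * (algebraMap C M y * algebraMap C M s')
          = algebraMap C M y * (algebraMap C M s)⁻¹ *
            ((algebraMap C M s')⁻¹ * algebraMap C M s') := by ring
        _ = algebraMap C M y * (algebraMap C M s)⁻¹ := by rw [inv_mul_cancel₀ hs'M, mul_one]
    rw [this]
    exact Submodule.smul_mem _ _ (hC _)
  haveI : Module.Finite K M := by
    refine ⟨⟨Finset.univ.image (fun i => algebraMap C M (cs i)), ?_⟩⟩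
    rw [Finset.coe_image, Finset.coe_univ, Set.image_univ]
    exact hspanM
  have hrankM : Module.finrank K M ≤ n := by
    have h1 := finrank_range_le_card (R := K) (fun i => algebraMap C M (cs i))
    rw [Set.finrank, hspanM, finrank_top, Fintype.card_fin] at h1
    exact h1
  have hrankLM : Module.finrank K L = Module.finrank K M :=
    le_antisymm (LinearMap.finrank_le_finrank_of_injective (f := σ.toLinearMap) hσinj) hrankM
  have hσsurj : Function.Surjective σ :=
    (LinearMap.injective_iff_surjective_of_finrank_eq_finrank (f := σ.toLinearMap) hrankLM).1 hσinj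
  -- `B` is an integral closure of `A` in `M` via `σ`
  letI : Algebra B M := (σ.toRingHom.comp (algebraMap B L)).toAlgebra
  have hBM : ∀ b : B, algebraMap B M b = σ (algebraMap B L b) := fun _ => rfl
  haveI : IsScalarTower A B M := IsScalarTower.of_algebraMap_eq fun a => by
    rw [hBM, ← IsScalarTower.algebraMap_apply A B L, IsScalarTower.algebraMap_apply A K L,
      AlgHom.commutes, ← IsScalarTower.algebraMap_apply A K M]
  haveI : IsIntegralClosure B A M := by
    refine ⟨?_, ?_⟩
    · intro x y hxy
      rw [hBM, hBM] at hxy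
      exact hinjBL (hσinj hxy)
    · intro x
      constructor
      · intro hx
        obtain ⟨l, rfl⟩ := hσsurj x
        have hl : IsIntegral A l := by
          have := (isIntegral_algHom_iff (σ.restrictScalars A) hσinj).1 hx
          exact this
        obtain ⟨b, hb⟩ := IsIntegralClosure.isIntegral_iff (A := B) |>.1 hl
        exact ⟨b, by rw [hBM, hb]⟩
      · rintro ⟨b, rfl⟩
        exact (Algebra.IsIntegral.isIntegral b).algebraMap
  exact ⟨IsIntegralClosure.equiv A B M C⟩

end Main

end Groth.Agent.Lib.Helper9.KrasnerIso
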