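import Mathlib
import Groth.Prelude.Def_EtRam
import Groth.Prelude.Def_SGA1
import Groth.Agent.Lib.Helper9.KummerTame

/-!
# Kummer algebras over a local domain are tame along prime elements

`A` Noetherian local domain, `f_j` nonzero with `(f_i)` prime and `f_j ∉ (f_i)` for `j ≠ i`,
`n_j ≥ 1` invertible in the residue field.  Then every residue field of the generic fibre of
`A[T_j]/(T_j^{n_j} - f_j)` is tamely ramified over the DVR `A_{(f_i)}`.
-/

open Polynomial IsLocalRing

universe u

set_option linter.unusedSectionVars false
set_option linter.style.haveILetI false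
set_option linter.overlappingInstances false

namespace Groth.Agent.Lib.Helper9.KummerRegular

open Groth.Agent.Lib.Helper9.KummerTame

/-- abstract form: `O` a DVR over `A` in which each `f j` becomes a unit or a uniformizer. -/
theorem aux (A : Type u) [CommRing A] (O : Type u) [CommRing O] [IsDomain O]
    [IsDiscreteValuationRing O] [Algebra A O] (r : ℕ) (f : Fin r → A) (n : Fin r → ℕ)
    (hn : ∀ i, 1 ≤ n i) (q : Ideal (SGA1.kummerAlg A f n)) [q.IsPrime]
    (g : O →+* q.ResidueField)
    (hgA : ∀ a : A, g (algebraMap A O a) =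
      algebraMap (SGA1.kummerAlg A f n) q.ResidueField (algebraMap A (SGA1.kummerAlg A f n) a))
    (hginj : Function.Injective g)
    (hnκ : ∀ j, ((n j : ℕ) : ResidueField O) ≠ 0)
    (hc : ∀ j, IsUnit (algebraMap A O (f j)) ∨ Irreducible (algebraMap A O (f j))) :
    EtRam.IsTamelyRamified O g := by
  classical
  set I : Ideal (MvPolynomial (Fin r) A) := Ideal.span (Set.range fun j =>
    (MvPolynomial.X j : MvPolynomial (Fin r) A) ^ n j - MvPolynomial.C (f j)) with hI
  set φ : A →+* SGA1.kummerAlg A f n := algebraMap A (SGA1.kummerAlg A f n) with hφ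
  letI algOL : Algebra O q.ResidueField := g.toAlgebra
  letI algKL : Algebra (FractionRing O) q.ResidueField := (IsFractionRing.lift hginj).toAlgebra
  have hcomp : (algebraMap (FractionRing O) q.ResidueField).comp
      (algebraMap O (FractionRing O)) = g :=
    RingHom.ext fun x => IsFractionRing.lift_algebraMap hginj x
  have hcompA : ∀ a : A, algebraMap (FractionRing O) q.ResidueField
      (algebraMap O (FractionRing O) (algebraMap A O a)) =
      algebraMap (SGA1.kummerAlg A f n) q.ResidueField (φ a) := by
    intro a
    rw [← hgA, ← hcomp]; rfl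
  -- the generators
  set t : Fin r → q.ResidueField := fun j =>
    algebraMap (SGA1.kummerAlg A f n) q.ResidueField (Ideal.Quotient.mk I (MvPolynomial.X j)) with ht
  have htpow : ∀ j, t j ^ n j = algebraMap (FractionRing O) q.ResidueField
      (algebraMap O (FractionRing O) (algebraMap A O (f j))) := by
    intro j
    rw [hcompA, ht]
    simp only
    rw [← map_pow, ← map_pow]
    congr 1
    have h1 : (MvPolynomial.X j : MvPolynomial (Fin r) A) ^ n j - MvPolynomial.C (f j) ∈ I :=
      Ideal.subset_span ⟨j, rfl⟩
    have h2 := (Ideal.Quotient.eq (I := I)).2 h1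
    rw [h2]
    rfl
  have hgen : IntermediateField.adjoin (FractionRing O) (Set.range t) = ⊤ := by
    rw [eq_top_iff]
    intro x _
    set E := IntermediateField.adjoin (FractionRing O) (Set.range t) with hE
    have hB : ∀ b : SGA1.kummerAlg A f n,
        algebraMap (SGA1.kummerAlg A f n) q.ResidueField b ∈ E := by
      intro b
      obtain ⟨p, rfl⟩ := Ideal.Quotient.mk_surjective b
      induction p using MvPolynomial.induction_on with
      | C a =>
        have : Ideal.Quotient.mk I (MvPolynomial.C a) = φ a := rfl
        rw [this, ← hcompA]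
        exact E.algebraMap_mem _
      | add p₁ p₂ h₁ h₂ =>
        rw [map_add, map_add]; exact add_mem h₁ h₂
      | mul_X p j h₁ =>
        rw [map_mul, map_mul]
        exact mul_mem h₁ (IntermediateField.subset_adjoin _ _ ⟨j, rfl⟩)
    obtain ⟨a, s, hs, rfl⟩ := IsFractionRing.div_surjective (A := SGA1.kummerAlg A f n ⧸ q) x
    obtain ⟨a', rfl⟩ := Ideal.Quotient.mk_surjective a
    obtain ⟨s', rfl⟩ := Ideal.Quotient.mk_surjective s
    have e1 : ∀ b : SGA1.kummerAlg A f n,
        algebraMap (SGA1.kummerAlg A f n ⧸ q) q.ResidueField (Ideal.Quotient.mk q b) =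
          algebraMap (SGA1.kummerAlg A f n) q.ResidueField b := fun b =>
      (IsScalarTower.algebraMap_apply (SGA1.kummerAlg A f n) (SGA1.kummerAlg A f n ⧸ q)
        q.ResidueField b).symm
    rw [e1, e1]
    exact div_mem (hB a') (hB s')
  -- finite-dimensionality
  have hint : ∀ j, IsIntegral (FractionRing O) (t j) := by
    intro j
    refine ⟨X ^ n j - C (algebraMap O (FractionRing O) (algebraMap A O (f j))),
      monic_X_pow_sub_C _ (by have := hn j; omega), ?_⟩
    rw [eval₂_sub, eval₂_pow, eval₂_X, eval₂_C, htpow, sub_self]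
  haveI hfd : FiniteDimensional (FractionRing O) q.ResidueField := by
    haveI : Finite (Set.range t) := Set.finite_range t
    have h1 := IntermediateField.finiteDimensional_adjoin
      (K := FractionRing O) (S := Set.range t) (by
        rintro x ⟨j, rfl⟩; exact hint j)
    rw [hgen] at h1
    exact (IntermediateField.topEquiv (F := FractionRing O)
      (E := q.ResidueField)).toLinearEquiv.finiteDimensional
  have key := tame_multi (A := O) (K := FractionRing O)
    r q.ResidueField t n (fun j => algebraMap A O (f j))
    (fun j => hn j) hnκ hc htpow hgen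
  rw [hcomp] at key
  exact key

theorem main (A : Type u) [CommRing A] [IsLocalRing A] [IsNoetherianRing A] [IsDomain A] (r : ℕ)
    (f : Fin r → A) [∀ i, (Ideal.span {f i}).IsPrime]
    (hf0 : ∀ j, f j ≠ 0) (hfj : ∀ i j, j ≠ i → f j ∉ Ideal.span {f i}) (n : Fin r → ℕ)
    (hn : ∀ i, 1 ≤ n i) (hu : ∀ i, IsUnit ((n i : ℕ) : ResidueField A)) (i : Fin r)
    (q : Ideal (SGA1.kummerAlg A f n)) [q.IsPrime]
    (hq : Ideal.comap (algebraMap A (SGA1.kummerAlg A f n)) q = ⊥) :
    EtRam.IsTamelyRamified (Localization.AtPrime (Ideal.span {f i}))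
      (SGA1.genericResidueMap (algebraMap A (SGA1.kummerAlg A f n)) (Ideal.span {f i}) q hq) := by
  classical
  have hgA : ∀ a : A, SGA1.genericResidueMap (algebraMap A (SGA1.kummerAlg A f n))
      (Ideal.span {f i}) q hq (algebraMap A (Localization.AtPrime (Ideal.span {f i})) a) =
      algebraMap (SGA1.kummerAlg A f n) q.ResidueField
        (algebraMap A (SGA1.kummerAlg A f n) a) := fun a =>
    IsLocalization.lift_eq _ a
  -- `O` is a DVR
  have hle : (Ideal.span {f i}).primeCompl ≤ nonZeroDivisors A :=
    Ideal.primeCompl_le_nonZeroDivisors _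
  haveI : IsDomain (Localization.AtPrime (Ideal.span {f i})) :=
    IsLocalization.isDomain_localization hle
  have hOinj : Function.Injective (algebraMap A (Localization.AtPrime (Ideal.span {f i}))) :=
    IsLocalization.injective _ hle
  have hmax : maximalIdeal (Localization.AtPrime (Ideal.span {f i})) =
      Ideal.span {algebraMap A (Localization.AtPrime (Ideal.span {f i})) (f i)} := by
    rw [← Localization.AtPrime.map_eq_maximalIdeal, Ideal.map_span, Set.image_singleton]
  have hπ0 : algebraMap A (Localization.AtPrime (Ideal.span {f i})) (f i) ≠ 0 := by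
    rw [Ne, map_eq_zero_iff _ hOinj]; exact hf0 i
  have hnf : ¬ IsField (Localization.AtPrime (Ideal.span {f i})) := by
    rw [isField_iff_maximalIdeal_eq, hmax, Ideal.span_singleton_eq_bot]
    exact hπ0
  haveI : IsDiscreteValuationRing (Localization.AtPrime (Ideal.span {f i})) :=
    ((IsDiscreteValuationRing.TFAE (Localization.AtPrime (Ideal.span {f i})) hnf).out 0 4).2
      (⟨⟨_, hmax⟩⟩ : (maximalIdeal (Localization.AtPrime (Ideal.span {f i}))).IsPrincipal)
  have hirr : Irreducible (algebraMap A (Localization.AtPrime (Ideal.span {f i})) (f i)) :=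
    (IsDiscreteValuationRing.irreducible_iff_uniformizer _).2 hmax
  -- injectivity of `g`
  have hginj : Function.Injective (SGA1.genericResidueMap (algebraMap A (SGA1.kummerAlg A f n))
      (Ideal.span {f i}) q hq) := by
    rw [injective_iff_map_eq_zero]
    intro x hx
    obtain ⟨a, s, rfl⟩ := IsLocalization.exists_mk'_eq (Ideal.span {f i}).primeCompl x
    have h1 : SGA1.genericResidueMap (algebraMap A (SGA1.kummerAlg A f n))
      (Ideal.span {f i}) q hq (algebraMap A (Localization.AtPrime (Ideal.span {f i})) a) = 0 := by
      rw [← IsLocalization.mk'_spec (Localization.AtPrime (Ideal.span {f i})) a s, map_mul, hx,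
        zero_mul]
    rw [hgA] at h1
    have h3 : algebraMap A (SGA1.kummerAlg A f n) a ∈ q := by
      rwa [← Ideal.ker_algebraMap_residueField q, RingHom.mem_ker]
    have h4 : a ∈ Ideal.comap (algebraMap A (SGA1.kummerAlg A f n)) q := h3
    rw [hq, Ideal.mem_bot] at h4
    rw [h4, IsLocalization.mk'_zero]
  -- invertibility of `n j`
  have hnκ : ∀ j, ((n j : ℕ) : ResidueField (Localization.AtPrime (Ideal.span {f i}))) ≠ 0 := by
    intro j
    have h1 : IsUnit ((n j : ℕ) : A) := by
      have h2 : IsUnit (IsLocalRing.residue A ((n j : ℕ) : A)) := by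
        rw [map_natCast]; exact hu j
      exact isUnit_of_map_unit (IsLocalRing.residue A) _ h2
    have h3 : IsUnit (IsLocalRing.residue (Localization.AtPrime (Ideal.span {f i}))
        (algebraMap A (Localization.AtPrime (Ideal.span {f i})) ((n j : ℕ) : A))) :=
      (h1.map (algebraMap A (Localization.AtPrime (Ideal.span {f i})))).map _
    rw [map_natCast, map_natCast] at h3
    exact h3.ne_zero
  have hc : ∀ j, IsUnit (algebraMap A (Localization.AtPrime (Ideal.span {f i})) (f j)) ∨
      Irreducible (algebraMap A (Localization.AtPrime (Ideal.span {f i})) (f j)) := by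
    intro j
    by_cases hji : j = i
    · right; rw [hji]; exact hirr
    · left
      exact IsLocalization.map_units (Localization.AtPrime (Ideal.span {f i}))
        (⟨f j, hfj i j hji⟩ : (Ideal.span {f i}).primeCompl)
  exact aux A (Localization.AtPrime (Ideal.span {f i})) r f n hn q _ hgA hginj hnκ hc

end Groth.Agent.Lib.Helper9.KummerRegular
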