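import Mathlib
import Groth.Agent.Lib.Helper51.MS2Defs
import Groth.Agent.Lib.Helper55.FL.CartierFlat
import Groth.Agent.Lib.Helper80.FinTypeZ

/-!
# S14068 P4, first half: Noetherian models of `A → B → C` (`B` standard smooth, `C` flat f.p.)
-/

set_option autoImplicit false
universe u
open TensorProduct

namespace Groth.Agent.Lib.Helper9.MS2P4

/-- A subring containing generators contains a f.g. subalgebra of a f.t. `ℤ`-algebra. -/
theorem exists_finite_forall_subring_le {k B : Type u} [CommRing k] [CommRing B] [Algebra k B]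
    [Algebra.FiniteType ℤ k] (R₄ : Subalgebra k B) (hR₄ : R₄.FG) :
    ∃ T : Finset B, ∀ S : Subring B, (∀ b ∈ T, b ∈ S) → ∀ x ∈ R₄, x ∈ S := by
  classical
  obtain ⟨s₁, hs₁⟩ := hR₄
  obtain ⟨s₀, hs₀⟩ := (Algebra.FiniteType.out : (⊤ : Subalgebra ℤ k).FG)
  refine ⟨s₁ ∪ s₀.image (algebraMap k B), fun S hS => ?_⟩
  have hk : ∀ x : k, algebraMap k B x ∈ S := by
    intro x
    have hx : x ∈ Algebra.adjoin ℤ (s₀ : Set k) := hs₀ ▸ Algebra.mem_top
    induction hx using Algebra.adjoin_induction with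
    | mem y hy =>
      exact hS _ (Finset.mem_union_right _ (Finset.mem_image_of_mem _ hy))
    | algebraMap r =>
      rw [eq_intCast (algebraMap ℤ k) r, map_intCast]
      exact intCast_mem S r
    | add y z _ _ hy hz => rw [map_add]; exact S.add_mem hy hz
    | mul y z _ _ hy hz => rw [map_mul]; exact S.mul_mem hy hz
  intro x hx
  rw [← hs₁] at hx
  induction hx using Algebra.adjoin_induction with
  | mem y hy => exact hS _ (Finset.mem_union_left _ hy)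
  | algebraMap r => exact hk r
  | add y z _ _ hy hz => exact S.add_mem hy hz
  | mul y z _ _ hy hz => exact S.mul_mem hy hz


/-- A section of an injective ring hom over a subalgebra contained in its range. -/
theorem exists_ringHom_section {k B B₃ : Type u} [CommRing k] [CommRing B] [CommRing B₃]
    [Algebra k B] (j : B₃ →+* B) (hj : Function.Injective j) (R₄ : Subalgebra k B)
    (h : ∀ x ∈ R₄, x ∈ j.range) : ∃ ρ : ↥R₄ →+* B₃, ∀ x : ↥R₄, j (ρ x) = (x : B) := by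
  have h' : ∀ x : ↥R₄, ∃ b : B₃, j b = (x : B) := fun x => h x x.2
  choose ρ hρ using h'
  refine ⟨{ toFun := ρ, map_one' := ?_, map_mul' := ?_, map_zero' := ?_, map_add' := ?_ }, hρ⟩
  · apply hj; rw [hρ, map_one]; rfl
  · intro x y; apply hj; rw [hρ, map_mul, hρ, hρ]; rfl
  · apply hj; rw [hρ, map_zero]; rfl
  · intro x y; apply hj; rw [hρ, map_add, hρ, hρ]; rfl

set_option maxHeartbeats 400000 in
/-- The model of `C` over an opaque `B₃` receiving `R₄`. -/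
theorem exists_model_C {B C : Type u} [CommRing B] [CommRing C] [Algebra B C]
    (B₃ : Type u) [CommRing B₃] [Algebra B₃ B]
    (k₁ N₁ : Type u) [CommRing k₁] [CommRing N₁] [Algebra k₁ B] [Algebra k₁ N₁]
    [Algebra.FiniteType k₁ N₁] (R₄ : Subalgebra k₁ B)
    (hflR₄ : Module.Flat ↥R₄ (↥R₄ ⊗[k₁] N₁)) (e₁ : B ⊗[k₁] N₁ ≃ₐ[B] C) (t₁ : N₁)
    (ρ : ↥R₄ →+* B₃) (hρ : ∀ x : ↥R₄, algebraMap B₃ B (ρ x) = (x : B)) :
    ∃ (C₃ : Type u) (_ : CommRing C₃) (_ : Algebra B₃ C₃),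
      Module.Flat B₃ C₃ ∧ Algebra.FiniteType B₃ C₃ ∧
      ∃ (eC : B ⊗[B₃] C₃ ≃ₐ[B] C) (t₃ : C₃), eC (1 ⊗ₜ t₃) = e₁ (1 ⊗ₜ t₁) := by
  letI algR₄B₃ : Algebra ↥R₄ B₃ := ρ.toAlgebra
  letI algk₁B₃ : Algebra k₁ B₃ := (ρ.comp (algebraMap k₁ ↥R₄)).toAlgebra
  haveI : IsScalarTower k₁ ↥R₄ B₃ := IsScalarTower.of_algebraMap_eq fun _ => rfl
  haveI : IsScalarTower k₁ B₃ B := IsScalarTower.of_algebraMap_eq fun x => by
    show algebraMap k₁ B x = algebraMap B₃ B (ρ (algebraMap k₁ ↥R₄ x))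
    rw [hρ]
    rfl
  have hflB₃ : Module.Flat B₃ (B₃ ⊗[k₁] N₁) :=
    Groth.Agent.Lib.Helper55.FL.flat_tmap k₁ ↥R₄ B₃ N₁ hflR₄
  refine ⟨B₃ ⊗[k₁] N₁, inferInstance, inferInstance, hflB₃, inferInstance,
    (Algebra.TensorProduct.cancelBaseChange k₁ B₃ B B N₁).trans e₁, (1 : B₃) ⊗ₜ[k₁] t₁, ?_⟩
  show e₁ ((Algebra.TensorProduct.cancelBaseChange k₁ B₃ B B N₁)
    ((1 : B) ⊗ₜ[B₃] ((1 : B₃) ⊗ₜ[k₁] t₁))) = _
  rw [Algebra.TensorProduct.cancelBaseChange_tmul, one_smul]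

open MvPolynomial in
set_option maxHeartbeats 400000 in
set_option backward.isDefEq.respectTransparency false in
/-- Models over a fixed coefficient ring `A₃`. -/
theorem exists_model_aux {A B C : Type u} [CommRing A] [CommRing B] [CommRing C] [Algebra A B]
    [Algebra B C] {ι σ : Type} [Finite ι] [Finite σ]
    (P : Algebra.SubmersivePresentation A B ι σ) (A₃ : Type u) [CommRing A₃] [Algebra A₃ A]
    [Algebra A₃ B] [IsScalarTower A₃ A B] [FaithfulSMul A₃ A] [P.HasCoeffs A₃]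
    (k₁ N₁ : Type u) [CommRing k₁] [CommRing N₁] [Algebra k₁ B] [Algebra k₁ N₁]
    [Algebra.FiniteType k₁ N₁] (R₄ : Subalgebra k₁ B)
    (hflR₄ : Module.Flat ↥R₄ (↥R₄ ⊗[k₁] N₁)) (e₁ : B ⊗[k₁] N₁ ≃ₐ[B] C) (t₁ : N₁)
    (T : Finset B) (hT : ∀ S : Subring B, (∀ b ∈ T, b ∈ S) → ∀ x ∈ R₄, x ∈ S)
    (hTpoly : ∀ b ∈ T, ∃ τ' : MvPolynomial ι A₃, MvPolynomial.aeval P.val τ' = b) :
    ∃ (B₃ C₃ : Type u) (_ : CommRing B₃) (_ : CommRing C₃)
      (_ : Algebra A₃ B₃) (_ : Algebra B₃ C₃) (_ : Algebra B₃ B),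
      Algebra.IsStandardSmooth A₃ B₃ ∧
      Module.Flat B₃ C₃ ∧ Algebra.FiniteType B₃ C₃ ∧
      ∃ (eB : A ⊗[A₃] B₃ ≃ₐ[A] B) (eC : B ⊗[B₃] C₃ ≃ₐ[B] C) (t₃ : C₃),
        (∀ b : B₃, algebraMap B₃ B b = eB (1 ⊗ₜ b)) ∧ eC (1 ⊗ₜ t₃) = e₁ (1 ⊗ₜ t₁) := by
  classical
  let B₃ := P.ModelOfHasCoeffs A₃
  haveI : Algebra.IsStandardSmooth A₃ B₃ := (P.ofHasCoeffs A₃).isStandardSmooth
  let eB : A ⊗[A₃] B₃ ≃ₐ[A] B := P.tensorModelOfHasCoeffsEquiv A₃
  have hinjA : Function.Injective (algebraMap A₃ A) := FaithfulSMul.algebraMap_injective A₃ A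
  let j : B₃ →+* B := (eB : A ⊗[A₃] B₃ →+* B).comp
    (Algebra.TensorProduct.includeRight : B₃ →ₐ[A₃] A ⊗[A₃] B₃).toRingHom
  have hj : Function.Injective j := by
    have h1 : Function.Injective
        (Algebra.TensorProduct.includeRight : B₃ →ₐ[A₃] A ⊗[A₃] B₃) :=
      Algebra.TensorProduct.includeRight_injective hinjA
    exact eB.injective.comp h1
  have hjmk : ∀ τ' : MvPolynomial ι A₃,
      j (Ideal.Quotient.mk _ τ') = MvPolynomial.aeval P.val τ' := by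
    intro τ'
    show P.tensorModelOfHasCoeffsEquiv A₃ (1 ⊗ₜ (Ideal.Quotient.mk _ τ')) = _
    rw [Algebra.Presentation.tensorModelOfHasCoeffsEquiv_tmul, map_one, one_mul]
  have hR₄range : ∀ x ∈ R₄, x ∈ j.range := by
    refine hT j.range fun b hb => ?_
    obtain ⟨τ', hτ'⟩ := hTpoly b hb
    exact ⟨Ideal.Quotient.mk _ τ', (hjmk τ').trans hτ'⟩
  obtain ⟨ρ, hρ⟩ := exists_ringHom_section j hj R₄ hR₄range
  letI algB₃B : Algebra B₃ B := j.toAlgebra
  obtain ⟨C₃, _, _, hfl, hft, eC, t₃, ht₃⟩ :=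
    exists_model_C B₃ k₁ N₁ R₄ hflR₄ e₁ t₁ ρ hρ
  exact ⟨B₃, C₃, inferInstance, inferInstance, inferInstance, inferInstance, algB₃B,
    inferInstance, hfl, hft, eB, eC, t₃, fun b => rfl, ht₃⟩

open MvPolynomial in
set_option maxHeartbeats 400000 in
set_option backward.isDefEq.respectTransparency false in
/-- **Noetherian models.** -/
theorem exists_model {A B C : Type u} [CommRing A] [CommRing B] [CommRing C] [Algebra A B]
    [Algebra B C] [Algebra.IsStandardSmooth A B] [Module.Flat B C]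
    [Algebra.FinitePresentation B C] (t : C) :
    ∃ (A₃ B₃ C₃ : Type u) (_ : CommRing A₃) (_ : CommRing B₃) (_ : CommRing C₃)
      (_ : Algebra A₃ A) (_ : Algebra A₃ B₃) (_ : Algebra B₃ C₃) (_ : Algebra B₃ B),
      IsNoetherianRing A₃ ∧ IsJacobsonRing A₃ ∧ Algebra.IsStandardSmooth A₃ B₃ ∧
      Module.Flat B₃ C₃ ∧ Algebra.FiniteType B₃ C₃ ∧ Function.Injective (algebraMap A₃ A) ∧
      ∃ (eB : A ⊗[A₃] B₃ ≃ₐ[A] B) (eC : B ⊗[B₃] C₃ ≃ₐ[B] C) (t₃ : C₃),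
        (∀ b : B₃, algebraMap B₃ B b = eB (1 ⊗ₜ b)) ∧ eC (1 ⊗ₜ t₃) = t := by
  classical
  obtain ⟨ι, σ, _, _, ⟨P⟩⟩ := Algebra.IsStandardSmooth.out (R := A) (S := B)
  -- model of `C` over `B`
  obtain ⟨k₁, _, _, N₁, _, _, e₁, t₁, hk₁, hN₁, het⟩ :=
    Groth.Agent.Lib.Helper55.FL.exists_model_elem (A := B) (B := C) t
  haveI : IsNoetherianRing k₁ := Algebra.FiniteType.isNoetherianRing ℤ k₁
  have hfl : Module.Flat B (B ⊗[k₁] N₁) := Module.Flat.of_linearEquiv e₁.toLinearEquiv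
  obtain ⟨R₄, hR₄, hflR₄⟩ := Groth.Agent.Lib.Helper55.FL.exists_fg_flat (N := N₁) hfl
  obtain ⟨T, hT⟩ := exists_finite_forall_subring_le R₄ hR₄
  -- polynomials representing the elements of `T`
  have hτ : ∀ b : B, ∃ τ : MvPolynomial ι A, MvPolynomial.aeval P.val τ = b :=
    fun b => P.aeval_val_surjective b
  choose τ hτ using hτ
  obtain ⟨S, hSdef⟩ : ∃ S : Set A, S = P.coeffs ∪ ⋃ b ∈ T, ((τ b).coeffs : Set A) := ⟨_, rfl⟩
  have hfin : S.Finite := by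
    rw [hSdef]
    exact P.finite_coeffs.union (Set.Finite.biUnion (Finset.finite_toSet T)
      (fun b _ => Finset.finite_toSet _))
  haveI : P.HasCoeffs (Algebra.adjoin ℤ S) := ⟨by
    intro x hx
    exact ⟨⟨x, Algebra.subset_adjoin (hSdef ▸ Or.inl hx)⟩, rfl⟩⟩
  haveI : Algebra.FiniteType ℤ (Algebra.adjoin ℤ S) := Algebra.FiniteType.adjoin_of_finite hfin
  haveI : IsNoetherianRing (Algebra.adjoin ℤ S) := Algebra.FiniteType.isNoetherianRing ℤ _
  haveI : IsJacobsonRing ℤ := Groth.Agent.Lib.Helper80.int_isJacobsonRing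
  haveI : IsJacobsonRing (Algebra.adjoin ℤ S) := isJacobsonRing_of_finiteType (A := ℤ)
  have hinjA : Function.Injective (algebraMap (Algebra.adjoin ℤ S) A) :=
    FaithfulSMul.algebraMap_injective _ A
  -- the range condition
  have hTpoly : ∀ b ∈ T, ∃ τ' : MvPolynomial ι (Algebra.adjoin ℤ S),
      MvPolynomial.aeval P.val τ' = b := by
    intro b hb
    obtain ⟨τ₁, hτ₁⟩ : ∃ τ₁ : MvPolynomial ι (Algebra.adjoin ℤ S),
        MvPolynomial.map (algebraMap (Algebra.adjoin ℤ S) A) τ₁ = τ b := by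
      rw [← Set.mem_range, MvPolynomial.mem_range_map_iff_coeffs_subset]
      intro x hx
      refine ⟨⟨x, Algebra.subset_adjoin (hSdef ▸ Or.inr ?_)⟩, rfl⟩
      exact Set.mem_biUnion hb hx
    refine ⟨τ₁, ?_⟩
    have h1 := MvPolynomial.aeval_map_algebraMap A P.val τ₁
    rw [hτ₁, hτ] at h1
    exact h1.symm
  obtain ⟨B₃, C₃, _, _, _, _, algB₃B, hsm, hflat, hft, eB, eC, t₃, heB, ht₃⟩ :=
    exists_model_aux P (↥(Algebra.adjoin ℤ S)) k₁ N₁ R₄ hflR₄ e₁ t₁ T hT hTpoly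
  exact ⟨↥(Algebra.adjoin ℤ S), B₃, C₃, inferInstance, inferInstance, inferInstance,
    inferInstance, inferInstance, inferInstance, algB₃B, inferInstance, inferInstance, hsm,
    hflat, hft, hinjA, eB, eC, t₃, heB, ht₃.trans het⟩

end Groth.Agent.Lib.Helper9.MS2P4
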