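import Mathlib
import Groth.Agent.Lib.Helper51.MS2Defs

/-!
# S14068 P4, second half: base change of `Concl` from a model (shape `B ⊗[B₃] C₃ ≃ C`)
-/

set_option autoImplicit false
universe u
open TensorProduct
open Groth.Agent.Lib.Helper51.MultiSecDescent Groth.Agent.Lib.Helper51.MS2

namespace Groth.Agent.Lib.Helper9.MS2P4

set_option maxHeartbeats 800000 in
theorem concl_of_model' {A B C : Type u} [CommRing A] [CommRing B] [CommRing C] [Algebra A B]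
    [Algebra B C] (t : C) {A₃ B₃ C₃ : Type u} [CommRing A₃] [CommRing B₃] [CommRing C₃]
    [Algebra A₃ A] [Algebra A₃ B₃] [Algebra B₃ C₃] [Algebra B₃ B]
    (hinj : Function.Injective (algebraMap A₃ A))
    (eB : A ⊗[A₃] B₃ ≃ₐ[A] B) (heB : ∀ b : B₃, algebraMap B₃ B b = eB (1 ⊗ₜ b))
    (eC : B ⊗[B₃] C₃ ≃ₐ[B] C) (t₃ : C₃) (ht : eC (1 ⊗ₜ t₃) = t)
    (h : Concl A₃ B₃ C₃ t₃) : Concl A B C t := by
  obtain ⟨Q₃, _, φ₃, hEt, hLQ, R₃, _, ψQ₃, ψC₃, hcomm, hflat, hne⟩ := h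
  letI algB₃Q₃ : Algebra B₃ Q₃ := φ₃.toAlgebra
  letI algA₃Q₃ : Algebra A₃ Q₃ := (φ₃.comp (algebraMap A₃ B₃)).toAlgebra
  haveI : IsScalarTower A₃ B₃ Q₃ := IsScalarTower.of_algebraMap_eq fun _ => rfl
  letI algQ₃R₃ : Algebra Q₃ R₃ := ψQ₃.toAlgebra
  letI algA₃R₃ : Algebra A₃ R₃ := (ψQ₃.comp (φ₃.comp (algebraMap A₃ B₃))).toAlgebra
  haveI : IsScalarTower A₃ Q₃ R₃ := IsScalarTower.of_algebraMap_eq fun _ => rfl
  haveI : Algebra.Etale A₃ Q₃ := hEt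
  haveI : Module.Flat A₃ R₃ := hflat
  let ψ : B₃ →ₐ[A₃] Q₃ := IsScalarTower.toAlgHom A₃ B₃ Q₃
  let ψQ' : Q₃ →ₐ[A₃] R₃ := IsScalarTower.toAlgHom A₃ Q₃ R₃
  let Φ : B →ₐ[A] A ⊗[A₃] Q₃ :=
    (Algebra.TensorProduct.map (AlgHom.id A A) ψ).comp eB.symm.toAlgHom
  let ΨQ : A ⊗[A₃] Q₃ →ₐ[A] A ⊗[A₃] R₃ := Algebra.TensorProduct.map (AlgHom.id A A) ψQ'
  -- the two maps into `R`
  let f : B →+* A ⊗[A₃] R₃ := ΨQ.toRingHom.comp Φ.toRingHom
  let g : C₃ →+* A ⊗[A₃] R₃ :=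
    (Algebra.TensorProduct.includeRight : R₃ →ₐ[A₃] A ⊗[A₃] R₃).toRingHom.comp ψC₃
  have hfg : ∀ b₃ : B₃, f (algebraMap B₃ B b₃) = g (algebraMap B₃ C₃ b₃) := by
    intro b₃
    show ΨQ ((Algebra.TensorProduct.map (AlgHom.id A A) ψ) (eB.symm (algebraMap B₃ B b₃))) =
      (1 : A) ⊗ₜ[A₃] ψC₃ (algebraMap B₃ C₃ b₃)
    rw [heB, AlgEquiv.symm_apply_apply, Algebra.TensorProduct.map_tmul,
      Algebra.TensorProduct.map_tmul]
    have h1 : ψQ₃ (φ₃ b₃) = ψC₃ (algebraMap B₃ C₃ b₃) := RingHom.congr_fun hcomm b₃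
    rw [← h1]
    rfl
  letI algB₃R : Algebra B₃ (A ⊗[A₃] R₃) := (f.comp (algebraMap B₃ B)).toAlgebra
  let f' : B →ₐ[B₃] A ⊗[A₃] R₃ := { f with commutes' := fun _ => rfl }
  let g' : C₃ →ₐ[B₃] A ⊗[A₃] R₃ := { g with commutes' := fun b => (hfg b).symm }
  let L : B ⊗[B₃] C₃ →ₐ[B₃] A ⊗[A₃] R₃ :=
    Algebra.TensorProduct.lift f' g' (fun _ _ => Commute.all _ _)
  have hL : ∀ (b : B) (c : C₃), L (b ⊗ₜ c) = f b * g c := fun b c =>
    Algebra.TensorProduct.lift_tmul _ _ _ _ _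
  refine ⟨A ⊗[A₃] Q₃, inferInstance, Φ.toRingHom, ?_, ?_, A ⊗[A₃] R₃, inferInstance,
    ΨQ.toRingHom, (L : B ⊗[B₃] C₃ →+* A ⊗[A₃] R₃).comp (eC.symm : C →+* B ⊗[B₃] C₃), ?_, ?_, ?_⟩
  · have : Φ.toRingHom.comp (algebraMap A B) = algebraMap A (A ⊗[A₃] Q₃) := Φ.comp_algebraMap
    rw [this, RingHom.etale_algebraMap]
    infer_instance
  · have h1 : IsLocQuotHom ψ.toRingHom := hLQ
    obtain ⟨f₀, hf₀, hsurj⟩ := isLocQuotHom_baseChange (A := A) ψ h1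
    refine ⟨eB f₀, ?_, ?_⟩
    · show IsUnit ((Algebra.TensorProduct.map (AlgHom.id A A) ψ) (eB.symm (eB f₀)))
      rw [AlgEquiv.symm_apply_apply]
      exact hf₀
    · intro x
      obtain ⟨b, n, hb⟩ := hsurj x
      refine ⟨eB b, n, ?_⟩
      show x * ((Algebra.TensorProduct.map (AlgHom.id A A) ψ) (eB.symm (eB f₀))) ^ n =
        (Algebra.TensorProduct.map (AlgHom.id A A) ψ) (eB.symm (eB b))
      rw [AlgEquiv.symm_apply_apply, AlgEquiv.symm_apply_apply]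
      exact hb
  · ext b
    show f b = L (eC.symm (algebraMap B C b))
    rw [AlgEquiv.commutes, Algebra.TensorProduct.algebraMap_apply, Algebra.algebraMap_self,
      RingHom.id_apply, hL, map_one, mul_one]
  · have : ΨQ.toRingHom.comp (Φ.toRingHom.comp (algebraMap A B)) =
        algebraMap A (A ⊗[A₃] R₃) := by
      have h1 : Φ.toRingHom.comp (algebraMap A B) = algebraMap A (A ⊗[A₃] Q₃) :=
        Φ.comp_algebraMap
      rw [h1]
      exact ΨQ.comp_algebraMap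
    rw [this, RingHom.flat_algebraMap_iff]
    infer_instance
  · show L (eC.symm t) ≠ 0
    rw [← ht, AlgEquiv.symm_apply_apply, hL, map_one, one_mul]
    have hinjR : Function.Injective
        (Algebra.TensorProduct.includeRight : R₃ →ₐ[A₃] A ⊗[A₃] R₃) :=
      Algebra.TensorProduct.includeRight_injective hinj
    intro h0
    apply hne
    apply hinjR
    rw [map_zero]
    exact h0

end Groth.Agent.Lib.Helper9.MS2P4
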