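import Mathlib
import Groth.Agent.Lib.Helper51.MS2Defs
import Groth.Agent.Lib.Helper55.GR.Final
import Groth.Agent.Lib.Helper9.MS2P4a
import Groth.Agent.Lib.Helper9.MS2P4b

/-!
# S14068 P4 (helper51's call, msg 3657): Noetherian descent of `A → B → C` incl. flatness
-/

set_option autoImplicit false
universe u
open TensorProduct
open Groth.Agent.Lib.Helper51.MultiSecDescent Groth.Agent.Lib.Helper51.MS2

namespace Groth.Agent.Lib.Helper9.MS2P4

theorem concl_of_noetherian
    (hN : ∀ (A B C : Type u) [CommRing A] [CommRing B] [CommRing C] [Algebra A B] [Algebra B C]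
      [IsNoetherianRing A] [IsJacobsonRing A] [Algebra.IsStandardSmooth A B] [Module.Flat B C]
      [Algebra.FiniteType B C] (t : C), t ≠ 0 → Concl A B C t)
    {A B C : Type u} [CommRing A] [CommRing B] [CommRing C] [Algebra A B] [Algebra B C]
    [Algebra.IsStandardSmooth A B] [Module.Flat B C] [Algebra.FinitePresentation B C]
    (t : C) (ht : t ≠ 0) : Concl A B C t := by
  obtain ⟨A₃, B₃, C₃, _, _, _, _, _, _, _, hNoeth, hJac, hsm, hflat, hft, hinj, eB, eC, t₃,
    heB, ht₃⟩ := exists_model (A := A) (B := B) (C := C) t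
  have ht₃0 : t₃ ≠ 0 := by
    rintro rfl
    apply ht
    rw [← ht₃, tmul_zero, map_zero]
  exact concl_of_model' t hinj eB heB eC t₃ ht₃ (hN A₃ B₃ C₃ t₃ ht₃0)

end Groth.Agent.Lib.Helper9.MS2P4
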