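import Mathlib

/-!
# Splitting an integral algebra with finitely many primes over `p` after an etale base change
(helper9; towards Stacks 0BSP-type statement S1380)
-/

open scoped TensorProduct

namespace Groth.Agent.Lib.Helper9.PInsepSplit

universe u

/-- merging the last idempotent into a chosen one -/
theorem merge_last {T : Type*} [CommRing T] {n : ℕ} (e : Fin (n + 1) → T)
    (he : CompleteOrthogonalIdempotents e) (i₀ : Fin n) :
    CompleteOrthogonalIdempotents
      (fun i : Fin n => e i.castSucc + if i = i₀ then e (Fin.last n) else 0) := by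
  have hne : ∀ i : Fin n, i.castSucc ≠ Fin.last n := fun i => (Fin.castSucc_lt_last i).ne
  have hol : ∀ i : Fin n, e i.castSucc * e (Fin.last n) = 0 := fun i => he.ortho (hne i)
  have hol' : ∀ i : Fin n, e (Fin.last n) * e i.castSucc = 0 := fun i => he.ortho (hne i).symm
  refine ⟨⟨fun i => ?_, fun i j hij => ?_⟩, ?_⟩
  · by_cases h : i = i₀
    · simp only [h, if_true]
      unfold IsIdempotentElem
      have h1 := (he.idem i₀.castSucc).eq
      have h2 := (he.idem (Fin.last n)).eq
      calc (e i₀.castSucc + e (Fin.last n)) * (e i₀.castSucc + e (Fin.last n))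
          = e i₀.castSucc * e i₀.castSucc + e i₀.castSucc * e (Fin.last n)
            + e (Fin.last n) * e i₀.castSucc + e (Fin.last n) * e (Fin.last n) := by ring
        _ = e i₀.castSucc + e (Fin.last n) := by rw [h1, h2, hol, hol']; ring
    · simp only [h, if_false, add_zero]
      exact he.idem _
  · have hij' : i.castSucc ≠ j.castSucc := fun h => hij (Fin.castSucc_injective _ h)
    have h0 := he.ortho hij'
    show (e i.castSucc + if i = i₀ then e (Fin.last n) else 0) *
      (e j.castSucc + if j = i₀ then e (Fin.last n) else 0) = 0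
    by_cases hi : i = i₀
    · have hj : j ≠ i₀ := fun h => hij (hi.trans h.symm)
      simp only [hi, hj, if_true, if_false, add_zero]
      rw [add_mul, ← hi, h0, hol', add_zero]
    · simp only [hi, if_false, add_zero]
      by_cases hj : j = i₀
      · simp only [hj, if_true]
        rw [mul_add, ← hj, h0, hol, add_zero]
      · simp only [hj, if_false, add_zero]
        exact h0
  · rw [Finset.sum_add_distrib, Finset.sum_ite_eq' Finset.univ i₀, if_pos (Finset.mem_univ _),
      ← Fin.sum_univ_castSucc]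
    exact he.complete

/-- a finite subalgebra separating the finitely many primes over `p` -/
theorem exists_finite_subalgebra_separating {R S : Type u} [CommRing R] [CommRing S]
    [Algebra R S] [Algebra.IsIntegral R S] (p : Ideal R) [p.IsPrime]
    (hfin : (p.primesOver S).Finite) :
    ∃ S₀ : Subalgebra R S, Module.Finite R S₀ ∧
      ∀ Q₁ ∈ p.primesOver S, ∀ Q₂ ∈ p.primesOver S,
        Q₁.comap S₀.val = Q₂.comap S₀.val → Q₁ = Q₂ := by
  classical
  have hsep : ∀ Q₁ Q₂ : Ideal S, ∃ x : S, (Q₁ ∈ p.primesOver S → Q₂ ∈ p.primesOver S →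
      Q₁ ≠ Q₂ → x ∈ Q₁ ∧ x ∉ Q₂) := by
    intro Q₁ Q₂
    by_cases h : Q₁ ∈ p.primesOver S ∧ Q₂ ∈ p.primesOver S ∧ Q₁ ≠ Q₂
    · obtain ⟨⟨h1p, h1l⟩, ⟨h2p, h2l⟩, hne⟩ := h
      have hnle : ¬ Q₁ ≤ Q₂ := by
        intro hle
        have hlt : Q₁ < Q₂ := lt_of_le_of_ne hle hne
        have := Ideal.IsIntegral.comap_lt_comap (R := R) hlt
        rw [← Ideal.under_def, ← Ideal.under_def, ← h1l.over, ← h2l.over] at this
        exact lt_irrefl _ this
      obtain ⟨x, hx1, hx2⟩ := SetLike.not_le_iff_exists.mp hnle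
      exact ⟨x, fun _ _ _ => ⟨hx1, hx2⟩⟩
    · exact ⟨0, fun h1 h2 h3 => absurd ⟨h1, h2, h3⟩ h⟩
  choose sep hsep using hsep
  let X : Finset S := (hfin.toFinset ×ˢ hfin.toFinset).image (fun Q => sep Q.1 Q.2)
  refine ⟨Algebra.adjoin R (X : Set S), ?_, ?_⟩
  · exact Algebra.finite_adjoin_of_finite_of_isIntegral X.finite_toSet
      (fun x _ => Algebra.IsIntegral.isIntegral x)
  · intro Q₁ h1 Q₂ h2 heq
    by_contra hne
    obtain ⟨hx1, hx2⟩ := hsep Q₁ Q₂ h1 h2 hne
    have hxX : sep Q₁ Q₂ ∈ Algebra.adjoin R (X : Set S) := by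
      apply Algebra.subset_adjoin
      rw [Finset.mem_coe, Finset.mem_image]
      exact ⟨(Q₁, Q₂), Finset.mem_product.mpr
        ⟨hfin.mem_toFinset.mpr h1, hfin.mem_toFinset.mpr h2⟩, rfl⟩
    have : (⟨sep Q₁ Q₂, hxX⟩ : Algebra.adjoin R (X : Set S)) ∈
        Q₁.comap (Algebra.adjoin R (X : Set S)).val := hx1
    rw [heq] at this
    exact hx2 this

theorem exists_etale_split_integral {R S : Type u} [CommRing R] [CommRing S] [Algebra R S]
    [Algebra.IsIntegral R S] (p : Ideal R) [hpp : p.IsPrime] (hfin : (p.primesOver S).Finite) :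
    ∃ (R' : Type u) (_ : CommRing R') (_ : Algebra R R') (_ : Algebra.Etale R R') (P : Ideal R')
      (_ : P.IsPrime) (_ : P.LiesOver p) (m : ℕ) (ε : Fin m → R' ⊗[R] S),
      CompleteOrthogonalIdempotents ε ∧
        ∀ j, ∃ Q : Ideal (R' ⊗[R] S), (Q.IsPrime ∧ Q.LiesOver P ∧ ε j ∉ Q) ∧
          ∀ Q' : Ideal (R' ⊗[R] S), Q'.IsPrime → Q'.LiesOver P → ε j ∉ Q' → Q' = Q := by
  classical
  by_cases hne : (p.primesOver S).Nonempty
  swap
  · have hker : ¬ RingHom.ker (algebraMap R S) ≤ p := by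
      intro hle
      obtain ⟨Q, -, hQ, hQp⟩ := Ideal.exists_ideal_over_prime_of_isIntegral p (⊥ : Ideal S)
        (by rw [← RingHom.ker_eq_comap_bot]; exact hle)
      exact hne ⟨Q, hQ, ⟨hQp.symm⟩⟩
    obtain ⟨f, hf1, hf2⟩ := SetLike.not_le_iff_exists.mp hker
    have hPp : (p.map (algebraMap R (Localization.Away f))).IsPrime :=
      IsLocalization.isPrime_of_isPrime_disjoint (.powers f) _ _ ‹_›
        (by rwa [Ideal.disjoint_powers_iff_notMem_of_isPrime])
    have hPl : (p.map (algebraMap R (Localization.Away f))).LiesOver p :=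
      IsLocalization.liesOver_map_of_isPrime_disjoint (.powers f) _
        (by rwa [Ideal.disjoint_powers_iff_notMem _ (Ideal.IsPrime.isRadical ‹_›)])
    have hsub : Subsingleton (Localization.Away f ⊗[R] S) := by
      obtain ⟨u, hu⟩ := IsLocalization.Away.algebraMap_isUnit (S := Localization.Away f) f
      have h1 : (1 : Localization.Away f ⊗[R] S) = 0 := by
        have h2 : (1 : Localization.Away f ⊗[R] S) =
            ((↑u⁻¹ : Localization.Away f) * algebraMap R _ f) ⊗ₜ[R] (1 : S) := by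
          rw [← hu, Units.inv_mul]; rfl
        have h3 : algebraMap R S f = 0 := hf1
        rw [h2, mul_comm, ← Algebra.smul_def, TensorProduct.smul_tmul, Algebra.smul_def, mul_one,
          h3, TensorProduct.tmul_zero]
      exact subsingleton_of_zero_eq_one h1.symm
    have het : Algebra.Etale R (Localization.Away f) := Algebra.Etale.of_isLocalizationAway f
    refine ⟨Localization.Away f, inferInstance, inferInstance, het, _, hPp, hPl, 0,
      fun j => j.elim0, ⟨⟨fun i => i.elim0, fun i => i.elim0⟩, Subsingleton.elim _ _⟩,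
      fun j => j.elim0⟩
  · obtain ⟨S₀, hS₀fin, hS₀sep⟩ := exists_finite_subalgebra_separating p hfin
    obtain ⟨R', _, _, _, P, _, _, n, e, he, P', hP'p, hP'l, hbij, heP', H⟩ :=
      Algebra.exists_etale_completeOrthogonalIdempotents_forall_liesOver_eq (R := R) (S := S₀) p
    let ι : R' ⊗[R] S₀ →ₐ[R'] R' ⊗[R] S := Algebra.TensorProduct.map (AlgHom.id R' R') S₀.val
    let inc₀ : S₀ →ₐ[R] R' ⊗[R] S₀ := Algebra.TensorProduct.includeRight
    let inc : S →ₐ[R] R' ⊗[R] S := Algebra.TensorProduct.includeRight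
    have hι : ∀ x : S₀, ι (inc₀ x) = inc (x : S) := fun x => by
      simp [ι, inc₀, inc]
    have hcomap : ∀ Q : Ideal (R' ⊗[R] S),
        (Q.comap ι).comap inc₀ = (Q.comap inc).comap S₀.val := by
      intro Q
      ext x
      simp only [Ideal.mem_comap, hι]
      rfl
    have hint : Algebra.IsIntegral S₀ S := Algebra.IsIntegral.tower_top (R := R)
    -- lifting primes of `S` over `p` to primes of `T` over `P`
    have hlift : ∀ 𝔮 ∈ p.primesOver S, ∃ Qt : Ideal (R' ⊗[R] S), Qt.IsPrime ∧ Qt.LiesOver P ∧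
        Qt.comap inc = 𝔮 := fun 𝔮 h𝔮 =>
      ⟨((Ideal.fiberIsoOfBijectiveResidueField hbij).symm ⟨𝔮, h𝔮⟩).1,
        ((Ideal.fiberIsoOfBijectiveResidueField hbij).symm ⟨𝔮, h𝔮⟩).2.1,
        ((Ideal.fiberIsoOfBijectiveResidueField hbij).symm ⟨𝔮, h𝔮⟩).2.2,
        Ideal.comap_fiberIsoOfBijectiveResidueField_symm hbij ⟨𝔮, h𝔮⟩⟩
    have hF : ∀ Q' : Ideal (R' ⊗[R] S), Q'.IsPrime → Q'.LiesOver P →
        ι (e (Fin.last n)) ∈ Q' ∧ ∀ i, ι (e i.castSucc) ∉ Q' → Q'.comap ι = P' i := by
      intro Q' h1 h2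
      have := H (Q'.comap ι) inferInstance inferInstance
      exact ⟨this.1, fun i hi => this.2 i hi⟩
    have hn : 0 < n := by
      by_contra h0
      have hn0 : n = 0 := by omega
      subst hn0
      obtain ⟨𝔮, h𝔮⟩ := hne
      obtain ⟨Qt, hQt1, hQt2, -⟩ := hlift 𝔮 h𝔮
      have h1 := (hF Qt hQt1 hQt2).1
      have h2 := he.complete
      rw [Fin.sum_univ_one] at h2
      have h3 : (Fin.last 0) = (0 : Fin 1) := rfl
      rw [h3, h2, map_one] at h1
      exact hQt1.ne_top ((Ideal.eq_top_iff_one _).mpr h1)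
    let i₀ : Fin n := ⟨0, hn⟩
    have heι : CompleteOrthogonalIdempotents (fun i => ι (e i)) := he.map ι.toRingHom
    have hε := merge_last (fun i => ι (e i)) heι i₀
    refine ⟨R', inferInstance, inferInstance, inferInstance, P, inferInstance, inferInstance, n,
      _, hε, fun j => ?_⟩
    have hmem : ∀ Q' : Ideal (R' ⊗[R] S), Q'.IsPrime → Q'.LiesOver P →
        (ι (e j.castSucc) + (if j = i₀ then ι (e (Fin.last n)) else 0) ∈ Q' ↔
          ι (e j.castSucc) ∈ Q') := by
      intro Q' h1 h2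
      have hl := (hF Q' h1 h2).1
      have : (if j = i₀ then ι (e (Fin.last n)) else 0) ∈ Q' := by
        split_ifs
        · exact hl
        · exact Q'.zero_mem
      exact ⟨fun h => (Ideal.add_mem_iff_left _ this).mp h, fun h => Ideal.add_mem _ h this⟩
    -- existence
    have hP'jl : (P' j).LiesOver p := Ideal.LiesOver.trans (P' j) P p
    have h𝔮₀p : ((P' j).comap inc₀).IsPrime := Ideal.comap_isPrime _ _
    have h𝔮₀l : ((P' j).comap inc₀).LiesOver p := inferInstance
    obtain ⟨𝔮, -, h𝔮p, h𝔮c⟩ := Ideal.exists_ideal_over_prime_of_isIntegral ((P' j).comap inc₀)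
      (⊥ : Ideal S) (by
        intro x hx
        have hx0 : (algebraMap S₀ S) x = 0 := hx
        have : x = 0 := Subtype.ext hx0
        rw [this]
        exact Ideal.zero_mem _)
    have h𝔮l0 : 𝔮.LiesOver ((P' j).comap inc₀) := ⟨h𝔮c.symm⟩
    have h𝔮l : 𝔮.LiesOver p := Ideal.LiesOver.trans 𝔮 ((P' j).comap inc₀) p
    obtain ⟨Qt, hQt1, hQt2, hQt3⟩ := hlift 𝔮 ⟨h𝔮p, h𝔮l⟩
    have hQtι : Qt.comap ι = P' j := by
      have h1 : (Qt.comap ι).IsPrime := Ideal.comap_isPrime _ _
      have h2 : (Qt.comap ι).LiesOver P := inferInstance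
      apply Ideal.eq_of_comap_eq_comap_of_bijective_residueFieldMap hbij
      show (Qt.comap ι).comap inc₀ = (P' j).comap inc₀
      rw [hcomap, hQt3]
      exact h𝔮c
    refine ⟨Qt, ⟨hQt1, hQt2, ?_⟩, ?_⟩
    · show ι (e j.castSucc) + (if j = i₀ then ι (e (Fin.last n)) else 0) ∉ Qt
      rw [hmem Qt hQt1 hQt2]
      intro h
      have : e j.castSucc ∈ Qt.comap ι := h
      rw [hQtι] at this
      exact heP' j this
    · intro Q' hQ'1 hQ'2 hQ'3
      have hQ'3' : ι (e j.castSucc) ∉ Q' := by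
        intro h
        exact hQ'3 ((hmem Q' hQ'1 hQ'2).mpr h)
      have hQ'ι : Q'.comap ι = P' j := (hF Q' hQ'1 hQ'2).2 j hQ'3'
      have h1 : (Q'.comap inc).comap S₀.val = (Qt.comap inc).comap S₀.val := by
        rw [← hcomap, ← hcomap, hQ'ι, hQtι]
      have hQ'p : (Q'.comap inc) ∈ p.primesOver S :=
        ⟨Ideal.comap_isPrime _ _, by
          have : Q'.LiesOver p := Ideal.LiesOver.trans Q' P p
          infer_instance⟩
      have hQtp : (Qt.comap inc) ∈ p.primesOver S :=
        ⟨Ideal.comap_isPrime _ _, by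
          have : Qt.LiesOver p := Ideal.LiesOver.trans Qt P p
          infer_instance⟩
      have h2 := hS₀sep _ hQ'p _ hQtp h1
      exact Ideal.eq_of_comap_eq_comap_of_bijective_residueFieldMap hbij Q' Qt h2

end Groth.Agent.Lib.Helper9.PInsepSplit
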