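import Mathlib

/-!
# Field-theoretic lemmas for S1380 (helper9)
-/

open scoped TensorProduct
open Polynomial IntermediateField

namespace Groth.Agent.Lib.Helper9.PInsepSplit

universe u v

theorem isPurelyInseparable_of_tensor {R R' S : Type*} [CommRing R] [CommRing R'] [CommRing S]
    [Algebra R R'] [Algebra R S] {K Ω : Type*} [Field K] [Field Ω] [Algebra K Ω]
    (g : R' ⊗[R] S →+* Ω)
    (h1 : ∀ ω : Ω, ∃ a b : R' ⊗[R] S, ω = g a / g b)
    (h2 : ∀ a : R', g (a ⊗ₜ 1) ∈ perfectClosure K Ω)
    (h3 : ∀ s : S, g (1 ⊗ₜ s) ∈ perfectClosure K Ω) :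
    IsPurelyInseparable K Ω := by
  rw [isPurelyInseparable_iff_perfectClosure_eq_top, eq_top_iff]
  have key : ∀ t, g t ∈ perfectClosure K Ω := by
    intro t
    induction t using TensorProduct.induction_on with
    | zero => rw [map_zero]; exact zero_mem _
    | tmul a s =>
      have : a ⊗ₜ[R] s = (a ⊗ₜ 1) * (1 ⊗ₜ s) := by simp
      rw [this, map_mul]
      exact mul_mem (h2 a) (h3 s)
    | add x y hx hy => rw [map_add]; exact add_mem hx hy
  intro ω _
  obtain ⟨a, b, rfl⟩ := h1 ω
  exact div_mem (key a) (key b)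

theorem exists_separable_poly {F L : Type u} [Field F] [Field L] [Algebra F L]
    [Algebra.IsAlgebraic F L] [Module.Finite F (separableClosure F L)] :
    ∃ Pq : F[X], Pq.Separable ∧
      ∀ {K Ω : Type v} [Field K] [Field Ω] [Algebra K Ω] (μ : F →+* K) (φ : L →+* Ω),
        φ.comp (algebraMap F L) = (algebraMap K Ω).comp μ → (Pq.map μ).Splits →
        ∀ y : L, φ y ∈ perfectClosure K Ω := by
  have hsepE : Algebra.IsSeparable F (separableClosure F L) := inferInstance
  obtain ⟨θ, hθ⟩ := Field.exists_primitive_element F (separableClosure F L)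
  refine ⟨minpoly F θ, Algebra.IsSeparable.isSeparable F θ, ?_⟩
  intro K Ω _ _ _ μ φ hcomp hsplit y
  set q := ringExpChar Ω with hq
  have hΩ : ExpChar Ω q := ringExpChar.expChar Ω
  have hKq : ExpChar K q := (algebraMap K Ω).expChar (algebraMap K Ω).injective q
  have hLq : ExpChar L q := φ.expChar φ.injective q
  have hEq : ExpChar (separableClosure F L) q :=
    (algebraMap (separableClosure F L) L).expChar
      (algebraMap (separableClosure F L) L).injective q
  obtain ⟨n, z, hz⟩ := IsPurelyInseparable.pow_mem (separableClosure F L) q y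
  have hint : IsIntegral F θ := Algebra.IsIntegral.isIntegral θ
  have hzmem : z ∈ F⟮θ⟯ := hθ ▸ IntermediateField.mem_top
  obtain ⟨r, hr⟩ : ∃ r : F[X], aeval θ r = z := by
    rw [← IntermediateField.mem_toSubalgebra,
      IntermediateField.adjoin_simple_toSubalgebra_of_isAlgebraic hint.isAlgebraic,
      Algebra.adjoin_singleton_eq_range_aeval] at hzmem
    exact hzmem
  set θ' : Ω := φ (algebraMap (separableClosure F L) L θ) with hθ'
  have hev : ∀ r : F[X], φ (algebraMap (separableClosure F L) L (aeval θ r)) =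
      eval₂ ((algebraMap K Ω).comp μ) θ' r := by
    intro r
    rw [← Polynomial.aeval_algebraMap_apply, Polynomial.aeval_def, Polynomial.hom_eval₂, hcomp]
  have hroot : (((minpoly F θ).map μ).map (algebraMap K Ω)).IsRoot θ' := by
    rw [Polynomial.map_map, IsRoot.def, eval_map, ← hev, minpoly.aeval, map_zero, map_zero]
  have hf0 : (minpoly F θ).map μ ≠ 0 :=
    (Polynomial.map_ne_zero_iff μ.injective).mpr (minpoly.ne_zero hint)
  obtain ⟨a, ha⟩ := hsplit.mem_range_of_isRoot hf0 hroot
  have hfin : φ y ^ q ^ n = algebraMap K Ω (eval₂ μ a r) := by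
    rw [← map_pow, ← hz, ← hr, hev, Polynomial.hom_eval₂, ha]
  rw [mem_perfectClosure_iff_pow_mem q]
  exact ⟨n, _, hfin.symm⟩

end Groth.Agent.Lib.Helper9.PInsepSplit
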