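import Mathlib
import Groth.Agent.Lib.Helper9.PInsepSplit1
import Groth.Agent.Lib.Helper9.PInsepSplit2
import Groth.Agent.Lib.Helper57.EtRes1

/-!
# Assembly for S1380 (helper9)
-/

open scoped TensorProduct
open Polynomial

namespace Groth.Agent.Lib.Helper9.PInsepSplit

universe u

theorem isAlgebraic_residueField {R S : Type*} [CommRing R] [CommRing S] [Algebra R S]
    [Algebra.IsIntegral R S] (p : Ideal R) [p.IsPrime] (q : Ideal S) [q.IsPrime]
    (hq : p = q.comap (algebraMap R S)) :
    letI := (Ideal.ResidueField.map p q (algebraMap R S) hq).toAlgebra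
    Algebra.IsAlgebraic p.ResidueField q.ResidueField := by
  letI := (Ideal.ResidueField.map p q (algebraMap R S) hq).toAlgebra
  have htower : IsScalarTower R p.ResidueField q.ResidueField :=
    IsScalarTower.of_algebraMap_eq (fun x => by
      rw [RingHom.algebraMap_toAlgebra, Ideal.ResidueField.map_algebraMap,
        ← IsScalarTower.algebraMap_apply])
  have hS : ∀ s : S, IsIntegral p.ResidueField (algebraMap S q.ResidueField s) := by
    intro s
    have h1 : IsIntegral R s := Algebra.IsIntegral.isIntegral s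
    have h2 : IsIntegral R (algebraMap S q.ResidueField s) := h1.algebraMap
    exact h2.tower_top
  refine ⟨fun x => ?_⟩
  obtain ⟨a, b, -, rfl⟩ := IsFractionRing.div_surjective (A := S ⧸ q) x
  obtain ⟨a, rfl⟩ := Ideal.Quotient.mk_surjective a
  obtain ⟨b, rfl⟩ := Ideal.Quotient.mk_surjective b
  have ha : algebraMap (S ⧸ q) q.ResidueField (Ideal.Quotient.mk q a) =
      algebraMap S q.ResidueField a := by
    rw [← Ideal.Quotient.algebraMap_eq, ← IsScalarTower.algebraMap_apply]
  have hb : algebraMap (S ⧸ q) q.ResidueField (Ideal.Quotient.mk q b) =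
      algebraMap S q.ResidueField b := by
    rw [← Ideal.Quotient.algebraMap_eq, ← IsScalarTower.algebraMap_apply]
  rw [ha, hb, div_eq_mul_inv]
  exact ((hS a).mul (hS b).inv).isAlgebraic

theorem finite_primesOver_tensor {R S R₁ : Type u} [CommRing R] [CommRing S] [CommRing R₁]
    [Algebra R S] [Algebra R R₁] [Algebra.Etale R R₁] (p : Ideal R) [p.IsPrime] (p₁ : Ideal R₁)
    [p₁.IsPrime] [p₁.LiesOver p] (hfin : (p.primesOver S).Finite) :
    (p₁.primesOver (R₁ ⊗[R] S)).Finite := by
  letI := Algebra.TensorProduct.rightAlgebra (R := R) (A := R₁) (B := S)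
  have hqf0 : Algebra.QuasiFinite S (S ⊗[R] R₁) := inferInstance
  have hqf : Algebra.QuasiFinite S (R₁ ⊗[R] S) :=
    (Algebra.QuasiFinite.iff_of_algEquiv (Algebra.TensorProduct.commRight R S R₁)).mp hqf0
  have hsub : p₁.primesOver (R₁ ⊗[R] S) ⊆ ⋃ q ∈ p.primesOver S, q.primesOver (R₁ ⊗[R] S) := by
    rintro Q ⟨hQ1, hQ2⟩
    have hQp : Q.LiesOver p := Ideal.LiesOver.trans Q p₁ p
    refine Set.mem_biUnion (x := Q.under S) ⟨inferInstance, ?_⟩ ⟨hQ1, ⟨rfl⟩⟩
    constructor
    rw [Ideal.under_def, Ideal.under_def, Ideal.comap_comap]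
    have : (algebraMap S (R₁ ⊗[R] S)).comp (algebraMap R S) = algebraMap R (R₁ ⊗[R] S) := by
      ext x
      simp only [RingHom.comp_apply]
      show (1 : R₁) ⊗ₜ[R] (algebraMap R S x) = algebraMap R (R₁ ⊗[R] S) x
      rw [Algebra.TensorProduct.algebraMap_apply, Algebra.algebraMap_eq_smul_one,
        Algebra.algebraMap_eq_smul_one (A := R₁), TensorProduct.smul_tmul]
    rw [this]
    exact hQp.over
  exact (Set.Finite.biUnion hfin (fun q _ => Algebra.QuasiFinite.finite_primesOver q)).subset hsub

theorem residueField_map_congr {R S : Type*} [CommRing R] [CommRing S] (f g : R →+* S)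
    (hfg : f = g) (p : Ideal R) [p.IsPrime] (r : Ideal S) [r.IsPrime] (h1 : p = r.comap f)
    (h2 : p = r.comap g) :
    Ideal.ResidueField.map p r f h1 = Ideal.ResidueField.map p r g h2 := by
  subst hfg
  rfl

end Groth.Agent.Lib.Helper9.PInsepSplit
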