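import Mathlib

/-!
# Devissage + Krull for S4899 [KV]

`R` Noetherian local, `R'` a free `R`-algebra, `s : R'` a nonzerodivisor on
`R' ⊗[R] (R ⧸ maximalIdeal R)`. Then `s` is a nonzerodivisor on `R' ⊗[R] V` for every finite
`R`-module `V`.
-/

set_option autoImplicit false

universe u

open TensorProduct IsLocalRing

namespace Groth.Agent.Lib.Helper9.PrimDV

section
variable {R : Type u} [CommRing R] {R' : Type u} [CommRing R'] [Algebra R R']

/-- `s` is a nonzerodivisor on `R' ⊗[R] V`. -/
def NZD (s : R') (V : Type u) [AddCommGroup V] [Module R V] : Prop :=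
  ∀ w : R' ⊗[R] V, s • w = 0 → w = 0

theorem baseChange_apply_eq {V₁ V₂ : Type u} [AddCommGroup V₁] [Module R V₁] [AddCommGroup V₂]
    [Module R V₂] (f : V₁ →ₗ[R] V₂) (x : R' ⊗[R] V₁) : f.baseChange R' x = f.lTensor R' x := rfl

theorem nzd_of_exact [Module.Flat R R'] (s : R')
    {V₁ V₂ V₃ : Type u} [AddCommGroup V₁] [Module R V₁] [AddCommGroup V₂] [Module R V₂]
    [AddCommGroup V₃] [Module R V₃] (f : V₁ →ₗ[R] V₂) (g : V₂ →ₗ[R] V₃)
    (hf : Function.Injective f) (hg : Function.Surjective g) (hfg : Function.Exact f g)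
    (h₁ : NZD (R := R) s V₁) (h₃ : NZD (R := R) s V₃) : NZD (R := R) s V₂ := by
  intro w hw
  have h3 : (g.baseChange R') w = 0 := by
    apply h₃
    rw [← map_smul, hw, map_zero]
  have hex : Function.Exact (f.lTensor R') (g.lTensor R') := lTensor_exact R' hfg hg
  obtain ⟨w₁, rfl⟩ := (hex w).1 (by rw [← baseChange_apply_eq]; exact h3)
  have hinj : Function.Injective (f.lTensor R') :=
    Module.Flat.lTensor_preserves_injective_linearMap (M := R') f hf
  have : s • w₁ = 0 := by
    apply hinj
    rw [map_zero, ← baseChange_apply_eq, map_smul, baseChange_apply_eq]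
    exact hw
  rw [h₁ w₁ this, map_zero]

theorem nzd_of_equiv (s : R') {V₁ V₂ : Type u} [AddCommGroup V₁] [Module R V₁] [AddCommGroup V₂]
    [Module R V₂] (e : V₁ ≃ₗ[R] V₂) (h₁ : NZD (R := R) s V₁) : NZD (R := R) s V₂ := by
  intro w hw
  have h := h₁ ((e.symm.toLinearMap.baseChange R') w) (by rw [← map_smul, hw, map_zero])
  have hcomp : (e.toLinearMap.baseChange R') ((e.symm.toLinearMap.baseChange R') w) = w := by
    rw [← LinearMap.comp_apply, ← LinearMap.baseChange_comp]
    simp
  rw [← hcomp, h, map_zero]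

theorem nzd_of_subsingleton (s : R') (V : Type u) [AddCommGroup V] [Module R V] [Subsingleton V] :
    NZD (R := R) s V := by
  intro w _
  exact Subsingleton.elim _ _

/-- Finite length devissage. -/
theorem nzd_of_pow_le_annihilator [IsNoetherianRing R] [IsLocalRing R] [Module.Flat R R'] (s : R')
    (hκ : NZD (R := R) s (R ⧸ maximalIdeal R))
    (V : Type u) [AddCommGroup V] [Module R V] [hV : Module.Finite R V] :
    (∃ n : ℕ, maximalIdeal R ^ n ≤ Module.annihilator R V) → NZD (R := R) s V := by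
  induction hV using IsNoetherianRing.induction_on_isQuotientEquivQuotientPrime R with
  | subsingleton N => exact fun _ => nzd_of_subsingleton s N
  | quotient N p e =>
    rintro ⟨n, hn⟩
    have hann : Module.annihilator R N = p.1 := by
      rw [e.annihilator_eq, Ideal.annihilator_quotient]
    rw [hann] at hn
    have hle : maximalIdeal R ≤ p.1 := p.2.le_of_pow_le hn
    have hp : p.1 = maximalIdeal R :=
      ((IsLocalRing.maximalIdeal.isMaximal R).eq_of_le p.2.ne_top hle).symm
    have e' : N ≃ₗ[R] R ⧸ maximalIdeal R :=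
      e ≪≫ₗ Submodule.quotEquivOfEq _ _ hp
    exact nzd_of_equiv s e'.symm hκ
  | exact N₁ N₂ N₃ f g hf hg hfg h₁ h₃ =>
    rintro ⟨n, hn⟩
    refine nzd_of_exact s f g hf hg hfg (h₁ ⟨n, hn.trans ?_⟩) (h₃ ⟨n, hn.trans ?_⟩)
    · intro a ha
      rw [Module.mem_annihilator] at ha ⊢
      intro v
      apply hf
      rw [map_smul, ha, map_zero]
    · intro a ha
      rw [Module.mem_annihilator] at ha ⊢
      intro v
      obtain ⟨v₂, rfl⟩ := hg v
      rw [← map_smul, ha, map_zero]

/-- Krull: a nonzero element of `R' ⊗ V` survives in some `R' ⊗ V/𝔪ⁿV` (`R'` free). -/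
theorem exists_ne_zero_quot [IsNoetherianRing R] [IsLocalRing R] [Module.Free R R']
    {V : Type u} [AddCommGroup V] [Module R V] [Module.Finite R V] (w : R' ⊗[R] V) (hw : w ≠ 0) :
    ∃ n : ℕ, ((maximalIdeal R ^ n • (⊤ : Submodule R V)).mkQ.baseChange R') w ≠ 0 := by
  classical
  let b := Module.Free.chooseBasis R R'
  have hnat : ∀ {V₂ : Type u} [AddCommGroup V₂] [Module R V₂] (g : V →ₗ[R] V₂) (x : R' ⊗[R] V)
      (j : Module.Free.ChooseBasisIndex R R'),
      TensorProduct.equivFinsuppOfBasisLeft (N := V₂) b (g.baseChange R' x) j =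
        g (TensorProduct.equivFinsuppOfBasisLeft (N := V) b x j) := by
    intro V₂ _ _ g x j
    induction x with
    | zero => simp
    | tmul r v =>
      rw [LinearMap.baseChange_tmul, TensorProduct.equivFinsuppOfBasisLeft_apply_tmul_apply,
        TensorProduct.equivFinsuppOfBasisLeft_apply_tmul_apply, map_smul]
    | add x y hx hy => simp only [map_add, Finsupp.add_apply, hx, hy]
  have hc : TensorProduct.equivFinsuppOfBasisLeft (N := V) b w ≠ 0 := by
    simpa using hw
  obtain ⟨j, hj⟩ : ∃ j, TensorProduct.equivFinsuppOfBasisLeft (N := V) b w j ≠ 0 := by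
    by_contra h
    push_neg at h
    exact hc (Finsupp.ext h)
  have hk : ∃ n, TensorProduct.equivFinsuppOfBasisLeft (N := V) b w j ∉
      (maximalIdeal R ^ n • (⊤ : Submodule R V)) := by
    by_contra h
    push_neg at h
    have hmem : TensorProduct.equivFinsuppOfBasisLeft (N := V) b w j ∈
        (⨅ i : ℕ, maximalIdeal R ^ i • ⊤ : Submodule R V) := by
      simp only [Submodule.mem_iInf]
      exact h
    rw [Ideal.iInf_pow_smul_eq_bot_of_isLocalRing _
      (IsLocalRing.maximalIdeal.isMaximal R).ne_top] at hmem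
    exact hj (by simpa using hmem)
  obtain ⟨n, hn⟩ := hk
  refine ⟨n, fun h0 => hn ?_⟩
  have := hnat (maximalIdeal R ^ n • (⊤ : Submodule R V)).mkQ w j
  rw [h0, map_zero] at this
  have h2 : (maximalIdeal R ^ n • (⊤ : Submodule R V)).mkQ
      (TensorProduct.equivFinsuppOfBasisLeft (N := V) b w j) = 0 := by
    rw [← this]; rfl
  simpa [Submodule.Quotient.mk_eq_zero] using h2

/-- **Main lemma** (Krull + devissage): `R` Noetherian local, `R'` free over `R`, `s : R'` a
nonzerodivisor on `R' ⊗[R] (R ⧸ 𝔪)`; then `s` is a nonzerodivisor on `R' ⊗[R] V` for every finite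
`R`-module `V`. -/
theorem nzd_of_finite [IsNoetherianRing R] [IsLocalRing R] [Module.Free R R'] (s : R')
    (hκ : ∀ w : R' ⊗[R] (R ⧸ maximalIdeal R), s • w = 0 → w = 0)
    (V : Type u) [AddCommGroup V] [Module R V] [Module.Finite R V]
    (w : R' ⊗[R] V) (hw : s • w = 0) : w = 0 := by
  by_contra hne
  obtain ⟨n, hn⟩ := exists_ne_zero_quot w hne
  apply hn
  have hfin : NZD (R := R) s (V ⧸ (maximalIdeal R ^ n • (⊤ : Submodule R V))) := by
    apply nzd_of_pow_le_annihilator s hκ
    refine ⟨n, fun a ha => ?_⟩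
    rw [Module.mem_annihilator]
    intro v
    obtain ⟨v, rfl⟩ := Submodule.Quotient.mk_surjective _ v
    rw [← Submodule.Quotient.mk_smul, Submodule.Quotient.mk_eq_zero]
    exact Submodule.smul_mem_smul ha Submodule.mem_top
  apply hfin
  rw [← map_smul, hw, map_zero]

end

end Groth.Agent.Lib.Helper9.PrimDV
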