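import Mathlib
import Groth.Agent.Lib.Helper9.InertiaMove
import Groth.Agent.Lib.Helper9.IndEtaleUnion

/-!
# Inertia invariants for a profinite group action are ind-étale over the invariants
-/

open scoped Pointwise

universe u

set_option linter.unusedSectionVars false

namespace Groth.Agent.Lib.Helper9.ProfInertia

section Lift

variable {G B : Type u} [Group G] [CommRing B] [MulSemiringAction G B]
  [TopologicalSpace G] [CompactSpace G] [TotallyDisconnectedSpace G] [IsTopologicalGroup G]
  [TopologicalSpace B] [DiscreteTopology B] [ContinuousSMul G B]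
  (q : Ideal B) [q.IsPrime] (N : Subgroup G) [N.Normal]

theorem coe_quot_smul (σ : G) (a : FixedPoints.subring B N) :
    (((σ : G ⧸ N) • a : FixedPoints.subring B N) : B) = σ • (a : B) := rfl

/-- easy direction: the image of an inertia element is an inertia element. -/
theorem mk_mem_inertia (σ : G) (hσ : σ ∈ q.inertia G) :
    (σ : G ⧸ N) ∈ (q.comap (FixedPoints.subring B N).subtype).inertia (G ⧸ N) := by
  intro a
  show ((σ : G ⧸ N) • a - a) ∈ q.comap (FixedPoints.subring B N).subtype
  rw [Ideal.mem_comap, map_sub]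
  exact hσ (a : B)

include q in
/-- every inertia element of the quotient lifts to an inertia element. -/
theorem exists_lift_inertia (hN : IsClosed (N : Set G)) (σ₀ : G ⧸ N)
    (hσ₀ : σ₀ ∈ (q.comap (FixedPoints.subring B N).subtype).inertia (G ⧸ N)) :
    ∃ τ : G, τ ∈ q.inertia G ∧ (τ : G ⧸ N) = σ₀ := by
  obtain ⟨σ, rfl⟩ := QuotientGroup.mk_surjective σ₀
  haveI : CompactSpace N := isCompact_iff_compactSpace.mp hN.isCompact
  haveI : Algebra.IsInvariant (FixedPoints.subring B N) B N := ⟨fun b hb => ⟨⟨b, hb⟩, rfl⟩⟩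
  have hin : ∀ (ρ : G), (ρ : G ⧸ N) ∈
      (q.comap (FixedPoints.subring B N).subtype).inertia (G ⧸ N) →
      ∀ a : FixedPoints.subring B N, ρ • (a : B) - (a : B) ∈ q := by
    intro ρ hρ a
    have := hρ a
    exact this
  -- step (i): `σ • q` lies over the same prime
  have h1 : (σ • q).under (FixedPoints.subring B N) = q.under (FixedPoints.subring B N) := by
    ext a
    rw [Ideal.under_def, Ideal.under_def, Ideal.mem_comap, Ideal.mem_comap,
      Ideal.mem_pointwise_smul_iff_inv_smul_mem]
    have hinv : ((σ⁻¹ : G) : G ⧸ N) ∈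
        (q.comap (FixedPoints.subring B N).subtype).inertia (G ⧸ N) := by
      have := inv_mem hσ₀
      exact this
    have h2 := hin σ⁻¹ hinv a
    change σ⁻¹ • (a : B) ∈ q ↔ (a : B) ∈ q
    constructor
    · intro h
      have := q.sub_mem h h2
      rwa [sub_sub_cancel] at this
    · intro h
      have := q.add_mem h2 h
      rwa [sub_add_cancel] at this
  obtain ⟨n, hn⟩ := Algebra.IsInvariant.exists_smul_of_under_eq_of_profinite
    (A := FixedPoints.subring B N) (G := N) (σ • q) q h1
  have hσ'q : ((n : G) * σ) • q = q := by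
    rw [mul_smul]
    exact hn.symm
  -- step (ii): the automorphism of `B ⧸ q`
  have hσ'a : ∀ a : FixedPoints.subring B N, ((n : G) * σ) • (a : B) - (a : B) ∈ q := by
    intro a
    rw [mul_smul]
    have h3 : (n : G) • (σ • (a : B)) = σ • (a : B) :=
      ((σ : G ⧸ N) • a).2 n
    rw [h3]
    exact hin σ hσ₀ a
  let f : B ⧸ q ≃+* B ⧸ q :=
    Ideal.quotientEquiv q q (MulSemiringAction.toRingEquiv G B ((n : G) * σ)) (by
      conv_lhs => rw [← hσ'q]
      rfl)
  let α : (B ⧸ q) ≃ₐ[FixedPoints.subring B N ⧸ q.under (FixedPoints.subring B N)] (B ⧸ q) :=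
    AlgEquiv.ofRingEquiv (f := f) (by
      intro x
      obtain ⟨a, rfl⟩ := Ideal.Quotient.mk_surjective x
      rw [Ideal.Quotient.algebraMap_mk_of_liesOver]
      show Ideal.Quotient.mk q (((n : G) * σ) • (a : B)) = Ideal.Quotient.mk q (a : B)
      rw [Ideal.Quotient.eq]
      exact hσ'a a)
  -- step (iii)
  obtain ⟨n', hn'⟩ := Ideal.Quotient.stabilizerHom_surjective_of_profinite (G := N)
    (q.under (FixedPoints.subring B N)) q α
  have hn'q : ((n' : N) : G) • q = q := n'.2
  have hkey : ∀ b : B, ((n' : N) : G) • b - ((n : G) * σ) • b ∈ q := by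
    intro b
    have := congrArg (fun e => e (Ideal.Quotient.mk q b)) hn'
    simp only [Ideal.Quotient.stabilizerHom_apply] at this
    exact Ideal.Quotient.eq.1 this
  refine ⟨(((n' : N) : G))⁻¹ * ((n : G) * σ), ?_, ?_⟩
  · intro b
    show ((((n' : N) : G))⁻¹ * ((n : G) * σ)) • b - b ∈ q
    have h4 := hkey b
    have h5 : (((n' : N) : G))⁻¹ • (((n' : N) : G) • b - ((n : G) * σ) • b) ∈ q := by
      have := (Ideal.smul_mem_pointwise_smul_iff (a := (((n' : N) : G))⁻¹) (S := q)).2 h4
      have hq' : (((n' : N) : G))⁻¹ • q = q := by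
        rw [inv_smul_eq_iff]
        exact hn'q.symm
      rwa [hq'] at this
    rw [smul_sub, inv_smul_smul, ← mul_smul] at h5
    have := q.neg_mem h5
    rwa [neg_sub] at this
  · rw [QuotientGroup.mk_mul, QuotientGroup.mk_mul, QuotientGroup.mk_inv,
      (QuotientGroup.eq_one_iff _).2 (n' : N).2, (QuotientGroup.eq_one_iff _).2 n.2, inv_one,
      one_mul, one_mul]

end Lift


section Core

variable {G B : Type u} [Group G] [CommRing B] [IsDomain B] [MulSemiringAction G B]
  [TopologicalSpace G] [CompactSpace G] [TotallyDisconnectedSpace G] [IsTopologicalGroup G]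
  [TopologicalSpace B] [DiscreteTopology B] [ContinuousSMul G B]
  (q : Ideal B) [q.IsPrime] (N : Subgroup G) [N.Normal]

local notation "R₀" => FixedPoints.subring B N
local notation "q₀" => Ideal.comap (Subring.subtype (FixedPoints.subring B N)) q
local notation "I₀" => Ideal.inertia (G ⧸ N) (Ideal.comap (Subring.subtype (FixedPoints.subring B N)) q)
local notation "S₀" => FixedPoints.subring (FixedPoints.subring B N)
  (Ideal.inertia (G ⧸ N) (Ideal.comap (Subring.subtype (FixedPoints.subring B N)) q))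
local notation "A₁" => FixedPoints.subring (FixedPoints.subring B N) (G ⧸ N)

/-- the inclusion of the finite-level inertia invariants into `B`. -/
def kappa : S₀ →+* B := (FixedPoints.subring B N).subtype.comp (Subring.subtype _)

theorem kappa_injective : Function.Injective (kappa q N) := by
  intro x y h
  exact Subtype.ext (Subtype.ext h)

/-- elements of the finite-level inertia invariants are invariant under the inertia group. -/
theorem smul_kappa (x : S₀) (σ : G) (hσ : σ ∈ q.inertia G) : σ • kappa q N x = kappa q N x := by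
  have h1 : (σ : G ⧸ N) • (x : R₀) = x := x.2 ⟨(σ : G ⧸ N), mk_mem_inertia q N σ hσ⟩
  exact congrArg (fun r : R₀ => (r : B)) h1

include q in
/-- an element of `B` fixed by `N` and by the inertia group lies in the finite-level inertia
invariants. -/
theorem exists_kappa_eq (hN : IsClosed (N : Set G)) (b : B) (hbN : ∀ n ∈ N, n • b = b)
    (hbI : ∀ σ ∈ q.inertia G, σ • b = b) : ∃ x : S₀, kappa q N x = b := by
  refine ⟨⟨⟨b, fun n => hbN n n.2⟩, ?_⟩, rfl⟩
  rintro ⟨σ₀, hσ₀⟩
  obtain ⟨τ, hτ, rfl⟩ := exists_lift_inertia q N hN σ₀ hσ₀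
  apply Subtype.ext
  exact hbI τ hτ

/-- elements of the finite-level invariants are invariant under `G`. -/
theorem smul_coe_A₁ (y : A₁) (σ : G) : σ • ((y : R₀) : B) = ((y : R₀) : B) := by
  have h1 : (σ : G ⧸ N) • (y : R₀) = y := y.2 (σ : G ⧸ N)
  exact congrArg (fun r : R₀ => (r : B)) h1


/-- a lift out of an `Away` localization of an injective map is injective. -/
theorem away_lift_injective {R E P : Type*} [CommRing R] [CommRing E] [CommRing P] [Algebra R E]
    (x : R) [IsLocalization.Away x E] (f : R →+* P) (hf : Function.Injective f)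
    (hx : IsUnit (f x)) : Function.Injective (IsLocalization.Away.lift (S := E) x hx) := by
  rw [injective_iff_map_eq_zero]
  intro a ha
  obtain ⟨n, r, hr⟩ := IsLocalization.Away.surj x a
  have h1 := congrArg (IsLocalization.Away.lift (S := E) x hx) hr
  rw [map_mul, ha, zero_mul, IsLocalization.Away.lift_eq] at h1
  have hr0 : r = 0 := hf (by rw [← h1, map_zero])
  rw [hr0, map_zero] at hr
  have hu : IsUnit (algebraMap R E x ^ n) :=
    (IsLocalization.Away.algebraMap_isUnit (S := E) x).pow n
  exact (hu.mul_left_eq_zero).1 hr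

include q in
/-- **Core finite-level statement.** -/
theorem core {A₀ S T : Type u} [CommRing A₀] [CommRing S] [CommRing T] [Algebra A₀ S]
    [Algebra A₀ T] [Algebra S T] [IsScalarTower A₀ S T]
    (j : S →+* B) (hj : Function.Injective j)
    (hS : ∀ b, b ∈ Set.range j ↔ ∀ σ ∈ q.inertia G, σ • b = b)
    (hA : ∀ b, b ∈ Set.range (j.comp (algebraMap A₀ S)) ↔ ∀ σ : G, σ • b = b)
    (hAinj : Function.Injective (algebraMap A₀ S))
    [IsLocalization.AtPrime T (q.comap j)]
    [Finite (G ⧸ N)] (hN : IsClosed (N : Set G))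
    (Φ : Finset S) (s : S) (hs : s ∉ q.comap j)
    (hfix : ∀ x, x = s ∨ x ∈ Φ → ∀ n ∈ N, n • j x = j x) :
    ∃ E : Subalgebra A₀ T, Algebra.Etale A₀ E ∧ (∀ x ∈ Φ, algebraMap S T x ∈ E) ∧
      ∃ u ∈ E, u * algebraMap S T s = 1 := by
  classical
  obtain ⟨g, hg, hEt⟩ := InertiaMove.etale_inertia (G := G ⧸ N) (R := R₀) q₀
  -- the map `ι₀ : S₀ → S`
  have hι' : ∀ x : S₀, ∃ y : S, j y = kappa q N x := fun x =>
    (hS _).2 fun σ hσ => smul_kappa q N x σ hσ
  choose ι hι using hι'
  let ι₀ : S₀ →+* S :=
    { toFun := ι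
      map_one' := hj (by rw [hι, map_one, map_one])
      map_mul' := fun x y => hj (by rw [hι, map_mul, map_mul, hι, hι])
      map_zero' := hj (by rw [hι, map_zero, map_zero])
      map_add' := fun x y => hj (by rw [hι, map_add, map_add, hι, hι]) }
  have hι₀ : ∀ x : S₀, j (ι₀ x) = kappa q N x := hι
  have hι₀inj : Function.Injective ι₀ := fun x y h =>
    kappa_injective q N (by rw [← hι₀, ← hι₀, h])
  -- the map `θ : A₀ → A₁`
  have hfixA : ∀ (a : A₀) (σ : G), σ • j (algebraMap A₀ S a) = j (algebraMap A₀ S a) :=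
    fun a => (hA _).1 ⟨a, rfl⟩
  let θ₀ : A₀ →+* R₀ := (j.comp (algebraMap A₀ S)).codRestrict R₀ (fun a n => hfixA a n)
  let θ : A₀ →+* A₁ := θ₀.codRestrict A₁ (fun a σ₀ => by
    obtain ⟨σ, rfl⟩ := QuotientGroup.mk_surjective σ₀
    exact Subtype.ext (hfixA a σ))
  have hθ : ∀ a : A₀, (((θ a : A₁) : R₀) : B) = j (algebraMap A₀ S a) := fun a => rfl
  have hθbij : Function.Bijective θ := by
    constructor
    · intro a b hab
      have := congrArg (fun y : A₁ => ((y : R₀) : B)) hab
      exact hAinj (hj this)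
    · intro y
      obtain ⟨a, ha⟩ := (hA ((y : R₀) : B)).2 (fun σ => smul_coe_A₁ N y σ)
      exact ⟨a, Subtype.ext (Subtype.ext ha)⟩
  have hιθ : ∀ a : A₀, ι₀ (algebraMap A₁ S₀ (θ a)) = algebraMap A₀ S a := fun a =>
    hj (by rw [hι₀]; rfl)
  -- lifting the elements
  have hlift : ∀ x, x = s ∨ x ∈ Φ → ∃ x₀ : S₀, ι₀ x₀ = x := by
    intro x hx
    obtain ⟨x₀, hx₀⟩ := exists_kappa_eq q N hN (j x) (hfix x hx) ((hS _).1 ⟨x, rfl⟩)
    exact ⟨x₀, hj (by rw [hι₀, hx₀])⟩
  obtain ⟨s₀, hs₀⟩ := hlift s (Or.inl rfl)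
  -- units in `T`
  have hunit : ∀ y : S, y ∉ q.comap j → IsUnit (algebraMap S T y) := fun y hy =>
    IsLocalization.map_units T (⟨y, hy⟩ : (q.comap j).primeCompl)
  have hgunit : IsUnit (((algebraMap S T).comp ι₀) g) := by
    apply hunit
    rw [Ideal.mem_comap, hι₀]
    exact hg
  haveI : IsDomain S := Function.Injective.isDomain j hj
  have hSTinj : Function.Injective (algebraMap S T) :=
    IsLocalization.injective T (M := (q.comap j).primeCompl)
      (Ideal.primeCompl_le_nonZeroDivisors _)
  have hψ₀inj : Function.Injective ((algebraMap S T).comp ι₀) := hSTinj.comp hι₀inj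
  -- the rings `E`, `E'`
  let ψ₁ : Localization.Away g →+* T := IsLocalization.Away.lift g hgunit
  have hψ₁ : ∀ x : S₀, ψ₁ (algebraMap S₀ (Localization.Away g) x) = algebraMap S T (ι₀ x) :=
    fun x => IsLocalization.Away.lift_eq g hgunit x
  have hψ₁inj : Function.Injective ψ₁ := away_lift_injective g _ hψ₀inj hgunit
  set t : Localization.Away g := algebraMap S₀ (Localization.Away g) s₀ with ht
  have htunit : IsUnit (ψ₁ t) := by
    rw [ht, hψ₁, hs₀]
    exact hunit s hs
  let ψ₂ : Localization.Away t →+* T := IsLocalization.Away.lift t htunit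
  have hψ₂ : ∀ x : Localization.Away g, ψ₂ (algebraMap _ (Localization.Away t) x) = ψ₁ x :=
    fun x => IsLocalization.Away.lift_eq t htunit x
  have hψ₂inj : Function.Injective ψ₂ := away_lift_injective t _ hψ₁inj htunit
  -- étaleness
  haveI : Algebra.Etale (Localization.Away g) (Localization.Away t) :=
    Algebra.Etale.of_isLocalizationAway t
  haveI : Algebra.Etale A₁ (Localization.Away t) :=
    Algebra.Etale.comp A₁ (Localization.Away g) (Localization.Away t)
  letI : Algebra A₀ (Localization.Away t) :=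
    ((algebraMap A₁ (Localization.Away t)).comp θ).toAlgebra
  haveI : Algebra.Etale A₀ (Localization.Away t) := by
    rw [← RingHom.etale_algebraMap]
    show ((algebraMap A₁ (Localization.Away t)).comp θ).Etale
    exact RingHom.Etale.stableUnderComposition _ _ (RingHom.Etale.of_bijective hθbij)
      (RingHom.etale_algebraMap.2 inferInstance)
  -- the algebra map
  let Ψ : Localization.Away t →ₐ[A₀] T :=
    { ψ₂ with
      commutes' := fun a => by
        show ψ₂ (algebraMap (Localization.Away g) (Localization.Away t)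
          (algebraMap A₁ (Localization.Away g) (θ a))) = algebraMap A₀ T a
        rw [hψ₂, IsScalarTower.algebraMap_apply A₁ S₀ (Localization.Away g), hψ₁, hιθ,
          ← IsScalarTower.algebraMap_apply] }
  have hΨ : ∀ x, Ψ x = ψ₂ x := fun x => rfl
  have hΨinj : Function.Injective Ψ := hψ₂inj
  have hΨS₀ : ∀ x : S₀, Ψ (algebraMap _ (Localization.Away t)
      (algebraMap S₀ (Localization.Away g) x)) = algebraMap S T (ι₀ x) := fun x => by
    rw [hΨ, hψ₂, hψ₁]
  refine ⟨Ψ.range, ?_, ?_, ?_⟩
  · exact Algebra.Etale.of_equiv (AlgEquiv.ofInjective Ψ hΨinj)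
  · intro x hx
    obtain ⟨x₀, hx₀⟩ := hlift x (Or.inr hx)
    exact ⟨_, (hΨS₀ x₀).trans (by rw [hx₀])⟩
  · refine ⟨Ψ (IsLocalization.Away.invSelf t), ⟨_, rfl⟩, ?_⟩
    rw [← hs₀, ← hΨS₀ s₀, ← map_mul, mul_comm, IsLocalization.Away.mul_invSelf, map_one]


include q in
/-- **Main abstract theorem**: for a profinite group `G` acting continuously on a discrete
domain `B`, the localization of the inertia invariants at the prime below `q` is ind-étale over
the invariants of `G`. -/
theorem isIndEtale_inertia {A₀ S T : Type u} [CommRing A₀] [CommRing S] [CommRing T] [Algebra A₀ S]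
    [Algebra A₀ T] [Algebra S T] [IsScalarTower A₀ S T]
    (j : S →+* B) (hj : Function.Injective j)
    (hS : ∀ b, b ∈ Set.range j ↔ ∀ σ ∈ q.inertia G, σ • b = b)
    (hA : ∀ b, b ∈ Set.range (j.comp (algebraMap A₀ S)) ↔ ∀ σ : G, σ • b = b)
    (hAinj : Function.Injective (algebraMap A₀ S))
    [IsLocalization.AtPrime T (q.comap j)] : EtPBC.IsIndEtale A₀ T := by
  classical
  apply IndEtaleUnion.isIndEtale_of_finite_subsets
  intro F
  obtain ⟨s, hs⟩ := IsLocalization.exist_integer_multiples_of_finset (q.comap j).primeCompl F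
  have hb : ∀ a : T, ∃ b : S, a ∈ F → algebraMap S T b = (s : S) • a := by
    intro a
    by_cases ha : a ∈ F
    · obtain ⟨b, hb⟩ := hs a ha
      exact ⟨b, fun _ => hb⟩
    · exact ⟨0, fun h => absurd h ha⟩
  choose f hf using hb
  let Φ : Finset S := F.image f
  -- the open normal subgroup
  let U : Set G := ⋂ x ∈ insert (s : S) Φ, (MulAction.stabilizer G (j x) : Set G)
  have hU : IsOpen U := isOpen_biInter_finset fun x _ => stabilizer_isOpen G (j x)
  have h1U : (1 : G) ∈ U := Set.mem_iInter₂.2 fun x _ => one_mem _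
  obtain ⟨N, hN⟩ := ProfiniteGrp.exist_openNormalSubgroup_sub_open_nhds_of_one hU h1U
  haveI : N.1.1.Normal := N.2
  haveI : Finite (G ⧸ N.1.1) := Subgroup.quotient_finite_of_isOpen _ N.1.isOpen'
  have hNcl : IsClosed (N.1.1 : Set G) := N.1.isClosed
  obtain ⟨E, hE, hΦ, u, hu, hus⟩ := core (T := T) q N.1.1 j hj hS hA hAinj hNcl Φ s s.2 (by
    intro x hx n hn
    have h1 : n ∈ U := hN hn
    have h2 := Set.mem_iInter₂.1 h1 x (by
      rcases hx with rfl | hx
      · exact Finset.mem_insert_self _ _
      · exact Finset.mem_insert_of_mem hx)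
    exact h2)
  refine ⟨E, hE, ?_⟩
  intro a ha
  have h1 : algebraMap S T (f a) = (s : S) • a := hf a ha
  have h2 : a = u * algebraMap S T (f a) := by
    rw [h1, Algebra.smul_def, ← mul_assoc, hus, one_mul]
  rw [SetLike.mem_coe, h2]
  exact E.mul_mem hu (hΦ _ (Finset.mem_image_of_mem f ha))

end Core

end Groth.Agent.Lib.Helper9.ProfInertia
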