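import Mathlib
import Groth.Prelude.Def_W4c1hilbchowincPtFun
import Groth.Prelude.Def_HTop2
import Groth.Agent.Lib.Helper9.PtFunSpec

/-!
# A reduced ring on which DVR-algebraic pointwise functions are sections is seminormal
-/

universe u

set_option linter.unusedSectionVars false
set_option linter.style.haveILetI false

open CategoryTheory AlgebraicGeometry W4c1hilbchowinc

namespace Groth.Agent.Lib.Helper9.PtFunSemi

open Groth.Agent.Lib.Helper9.PtFunSpec

variable (A : Type u) [CommRing A]

theorem eq_of_forall_ev_eq [IsReduced A] {u v : A}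
    (h : ∀ p : Spec (CommRingCat.of A), ev A p u = ev A p v) : u = v := by
  have hnil : IsNilpotent (u - v) := by
    rw [nilpotent_iff_mem_prime]
    intro J hJ
    exact (ev_eq_zero_iff A (⟨J, hJ⟩ : PrimeSpectrum A) (u - v)).1 (by
      rw [map_sub, h, sub_self])
  exact sub_eq_zero.1 hnil.eq_zero

theorem seminormal_of_forall [IsReduced A]
    (h : ∀ f : PtFun (Spec (CommRingCat.of A)), f.VariesAlongDVR →
      ∃! a : Γ(Spec (CommRingCat.of A), ⊤), PtFun.ofSection (Spec (CommRingCat.of A)) a = f) :
    HTop.IsSeminormalRing A := by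
  classical
  intro x y hxy
  have huniq : ∀ a b : A, a ^ 2 = b ^ 2 → a ^ 3 = b ^ 3 → a = b := by
    intro a b h2 h3
    have h0 : (a - b) ^ 3 = 0 := by
      linear_combination 4 * h3 - 3 * (a + b) * h2
    exact sub_eq_zero.1 (IsReduced.eq_zero _ ⟨3, h0⟩)
  let f : PtFun (Spec (CommRingCat.of A)) := fun p =>
    if ev A p x = 0 then 0 else ev A p y / ev A p x
  have hrel : ∀ p : Spec (CommRingCat.of A), ev A p x ^ 3 = ev A p y ^ 2 := fun p => by
    rw [← map_pow, ← map_pow, hxy]
  have hf0 : ∀ p : Spec (CommRingCat.of A), ev A p x = 0 → f p = 0 := fun p hp => if_pos hp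
  have hf1 : ∀ p : Spec (CommRingCat.of A), ev A p x ≠ 0 → f p = ev A p y / ev A p x :=
    fun p hp => if_neg hp
  have hf2 : ∀ p : Spec (CommRingCat.of A), f p ^ 2 = ev A p x := by
    intro p
    by_cases hp : ev A p x = 0
    · rw [hf0 p hp, hp]
      ring
    · rw [hf1 p hp, div_pow, ← hrel p]
      field_simp
  have hf3 : ∀ p : Spec (CommRingCat.of A), f p ^ 3 = ev A p y := by
    intro p
    by_cases hp : ev A p x = 0
    · have hy0 : ev A p y = 0 := by
        have := hrel p
        rw [hp, zero_pow (by norm_num)] at this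
        exact pow_eq_zero_iff (n := 2) (by norm_num) |>.1 this.symm
      rw [hf0 p hp, hy0]
      ring
    · rw [hf1 p hp, div_pow]
      have : ev A p y ^ 3 = ev A p y * ev A p x ^ 3 := by
        rw [hrel p]
        ring
      rw [this]
      field_simp
  have hvar : f.VariesAlongDVR := by
    intro R _ _ _ g
    obtain ⟨ψ, rfl⟩ := Spec.map_surjective g
    obtain ⟨φ, rfl⟩ : ∃ φ : A →+* R, ψ = CommRingCat.ofHom φ := ⟨ψ.hom, rfl⟩
    have hφ : φ x ^ 3 = φ y ^ 2 := by
      rw [← map_pow, ← map_pow, hxy]
    obtain ⟨s₀, hs₀x, hs₀2⟩ : ∃ s₀ : R, s₀ * φ x = φ y ∧ s₀ ^ 2 = φ x := by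
      by_cases hx0 : φ x = 0
      · refine ⟨0, ?_, ?_⟩
        · rw [hx0, zero_pow (by norm_num)] at hφ
          rw [zero_mul]
          exact (pow_eq_zero_iff (n := 2) (by norm_num) |>.1 hφ.symm).symm
        · rw [hx0]
          ring
      · have hxK : algebraMap R (FractionRing R) (φ x) ≠ 0 := by
          rwa [Ne, map_eq_zero_iff _ (IsFractionRing.injective R (FractionRing R))]
        have hc2 : (algebraMap R (FractionRing R) (φ y) / algebraMap R (FractionRing R) (φ x)) ^ 2
            = algebraMap R (FractionRing R) (φ x) := by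
          rw [div_pow, ← map_pow, ← hφ, map_pow]
          field_simp
        have hint : IsIntegral R
            (algebraMap R (FractionRing R) (φ y) / algebraMap R (FractionRing R) (φ x)) := by
          refine ⟨Polynomial.X ^ 2 - Polynomial.C (φ x),
            Polynomial.monic_X_pow_sub_C _ (by norm_num), ?_⟩
          rw [Polynomial.eval₂_sub, Polynomial.eval₂_pow, Polynomial.eval₂_X, Polynomial.eval₂_C,
            hc2, sub_self]
        obtain ⟨s₀, hs₀⟩ := IsIntegrallyClosed.algebraMap_eq_of_integral hint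
        have h1 : s₀ * φ x = φ y := by
          apply IsFractionRing.injective R (FractionRing R)
          rw [map_mul, hs₀]
          field_simp
        refine ⟨s₀, h1, ?_⟩
        apply IsFractionRing.injective R (FractionRing R)
        rw [map_pow, hs₀, hc2]
    refine ⟨(Scheme.ΓSpecIso (CommRingCat.of R)).inv s₀, ?_⟩
    funext y'
    change ev R y' s₀ = (Spec.map (CommRingCat.ofHom φ)).residueFieldMap y'
      (f ((Spec.map (CommRingCat.ofHom φ)) y'))
    have hinj : Function.Injective ((Spec.map (CommRingCat.ofHom φ)).residueFieldMap y') :=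
      ((Spec.map (CommRingCat.ofHom φ)).residueFieldMap y').hom.injective
    by_cases hp : ev A ((Spec.map (CommRingCat.ofHom φ)) y') x = 0
    · rw [hf0 _ hp, map_zero]
      have h1 : ev R y' (φ x) = 0 := by
        rw [← residueFieldMap_ev, hp, map_zero]
      have h2 : ev R y' s₀ ^ 2 = 0 := by
        rw [← map_pow, hs₀2, h1]
      exact pow_eq_zero_iff (n := 2) (by norm_num) |>.1 h2
    · rw [hf1 _ hp, map_div₀, residueFieldMap_ev, residueFieldMap_ev]
      have h1 : ev R y' (φ x) ≠ 0 := by
        rw [← residueFieldMap_ev]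
        exact fun h0 => hp (hinj (h0.trans (map_zero _).symm))
      rw [eq_div_iff h1, ← map_mul, hs₀x]
  obtain ⟨a, ha, -⟩ := h f hvar
  have hval : ∀ p : Spec (CommRingCat.of A),
      ev A p ((Scheme.ΓSpecIso (CommRingCat.of A)).hom a) = f p := by
    intro p
    rw [ev_hom]
    exact congrFun ha p
  refine ⟨(Scheme.ΓSpecIso (CommRingCat.of A)).hom a, ⟨?_, ?_⟩, ?_⟩
  · apply eq_of_forall_ev_eq
    intro p
    rw [map_pow, hval, hf2]
  · apply eq_of_forall_ev_eq
    intro p
    rw [map_pow, hval, hf3]
  · rintro b ⟨hb2, hb3⟩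
    refine huniq _ _ ?_ ?_
    · rw [← hb2]
      apply eq_of_forall_ev_eq
      intro p
      rw [map_pow, hval, hf2]
    · rw [← hb3]
      apply eq_of_forall_ev_eq
      intro p
      rw [map_pow, hval, hf3]

end Groth.Agent.Lib.Helper9.PtFunSemi
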