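import Mathlib

/-!
# Residue field extensions of finite morphisms are finite
-/

universe u

set_option linter.unusedSectionVars false
set_option linter.style.haveILetI false

namespace Groth.Agent.Lib.Helper9.ResidueFinite

open AlgebraicGeometry CategoryTheory

/-- field-level: a finite algebra mapping onto a generating set makes the extension finite. -/
theorem finiteDimensional_of_adjoin_range {K L B : Type u} [Field K] [Field L] [Algebra K L]
    [CommRing B] [Algebra K B] [Module.Finite K B] (β : B →ₐ[K] L)
    (hgen : IntermediateField.adjoin K (Set.range β) = ⊤) : FiniteDimensional K L := by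
  have hint : ∀ b : B, IsIntegral K (β b) := fun b =>
    (Algebra.IsIntegral.isIntegral (R := K) b).map β
  have h1 : (IntermediateField.adjoin K (Set.range β)).toSubalgebra =
      Algebra.adjoin K (Set.range β) :=
    IntermediateField.adjoin_toSubalgebra_of_isAlgebraic (by
      rintro _ ⟨b, rfl⟩
      exact (hint b).isAlgebraic)
  have h2 : Algebra.adjoin K (Set.range β) = β.range := by
    apply le_antisymm
    · exact Algebra.adjoin_le (by rintro _ ⟨b, rfl⟩; exact ⟨b, rfl⟩)
    · rintro _ ⟨b, rfl⟩
      exact Algebra.subset_adjoin ⟨b, rfl⟩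
  have h3 : β.range = ⊤ := by
    rw [← h2, ← h1, hgen]; rfl
  have hsurj : Function.Surjective β := fun x => by
    have : x ∈ β.range := h3 ▸ Algebra.mem_top
    exact this
  exact Module.Finite.of_surjective β.toLinearMap hsurj

theorem finite_residueFieldMap {X Y : Scheme.{u}} (f : Y ⟶ X) [IsFinite f] (y : Y) :
    letI : Algebra (X.residueField (f.base y)) (Y.residueField y) :=
      (f.residueFieldMap y).hom.toAlgebra
    FiniteDimensional (X.residueField (f.base y)) (Y.residueField y) := by
  classical
  letI algKL : Algebra (X.residueField (f.base y)) (Y.residueField y) :=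
    (f.residueFieldMap y).hom.toAlgebra
  set l := X.fromSpecResidueField (f.base y) with hl
  let g : Limits.pullback f l ⟶ Spec (X.residueField (f.base y)) := Limits.pullback.snd f l
  haveI : IsFinite g := inferInstance
  haveI : IsAffine (Limits.pullback f l) := isAffine_of_isAffineHom g
  have hcompat : Y.fromSpecResidueField y ≫ f = Spec.map (f.residueFieldMap y) ≫ l :=
    (Scheme.Hom.SpecMap_residueFieldMap_fromSpecResidueField f y).symm
  let m₀ : Spec (Y.residueField y) ⟶ Limits.pullback f l :=
    Limits.pullback.lift (Y.fromSpecResidueField y) (Spec.map (f.residueFieldMap y)) hcompat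
  let ψ : X.residueField (f.base y) ⟶ Γ(Limits.pullback f l, ⊤) :=
    Spec.preimage ((Limits.pullback f l).isoSpec.inv ≫ g)
  have hψ : Spec.map ψ = (Limits.pullback f l).isoSpec.inv ≫ g := Spec.map_preimage _
  let β' : Γ(Limits.pullback f l, ⊤) ⟶ Y.residueField y :=
    Spec.preimage (m₀ ≫ (Limits.pullback f l).isoSpec.hom)
  have hβ' : Spec.map β' = m₀ ≫ (Limits.pullback f l).isoSpec.hom := Spec.map_preimage _
  have hfin : ψ.hom.Finite := by
    rw [← IsFinite.SpecMap_iff, hψ]; infer_instance
  have hψβ : ψ ≫ β' = f.residueFieldMap y := by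
    apply Spec.map_injective
    rw [Spec.map_comp, hψ, hβ', Category.assoc, Iso.hom_inv_id_assoc]
    exact Limits.pullback.lift_snd _ _ _
  letI algKB : Algebra (X.residueField (f.base y)) Γ(Limits.pullback f l, ⊤) := ψ.hom.toAlgebra
  haveI : Module.Finite (X.residueField (f.base y)) Γ(Limits.pullback f l, ⊤) := hfin
  let β : Γ(Limits.pullback f l, ⊤) →ₐ[X.residueField (f.base y)] Y.residueField y :=
    { β'.hom with
      commutes' := fun a => congrArg (fun h => h.hom a) hψβ }
  refine finiteDimensional_of_adjoin_range β ?_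
  set E := IntermediateField.adjoin (X.residueField (f.base y)) (Set.range β) with hE
  let βE : Γ(Limits.pullback f l, ⊤) →+* E :=
    β'.hom.codRestrict E (fun b => IntermediateField.subset_adjoin _ _ ⟨b, rfl⟩)
  let ι : E →+* Y.residueField y := algebraMap E (Y.residueField y)
  have hβEι : CommRingCat.ofHom βE ≫ CommRingCat.ofHom ι = β' := by
    ext b; rfl
  let nE : Spec (CommRingCat.of E) ⟶ Y :=
    Spec.map (CommRingCat.ofHom βE) ≫ (Limits.pullback f l).isoSpec.inv ≫
      Limits.pullback.fst f l
  have hnE : Spec.map (CommRingCat.ofHom ι) ≫ nE = Y.fromSpecResidueField y := by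
    show Spec.map (CommRingCat.ofHom ι) ≫ Spec.map (CommRingCat.ofHom βE) ≫
      (Limits.pullback f l).isoSpec.inv ≫ Limits.pullback.fst f l = _
    rw [← Spec.map_comp_assoc, hβEι, hβ', Category.assoc, Iso.hom_inv_id_assoc]
    exact Limits.pullback.lift_fst _ _ _
  obtain ⟨y', hy', σ', hσ'⟩ : ∃ y' : Y, y' = y ∧ ∃ σ' : Y.residueField y' ⟶ CommRingCat.of E,
      Spec.map σ' ≫ Y.fromSpecResidueField y' = nE := by
    refine ⟨nE (IsLocalRing.closedPoint E), ?_,
      Y.descResidueField (Scheme.stalkClosedPointTo nE),
      Scheme.descResidueField_stalkClosedPointTo_fromSpecResidueField E Y nE⟩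
    have h1 : (Spec.map (CommRingCat.ofHom ι)) (IsLocalRing.closedPoint (Y.residueField y)) =
        IsLocalRing.closedPoint E := Subsingleton.elim _ _
    rw [← h1, ← Scheme.Hom.comp_apply, hnE, Scheme.fromSpecResidueField_apply]
  subst hy'
  have h2 : Spec.map (CommRingCat.ofHom ι) ≫ Spec.map σ' = 𝟙 _ := by
    rw [← cancel_mono (Y.fromSpecResidueField y'), Category.assoc, hσ', hnE, Category.id_comp]
  rw [← Spec.map_comp, ← Spec.map_id] at h2
  have h3 : σ' ≫ CommRingCat.ofHom ι = 𝟙 _ := Spec.map_injective h2
  rw [eq_top_iff]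
  intro z _
  have h4 : ι (σ'.hom z) = z := congrArg (fun h => h.hom z) h3
  rw [← h4]
  exact (σ'.hom z).2

theorem isSeparable_residueFieldMap {X Y : Scheme.{u}} (f : Y ⟶ X) [Etale f] (y : Y) :
    letI : Algebra (X.residueField (f.base y)) (Y.residueField y) :=
      (f.residueFieldMap y).hom.toAlgebra
    Algebra.IsSeparable (X.residueField (f.base y)) (Y.residueField y) :=
  inferInstance

end Groth.Agent.Lib.Helper9.ResidueFinite
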