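import Mathlib

/-!
# Purity of `Q₀ ⊗ N' → Q ⊗ N'` for localizations (piece of RCM for S4911)
-/

set_option autoImplicit false

universe u

open TensorProduct

namespace Groth.Agent.Lib.Helper9.SDMPUR

theorem purity {A : Type u} [CommRing A] {P₀ P : Type u} [CommRing P₀] [CommRing P]
    [Algebra A P₀] [Algebra A P] (ι : P₀ →ₐ[A] P) (b₀ : P₀)
    {Q₀ Q : Type u} [CommRing Q₀] [CommRing Q] [Algebra P₀ Q₀] [Algebra P Q] [Algebra A Q₀]
    [Algebra A Q] [IsScalarTower A P₀ Q₀] [IsScalarTower A P Q] [IsLocalization.Away b₀ Q₀]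
    [IsLocalization.Away (ι b₀) Q]
    (j : Q₀ →ₐ[A] Q) (hj : ∀ p, j (algebraMap P₀ Q₀ p) = algebraMap P Q (ι p))
    (N' : Type u) [AddCommGroup N'] [Module A N']
    (hinj : Function.Injective (ι.toLinearMap.rTensor N'))
    (z : Q₀ ⊗[A] N') (hz : j.toLinearMap.rTensor N' z = 0) : z = 0 := by
  set g₀ := AlgebraTensorModule.rTensor A N' (Algebra.linearMap P₀ Q₀) with hg₀
  set g := AlgebraTensorModule.rTensor A N' (Algebra.linearMap P Q) with hg
  haveI loc₀ : IsLocalizedModule (Submonoid.powers b₀) g₀ := inferInstance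
  haveI loc : IsLocalizedModule (Submonoid.powers (ι b₀)) g := inferInstance
  -- compatibilities
  have hsq : ∀ y : P₀ ⊗[A] N', j.toLinearMap.rTensor N' (g₀ y) = g (ι.toLinearMap.rTensor N' y) := by
    intro y
    induction y using TensorProduct.induction_on with
    | zero => simp
    | tmul p n =>
      simp only [hg₀, hg, AlgebraTensorModule.rTensor_tmul, LinearMap.rTensor_tmul,
        Algebra.linearMap_apply, AlgHom.toLinearMap_apply, hj]
    | add x y hx hy => simp only [map_add, hx, hy]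
  have hjs : ∀ (p : P₀) (z : Q₀ ⊗[A] N'),
      j.toLinearMap.rTensor N' (p • z) = ι p • j.toLinearMap.rTensor N' z := by
    intro p z
    induction z using TensorProduct.induction_on with
    | zero => simp
    | tmul q n =>
      rw [TensorProduct.smul_tmul', LinearMap.rTensor_tmul, LinearMap.rTensor_tmul,
        TensorProduct.smul_tmul', AlgHom.toLinearMap_apply, AlgHom.toLinearMap_apply,
        Algebra.smul_def, map_mul, hj, ← Algebra.smul_def]
    | add x y hx hy => simp only [smul_add, map_add, hx, hy]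
  have hιs : ∀ (p : P₀) (y : P₀ ⊗[A] N'),
      ι.toLinearMap.rTensor N' (p • y) = ι p • ι.toLinearMap.rTensor N' y := by
    intro p y
    induction y using TensorProduct.induction_on with
    | zero => simp
    | tmul q n =>
      rw [TensorProduct.smul_tmul', LinearMap.rTensor_tmul, LinearMap.rTensor_tmul,
        TensorProduct.smul_tmul', AlgHom.toLinearMap_apply, AlgHom.toLinearMap_apply,
        smul_eq_mul, map_mul, smul_eq_mul]
    | add x y hx hy => simp only [smul_add, map_add, hx, hy]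
  obtain ⟨⟨y₀, s⟩, hy₀⟩ := IsLocalizedModule.surj (Submonoid.powers b₀) g₀ z
  obtain ⟨s, n, rfl⟩ := s
  have hy₀' : b₀ ^ n • z = g₀ y₀ := hy₀
  have h1 : g (ι.toLinearMap.rTensor N' y₀) = 0 := by
    rw [← hsq, ← hy₀', hjs, hz, smul_zero]
  obtain ⟨⟨t, m, rfl⟩, ht⟩ := (IsLocalizedModule.eq_zero_iff (Submonoid.powers (ι b₀)) g).mp h1
  have ht' : ι b₀ ^ m • ι.toLinearMap.rTensor N' y₀ = 0 := ht
  have h2 : b₀ ^ m • y₀ = 0 := by
    apply hinj
    rw [hιs, map_pow, ht', map_zero]
  have h3 : b₀ ^ (m + n) • z = 0 := by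
    rw [pow_add, mul_smul, hy₀', ← map_smul, h2, map_zero]
  have hu := IsLocalizedModule.map_units (S := Submonoid.powers b₀) g₀ ⟨b₀ ^ (m + n), m + n, rfl⟩
  have hinj' := ((Module.End.isUnit_iff _).mp hu).injective
  apply hinj'
  rw [map_zero]
  exact h3

end Groth.Agent.Lib.Helper9.SDMPUR
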