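import Mathlib
import Groth.Agent.S4875
import Groth.Agent.Lib.Helper9.SDMPUR

/-!
# `RCM` for S4911 (helper78's call, msg 4616)
-/

set_option autoImplicit false
set_option linter.style.haveILetI false

universe u

open TensorProduct

namespace Groth.Agent.Lib.Helper9.SDMRCM

section pieces
variable {K : Type u} [Field K] (A : Type u) [CommRing A] [Algebra K A] {R : Type u} [CommRing R]
  [Algebra K R]

/-- `A ⊗ R₀ → A ⊗ R` as an `A`-algebra map. -/
noncomputable abbrev inclA (R₀ : Subalgebra K R) : A ⊗[K] R₀ →ₐ[A] A ⊗[K] R :=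
  Algebra.TensorProduct.map (AlgHom.id A A) R₀.val

noncomputable abbrev trA {R₁ R₂ : Subalgebra K R} (h : R₁ ≤ R₂) : A ⊗[K] R₁ →ₐ[A] A ⊗[K] R₂ :=
  Algebra.TensorProduct.map (AlgHom.id A A) (Subalgebra.inclusion h)

theorem inclA_trA {R₁ R₂ : Subalgebra K R} (h : R₁ ≤ R₂) (z : A ⊗[K] R₁) :
    inclA A R₂ (trA A h z) = inclA A R₁ z := by
  induction z using TensorProduct.induction_on with
  | zero => simp
  | tmul a r => simp [inclA, trA]
  | add x y hx hy => simp only [map_add, hx, hy]

theorem exists_fin (c : A ⊗[K] R) :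
    ∃ (S : Finset R) (c₀ : A ⊗[K] Algebra.adjoin K (S : Set R)),
      inclA A (Algebra.adjoin K (S : Set R)) c₀ = c := by
  classical
  induction c using TensorProduct.induction_on with
  | zero => exact ⟨∅, 0, map_zero _⟩
  | tmul a r =>
    refine ⟨{r}, a ⊗ₜ ⟨r, Algebra.subset_adjoin (by simp)⟩, by simp [inclA]⟩
  | add x y hx hy =>
    obtain ⟨S₁, x₀, hx₀⟩ := hx
    obtain ⟨S₂, y₀, hy₀⟩ := hy
    have h1 : Algebra.adjoin K (S₁ : Set R) ≤ Algebra.adjoin K ((S₁ ∪ S₂ : Finset R) : Set R) :=
      Algebra.adjoin_mono (by simp)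
    have h2 : Algebra.adjoin K (S₂ : Set R) ≤ Algebra.adjoin K ((S₁ ∪ S₂ : Finset R) : Set R) :=
      Algebra.adjoin_mono (by simp)
    refine ⟨S₁ ∪ S₂, trA A h1 x₀ + trA A h2 y₀, ?_⟩
    rw [map_add, inclA_trA, inclA_trA, hx₀, hy₀]

variable {A}
variable {Bp : Type u} [CommRing Bp] [Algebra A Bp] (Θ : A ⊗[K] R →ₐ[A] Bp)
  (M : Type u) [AddCommGroup M] [Module A M]

theorem rTensor_trA {R₁ R₂ : Subalgebra K R} (h : R₁ ≤ R₂) (y : (A ⊗[K] R₁) ⊗[A] M) :
    (Θ.comp (inclA A R₂)).toLinearMap.rTensor M ((trA A h).toLinearMap.rTensor M y) =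
      (Θ.comp (inclA A R₁)).toLinearMap.rTensor M y := by
  induction y using TensorProduct.induction_on with
  | zero => simp
  | tmul c m =>
    simp only [LinearMap.rTensor_tmul, AlgHom.toLinearMap_apply, AlgHom.comp_apply, inclA_trA]
  | add x y hx hy => simp only [map_add, hx, hy]

theorem exists_lift (hΘ : Function.Surjective Θ) (y : Bp ⊗[A] M) :
    ∃ (S : Finset R) (y₀ : (A ⊗[K] Algebra.adjoin K (S : Set R)) ⊗[A] M),
      (Θ.comp (inclA A (Algebra.adjoin K (S : Set R)))).toLinearMap.rTensor M y₀ = y := by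
  classical
  induction y using TensorProduct.induction_on with
  | zero => exact ⟨∅, 0, map_zero _⟩
  | tmul β m =>
    obtain ⟨c, rfl⟩ := hΘ β
    obtain ⟨S, c₀, hc₀⟩ := exists_fin A c
    refine ⟨S, c₀ ⊗ₜ m, ?_⟩
    simp only [LinearMap.rTensor_tmul, AlgHom.toLinearMap_apply, AlgHom.comp_apply, hc₀]
  | add x y hx hy =>
    obtain ⟨S₁, x₀, hx₀⟩ := hx
    obtain ⟨S₂, y₀, hy₀⟩ := hy
    have h1 : Algebra.adjoin K (S₁ : Set R) ≤ Algebra.adjoin K ((S₁ ∪ S₂ : Finset R) : Set R) :=
      Algebra.adjoin_mono (by simp)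
    have h2 : Algebra.adjoin K (S₂ : Set R) ≤ Algebra.adjoin K ((S₁ ∪ S₂ : Finset R) : Set R) :=
      Algebra.adjoin_mono (by simp)
    refine ⟨S₁ ∪ S₂, (trA A h1).toLinearMap.rTensor M x₀ + (trA A h2).toLinearMap.rTensor M y₀, ?_⟩
    rw [map_add, rTensor_trA, rTensor_trA, hx₀, hy₀]

/-- injectivity of `(Θ ∘ incl) ⊗ N'` when `Θ` is bijective. -/
theorem rTensor_injective (hΘ : Function.Bijective Θ) (R₀ : Subalgebra K R)
    (N' : Type u) [AddCommGroup N'] [Module A N'] :
    Function.Injective ((Θ.comp (inclA A R₀)).toLinearMap.rTensor N') := by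
  obtain ⟨π, hπ⟩ := LinearMap.exists_leftInverse_of_injective R₀.val.toLinearMap
    (LinearMap.ker_eq_bot.mpr Subtype.val_injective)
  let ΘE : (A ⊗[K] R) ≃ₗ[A] Bp := LinearEquiv.ofBijective Θ.toLinearMap hΘ
  have hπ' : ∀ c : A ⊗[K] R₀, π.baseChange A (inclA A R₀ c) = c := by
    intro c
    induction c using TensorProduct.induction_on with
    | zero => simp
    | tmul a r =>
      have : π (R₀.val.toLinearMap r) = r := by
        rw [← LinearMap.comp_apply, hπ, LinearMap.id_apply]
      simp only [inclA, Algebra.TensorProduct.map_tmul, AlgHom.coe_id, id_eq,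
        LinearMap.baseChange_tmul]
      rw [show (R₀.val r : R) = R₀.val.toLinearMap r from rfl, this]
    | add x y hx hy => simp only [map_add, hx, hy]
  have hL : Function.LeftInverse
      (((π.baseChange A).rTensor N').comp (ΘE.symm.toLinearMap.rTensor N'))
      ((Θ.comp (inclA A R₀)).toLinearMap.rTensor N') := by
    intro w
    induction w using TensorProduct.induction_on with
    | zero => simp
    | tmul c n =>
      simp only [LinearMap.rTensor_tmul, LinearMap.comp_apply, AlgHom.toLinearMap_apply,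
        AlgHom.comp_apply, LinearEquiv.coe_coe]
      have : ΘE.symm (Θ (inclA A R₀ c)) = inclA A R₀ c :=
        ΘE.symm_apply_apply (inclA A R₀ c)
      rw [this, hπ']
    | add x y hx hy => simp only [map_add, hx, hy]
  exact hL.injective

end pieces

set_option maxHeartbeats 4000000 in
theorem RCM {K : Type u} [Field K] {A R : Type u} [CommRing A] [Algebra K A] [CommRing R]
    [Algebra K R] {Bp Bu : Type u} [CommRing Bp] [CommRing Bu] [Algebra Bp Bu] [Algebra A Bu]
    (θ : A ⊗[K] R ≃+* Bp) (b' : Bp) [IsLocalization.Away b' Bu]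
    (hA : ∀ a : A, algebraMap A Bu a = algebraMap Bp Bu (θ (a ⊗ₜ[K] (1 : R))))
    {M : Type u} [AddCommGroup M] [Module A M] {Λ : Type u} (N : Λ → Type u)
    [∀ i, AddCommGroup (N i)] [∀ i, Module A (N i)] (φ : ∀ i, M →ₗ[A] N i)
    (hSL : ∀ (g : A) (x : M), (∀ i, ∃ m : ℕ, g ^ m • φ i x = 0) → ∃ m : ℕ, g ^ m • x = 0)
    (x : Bu ⊗[A] M) (hx : ∀ i, LinearMap.lTensor Bu (φ i) x = 0) : x = 0 := by
  classical
  letI algABp : Algebra A Bp :=
    (θ.toRingHom.comp (Algebra.TensorProduct.includeLeftRingHom : A →+* A ⊗[K] R)).toAlgebra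
  have halg : ∀ a : A, algebraMap A Bp a = θ (a ⊗ₜ[K] (1 : R)) := fun a => rfl
  haveI : IsScalarTower A Bp Bu := IsScalarTower.of_algebraMap_eq (fun a => by rw [hA, halg])
  let Θ : A ⊗[K] R →ₐ[A] Bp := { θ.toRingHom with commutes' := fun a => rfl }
  have hΘ : Function.Bijective Θ := θ.bijective
  have hΘapp : ∀ c, Θ c = θ c := fun c => rfl
  -- localized module structure
  set g := AlgebraTensorModule.rTensor A M (Algebra.linearMap Bp Bu) with hg
  haveI : IsLocalizedModule (Submonoid.powers b') g := inferInstance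
  obtain ⟨⟨y, s⟩, hy⟩ := IsLocalizedModule.surj (Submonoid.powers b') g x
  obtain ⟨s, n, rfl⟩ := s
  have hy' : b' ^ n • x = g y := hy
  -- descend to a f.g. subalgebra
  obtain ⟨S₁, b₁, hb₁⟩ := exists_fin A (θ.symm b')
  obtain ⟨S₂, y₂, hy₂⟩ := exists_lift Θ M hΘ.2 y
  set R₀ : Subalgebra K R := Algebra.adjoin K ((S₁ ∪ S₂ : Finset R) : Set R) with hR₀
  have h1 : Algebra.adjoin K (S₁ : Set R) ≤ R₀ := Algebra.adjoin_mono (by simp)
  have h2 : Algebra.adjoin K (S₂ : Set R) ≤ R₀ := Algebra.adjoin_mono (by simp)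
  set b₀ : A ⊗[K] R₀ := trA A h1 b₁ with hb₀
  set y₀ : (A ⊗[K] R₀) ⊗[A] M := (trA A h2).toLinearMap.rTensor M y₂ with hy₀
  set ι : A ⊗[K] R₀ →ₐ[A] Bp := Θ.comp (inclA A R₀) with hι
  have hιb : ι b₀ = b' := by
    rw [hι, AlgHom.comp_apply, hb₀, inclA_trA, hb₁, hΘapp, RingEquiv.apply_symm_apply]
  have hιy : ι.toLinearMap.rTensor M y₀ = y := by
    rw [hι, hy₀, rTensor_trA, hy₂]
  -- the f.p. flat A-algebra B₀
  haveI : Algebra.FiniteType K R₀ :=
    (Subalgebra.fg_iff_finiteType _).mp (Subalgebra.fg_adjoin_finset _)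
  haveI : Algebra.FinitePresentation K R₀ :=
    Algebra.FinitePresentation.of_finiteType.mp inferInstance
  haveI : Algebra.FinitePresentation A (A ⊗[K] R₀) := Algebra.FinitePresentation.baseChange A
  haveI : Algebra.FinitePresentation (A ⊗[K] R₀) (Localization.Away b₀) :=
    IsLocalization.Away.finitePresentation b₀
  haveI : Algebra.FinitePresentation A (Localization.Away b₀) :=
    Algebra.FinitePresentation.trans A (A ⊗[K] R₀) _
  haveI : Module.Flat (A ⊗[K] R₀) (Localization.Away b₀) :=
    IsLocalization.flat _ (Submonoid.powers b₀)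
  haveI : Module.Flat A (Localization.Away b₀) := Module.Flat.trans A (A ⊗[K] R₀) _
  -- the map j : B₀ → Bu
  have hunit : IsUnit (((algebraMap Bp Bu).comp ι.toRingHom) b₀) := by
    show IsUnit (algebraMap Bp Bu (ι b₀))
    rw [hιb]
    exact IsLocalization.Away.algebraMap_isUnit b'
  let jr : Localization.Away b₀ →+* Bu := IsLocalization.Away.lift b₀ hunit
  have hjr : ∀ p, jr (algebraMap (A ⊗[K] R₀) (Localization.Away b₀) p) =
      algebraMap Bp Bu (ι p) := fun p => IsLocalization.Away.lift_eq b₀ hunit p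
  let j : Localization.Away b₀ →ₐ[A] Bu :=
    { jr with
      commutes' := fun a => by
        show jr (algebraMap A (Localization.Away b₀) a) = algebraMap A Bu a
        rw [IsScalarTower.algebraMap_apply A (A ⊗[K] R₀) (Localization.Away b₀), hjr,
          AlgHom.commutes, ← IsScalarTower.algebraMap_apply] }
  have hj : ∀ p, j (algebraMap (A ⊗[K] R₀) (Localization.Away b₀) p) =
      algebraMap Bp Bu (ι p) := hjr
  haveI : IsLocalization.Away (ι b₀) Bu := by rw [hιb]; infer_instance
  -- x₀
  set x₀ : Localization.Away b₀ ⊗[A] M :=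
    (IsScalarTower.toAlgHom A (A ⊗[K] R₀) (Localization.Away b₀)).toLinearMap.rTensor M y₀
    with hx₀
  have hjx₀ : j.toLinearMap.rTensor M x₀ = g y := by
    rw [hx₀, ← hιy]
    generalize y₀ = w
    induction w using TensorProduct.induction_on with
    | zero => simp
    | tmul c m =>
      simp only [hg, LinearMap.rTensor_tmul, AlgHom.toLinearMap_apply,
        IsScalarTower.coe_toAlgHom', AlgebraTensorModule.rTensor_tmul, Algebra.linearMap_apply, hj]
    | add x y hx hy => simp only [map_add, hx, hy]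
  -- vanishing of (id ⊗ φ i) x₀ by purity
  have hsm : ∀ (i : Λ) (β : Bp) (w : Bu ⊗[A] M),
      LinearMap.lTensor Bu (φ i) (β • w) = β • LinearMap.lTensor Bu (φ i) w := by
    intro i β w
    induction w using TensorProduct.induction_on with
    | zero => simp
    | tmul q m =>
      rw [TensorProduct.smul_tmul', LinearMap.lTensor_tmul, LinearMap.lTensor_tmul,
        TensorProduct.smul_tmul']
    | add x y hx hy => simp only [smul_add, map_add, hx, hy]
  have hcomm : ∀ (i : Λ) (w : Localization.Away b₀ ⊗[A] M),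
      j.toLinearMap.rTensor (N i) (LinearMap.lTensor (Localization.Away b₀) (φ i) w) =
        LinearMap.lTensor Bu (φ i) (j.toLinearMap.rTensor M w) := by
    intro i w
    induction w using TensorProduct.induction_on with
    | zero => simp
    | tmul q m => simp only [LinearMap.lTensor_tmul, LinearMap.rTensor_tmul]
    | add x y hx hy => simp only [map_add, hx, hy]
  have hvan : ∀ i, LinearMap.lTensor (Localization.Away b₀) (φ i) x₀ = 0 := by
    intro i
    refine Groth.Agent.Lib.Helper9.SDMPUR.purity ι b₀ j hj (N i)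
      (rTensor_injective Θ hΘ R₀ (N i)) _ ?_
    rw [hcomm, hjx₀, ← hy', hsm, hx i, smul_zero]
  -- apply sep_aux
  obtain ⟨l, hl, hfree⟩ := Groth.Agent.S2591.result (A := A) (B := Localization.Away b₀)
    (Localization.Away b₀)
  have hswap : ∀ (i : Λ) (w : Localization.Away b₀ ⊗[A] M),
      (φ i).rTensor (Localization.Away b₀) (TensorProduct.comm A (Localization.Away b₀) M w) =
        TensorProduct.comm A (Localization.Away b₀) (N i)
          (LinearMap.lTensor (Localization.Away b₀) (φ i) w) := by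
    intro i w
    induction w using TensorProduct.induction_on with
    | zero => simp
    | tmul q m => simp only [TensorProduct.comm_tmul, LinearMap.rTensor_tmul,
        LinearMap.lTensor_tmul]
    | add x y hx hy => simp only [map_add, hx, hy]
  have key := Groth.Agent.S4875.sep_aux (A := A) (Localization.Away b₀) l hl hfree Λ l.length 0
    (by simp) M N φ
    (by
      intro a ha p
      have : a = 0 := by simpa using ha
      rw [this, zero_smul])
    (by
      intro j a ha p
      have : a = 0 := by simpa using ha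
      rw [this, zero_smul])
    hSL (TensorProduct.comm A (Localization.Away b₀) M x₀)
    (fun i => by rw [hswap, hvan i, map_zero])
  have hx₀0 : x₀ = 0 := by
    simpa using key
  -- conclude
  have h3 : b' ^ n • x = 0 := by
    rw [hy', ← hjx₀, hx₀0, map_zero]
  have hu := IsLocalizedModule.map_units (S := Submonoid.powers b') g ⟨b' ^ n, n, rfl⟩
  have hinj' := ((Module.End.isUnit_iff _).mp hu).injective
  apply hinj'
  rw [map_zero]
  exact h3

end Groth.Agent.Lib.Helper9.SDMRCM
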