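import Mathlib
import Groth.Prelude.Def_EtRam
import Groth.Agent.Lib.Helper9.SolTower
import Groth.Agent.Lib.Helper9.GeomRedTrans

/-!
# Descent of solutions along a formally smooth algebraic base change `A ⊆ A'`
-/

universe u

set_option linter.unusedSectionVars false
set_option linter.style.haveILetI false

namespace Groth.Agent.Lib.Helper9.SolDescent

open Groth.Agent.Lib.Helper9.DvrExt Groth.Agent.Lib.Helper9.DvrTower
  Groth.Agent.Lib.Helper9.DvrSmoothApp Groth.Agent.Lib.Helper9.SolTower
  Groth.Agent.Lib.Helper9.GeomRedTrans Polynomial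

local notation "κ" => IsLocalRing.ResidueField

section Trans

variable {K₂ K₂' M : Type u} [Field K₂] [Field K₂'] [Field M]

/-- weak unramifiedness composes (valuation-subring form). -/
theorem isWeaklyUnramified_comap_trans (W : ValuationSubring M) (f : K₂' →+* M) (g : K₂ →+* K₂')
    (h1 : letI : Algebra ((W.comap f).comap g) (W.comap f) :=
        (EtRam.inclOfComap (W.comap f) g).toAlgebra
      EtRam.IsWeaklyUnramified ((W.comap f).comap g) (W.comap f))
    (h2 : letI : Algebra (W.comap f) W := (EtRam.inclOfComap W f).toAlgebra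
      EtRam.IsWeaklyUnramified (W.comap f) W) :
    letI : Algebra (W.comap (f.comp g)) W := (EtRam.inclOfComap W (f.comp g)).toAlgebra
    EtRam.IsWeaklyUnramified (W.comap (f.comp g)) W := by
  rw [isWeaklyUnramified_comap_iff] at h1 h2 ⊢
  intro x hx
  obtain ⟨a, ha, w, hw, rfl⟩ := h2 x hx
  obtain ⟨c, hc, w', hw', rfl⟩ := h1 a ((valuation_comap_lt_one_iff W f a).2 ha)
  refine ⟨c, ?_, f w' * w, W.mul_mem _ _ hw' hw, ?_⟩
  · rw [RingHom.comp_apply, ← valuation_comap_lt_one_iff W f]
    exact hc
  · rw [RingHom.comp_apply, map_mul]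
    ring

/-- residue fields of an algebraic extension are algebraic (polynomial form). -/
theorem exists_residue_poly (W : ValuationSubring M) (f : K₂' →+* M)
    (halg : ∀ x : M, ∃ p : K₂'[X], p ≠ 0 ∧ p.eval₂ f x = 0) (y : κ W) :
    ∃ q : (κ (W.comap f))[X], q ≠ 0 ∧
      q.eval₂ (IsLocalRing.ResidueField.map (EtRam.inclOfComap W f)) y = 0 := by
  classical
  obtain ⟨w, rfl⟩ := IsLocalRing.residue_surjective y
  obtain ⟨p, hp0, hpw⟩ := halg (w : M)
  have hsupp : p.support.Nonempty := by
    rw [Finset.nonempty_iff_ne_empty, Ne, Polynomial.support_eq_empty]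
    exact hp0
  obtain ⟨i₀, hi₀, hmax⟩ := Finset.exists_max_image p.support
    (fun i => (W.comap f).valuation (p.coeff i)) hsupp
  have hc0 : p.coeff i₀ ≠ 0 := Polynomial.mem_support_iff.1 hi₀
  have hmem : ∀ i, (p.coeff i₀)⁻¹ * p.coeff i ∈ W.comap f := by
    intro i
    by_cases hi : i ∈ p.support
    · rw [← ValuationSubring.valuation_le_one_iff, map_mul, map_inv₀]
      have h1 := hmax i hi
      have hvc : (W.comap f).valuation (p.coeff i₀) ≠ 0 := (Valuation.ne_zero_iff _).2 hc0
      rw [inv_mul_le_iff₀ (zero_lt_iff.2 hvc), mul_one]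
      exact h1
    · rw [Polynomial.notMem_support_iff.1 hi, mul_zero]
      exact (W.comap f).zero_mem
  let a : ℕ → W.comap f := fun i => ⟨(p.coeff i₀)⁻¹ * p.coeff i, hmem i⟩
  let q : (κ (W.comap f))[X] :=
    ∑ i ∈ p.support, Polynomial.monomial i (IsLocalRing.residue (W.comap f) (a i))
  refine ⟨q, ?_, ?_⟩
  · intro hq
    have h1 : q.coeff i₀ = 1 := by
      simp only [q, Polynomial.finset_sum_coeff, Polynomial.coeff_monomial]
      rw [Finset.sum_eq_single i₀]
      · rw [if_pos rfl]
        have : a i₀ = 1 := Subtype.ext (inv_mul_cancel₀ hc0)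
        rw [this, map_one]
      · intro j _ hj
        rw [if_neg hj]
      · intro h
        exact absurd hi₀ h
    rw [hq, Polynomial.coeff_zero] at h1
    exact zero_ne_one h1
  · simp only [q, Polynomial.eval₂_finset_sum, Polynomial.eval₂_monomial,
      IsLocalRing.ResidueField.map_residue, ← map_pow, ← map_mul, ← map_sum]
    have h2 : ∑ i ∈ p.support, EtRam.inclOfComap W f (a i) * w ^ i = 0 := by
      apply Subtype.ext
      rw [AddSubmonoidClass.coe_finset_sum]
      simp only [MulMemClass.coe_mul, EtRam.inclOfComap_apply_coe, SubmonoidClass.coe_pow,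
        ZeroMemClass.coe_zero, a, map_mul]
      rw [Polynomial.eval₂_eq_sum, Polynomial.sum_def] at hpw
      simp only [mul_assoc]
      rw [← Finset.mul_sum, hpw, mul_zero]
    rw [h2, map_zero]

/-- residue fields of an algebraic extension are algebraic. -/
theorem isAlgebraic_residueField_comap (W : ValuationSubring M) (f : K₂' →+* M)
    (halg : ∀ x : M, ∃ p : K₂'[X], p ≠ 0 ∧ p.eval₂ f x = 0) :
    @Algebra.IsAlgebraic (κ (W.comap f)) (κ W) _ _
      (IsLocalRing.ResidueField.map (EtRam.inclOfComap W f)).toAlgebra := by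
  letI : Algebra (κ (W.comap f)) (κ W) :=
    (IsLocalRing.ResidueField.map (EtRam.inclOfComap W f)).toAlgebra
  refine ⟨fun y => ?_⟩
  obtain ⟨q, hq0, hq⟩ := exists_residue_poly W f halg y
  exact ⟨q, hq0, hq⟩

/-- geometric reducedness of residue fields composes when the lower step is algebraic. -/
theorem isGeometricallyReduced_comap_trans (W : ValuationSubring M) (f : K₂' →+* M)
    (g : K₂ →+* K₂') (halg : ∀ x : K₂', ∃ p : K₂[X], p ≠ 0 ∧ p.eval₂ g x = 0)
    (h1 : @Algebra.IsGeometricallyReduced (κ ((W.comap f).comap g)) (κ (W.comap f)) _ _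
      (IsLocalRing.ResidueField.map (EtRam.inclOfComap (W.comap f) g)).toAlgebra)
    (h2 : @Algebra.IsGeometricallyReduced (κ (W.comap f)) (κ W) _ _
      (IsLocalRing.ResidueField.map (EtRam.inclOfComap W f)).toAlgebra) :
    @Algebra.IsGeometricallyReduced (κ (W.comap (f.comp g))) (κ W) _ _
      (IsLocalRing.ResidueField.map (EtRam.inclOfComap W (f.comp g))).toAlgebra := by
  letI alg1 : Algebra (κ ((W.comap f).comap g)) (κ (W.comap f)) :=
    (IsLocalRing.ResidueField.map (EtRam.inclOfComap (W.comap f) g)).toAlgebra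
  letI alg2 : Algebra (κ (W.comap f)) (κ W) :=
    (IsLocalRing.ResidueField.map (EtRam.inclOfComap W f)).toAlgebra
  letI alg3 : Algebra (κ ((W.comap f).comap g)) (κ W) :=
    (IsLocalRing.ResidueField.map (EtRam.inclOfComap W (f.comp g))).toAlgebra
  haveI : IsScalarTower (κ ((W.comap f).comap g)) (κ (W.comap f)) (κ W) :=
    IsScalarTower.of_algebraMap_eq fun r => by
      obtain ⟨r, rfl⟩ := IsLocalRing.residue_surjective r
      rfl
  haveI : Algebra.IsAlgebraic (κ ((W.comap f).comap g)) (κ (W.comap f)) :=
    isAlgebraic_residueField_comap (W.comap f) g halg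
  haveI : Algebra.IsGeometricallyReduced (κ ((W.comap f).comap g)) (κ (W.comap f)) := h1
  haveI : Algebra.IsGeometricallyReduced (κ (W.comap f)) (κ W) := h2
  exact isGeometricallyReduced_trans (κ ((W.comap f).comap g)) (κ (W.comap f)) (κ W)

end Trans

section Core

set_option maxHeartbeats 800000 in
/-- **Descent of solutions**: `A ⊆ A'` formally smooth and algebraic on fraction fields, `K₁'/K'` a
solution for `A' ⊆ B'`; if `K₂/K` is finite and splits the minimal polynomials (over `K`) of a
generating set of `K₁'/K'`, then `K₂/K` is a solution for `A = B' ∩ K ⊆ B'`. -/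
theorem descent_core
    (A A' B' K K' L' : Type u)
    [CommRing A] [IsDomain A] [IsDiscreteValuationRing A]
    [CommRing A'] [IsDomain A'] [IsDiscreteValuationRing A']
    [CommRing B'] [IsDomain B'] [IsDiscreteValuationRing B']
    [Algebra A A'] [IsLocalHom (algebraMap A A')] (hAA' : Function.Injective (algebraMap A A'))
    [Algebra A' B'] [IsLocalHom (algebraMap A' B')] (hA'B' : Function.Injective (algebraMap A' B'))
    [Field K] [Field K'] [Field L'] [Algebra A K] [IsFractionRing A K]
    [Algebra A' K'] [IsFractionRing A' K'] [Algebra B' L'] [IsFractionRing B' L']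
    [Algebra K K'] [Algebra A K'] [IsScalarTower A K K'] [IsScalarTower A A' K']
    [Algebra K' L'] [Algebra A' L'] [IsScalarTower A' K' L'] [IsScalarTower A' B' L']
    [Algebra K L'] [IsScalarTower K K' L']
    [Algebra.IsAlgebraic K K']
    (hw : EtRam.IsWeaklyUnramified A A')
    [Algebra.IsGeometricallyReduced (κ A) (κ A')]
    (K₁' : Type u) [Field K₁'] [Algebra K' K₁'] [FiniteDimensional K' K₁'] [Algebra K K₁']
    [IsScalarTower K K' K₁']
    (hsol : EtRam.IsSolution B' K' L' K₁')
    (K₂ : Type u) [Field K₂] [Algebra K K₂] [FiniteDimensional K K₂]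
    (S : Set K₁') (hS : IntermediateField.adjoin K' S = ⊤)
    (hsp : ∀ s ∈ S, IsIntegral K s ∧ ((minpoly K s).map (algebraMap K K₂)).Splits) :
    EtRam.IsSolution B' K L' K₂ := by
  intro M _ _ _ _ _ _ hgen W hW
  classical
  letI : Algebra K' M := ((algebraMap L' M).comp (algebraMap K' L')).toAlgebra
  haveI : IsScalarTower K' L' M := IsScalarTower.of_algebraMap_eq fun _ => rfl
  haveI : IsScalarTower K K' M := IsScalarTower.of_algebraMap_eq fun k => by
    change algebraMap K M k = algebraMap L' M (algebraMap K' L' (algebraMap K K' k))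
    rw [← IsScalarTower.algebraMap_apply K K' L', ← IsScalarTower.algebraMap_apply K L' M]
  obtain ⟨K₂', _, _, _, _, _, _, _, _, _, _, hgen₂'⟩ := exists_mid K K' K₂ M
  haveI : FiniteDimensional K' K₂' := finiteDimensional_of_adjoin_eq_top (K := K) hgen₂'
  obtain ⟨τ⟩ := IntermediateField.nonempty_algHom_of_adjoin_splits (F := K') (E := K₁') (K := K₂')
    (S := S) (fun s hs => ⟨Algebra.IsIntegral.isIntegral s, by
      have h1 := (hsp s hs).2
      have h2 : ((minpoly K s).map (algebraMap K K₂')).Splits := h1.of_isScalarTower K₂'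
      have h3 : (((minpoly K s).map (algebraMap K K')).map (algebraMap K' K₂')).Splits := by
        rw [Polynomial.map_map, ← IsScalarTower.algebraMap_eq K K' K₂']
        exact h2
      have h4 : minpoly K' s ∣ (minpoly K s).map (algebraMap K K') :=
        minpoly.dvd_map_of_isScalarTower K K' s
      exact h3.of_dvd (Polynomial.map_ne_zero (Polynomial.map_ne_zero
        (minpoly.ne_zero (hsp s hs).1))) (Polynomial.map_dvd _ h4)⟩) hS
  letI : Algebra K₁' K₂' := τ.toRingHom.toAlgebra
  haveI : IsScalarTower K' K₁' K₂' := IsScalarTower.of_algebraMap_eq fun x => (τ.commutes x).symm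
  haveI : FiniteDimensional K₁' K₂' := FiniteDimensional.right K' K₁' K₂'
  have hsol₂ : EtRam.IsSolution B' K' L' K₂' := isSolution_tower A' B' K' L' hA'B' K₁' K₂' hsol
  have hgenM : Algebra.adjoin L' (Set.range (algebraMap K₂' M)) = ⊤ := by
    rw [eq_top_iff, ← hgen]
    apply Algebra.adjoin_mono
    rintro _ ⟨x, rfl⟩
    exact ⟨algebraMap K₂ K₂' x, (IsScalarTower.algebraMap_apply K₂ K₂' M x).symm⟩
  have r1 := hsol₂ M hgenM W hW
  have hdom : EtRam.Dominates A' ((algebraMap K' K₂').comp (algebraMap A' K'))
      (W.comap (algebraMap K₂' M)) := by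
    rw [dominates_comap_iff]
    have h1 := dominates_comp (A := A') (B := B') _ W hW
    have : (algebraMap K₂' M).comp ((algebraMap K' K₂').comp (algebraMap A' K')) =
        ((algebraMap L' M).comp (algebraMap B' L')).comp (algebraMap A' B') := by
      ext a
      simp only [RingHom.comp_apply]
      rw [← IsScalarTower.algebraMap_apply K' K₂' M, ← IsScalarTower.algebraMap_apply A' B' L',
        IsScalarTower.algebraMap_apply A' K' L']
      rfl
    rw [this]
    exact h1
  have r2 := isSolution_local A A' K K' hAA' hw K₂ K₂' hgen₂' (W.comap (algebraMap K₂' M)) hdom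
  haveI : Algebra.IsAlgebraic K K₂' := Algebra.IsAlgebraic.trans K K' K₂'
  haveI : Algebra.IsAlgebraic K₂ K₂' := Algebra.IsAlgebraic.tower_top (K := K) K₂
  have halg : ∀ x : K₂', ∃ p : K₂[X], p ≠ 0 ∧ p.eval₂ (algebraMap K₂ K₂') x = 0 := by
    intro x
    obtain ⟨p, hp0, hp⟩ := Algebra.IsAlgebraic.isAlgebraic (R := K₂) x
    exact ⟨p, hp0, by rwa [Polynomial.aeval_def] at hp⟩
  have key : ∀ fg : K₂ →+* M, fg = (algebraMap K₂' M).comp (algebraMap K₂ K₂') →
      (letI : Algebra (W.comap fg) W := (EtRam.inclOfComap W fg).toAlgebra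
       EtRam.IsWeaklyUnramified (W.comap fg) W ∧
        @Algebra.IsGeometricallyReduced (κ (W.comap fg)) (κ W) _ _
          (IsLocalRing.ResidueField.map (EtRam.inclOfComap W fg)).toAlgebra) := by
    intro fg hfg
    subst hfg
    exact ⟨isWeaklyUnramified_comap_trans W _ _ r2.1 r1.1,
      isGeometricallyReduced_comap_trans W _ _ halg r2.2 r1.2⟩
  exact key _ (IsScalarTower.algebraMap_eq K₂ K₂' M)

end Core

section Main

variable (A B K L A' B' K' L' : Type u)
    [CommRing A] [IsDomain A] [IsDiscreteValuationRing A]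
    [CommRing B] [IsDomain B] [IsDiscreteValuationRing B] [Algebra A B]
    [IsLocalHom (algebraMap A B)]
    [Field K] [Field L] [Algebra A K] [IsFractionRing A K] [Algebra B L] [IsFractionRing B L]
    [Algebra K L] [Algebra A L] [IsScalarTower A K L] [IsScalarTower A B L]
    [CommRing A'] [IsDomain A'] [IsDiscreteValuationRing A']
    [CommRing B'] [IsDomain B'] [IsDiscreteValuationRing B'] [Field K'] [Field L']
    [Algebra A A'] [Algebra B B'] [Algebra A' B'] [Algebra A B']
    [IsScalarTower A B B'] [IsScalarTower A A' B']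
    [Algebra A' K'] [IsFractionRing A' K'] [Algebra B' L'] [IsFractionRing B' L']
    [Algebra K' L'] [Algebra A' L'] [IsScalarTower A' K' L'] [IsScalarTower A' B' L']
    [Algebra K K'] [Algebra A K'] [IsScalarTower A K K'] [IsScalarTower A A' K']
    [Algebra L L'] [Algebra B L'] [IsScalarTower B L L'] [IsScalarTower B B' L']
    [IsLocalHom (algebraMap A A')] [IsLocalHom (algebraMap B B')] [IsLocalHom (algebraMap A' B')]

include A B A' B' in
/-- the two maps `K → L'` agree. -/
theorem compat_KL' :
    (algebraMap L L').comp (algebraMap K L) = (algebraMap K' L').comp (algebraMap K K') := by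
  apply IsLocalization.ringHom_ext (nonZeroDivisors A)
  ext a
  simp only [RingHom.comp_apply]
  rw [← IsScalarTower.algebraMap_apply A K L, IsScalarTower.algebraMap_apply A B L,
    ← IsScalarTower.algebraMap_apply B L L', IsScalarTower.algebraMap_apply B B' L',
    ← IsScalarTower.algebraMap_apply A B B', IsScalarTower.algebraMap_apply A A' B',
    ← IsScalarTower.algebraMap_apply A' B' L', IsScalarTower.algebraMap_apply A' K' L',
    ← IsScalarTower.algebraMap_apply A A' K', IsScalarTower.algebraMap_apply A K K']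

theorem descent_aux
    (hAA' : Function.Injective (algebraMap A A')) (hBB' : Function.Injective (algebraMap B B'))
    (hA'B' : Function.Injective (algebraMap A' B'))
    [Algebra.IsAlgebraic K K']
    (hw : EtRam.IsWeaklyUnramified A A') [Algebra.IsGeometricallyReduced (κ A) (κ A')]
    (K₁' : Type u) [Field K₁'] [Algebra K' K₁'] [FiniteDimensional K' K₁']
    (hsol : EtRam.IsSolution B' K' L' K₁') :
    ∃ (K₂ : Type u) (_ : Field K₂) (_ : Algebra K K₂), FiniteDimensional K K₂ ∧
      EtRam.IsSolution B K L K₂ ∧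
      (Algebra.IsSeparable K K' → Algebra.IsSeparable K' K₁' → Algebra.IsSeparable K K₂) := by
  classical
  letI : Algebra K K₁' := ((algebraMap K' K₁').comp (algebraMap K K')).toAlgebra
  haveI : IsScalarTower K K' K₁' := IsScalarTower.of_algebraMap_eq fun _ => rfl
  letI : Algebra K L' := ((algebraMap K' L').comp (algebraMap K K')).toAlgebra
  haveI : IsScalarTower K K' L' := IsScalarTower.of_algebraMap_eq fun _ => rfl
  haveI : IsScalarTower K L L' := IsScalarTower.of_algebraMap_eq fun k =>
    (RingHom.congr_fun (compat_KL' A B K L A' B' K' L') k).symm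
  haveI : Algebra.IsAlgebraic K K₁' := Algebra.IsAlgebraic.trans K K' K₁'
  let b := Module.finBasis K' K₁'
  have hS : IntermediateField.adjoin K' (Set.range b) = ⊤ := by
    apply IntermediateField.adjoin_eq_top_of_algebra
    rw [eq_top_iff]
    intro x _
    have hx : x ∈ Submodule.span K' (Set.range b) := by rw [b.span_eq]; trivial
    exact Algebra.span_le_adjoin K' _ hx
  have hint : ∀ i, IsIntegral K (b i) := fun i => Algebra.IsIntegral.isIntegral (b i)
  let P : K[X] := ∏ i, minpoly K (b i)
  have hP0 : P ≠ 0 := Finset.prod_ne_zero_iff.2 fun i _ => minpoly.ne_zero (hint i)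
  have hsp : ∀ s ∈ Set.range b, IsIntegral K s ∧
      ((minpoly K s).map (algebraMap K P.SplittingField)).Splits := by
    rintro _ ⟨i, rfl⟩
    refine ⟨hint i, ?_⟩
    have h1 : (P.map (algebraMap K P.SplittingField)).Splits := Polynomial.SplittingField.splits P
    exact h1.of_dvd (Polynomial.map_ne_zero hP0)
      (Polynomial.map_dvd _ (Finset.dvd_prod_of_mem _ (Finset.mem_univ i)))
  have hsol' : EtRam.IsSolution B' K L' P.SplittingField :=
    descent_core A A' B' K K' L' hAA' hA'B' hw K₁' hsol P.SplittingField (Set.range b) hS hsp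
  refine ⟨P.SplittingField, inferInstance, inferInstance, inferInstance, ?_, ?_⟩
  · exact forallLocalExt_tower B B' K L L' P.SplittingField hBB' _
      (fun M' M _ _ j' W f' h =>
        ⟨isWeaklyUnramified_comap_of_comp j' W f' h.1,
         isGeometricallyReduced_comap_of_comp j' W f' h.2⟩) hsol'
  · intro hs1 hs2
    haveI : Algebra.IsSeparable K K₁' := Algebra.IsSeparable.trans K K' K₁'
    have sp : P.IsSplittingField K P.SplittingField := inferInstance
    rw [← IntermediateField.isSeparable_top, ← (isSplittingField_iff_intermediateField.mp sp).2,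
      IntermediateField.isSeparable_adjoin_iff_isSeparable]
    intro x hx
    have hx0 : Polynomial.aeval x P = 0 := Polynomial.aeval_eq_zero_of_mem_rootSet hx
    rw [map_prod, Finset.prod_eq_zero_iff] at hx0
    obtain ⟨i, -, hi⟩ := hx0
    have hsepi : (minpoly K (b i)).Separable := Algebra.IsSeparable.isSeparable K (b i)
    exact hsepi.of_dvd (minpoly.dvd K x hi)

end Main

end Groth.Agent.Lib.Helper9.SolDescent
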