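import Mathlib
import Groth.Prelude.Def_EtRam
import Groth.Agent.Lib.Helper9.DvrExt
import Groth.Agent.Lib.Helper9.DvrTower
import Groth.Agent.Lib.Helper9.DvrSmooth
import Groth.Agent.Lib.Helper9.DvrSmoothApp
import Groth.Agent.Lib.Helper9.DvrSmoothAlg
import Groth.Agent.Lib.Helper9.SolDescent

/-!
# Base change of a formally smooth extension of DVRs along an algebraic extension

Variant of `DvrSmoothApp.isSolution_local` where `K₁/K` is only assumed algebraic, and the
discreteness of the valuation rings `W` and `W ∩ K₁` is a hypothesis.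
-/

open TensorProduct Polynomial

universe u

set_option linter.unusedSectionVars false
set_option linter.style.haveILetI false
set_option linter.overlappingInstances false

namespace Groth.Agent.Lib.Helper9.SolLocalAlg

open Groth.Agent.Lib.Helper9.DvrExt Groth.Agent.Lib.Helper9.DvrTower
  Groth.Agent.Lib.Helper9.DvrSmooth Groth.Agent.Lib.Helper9.DvrSmoothApp

local notation "𝔪" => IsLocalRing.maximalIdeal
local notation "κ" => IsLocalRing.ResidueField

/-- the residue field extension of a valuation ring of an algebraic extension dominating a DVR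
is algebraic. -/
theorem isAlgebraic_residue_of_dominates {A K K₁ : Type u} [CommRing A] [IsDomain A]
    [IsDiscreteValuationRing A] [Field K] [Algebra A K] [IsFractionRing A K] [Field K₁]
    [Algebra K K₁] [Algebra.IsAlgebraic K K₁] (V : ValuationSubring K₁)
    (hV : EtRam.Dominates A ((algebraMap K K₁).comp (algebraMap A K)) V)
    [Algebra A V] (halg : algebraMap A V = RingHom.codRestrict _ V hV.1)
    [IsLocalHom (algebraMap A V)] :
    Algebra.IsAlgebraic (κ A) (κ V) := by
  classical
  refine ⟨fun y => ?_⟩
  have hx : ∀ x : K₁, ∃ p : K[X], p ≠ 0 ∧ p.eval₂ (algebraMap K K₁) x = 0 := by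
    intro x
    obtain ⟨p, hp0, hp⟩ := Algebra.IsAlgebraic.isAlgebraic (R := K) x
    exact ⟨p, hp0, hp⟩
  obtain ⟨q, hq0, hq⟩ := Groth.Agent.Lib.Helper9.SolDescent.exists_residue_poly V
    (algebraMap K K₁) hx y
  -- `A → V ∩ K` is surjective
  have hVK : V.comap (algebraMap K K₁) = rangeValuationSubring A K := by
    apply eq_rangeValuationSubring
    · intro a
      exact hV.1 a
    · intro a ha
      rw [valuation_comap_lt_one_iff]
      exact hV.2 a ha
  let ι₀ : A →+* V.comap (algebraMap K K₁) :=
    RingHom.codRestrict (algebraMap A K) (V.comap (algebraMap K K₁)) (fun a => hV.1 a)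
  have hι₀ : Function.Surjective ι₀ := by
    intro z
    have hz : (z : K) ∈ rangeValuationSubring A K := by
      rw [← hVK]
      exact z.2
    obtain ⟨a, ha⟩ := hz
    exact ⟨a, Subtype.ext ha⟩
  haveI : IsLocalHom ι₀ := by
    constructor
    intro a ha
    have h1 : IsUnit (EtRam.inclOfComap V (algebraMap K K₁) (ι₀ a)) := ha.map _
    have h2 : EtRam.inclOfComap V (algebraMap K K₁) (ι₀ a) = algebraMap A V a := by
      rw [halg]
      rfl
    rw [h2] at h1
    exact (isUnit_map_iff (algebraMap A V) a).1 h1
  let ι : κ A →+* κ (V.comap (algebraMap K K₁)) := IsLocalRing.ResidueField.map ι₀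
  have hι : Function.Surjective ι := by
    intro z
    obtain ⟨z, rfl⟩ := IsLocalRing.residue_surjective z
    obtain ⟨a, rfl⟩ := hι₀ z
    exact ⟨IsLocalRing.residue A a, rfl⟩
  obtain ⟨q', rfl⟩ := Polynomial.map_surjective ι hι q
  refine ⟨q', fun h => hq0 (by rw [h, Polynomial.map_zero]), ?_⟩
  rw [Polynomial.eval₂_map] at hq
  have hcomp : (IsLocalRing.ResidueField.map (EtRam.inclOfComap V (algebraMap K K₁))).comp ι =
      algebraMap (κ A) (κ V) := by
    ext r
    obtain ⟨r, rfl⟩ := IsLocalRing.residue_surjective r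
    change IsLocalRing.residue V (EtRam.inclOfComap V (algebraMap K K₁) (ι₀ r)) =
      IsLocalRing.residue V (algebraMap A V r)
    rw [halg]
    rfl
  rw [hcomp] at hq
  exact hq

theorem isSolution_local_alg (A B K L : Type u) [CommRing A] [IsDomain A]
    [IsDiscreteValuationRing A]
    [CommRing B] [IsDomain B] [IsDiscreteValuationRing B] [Algebra A B] [IsLocalHom (algebraMap A B)]
    (hinj : Function.Injective (algebraMap A B))
    [Field K] [Field L] [Algebra A K] [IsFractionRing A K] [Algebra B L] [IsFractionRing B L]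
    [Algebra K L] [Algebra A L] [IsScalarTower A K L] [IsScalarTower A B L]
    (hw : EtRam.IsWeaklyUnramified A B)
    [Algebra.IsGeometricallyReduced (IsLocalRing.ResidueField A) (IsLocalRing.ResidueField B)]
    (K₁ : Type u) [Field K₁] [Algebra K K₁] [Algebra.IsAlgebraic K K₁]
    (M : Type u) [Field M] [Algebra K M] [Algebra L M] [Algebra K₁ M] [IsScalarTower K L M]
    [IsScalarTower K K₁ M]
    (hgen : Algebra.adjoin L (Set.range (algebraMap K₁ M)) = ⊤)
    (W : ValuationSubring M)
    (hW : EtRam.Dominates B ((algebraMap L M).comp (algebraMap B L)) W)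
    [IsDiscreteValuationRing W] [IsDiscreteValuationRing (W.comap (algebraMap K₁ M))] :
    letI : Algebra (W.comap (algebraMap K₁ M)) W :=
      (EtRam.inclOfComap W (algebraMap K₁ M)).toAlgebra
    EtRam.IsWeaklyUnramified (W.comap (algebraMap K₁ M)) W ∧
      @Algebra.IsGeometricallyReduced (IsLocalRing.ResidueField (W.comap (algebraMap K₁ M)))
        (IsLocalRing.ResidueField W) _ _
        (IsLocalRing.ResidueField.map (EtRam.inclOfComap W (algebraMap K₁ M))).toAlgebra := by
  classical
  have hcompat : ∀ a : A, algebraMap K₁ M (algebraMap K K₁ (algebraMap A K a)) =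
      algebraMap L M (algebraMap B L (algebraMap A B a)) := by
    intro a
    rw [← IsScalarTower.algebraMap_apply K K₁ M, IsScalarTower.algebraMap_apply K L M,
      ← IsScalarTower.algebraMap_apply A K L, IsScalarTower.algebraMap_apply A B L]
  have hV : EtRam.Dominates A ((algebraMap K K₁).comp (algebraMap A K))
      (W.comap (algebraMap K₁ M)) := by
    rw [dominates_comap_iff]
    have h1 := dominates_comp (A := A) _ W hW
    refine ⟨fun a => ?_, fun a ha => ?_⟩
    · have := h1.1 a
      simp only [RingHom.comp_apply] at this ⊢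
      rw [hcompat]
      exact this
    · have := h1.2 a ha
      simp only [RingHom.comp_apply] at this ⊢
      rw [hcompat]
      exact this
  letI algAV : Algebra A (W.comap (algebraMap K₁ M)) :=
    (RingHom.codRestrict ((algebraMap K K₁).comp (algebraMap A K)) _ hV.1).toAlgebra
  letI algBW : Algebra B W :=
    (RingHom.codRestrict ((algebraMap L M).comp (algebraMap B L)) W hW.1).toAlgebra
  letI algVW : Algebra (W.comap (algebraMap K₁ M)) W :=
    (EtRam.inclOfComap W (algebraMap K₁ M)).toAlgebra
  letI algAW : Algebra A W := ((algebraMap B W).comp (algebraMap A B)).toAlgebra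
  haveI : IsScalarTower A B W := IsScalarTower.of_algebraMap_eq fun _ => rfl
  haveI : IsScalarTower A (W.comap (algebraMap K₁ M)) W := IsScalarTower.of_algebraMap_eq fun a =>
    Subtype.ext (hcompat a).symm
  haveI hlocBW : IsLocalHom (algebraMap B W) := isLocalHom_of_dominates _ W hW
  haveI hlocVW : IsLocalHom (algebraMap (W.comap (algebraMap K₁ M)) W) :=
    EtRam.isLocalHom_inclOfComap W (algebraMap K₁ M)
  haveI hlocAV : IsLocalHom (algebraMap A (W.comap (algebraMap K₁ M))) :=
    isLocalHom_of_dominates _ _ hV
  haveI hlocAW : IsLocalHom (algebraMap A W) := by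
    change IsLocalHom ((algebraMap B W).comp (algebraMap A B))
    exact RingHom.isLocalHom_comp _ _
  have hVW : Function.Injective (algebraMap (W.comap (algebraMap K₁ M)) W) := by
    intro x y hxy
    have := congrArg Subtype.val hxy
    exact Subtype.ext ((algebraMap K₁ M).injective this)
  haveI : Algebra.IsAlgebraic (κ A) (κ (W.comap (algebraMap K₁ M))) :=
    isAlgebraic_residue_of_dominates (A := A) (K := K) (K₁ := K₁) _ hV rfl
  -- generation
  have hgen' : ∀ w : W, ∃ x y : (W.comap (algebraMap K₁ M)) ⊗[A] B,
      phi A B (W.comap (algebraMap K₁ M)) W y ≠ 0 ∧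
        w * phi A B (W.comap (algebraMap K₁ M)) W y =
          phi A B (W.comap (algebraMap K₁ M)) W x := by
    intro w
    obtain ⟨x, y, hy, hxy⟩ := exists_quot_of_adjoin_eq_top (A := A) (B := B)
      (V := W.comap (algebraMap K₁ M)) hgen
      (W.subtype.comp (phi A B (W.comap (algebraMap K₁ M)) W).toRingHom)
      (fun v => by simp [phi]; rfl) (fun b => by simp [phi]; rfl) (w : M)
    refine ⟨x, y, fun h => hy ?_, Subtype.ext hxy⟩
    change ((phi A B (W.comap (algebraMap K₁ M)) W y : W) : M) = 0
    rw [h]
    rfl
  obtain ⟨h1, h2⟩ := Groth.Agent.Lib.Helper9.DvrSmoothAlg.core (A := A) (B := B)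
    (V := W.comap (algebraMap K₁ M)) (W := W) hw hVW hgen'
  refine ⟨h1, ?_⟩
  have halg : (IsLocalRing.ResidueField.map (EtRam.inclOfComap W (algebraMap K₁ M))).toAlgebra =
      (inferInstance : Algebra (κ (W.comap (algebraMap K₁ M))) (κ W)) := by
    apply Algebra.algebra_ext
    intro r
    obtain ⟨r, rfl⟩ := IsLocalRing.residue_surjective r
    rfl
  rw [halg]
  exact h2

end Groth.Agent.Lib.Helper9.SolLocalAlg
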