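import Mathlib
import Groth.Prelude.Def_EtRam
import Groth.Agent.Lib.Helper9.DvrExt
import Groth.Agent.Lib.Helper9.DvrTower
import Groth.Agent.Lib.Helper9.DvrSmoothApp
import Groth.Agent.Lib.Helper9.SolTower
import Groth.Agent.Lib.Helper9.SolLocalAlg

/-!
# Descending a solution along a purely inseparable extension (Frobenius twist)

`A ⊆ B` DVRs with `L/K` separable algebraic.  If `K₂/K₁` is finite purely inseparable and `K₂/K` is a
solution, then `K₁/K` is a solution.
-/

open Polynomial IntermediateField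

universe u

set_option linter.unusedSectionVars false
set_option linter.style.haveILetI false
set_option linter.overlappingInstances false

namespace Groth.Agent.Lib.Helper9.SepSolution

open Groth.Agent.Lib.Helper9.DvrExt Groth.Agent.Lib.Helper9.DvrTower
  Groth.Agent.Lib.Helper9.DvrSmoothApp Groth.Agent.Lib.Helper9.SolTower
  Groth.Agent.Lib.Helper9.SolLocalAlg

/-- The compositum `L·K₂` inside `M` with respect to arbitrary compatible field maps. -/
theorem exists_mid_hom (K L K₂ M : Type u) [Field K] [Field L] [Field K₂] [Field M]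
    [Algebra K L] [Algebra K K₂] [Algebra.IsAlgebraic K K₂] (gL : L →+* M) (gK₂ : K₂ →+* M)
    (hcompat : ∀ k, gL (algebraMap K L k) = gK₂ (algebraMap K K₂ k)) :
    ∃ (M₀ : Type u) (_ : Field M₀) (_ : Algebra L M₀) (_ : Algebra K₂ M₀) (_ : Algebra K M₀)
      (ι : M₀ →+* M) (_ : IsScalarTower K L M₀) (_ : IsScalarTower K K₂ M₀),
      (∀ ℓ, ι (algebraMap L M₀ ℓ) = gL ℓ) ∧ (∀ x, ι (algebraMap K₂ M₀ x) = gK₂ x) ∧
      Algebra.adjoin L (Set.range (algebraMap K₂ M₀)) = ⊤ := by
  letI : Algebra L M := gL.toAlgebra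
  letI : Algebra K₂ M := gK₂.toAlgebra
  letI : Algebra K M := (gL.comp (algebraMap K L)).toAlgebra
  haveI : IsScalarTower K L M := IsScalarTower.of_algebraMap_eq fun _ => rfl
  haveI : IsScalarTower K K₂ M := IsScalarTower.of_algebraMap_eq fun k => hcompat k
  obtain ⟨M₀, i1, i2, i3, i4, i5, t1, t2, t3, t4, t5, hgen⟩ := exists_mid K L K₂ M
  refine ⟨M₀, i1, i2, i3, i4, algebraMap M₀ M, t1, t2, fun ℓ => ?_, fun x => ?_, hgen⟩
  · exact (IsScalarTower.algebraMap_apply L M₀ M ℓ).symm
  · exact (IsScalarTower.algebraMap_apply K₂ M₀ M x).symm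

set_option maxHeartbeats 1600000 in
/-- **Purely inseparable descent of solutions.** -/
theorem isSolution_of_isPurelyInseparable (A B K L : Type u) [CommRing A] [IsDomain A]
    [IsDiscreteValuationRing A]
    [CommRing B] [IsDomain B] [IsDiscreteValuationRing B] [Algebra A B] [IsLocalHom (algebraMap A B)]
    (hinj : Function.Injective (algebraMap A B))
    [Field K] [Field L] [Algebra A K] [IsFractionRing A K] [Algebra B L] [IsFractionRing B L]
    [Algebra K L] [Algebra A L] [IsScalarTower A K L] [IsScalarTower A B L]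
    [Algebra.IsSeparable K L]
    (K₁ K₂ : Type u) [Field K₁] [Field K₂] [Algebra K K₁] [Algebra K K₂] [Algebra K₁ K₂]
    [IsScalarTower K K₁ K₂] [FiniteDimensional K K₁] [FiniteDimensional K₁ K₂]
    [IsPurelyInseparable K₁ K₂]
    (h : EtRam.IsSolution B K L K₂) : EtRam.IsSolution B K L K₁ := by
  intro M₁ _ _ _ _ _ _ hgen W₁ hW₁
  classical
  obtain ⟨q, hq⟩ := ExpChar.exists K
  haveI : ExpChar K₁ q := expChar_of_injective_algebraMap (algebraMap K K₁).injective q
  haveI : ExpChar M₁ q := expChar_of_injective_algebraMap (algebraMap K M₁).injective q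
  set m := IsPurelyInseparable.exponent K₁ K₂ with hm
  let φ : K₂ →+* K₁ := IsPurelyInseparable.iterateFrobenius K₁ K₂ q (le_refl _)
  have hφ : ∀ x, algebraMap K₁ K₂ (φ x) = x ^ q ^ m := fun x =>
    IsPurelyInseparable.algebraMap_iterateFrobenius K₁ q (le_refl _) x
  have hφ' : ∀ y, φ (algebraMap K₁ K₂ y) = y ^ q ^ m := fun y =>
    IsPurelyInseparable.iterateFrobenius_algebraMap K₂ q (le_refl _) y
  let ψ : M₁ →+* M₁ := iterateFrobenius M₁ q m
  have hψ : ∀ x, ψ x = x ^ q ^ m := fun x => iterateFrobenius_def ..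
  have hQ : q ^ m ≠ 0 := (expChar_pow_pos K q m).ne'
  haveI : FiniteDimensional K K₂ := FiniteDimensional.trans K K₁ K₂
  -- the twisted compositum
  obtain ⟨M₀, _, _, _, _, ι, _, _, hιL, hιK₂, hgen₀⟩ := exists_mid_hom K L K₂ M₁
    (ψ.comp (algebraMap L M₁)) ((algebraMap K₁ M₁).comp φ) (by
      intro k
      simp only [RingHom.comp_apply]
      rw [IsScalarTower.algebraMap_apply K K₁ K₂, hφ', hψ, map_pow,
        ← IsScalarTower.algebraMap_apply K L M₁, ← IsScalarTower.algebraMap_apply K K₁ M₁])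
  letI algM₀M₁ : Algebra M₀ M₁ := ι.toAlgebra
  letI algK₂M₁ : Algebra K₂ M₁ := ((algebraMap K₁ M₁).comp φ).toAlgebra
  letI algK₂K₁ : Algebra K₂ K₁ := φ.toAlgebra
  haveI : IsScalarTower K₂ K₁ M₁ := IsScalarTower.of_algebraMap_eq fun _ => rfl
  haveI : IsScalarTower K₂ M₀ M₁ := IsScalarTower.of_algebraMap_eq fun x => (hιK₂ x).symm
  set W₀ : ValuationSubring M₀ := W₁.comap (algebraMap M₀ M₁) with hW₀def
  have hW₀ : EtRam.Dominates B ((algebraMap L M₀).comp (algebraMap B L)) W₀ := by
    rw [hW₀def, dominates_comap_iff]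
    refine ⟨fun b => ?_, fun b hb => ?_⟩
    · simp only [RingHom.comp_apply]
      change ι _ ∈ W₁
      rw [hιL, RingHom.comp_apply, hψ]
      exact pow_mem (hW₁.1 b) _
    · simp only [RingHom.comp_apply]
      change W₁.valuation (ι _) < 1
      rw [hιL, RingHom.comp_apply, hψ, map_pow]
      exact pow_lt_one₀ zero_le' (hW₁.2 b hb) hQ
  have h1 := h M₀ hgen₀ W₀ hW₀
  set V₀ : ValuationSubring K₂ := W₀.comap (algebraMap K₂ M₀) with hV₀def
  have hcompat₀ : ∀ a : A, algebraMap K₂ M₀ (algebraMap K K₂ (algebraMap A K a)) =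
      algebraMap L M₀ (algebraMap B L (algebraMap A B a)) := by
    intro a
    rw [← IsScalarTower.algebraMap_apply K K₂ M₀, IsScalarTower.algebraMap_apply K L M₀,
      ← IsScalarTower.algebraMap_apply A K L, IsScalarTower.algebraMap_apply A B L]
  have hV₀ : EtRam.Dominates A ((algebraMap K K₂).comp (algebraMap A K)) V₀ := by
    rw [hV₀def, dominates_comap_iff]
    have h1' := dominates_comp (A := A) _ W₀ hW₀
    refine ⟨fun a => ?_, fun a ha => ?_⟩
    · have := h1'.1 a
      simp only [RingHom.comp_apply] at this ⊢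
      rw [hcompat₀]
      exact this
    · have := h1'.2 a ha
      simp only [RingHom.comp_apply] at this ⊢
      rw [hcompat₀]
      exact this
  haveI : FiniteDimensional L M₀ := finiteDimensional_of_adjoin_eq_top (K := K) hgen₀
  haveI : IsDiscreteValuationRing V₀ :=
    isDiscreteValuationRing_of_dominates (A := A) (K := K) (L := K₂) _ hV₀
  haveI : IsDiscreteValuationRing W₀ :=
    isDiscreteValuationRing_of_dominates (A := B) (K := L) (L := M₀) W₀ hW₀
  letI algVW : Algebra V₀ W₀ := (EtRam.inclOfComap W₀ (algebraMap K₂ M₀)).toAlgebra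
  haveI : IsLocalHom (algebraMap V₀ W₀) := EtRam.isLocalHom_inclOfComap W₀ (algebraMap K₂ M₀)
  have hinjVW : Function.Injective (algebraMap V₀ W₀) := by
    intro x y hxy
    have := congrArg Subtype.val hxy
    exact Subtype.ext ((algebraMap K₂ M₀).injective this)
  letI : Algebra V₀ M₀ := ((algebraMap K₂ M₀).comp (algebraMap V₀ K₂)).toAlgebra
  haveI : IsScalarTower V₀ K₂ M₀ := IsScalarTower.of_algebraMap_eq fun _ => rfl
  haveI : IsScalarTower V₀ W₀ M₀ := IsScalarTower.of_algebraMap_eq fun _ => rfl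
  have halg : (IsLocalRing.ResidueField.map (EtRam.inclOfComap W₀ (algebraMap K₂ M₀))).toAlgebra =
      (inferInstance : Algebra (IsLocalRing.ResidueField V₀) (IsLocalRing.ResidueField W₀)) := by
    apply Algebra.algebra_ext
    intro r
    obtain ⟨r, rfl⟩ := IsLocalRing.residue_surjective r
    rfl
  haveI hgr : Algebra.IsGeometricallyReduced (IsLocalRing.ResidueField V₀)
      (IsLocalRing.ResidueField W₀) := by
    have := h1.2
    rw [halg] at this
    exact this
  -- discreteness upstairs
  haveI : FiniteDimensional L M₁ := finiteDimensional_of_adjoin_eq_top (K := K) hgen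
  haveI : IsDiscreteValuationRing W₁ :=
    isDiscreteValuationRing_of_dominates (A := B) (K := L) (L := M₁) W₁ hW₁
  have hcompat₁ : ∀ a : A, algebraMap K₁ M₁ (algebraMap K K₁ (algebraMap A K a)) =
      algebraMap L M₁ (algebraMap B L (algebraMap A B a)) := by
    intro a
    rw [← IsScalarTower.algebraMap_apply K K₁ M₁, IsScalarTower.algebraMap_apply K L M₁,
      ← IsScalarTower.algebraMap_apply A K L, IsScalarTower.algebraMap_apply A B L]
  have hV₁ : EtRam.Dominates A ((algebraMap K K₁).comp (algebraMap A K))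
      (W₁.comap (algebraMap K₁ M₁)) := by
    rw [dominates_comap_iff]
    have h1' := dominates_comp (A := A) _ W₁ hW₁
    refine ⟨fun a => ?_, fun a ha => ?_⟩
    · have := h1'.1 a
      simp only [RingHom.comp_apply] at this ⊢
      rw [hcompat₁]
      exact this
    · have := h1'.2 a ha
      simp only [RingHom.comp_apply] at this ⊢
      rw [hcompat₁]
      exact this
  haveI : IsDiscreteValuationRing (W₁.comap (algebraMap K₁ M₁)) :=
    isDiscreteValuationRing_of_dominates (A := A) (K := K) (L := K₁) _ hV₁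
  -- `K₁` is algebraic over `K₂` via `φ`
  haveI : Algebra.IsAlgebraic K₂ K₁ := by
    refine ⟨fun y => ⟨X ^ (q ^ m) - C (algebraMap K₁ K₂ y), ?_, ?_⟩⟩
    · exact X_pow_sub_C_ne_zero (Nat.pos_of_ne_zero hQ) _
    · rw [map_sub, map_pow, aeval_X, aeval_C]
      change y ^ q ^ m - φ (algebraMap K₁ K₂ y) = 0
      rw [hφ', sub_self]
  -- generation
  have hgen₂ : Algebra.adjoin M₀ (Set.range (algebraMap K₁ M₁)) = ⊤ := by
    set S := Algebra.adjoin M₀ (Set.range (algebraMap K₁ M₁)) with hS
    have hK₁ : ∀ k : K₁, algebraMap K₁ M₁ k ∈ S := fun k => Algebra.subset_adjoin ⟨k, rfl⟩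
    have hLQ : ∀ ℓ : L, (algebraMap L M₁ ℓ) ^ q ^ m ∈ S := by
      intro ℓ
      have : (algebraMap L M₁ ℓ) ^ q ^ m = algebraMap M₀ M₁ (algebraMap L M₀ ℓ) := by
        change _ = ι _
        rw [hιL, RingHom.comp_apply, hψ]
      rw [this]
      exact Subalgebra.algebraMap_mem _ _
    have hL : ∀ ℓ : L, algebraMap L M₁ ℓ ∈ S := by
      intro ℓ
      have hsepK : IsSeparable K (algebraMap L M₁ ℓ) := by
        have h0 : IsSeparable K ℓ := Algebra.IsSeparable.isSeparable K ℓ
        exact h0.map (IsScalarTower.toAlgHom K L M₁) (algebraMap L M₁).injective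
      have hsep : IsSeparable K₁ (algebraMap L M₁ ℓ) := hsepK.tower_top K₁
      have hadj := adjoin_simple_eq_adjoin_pow_expChar_pow_of_isSeparable K₁ M₁ hsep q m
      have hxmem : algebraMap L M₁ ℓ ∈ K₁⟮(algebraMap L M₁ ℓ) ^ q ^ m⟯ := by
        rw [← hadj]
        exact mem_adjoin_simple_self K₁ _
      have halg' : IsAlgebraic K₁ ((algebraMap L M₁ ℓ) ^ q ^ m) :=
        (hsep.isIntegral.isAlgebraic).pow _
      rw [← mem_toSubalgebra, adjoin_simple_toSubalgebra_of_isAlgebraic halg'] at hxmem
      have key : ∀ z ∈ Algebra.adjoin K₁ {(algebraMap L M₁ ℓ) ^ q ^ m}, z ∈ S := by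
        intro z hz
        induction hz using Algebra.adjoin_induction with
        | mem y hy =>
          rw [Set.mem_singleton_iff] at hy
          rw [hy]
          exact hLQ ℓ
        | algebraMap k => exact hK₁ k
        | add x y _ _ hx hy => exact Subalgebra.add_mem _ hx hy
        | mul x y _ _ hx hy => exact Subalgebra.mul_mem _ hx hy
      exact key _ hxmem
    have key : ∀ x ∈ Algebra.adjoin L (Set.range (algebraMap K₁ M₁)), x ∈ S := by
      intro x hx
      induction hx using Algebra.adjoin_induction with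
      | mem y hy =>
        obtain ⟨k, rfl⟩ := hy
        exact hK₁ k
      | algebraMap ℓ => exact hL ℓ
      | add x y _ _ hx hy => exact Subalgebra.add_mem _ hx hy
      | mul x y _ _ hx hy => exact Subalgebra.mul_mem _ hx hy
    rw [eq_top_iff]
    intro x _
    exact key x (by rw [hgen]; trivial)
  have hWdom : EtRam.Dominates W₀ ((algebraMap M₀ M₁).comp (algebraMap W₀ M₀)) W₁ :=
    dominates_subtype (algebraMap M₀ M₁) W₁
  exact isSolution_local_alg V₀ W₀ K₂ M₀ hinjVW h1.1 K₁ M₁ hgen₂ W₁ hWdom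

end Groth.Agent.Lib.Helper9.SepSolution
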