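import Mathlib
import Groth.Agent.Lib.Helper9.SeidenbergLoc

/-!
# The twin lemma

Inside a valued field `(Ω, W)`: if `θ₃ - θ₂` is very small and the basis `1, θ₂, …, θ₂^{p-1}` over a
subfield `F` satisfies a conductor bound, then `∑ fᵢ θ₂ⁱ` and `∑ fᵢ θ₃ⁱ` have the same leading behaviour.
-/

open Polynomial

universe u

set_option linter.unusedSectionVars false
set_option linter.style.haveILetI false

namespace Groth.Agent.Lib.Helper9.TwinLemma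

/-- Every nonzero element of the DVR `B` divides a power of the image of a nonzero nonunit of `A`. -/
theorem exists_dvd_pow (A B : Type*) [CommRing A] [IsLocalRing A] [CommRing B] [IsDomain B]
    [IsDiscreteValuationRing B] [Algebra A B] [IsLocalHom (algebraMap A B)]
    (hinj : Function.Injective (algebraMap A B)) (π : A) (hπ0 : π ≠ 0)
    (hπ : π ∈ IsLocalRing.maximalIdeal A) (b : B) (hb : b ≠ 0) :
    ∃ n : ℕ, b ∣ (algebraMap A B π) ^ n := by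
  obtain ⟨ϖ, hϖ⟩ := IsDiscreteValuationRing.exists_irreducible B
  obtain ⟨m, hm⟩ := IsDiscreteValuationRing.associated_pow_irreducible hb hϖ
  have hπB0 : algebraMap A B π ≠ 0 := (map_ne_zero_iff _ hinj).2 hπ0
  obtain ⟨e, he⟩ := IsDiscreteValuationRing.associated_pow_irreducible hπB0 hϖ
  have he0 : e ≠ 0 := by
    rintro rfl
    rw [pow_zero] at he
    have h1 : IsUnit (algebraMap A B π) := associated_one_iff_isUnit.1 he
    have h2 : IsUnit π := isUnit_of_map_unit _ _ h1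
    exact (IsLocalRing.mem_maximalIdeal _).1 hπ h2
  refine ⟨m, ?_⟩
  have h1 : Associated ((algebraMap A B π) ^ m) (ϖ ^ (e * m)) := by
    rw [pow_mul]
    exact he.pow_pow
  have h2 : ϖ ^ m ∣ ϖ ^ (e * m) :=
    pow_dvd_pow ϖ (Nat.le_mul_of_pos_left m (Nat.pos_of_ne_zero he0))
  exact hm.dvd.trans (h2.trans h1.symm.dvd)

section Arch

variable {B Ω : Type u} [CommRing B] [Field Ω] [Algebra B Ω]

/-- Archimedean property, first half. -/
theorem exists_pow_mul_le_one [IsDomain B] (W : ValuationSubring Ω)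
    (hB : ∀ b : B, algebraMap B Ω b ∈ W)
    (πB : B) (hdiv : ∀ b : B, b ≠ 0 → ∃ n : ℕ, b ∣ πB ^ n)
    (x : Ω) (hx : IsAlgebraic B x) :
    ∃ n : ℕ, W.valuation x * W.valuation (algebraMap B Ω πB) ^ n ≤ 1 := by
  obtain ⟨y, hy0, hy⟩ := hx.exists_integral_multiple
  obtain ⟨n, b', hb'⟩ := hdiv y hy0
  refine ⟨n, ?_⟩
  have h1 : W.valuation (algebraMap B Ω πB) ^ n =
      W.valuation (algebraMap B Ω y) * W.valuation (algebraMap B Ω b') := by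
    rw [← map_pow, ← map_pow, hb', map_mul, map_mul]
  have h2 : W.valuation x * W.valuation (algebraMap B Ω y) ≤ 1 := by
    rw [← map_mul, mul_comm, ← Algebra.smul_def]
    exact (W.valuation_le_one_iff _).2 (SeidenbergLoc.mem_of_isIntegral W hB hy)
  have h3 : W.valuation (algebraMap B Ω b') ≤ 1 := (W.valuation_le_one_iff _).2 (hB b')
  calc W.valuation x * W.valuation (algebraMap B Ω πB) ^ n
      = (W.valuation x * W.valuation (algebraMap B Ω y)) * W.valuation (algebraMap B Ω b') := by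
        rw [h1, mul_assoc]
    _ ≤ 1 * 1 := mul_le_mul' h2 h3
    _ = 1 := one_mul 1

/-- Archimedean property: any nonzero algebraic element can be scaled by a power of `ϖ` into the
window `(v ϖ, 1]`. -/
theorem exists_scale [IsDomain B] (W : ValuationSubring Ω)
    (hB : ∀ b : B, algebraMap B Ω b ∈ W)
    (πB : B) (hdiv : ∀ b : B, b ≠ 0 → ∃ n : ℕ, b ∣ πB ^ n)
    (hπ0 : algebraMap B Ω πB ≠ 0) (hπ1 : W.valuation (algebraMap B Ω πB) < 1)
    (x : Ω) (hx0 : x ≠ 0) (hx : IsAlgebraic B x) :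
    ∃ n j : ℕ, W.valuation (algebraMap B Ω πB) <
        W.valuation (x * ((algebraMap B Ω πB) ^ n / (algebraMap B Ω πB) ^ j)) ∧
      W.valuation (x * ((algebraMap B Ω πB) ^ n / (algebraMap B Ω πB) ^ j)) ≤ 1 := by
  set ϖ := algebraMap B Ω πB with hϖ
  set v := W.valuation with hv
  have hvϖ0 : v ϖ ≠ 0 := (Valuation.ne_zero_iff _).2 hπ0
  have hvϖpos : 0 < v ϖ := zero_lt_iff.2 hvϖ0
  obtain ⟨n₀, hn₀⟩ := exists_pow_mul_le_one W hB πB hdiv x hx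
  set x₁ := x * ϖ ^ n₀ with hx₁
  have hx₁0 : x₁ ≠ 0 := mul_ne_zero hx0 (pow_ne_zero _ hπ0)
  have hx₁le : v x₁ ≤ 1 := by rw [hx₁, map_mul, map_pow]; exact hn₀
  have hx₁alg : IsAlgebraic B x₁ := hx.mul ((isAlgebraic_algebraMap (R := B) (A := Ω) πB).pow n₀)
  obtain ⟨n₁, hn₁⟩ := exists_pow_mul_le_one W hB πB hdiv x₁⁻¹ hx₁alg.inv
  have hvx₁0 : v x₁ ≠ 0 := (Valuation.ne_zero_iff _).2 hx₁0
  have hvx₁pos : 0 < v x₁ := zero_lt_iff.2 hvx₁0
  have h1 : v ϖ ^ n₁ ≤ v x₁ := by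
    rw [map_inv₀] at hn₁
    have := (inv_mul_le_iff₀ hvx₁pos).1 hn₁
    rwa [mul_one] at this
  have hex : ∃ j : ℕ, v ϖ ^ j < v x₁ := by
    refine ⟨n₁ + 1, lt_of_lt_of_le ?_ h1⟩
    rw [pow_succ]
    calc v ϖ ^ n₁ * v ϖ < v ϖ ^ n₁ * 1 :=
          mul_lt_mul_of_pos_left hπ1 (pow_pos hvϖpos n₁)
      _ = v ϖ ^ n₁ := mul_one _
  classical
  have hfind := Nat.find_spec hex
  have hmin := fun m => Nat.find_min hex (m := m)
  set j' := Nat.find hex with hj'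
  have hj'0 : j' ≠ 0 := by
    intro h0
    rw [h0, pow_zero] at hfind
    exact absurd hx₁le (not_le.2 hfind)
  obtain ⟨j, hj⟩ := Nat.exists_eq_succ_of_ne_zero hj'0
  have hle : v x₁ ≤ v ϖ ^ j := not_lt.1 (hmin j (by omega))
  have hlt : v ϖ ^ (j + 1) < v x₁ := by rw [← Nat.succ_eq_add_one, ← hj]; exact hfind
  refine ⟨n₀, j, ?_, ?_⟩
  · have heq : x * (ϖ ^ n₀ / ϖ ^ j) = x₁ / ϖ ^ j := by rw [hx₁]; ring
    rw [heq, map_div₀, map_pow, lt_div_iff₀ (pow_pos hvϖpos j)]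
    rw [pow_succ, mul_comm] at hlt
    exact hlt
  · have heq : x * (ϖ ^ n₀ / ϖ ^ j) = x₁ / ϖ ^ j := by rw [hx₁]; ring
    rw [heq, map_div₀, map_pow, div_le_iff₀ (pow_pos hvϖpos j), one_mul]
    exact hle

end Arch

section Twin

variable {Ω : Type u} [Field Ω]

/-- The twin lemma, from `θ₂` to `θ₃`. -/
theorem twin23 (W : ValuationSubring Ω) (F : Set Ω) (p : ℕ) (θ₂ θ₃ dΩ ϖ : Ω)
    (hscale : ∀ n j : ℕ, ∀ x ∈ F, x * (ϖ ^ n / ϖ ^ j) ∈ F)
    (hθ₂ : θ₂ ∈ W) (hθ₃ : θ₃ ∈ W)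
    (hγ : W.valuation (θ₃ - θ₂) ≤ W.valuation dΩ * W.valuation ϖ)
    (hcond : ∀ f : ℕ → Ω, (∀ i, f i ∈ F) → ∑ i ∈ Finset.range p, f i * θ₂ ^ i ∈ W →
      ∀ i < p, dΩ * f i ∈ W)
    (harch : ∀ x : Ω, x ≠ 0 → ∃ n j : ℕ, W.valuation ϖ < W.valuation (x * (ϖ ^ n / ϖ ^ j)) ∧
      W.valuation (x * (ϖ ^ n / ϖ ^ j)) ≤ 1)
    (f : ℕ → Ω) (hf : ∀ i, f i ∈ F) (hu : ∑ i ∈ Finset.range p, f i * θ₂ ^ i ≠ 0) :
    W.valuation (∑ i ∈ Finset.range p, f i * θ₃ ^ i - ∑ i ∈ Finset.range p, f i * θ₂ ^ i) <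
      W.valuation (∑ i ∈ Finset.range p, f i * θ₂ ^ i) := by
  set v := W.valuation with hv
  obtain ⟨n, j, h1, h2⟩ := harch _ hu
  set ℓ := ϖ ^ n / ϖ ^ j with hℓ
  have hℓ0 : ℓ ≠ 0 := by
    intro h0
    rw [h0, mul_zero, map_zero] at h1
    exact not_lt_zero' h1
  have hsum : ∀ θ : Ω, ∑ i ∈ Finset.range p, (f i * ℓ) * θ ^ i =
      (∑ i ∈ Finset.range p, f i * θ ^ i) * ℓ := by
    intro θ
    rw [Finset.sum_mul]
    exact Finset.sum_congr rfl (fun i _ => by ring)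
  have hW : ∑ i ∈ Finset.range p, (f i * ℓ) * θ₂ ^ i ∈ W := by
    rw [hsum]
    exact (W.valuation_le_one_iff _).1 h2
  have hd := hcond (fun i => f i * ℓ) (fun i => hscale n j _ (hf i)) hW
  have hterm : ∀ i ∈ Finset.range p, v ((f i * ℓ) * (θ₃ ^ i - θ₂ ^ i)) <
      v ((∑ i ∈ Finset.range p, f i * θ₂ ^ i) * ℓ) := by
    intro i hi
    have hi' := Finset.mem_range.1 hi
    have hdi : v dΩ * v (f i * ℓ) ≤ 1 := by
      rw [← map_mul]
      exact (W.valuation_le_one_iff _).2 (hd i hi')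
    have hdiff : v (θ₃ ^ i - θ₂ ^ i) ≤ v (θ₃ - θ₂) := by
      obtain ⟨h, hh⟩ := sub_dvd_pow_sub_pow (⟨θ₃, hθ₃⟩ : W) ⟨θ₂, hθ₂⟩ i
      have h' : θ₃ ^ i - θ₂ ^ i = (θ₃ - θ₂) * (h : Ω) := by
        have := congrArg Subtype.val hh
        simpa using this
      rw [h', map_mul]
      exact mul_le_of_le_one_right' ((W.valuation_le_one_iff _).2 h.2)
    calc v ((f i * ℓ) * (θ₃ ^ i - θ₂ ^ i)) = v (f i * ℓ) * v (θ₃ ^ i - θ₂ ^ i) := map_mul _ _ _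
      _ ≤ v (f i * ℓ) * (v dΩ * v ϖ) := mul_le_mul_right (hdiff.trans hγ) _
      _ = (v dΩ * v (f i * ℓ)) * v ϖ := by rw [← mul_assoc, mul_comm (v (f i * ℓ)) (v dΩ)]
      _ ≤ 1 * v ϖ := mul_le_mul_left hdi _
      _ = v ϖ := one_mul _
      _ < _ := h1
  have hlt : v (∑ i ∈ Finset.range p, (f i * ℓ) * θ₃ ^ i -
      ∑ i ∈ Finset.range p, (f i * ℓ) * θ₂ ^ i) <
      v ((∑ i ∈ Finset.range p, f i * θ₂ ^ i) * ℓ) := by
    rw [← Finset.sum_sub_distrib]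
    have hrw : ∀ i ∈ Finset.range p, (f i * ℓ) * θ₃ ^ i - (f i * ℓ) * θ₂ ^ i =
        (f i * ℓ) * (θ₃ ^ i - θ₂ ^ i) := fun i _ => by ring
    rw [Finset.sum_congr rfl hrw]
    refine Valuation.map_sum_lt _ ?_ hterm
    exact ne_of_gt (lt_of_le_of_lt zero_le' h1)
  rw [hsum, hsum, ← sub_mul, map_mul, map_mul] at hlt
  have hvℓ : 0 < v ℓ := zero_lt_iff.2 ((Valuation.ne_zero_iff _).2 hℓ0)
  exact (mul_lt_mul_iff_left₀ hvℓ).1 hlt

/-- The twin lemma, from `θ₃` to `θ₂`. -/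
theorem twin32 (W : ValuationSubring Ω) (F : Set Ω) (p : ℕ) (θ₂ θ₃ dΩ ϖ : Ω)
    (hscale : ∀ n j : ℕ, ∀ x ∈ F, x * (ϖ ^ n / ϖ ^ j) ∈ F)
    (hθ₂ : θ₂ ∈ W) (hθ₃ : θ₃ ∈ W)
    (hγ : W.valuation (θ₃ - θ₂) ≤ W.valuation dΩ * W.valuation ϖ)
    (hcond : ∀ f : ℕ → Ω, (∀ i, f i ∈ F) → ∑ i ∈ Finset.range p, f i * θ₂ ^ i ∈ W →
      ∀ i < p, dΩ * f i ∈ W)
    (hindep : ∀ f : ℕ → Ω, (∀ i, f i ∈ F) → ∑ i ∈ Finset.range p, f i * θ₂ ^ i = 0 →
      ∀ i < p, f i = 0)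
    (harch : ∀ x : Ω, x ≠ 0 → ∃ n j : ℕ, W.valuation ϖ < W.valuation (x * (ϖ ^ n / ϖ ^ j)) ∧
      W.valuation (x * (ϖ ^ n / ϖ ^ j)) ≤ 1)
    (f : ℕ → Ω) (hf : ∀ i, f i ∈ F) (hu : ∑ i ∈ Finset.range p, f i * θ₃ ^ i ≠ 0) :
    W.valuation (∑ i ∈ Finset.range p, f i * θ₃ ^ i - ∑ i ∈ Finset.range p, f i * θ₂ ^ i) <
      W.valuation (∑ i ∈ Finset.range p, f i * θ₃ ^ i) := by
  have hu₂ : ∑ i ∈ Finset.range p, f i * θ₂ ^ i ≠ 0 := by
    intro h0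
    apply hu
    have hz := hindep f hf h0
    exact Finset.sum_eq_zero (fun i hi => by rw [hz i (Finset.mem_range.1 hi), zero_mul])
  have h := twin23 W F p θ₂ θ₃ dΩ ϖ hscale hθ₂ hθ₃ hγ hcond harch f hf hu₂
  have heq : W.valuation (∑ i ∈ Finset.range p, f i * θ₃ ^ i) =
      W.valuation (∑ i ∈ Finset.range p, f i * θ₂ ^ i) := by
    have := Valuation.map_add_eq_of_lt_right W.valuation h
    rwa [sub_add_cancel] at this
  rw [heq]
  exact h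

/-- Bound on `θ₃ - θ₂` from the Artin–Schreier-like relation. -/
theorem gamma_bound (W : ValuationSubring Ω) (p : ℕ) (hp : p ≠ 0) (θ₂ θ₃ c b : Ω)
    (hθ₃ : θ₃ ∈ W) (hrel : (θ₃ - θ₂) ^ p = c * θ₃)
    (hc : W.valuation c ≤ (W.valuation b) ^ p) :
    W.valuation (θ₃ - θ₂) ≤ W.valuation b := by
  by_contra hcon
  rw [not_le] at hcon
  have h1 : W.valuation b ^ p < W.valuation (θ₃ - θ₂) ^ p := pow_lt_pow_left₀ hcon zero_le' hp
  rw [← map_pow _ (θ₃ - θ₂), hrel, map_mul] at h1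
  have h2 : W.valuation c * W.valuation θ₃ ≤ W.valuation b ^ p * 1 :=
    mul_le_mul' hc ((W.valuation_le_one_iff _).2 hθ₃)
  rw [mul_one] at h2
  exact absurd h2 (not_le.2 h1)

/-- Elements whose difference has valuation `< 1` have the same residue. -/
theorem residue_eq_of_sub_lt_one (W : ValuationSubring Ω) (x y : W)
    (h : W.valuation ((x : Ω) - (y : Ω)) < 1) :
    IsLocalRing.residue W x = IsLocalRing.residue W y := by
  rw [← sub_eq_zero, ← map_sub, IsLocalRing.residue_eq_zero_iff,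
    ValuationSubring.valuation_lt_one_iff]
  exact h

end Twin

end Groth.Agent.Lib.Helper9.TwinLemma
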