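import Mathlib
import Groth.Agent.Lib.Helper9.TwinLemma
import Groth.Agent.Lib.Helper9.CondBound

/-!
# The twin lemma in an ambient field: `K₂ = K₁[α]` versus `K₃ = K₁[β]`
-/

open Polynomial

universe u

set_option linter.unusedSectionVars false
set_option linter.style.haveILetI false
set_option linter.overlappingInstances false

namespace Groth.Agent.Lib.Helper9.TwinAmb

open Groth.Agent.Lib.Helper9.TwinLemma Groth.Agent.Lib.Helper9.CondBound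

set_option maxHeartbeats 1600000 in
theorem twin_amb (p : ℕ) (hp : p.Prime) {L K₁ K₂ K₃ Ω : Type u} [Field L] [Field K₁] [Field K₂]
    [Field K₃] [Field Ω] [Algebra L Ω] [Algebra K₁ K₂] [Algebra K₁ K₃] [Algebra K₁ Ω]
    [Algebra K₂ Ω] [Algebra K₃ Ω] [IsScalarTower K₁ K₂ Ω] [IsScalarTower K₁ K₃ Ω] [CharP Ω p]
    (W : ValuationSubring Ω) (Fs : Subalgebra L Ω)
    (hFs₁ : ∀ k : K₁, algebraMap K₁ Ω k ∈ Fs)
    (hFs₂ : Fs ≤ Algebra.adjoin L (Set.range (algebraMap K₂ Ω)))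
    (α : K₂) (β₃ : K₃) (a c₁ : K₁)
    (hα : algebraMap K₁ K₂ a = α ^ p)
    (hβ : β₃ ^ p = algebraMap K₁ K₃ c₁ * β₃ + algebraMap K₁ K₃ a)
    (hgenα : ∀ y : K₂, ∃ q : K₁[X], aeval α q = y)
    (hgenβ : ∀ y : K₃, ∃ q : K₁[X], aeval β₃ q = y)
    (dΩ ϖ : Ω) (ϖL : L) (hϖ : ϖ = algebraMap L Ω ϖL)
    (haW : algebraMap K₁ Ω a ∈ W)
    (hc : W.valuation (algebraMap K₁ Ω c₁) ≤ (W.valuation dΩ * W.valuation ϖ) ^ p)
    (hc1 : algebraMap K₁ Ω c₁ ∈ W)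
    (hcond : ∀ f : ℕ → Ω, (∀ i, f i ∈ Fs) →
      ∑ i ∈ Finset.range p, f i * (algebraMap K₂ Ω α) ^ i ∈ W → ∀ i < p, dΩ * f i ∈ W)
    (hindep : ∀ f : ℕ → Ω, (∀ i, f i ∈ Fs) →
      ∑ i ∈ Finset.range p, f i * (algebraMap K₂ Ω α) ^ i = 0 → ∀ i < p, f i = 0)
    (harch : ∀ x : Ω, x ≠ 0 → ∃ n j : ℕ, W.valuation ϖ < W.valuation (x * (ϖ ^ n / ϖ ^ j)) ∧
      W.valuation (x * (ϖ ^ n / ϖ ^ j)) ≤ 1) :
    (∀ x ∈ Algebra.adjoin L (Set.range (algebraMap K₃ Ω)), x ≠ 0 →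
      ∃ y ∈ Algebra.adjoin L (Set.range (algebraMap K₂ Ω)),
        W.valuation (x - y) < W.valuation x) ∧
    (∀ a₂ : K₂, a₂ ≠ 0 → ∃ a₃ : K₃,
      W.valuation (algebraMap K₃ Ω a₃ - algebraMap K₂ Ω a₂) < W.valuation (algebraMap K₂ Ω a₂)) ∧
    (∀ a₃ : K₃, a₃ ≠ 0 → ∃ a₂ : K₂,
      W.valuation (algebraMap K₃ Ω a₃ - algebraMap K₂ Ω a₂) <
        W.valuation (algebraMap K₃ Ω a₃)) := by
  classical
  haveI : Fact p.Prime := ⟨hp⟩
  set v := W.valuation with hv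
  set θ₂ : Ω := algebraMap K₂ Ω α with hθ₂
  set θ₃ : Ω := algebraMap K₃ Ω β₃ with hθ₃
  set aΩ : Ω := algebraMap K₁ Ω a with haΩ
  set cΩ : Ω := algebraMap K₁ Ω c₁ with hcΩ
  have hθ₂p : θ₂ ^ p = aΩ := by
    rw [hθ₂, ← map_pow, ← hα, ← IsScalarTower.algebraMap_apply K₁ K₂ Ω]
  have hθ₃p : θ₃ ^ p = cΩ * θ₃ + aΩ := by
    rw [hθ₃, ← map_pow, hβ, map_add, map_mul, ← IsScalarTower.algebraMap_apply K₁ K₃ Ω,
      ← IsScalarTower.algebraMap_apply K₁ K₃ Ω]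
  have haW' : v aΩ ≤ 1 := (W.valuation_le_one_iff _).2 haW
  have hcW' : v cΩ ≤ 1 := (W.valuation_le_one_iff _).2 hc1
  have hθ₂W : θ₂ ∈ W := by
    rw [← ValuationSubring.valuation_le_one_iff]
    by_contra hcon
    rw [not_le] at hcon
    have h1 : 1 < v θ₂ ^ p := one_lt_pow₀ hcon hp.ne_zero
    rw [← map_pow, hθ₂p] at h1
    exact absurd haW' (not_le.2 h1)
  have hθ₃W : θ₃ ∈ W := by
    rw [← ValuationSubring.valuation_le_one_iff]
    by_contra hcon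
    rw [not_le] at hcon
    have h1 : v θ₃ < v θ₃ ^ p := lt_self_pow₀ hcon hp.one_lt
    rw [← map_pow, hθ₃p] at h1
    have h2 : v (cΩ * θ₃ + aΩ) ≤ v θ₃ := by
      apply Valuation.map_add_le
      · rw [map_mul]
        calc v cΩ * v θ₃ ≤ 1 * v θ₃ := mul_le_mul_left hcW' _
          _ = v θ₃ := one_mul _
      · exact haW'.trans hcon.le
    exact absurd h2 (not_le.2 h1)
  have hrel : (θ₃ - θ₂) ^ p = cΩ * θ₃ := by
    rw [sub_pow_char, hθ₃p, hθ₂p, add_sub_cancel_right]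
  have hγ : v (θ₃ - θ₂) ≤ v dΩ * v ϖ := by
    have := gamma_bound W p hp.ne_zero θ₂ θ₃ cΩ (dΩ * ϖ) hθ₃W hrel (by rw [map_mul]; exact hc)
    rwa [map_mul] at this
  have hscale : ∀ n j : ℕ, ∀ x ∈ (Fs : Set Ω), x * (ϖ ^ n / ϖ ^ j) ∈ (Fs : Set Ω) := by
    intro n j x hx
    refine Fs.mul_mem hx ?_
    rw [hϖ, ← map_pow, ← map_pow, ← map_div₀]
    exact Fs.algebraMap_mem _
  have T23 := twin23 W (Fs : Set Ω) p θ₂ θ₃ dΩ ϖ hscale hθ₂W hθ₃W hγ hcond harch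
  have T32 := twin32 W (Fs : Set Ω) p θ₂ θ₃ dΩ ϖ hscale hθ₂W hθ₃W hγ hcond hindep harch
  -- the two polynomials
  have hm₂ : (X ^ p - C a : K₁[X]).Monic := monic_X_pow_sub_C a hp.ne_zero
  have hnd₂ : (X ^ p - C a : K₁[X]).natDegree = p := natDegree_X_pow_sub_C
  have hroot₂ : aeval α (X ^ p - C a : K₁[X]) = 0 := by
    rw [map_sub, map_pow, aeval_X, aeval_C, hα, sub_self]
  set h₃ : K₁[X] := X ^ p - (C c₁ * X + C a) with hh₃
  have hlin : (C c₁ * X + C a : K₁[X]).degree < (X ^ p : K₁[X]).degree := by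
    rw [degree_X_pow]
    exact lt_of_le_of_lt degree_linear_le (by exact_mod_cast hp.one_lt)
  have hm₃ : h₃.Monic := (monic_X_pow p).sub_of_left hlin
  have hnd₃ : h₃.natDegree = p := by
    rw [hh₃, natDegree_sub_eq_left_of_natDegree_lt, natDegree_X_pow]
    rw [natDegree_X_pow]
    exact lt_of_le_of_lt natDegree_linear_le hp.one_lt
  have hroot₃ : aeval β₃ h₃ = 0 := by
    rw [hh₃, map_sub, map_pow, aeval_X, map_add, map_mul, aeval_C, aeval_C, aeval_X, hβ, sub_self]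
  refine ⟨?_, ?_, ?_⟩
  · -- elements of `L[K₃]`
    intro x hx hx0
    let ι₁ : K₁ →+* Fs := (algebraMap K₁ Ω).codRestrict Fs hFs₁
    letI : Algebra K₁ Fs := ι₁.toAlgebra
    haveI : IsScalarTower K₁ Fs Ω := IsScalarTower.of_algebraMap_eq (fun _ => rfl)
    have hle : Algebra.adjoin L (Set.range (algebraMap K₃ Ω)) ≤
        ((aeval θ₃ : (Fs)[X] →ₐ[Fs] Ω).restrictScalars L).range := by
      apply Algebra.adjoin_le
      rintro _ ⟨y, rfl⟩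
      obtain ⟨q, rfl⟩ := hgenβ y
      refine ⟨q.map (algebraMap K₁ Fs), ?_⟩
      show aeval θ₃ (q.map (algebraMap K₁ Fs)) = _
      rw [aeval_map_algebraMap, hθ₃, aeval_algebraMap_apply]
    obtain ⟨Q, hQ⟩ := hle hx
    have hQ' : aeval θ₃ Q = x := hQ
    have hroot₃' : aeval θ₃ (h₃.map (algebraMap K₁ Fs)) = 0 := by
      rw [aeval_map_algebraMap, hθ₃, aeval_algebraMap_apply, hroot₃, map_zero]
    obtain ⟨g, hg⟩ := rep_of_monic θ₃ (h₃.map (algebraMap K₁ Fs)) (hm₃.map _)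
      (by rw [hm₃.natDegree_map, hnd₃]; exact hp.ne_zero) hroot₃' Q
    rw [hm₃.natDegree_map, hnd₃, hQ'] at hg
    have hg' : x = ∑ i ∈ Finset.range p, ((g i : Fs) : Ω) * θ₃ ^ i := hg
    have hfs : ∀ i, ((g i : Fs) : Ω) ∈ (Fs : Set Ω) := fun i => (g i).2
    have hne : ∑ i ∈ Finset.range p, ((g i : Fs) : Ω) * θ₃ ^ i ≠ 0 := by rw [← hg']; exact hx0
    have := T32 (fun i => ((g i : Fs) : Ω)) hfs hne
    refine ⟨∑ i ∈ Finset.range p, ((g i : Fs) : Ω) * θ₂ ^ i, ?_, ?_⟩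
    · have hθmem : θ₂ ∈ Algebra.adjoin L (Set.range (algebraMap K₂ Ω)) :=
        Algebra.subset_adjoin (Set.mem_range_self α)
      exact Subalgebra.sum_mem _ (fun i _ => Subalgebra.mul_mem _ (hFs₂ (g i).2)
        (Subalgebra.pow_mem _ hθmem i))
    · rw [hg']
      exact this
  · intro a₂ ha₂
    obtain ⟨q, hq⟩ := hgenα a₂
    obtain ⟨g, hg⟩ := rep_of_monic α (X ^ p - C a : K₁[X]) hm₂
      (by rw [hnd₂]; exact hp.ne_zero) hroot₂ q
    rw [hnd₂, hq] at hg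
    have h2 : algebraMap K₂ Ω a₂ = ∑ i ∈ Finset.range p, algebraMap K₁ Ω (g i) * θ₂ ^ i := by
      rw [hg, map_sum]
      refine Finset.sum_congr rfl (fun i _ => ?_)
      rw [map_mul, map_pow, ← IsScalarTower.algebraMap_apply K₁ K₂ Ω]
    refine ⟨∑ i ∈ Finset.range p, algebraMap K₁ K₃ (g i) * β₃ ^ i, ?_⟩
    have h3 : algebraMap K₃ Ω (∑ i ∈ Finset.range p, algebraMap K₁ K₃ (g i) * β₃ ^ i) =
        ∑ i ∈ Finset.range p, algebraMap K₁ Ω (g i) * θ₃ ^ i := by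
      rw [map_sum]
      refine Finset.sum_congr rfl (fun i _ => ?_)
      rw [map_mul, map_pow, ← IsScalarTower.algebraMap_apply K₁ K₃ Ω]
    rw [h2, h3]
    refine T23 (fun i => algebraMap K₁ Ω (g i)) (fun i => hFs₁ _) ?_
    rw [← h2]
    exact (map_ne_zero_iff _ (algebraMap K₂ Ω).injective).2 ha₂
  · intro a₃ ha₃
    obtain ⟨q, hq⟩ := hgenβ a₃
    obtain ⟨g, hg⟩ := rep_of_monic β₃ h₃ hm₃ (by rw [hnd₃]; exact hp.ne_zero) hroot₃ q
    rw [hnd₃, hq] at hg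
    have h3 : algebraMap K₃ Ω a₃ = ∑ i ∈ Finset.range p, algebraMap K₁ Ω (g i) * θ₃ ^ i := by
      rw [hg, map_sum]
      refine Finset.sum_congr rfl (fun i _ => ?_)
      rw [map_mul, map_pow, ← IsScalarTower.algebraMap_apply K₁ K₃ Ω]
    refine ⟨∑ i ∈ Finset.range p, algebraMap K₁ K₂ (g i) * α ^ i, ?_⟩
    have h2 : algebraMap K₂ Ω (∑ i ∈ Finset.range p, algebraMap K₁ K₂ (g i) * α ^ i) =
        ∑ i ∈ Finset.range p, algebraMap K₁ Ω (g i) * θ₂ ^ i := by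
      rw [map_sum]
      refine Finset.sum_congr rfl (fun i _ => ?_)
      rw [map_mul, map_pow, ← IsScalarTower.algebraMap_apply K₁ K₂ Ω]
    rw [h2, h3]
    refine T32 (fun i => algebraMap K₁ Ω (g i)) (fun i => hFs₁ _) ?_
    rw [← h3]
    exact (map_ne_zero_iff _ (algebraMap K₃ Ω).injective).2 ha₃

end Groth.Agent.Lib.Helper9.TwinAmb
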