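import Mathlib
import Groth.Prelude.Def_EtRam
import Groth.Prelude.Def_CAlg
import Groth.Agent.Lib.Helper9.TwinAmb
import Groth.Agent.Lib.Helper9.GRTransfer
import Groth.Agent.Lib.Helper9.SolTower
import Groth.Agent.Lib.Helper9.DvrTower
import Groth.Agent.Lib.Helper9.DvrExt

/-!
# The separable replacement of a purely inseparable degree `p` step (Epp)
-/

open Polynomial IntermediateField

universe u

set_option linter.unusedSectionVars false
set_option linter.style.haveILetI false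
set_option linter.overlappingInstances false

namespace Groth.Agent.Lib.Helper9.SepStep

open Groth.Agent.Lib.Helper9.DvrExt Groth.Agent.Lib.Helper9.DvrTower
  Groth.Agent.Lib.Helper9.TwinLemma Groth.Agent.Lib.Helper9.CondBound

/-- A finite separable extension generated by a root of `X^p - c X - a`. -/
theorem exists_sep_ext (p : ℕ) (hp : p.Prime) (K₁ : Type u) [Field K₁] [CharP K₁ p] (a c₁ : K₁)
    (hc : c₁ ≠ 0) :
    ∃ (K₃ : Type u) (_ : Field K₃) (_ : Algebra K₁ K₃) (β₃ : K₃),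
      FiniteDimensional K₁ K₃ ∧ Algebra.IsSeparable K₁ K₃ ∧
      β₃ ^ p = algebraMap K₁ K₃ c₁ * β₃ + algebraMap K₁ K₃ a ∧
      ∀ y : K₃, ∃ q : K₁[X], aeval β₃ q = y := by
  classical
  set h₃ : K₁[X] := X ^ p - (C c₁ * X + C a) with hh₃
  have hlin : (C c₁ * X + C a : K₁[X]).degree < (X ^ p : K₁[X]).degree := by
    rw [degree_X_pow]
    exact lt_of_le_of_lt degree_linear_le (by exact_mod_cast hp.one_lt)
  have hm₃ : h₃.Monic := (monic_X_pow p).sub_of_left hlin
  have hnd₃ : h₃.natDegree = p := by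
    rw [hh₃, natDegree_sub_eq_left_of_natDegree_lt, natDegree_X_pow]
    rw [natDegree_X_pow]
    exact lt_of_le_of_lt natDegree_linear_le hp.one_lt
  have hdeg : h₃.degree ≠ 0 := by
    rw [degree_eq_natDegree hm₃.ne_zero, hnd₃]
    exact_mod_cast hp.ne_zero
  obtain ⟨β, hβ⟩ := IsAlgClosed.exists_root (h₃.map (algebraMap K₁ (AlgebraicClosure K₁)))
    (by rwa [degree_map])
  have hβ' : aeval β h₃ = 0 := by rwa [IsRoot.def, eval_map_algebraMap] at hβ
  have hint : IsIntegral K₁ β := ⟨h₃, hm₃, by rwa [← aeval_def]⟩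
  refine ⟨K₁⟮β⟯, inferInstance, inferInstance, AdjoinSimple.gen K₁ β,
    adjoin.finiteDimensional hint, ?_, ?_, ?_⟩
  · rw [isSeparable_adjoin_simple_iff_isSeparable]
    have hsep : h₃.Separable := by
      rw [separable_def]
      have hder : derivative h₃ = - C c₁ := by
        rw [hh₃]
        simp [derivative_X_pow, CharP.cast_eq_zero K₁ p]
      rw [hder]
      exact ⟨0, -C c₁⁻¹, by rw [zero_mul, zero_add, neg_mul_neg, ← C_mul, inv_mul_cancel₀ hc, C_1]⟩
    exact hsep.of_dvd (minpoly.dvd K₁ β hβ')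
  · apply (algebraMap K₁⟮β⟯ (AlgebraicClosure K₁)).injective
    rw [map_pow, map_add, map_mul, AdjoinSimple.algebraMap_gen,
      ← IsScalarTower.algebraMap_apply, ← IsScalarTower.algebraMap_apply]
    have := hβ'
    rw [hh₃, map_sub, map_pow, aeval_X, map_add, map_mul, aeval_C, aeval_C, aeval_X,
      sub_eq_zero] at this
    exact this
  · intro y
    have hy : (y : AlgebraicClosure K₁) ∈ K₁⟮β⟯.toSubalgebra := y.2
    rw [adjoin_simple_toSubalgebra_of_isAlgebraic hint.isAlgebraic,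
      Algebra.adjoin_singleton_eq_range_aeval] at hy
    obtain ⟨q, hq⟩ := hy
    refine ⟨q, ?_⟩
    apply (algebraMap K₁⟮β⟯ (AlgebraicClosure K₁)).injective
    rw [← aeval_algebraMap_apply, AdjoinSimple.algebraMap_gen]
    exact hq

/-- `v y = v x` when `v (x - y) < v x`. -/
theorem valuation_eq_of_sub_lt {Ω : Type*} [Field Ω] (W : ValuationSubring Ω) (x y : Ω)
    (h : W.valuation (x - y) < W.valuation x) : W.valuation y = W.valuation x := by
  have h' : W.valuation (y - x) < W.valuation x := by rwa [Valuation.map_sub_swap]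
  have := Valuation.map_add_eq_of_lt_right W.valuation h'
  rwa [sub_add_cancel] at this

set_option maxHeartbeats 3200000 in
/-- Main theorem, with the ambient algebraically closed field as a parameter. -/
theorem sep_step_aux (p : ℕ) (hp : p.Prime) (A B K L : Type u)
    [CommRing A] [IsDomain A] [IsDiscreteValuationRing A] [CommRing B] [IsDomain B]
    [IsDiscreteValuationRing B]
    [Algebra A B] (hinj : Function.Injective (algebraMap A B)) [IsLocalHom (algebraMap A B)]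
    [Field K] [Field L] [Algebra A K] [IsFractionRing A K] [Algebra B L] [IsFractionRing B L]
    [Algebra K L] [Algebra A L] [IsScalarTower A K L] [IsScalarTower A B L] [CharP K p]
    [Algebra.IsGeometricallyReduced K L] (hB : CAlg.IsNagata B)
    (Ω : Type u) [Field Ω] [Algebra L Ω] [IsAlgClosed Ω] [Algebra.IsAlgebraic L Ω]
    [Algebra K Ω] [IsScalarTower K L Ω] [Algebra B Ω] [IsScalarTower B L Ω]
    (K₁ K₂ : Type u) [Field K₁] [Field K₂] [Algebra K K₁] [Algebra K K₂] [Algebra K₁ K₂]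
    [IsScalarTower K K₁ K₂]
    [FiniteDimensional K K₁] [FiniteDimensional K₁ K₂] (hsol : EtRam.IsSolution B K L K₂)
    [IsPurelyInseparable K₁ K₂] (hdeg : Module.finrank K₁ K₂ = p) :
    ∃ (K₃ : Type u) (_ : Field K₃) (_ : Algebra K K₃) (_ : Algebra K₁ K₃)
      (_ : IsScalarTower K K₁ K₃),
      FiniteDimensional K₁ K₃ ∧ Algebra.IsSeparable K₁ K₃ ∧ EtRam.IsSolution B K L K₃ := by
  classical
  haveI : Fact p.Prime := ⟨hp⟩
  haveI : CharP K₁ p := charP_of_injective_algebraMap (algebraMap K K₁).injective p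
  haveI : CharP Ω p := charP_of_injective_algebraMap (algebraMap K Ω).injective p
  haveI : FiniteDimensional K K₂ := FiniteDimensional.trans K K₁ K₂
  have hpow : ∀ x : K₂, ∃ k : K₁, algebraMap K₁ K₂ k = x ^ p := fun x =>
    EppInsep.pow_mem (L := K₁) (M := K₂) hp hdeg x
  -- an element outside `K₁`
  have hex : ∃ α₀ : K₂, α₀ ∉ Set.range (algebraMap K₁ K₂) := by
    by_contra hcon
    push Not at hcon
    have hbt : (⊥ : Subalgebra K₁ K₂) = ⊤ := by
      rw [eq_top_iff]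
      intro x _
      exact Algebra.mem_bot.2 (hcon x)
    have := (Subalgebra.bot_eq_top_iff_finrank_eq_one).1 hbt
    rw [hdeg] at this
    exact hp.one_lt.ne' this
  obtain ⟨α₀, hα₀⟩ := hex
  obtain ⟨a₀, ha₀⟩ := hpow α₀
  -- scaling to make `a` integral
  letI algAK₁ : Algebra A K₁ := ((algebraMap K K₁).comp (algebraMap A K)).toAlgebra
  haveI : IsScalarTower A K K₁ := IsScalarTower.of_algebraMap_eq (fun _ => rfl)
  haveI : Algebra.IsAlgebraic A K₁ :=
    (IsFractionRing.comap_isAlgebraic_iff (A := A) (K := K) (C := K₁)).2 inferInstance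
  obtain ⟨s, hs0, hs⟩ := (Algebra.IsAlgebraic.isAlgebraic (R := A) a₀).exists_integral_multiple
  have hinjAK₁ : Function.Injective (algebraMap A K₁) :=
    (algebraMap K K₁).injective.comp (IsFractionRing.injective A K)
  set sK : K₁ := algebraMap A K₁ s with hsK
  have hsK0 : sK ≠ 0 := (map_ne_zero_iff _ hinjAK₁).2 hs0
  set α : K₂ := algebraMap K₁ K₂ sK * α₀ with hαdef
  set a : K₁ := sK ^ p * a₀ with hadef
  have ha : algebraMap K₁ K₂ a = α ^ p := by
    rw [hadef, map_mul, map_pow, ha₀, hαdef, mul_pow]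
  have haint : IsIntegral A a := by
    obtain ⟨m, hm⟩ := Nat.exists_eq_succ_of_ne_zero hp.ne_zero
    rw [hadef, hm, pow_succ, mul_assoc]
    refine IsIntegral.mul (isIntegral_algebraMap.pow m) ?_
    rw [hsK, ← Algebra.smul_def]
    exact hs
  have hα : α ∉ Set.range (algebraMap K₁ K₂) := by
    rintro ⟨k, hk⟩
    apply hα₀
    refine ⟨sK⁻¹ * k, ?_⟩
    rw [map_mul, hk, hαdef, map_inv₀, ← mul_assoc,
      inv_mul_cancel₀ ((map_ne_zero_iff _ (algebraMap K₁ K₂).injective).2 hsK0), one_mul]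
  have hgenα : ∀ y : K₂, ∃ q : K₁[X], aeval α q = y := by
    haveI : IsSimpleOrder (IntermediateField K₁ K₂) :=
      isSimpleOrder_of_finrank_prime K₁ K₂ (by rw [hdeg]; exact hp)
    have hαint : IsIntegral K₁ α := Algebra.IsIntegral.isIntegral α
    have htop : K₁⟮α⟯ = ⊤ := by
      rcases eq_bot_or_eq_top K₁⟮α⟯ with h | h
      · exfalso
        apply hα
        have : α ∈ (⊥ : IntermediateField K₁ K₂) := by
          rw [← h]
          exact mem_adjoin_simple_self K₁ α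
        exact IntermediateField.mem_bot.1 this
      · exact h
    intro y
    have hy : y ∈ K₁⟮α⟯.toSubalgebra := by
      rw [htop, top_toSubalgebra]
      trivial
    rw [adjoin_simple_toSubalgebra_of_isAlgebraic hαint.isAlgebraic,
      Algebra.adjoin_singleton_eq_range_aeval] at hy
    exact hy
  -- the uniform conductor
  obtain ⟨d, hd0, hd⟩ := cond_uniform p hp B K L K₁ K₂ Ω hB hpow α hα hgenα
  obtain ⟨π, hπ⟩ := IsDiscreteValuationRing.exists_irreducible A
  have hπ0 : π ≠ 0 := hπ.ne_zero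
  have hπm : π ∈ IsLocalRing.maximalIdeal A := by
    rw [IsLocalRing.mem_maximalIdeal]
    exact hπ.not_isUnit
  have hdiv : ∀ b : B, b ≠ 0 → ∃ n : ℕ, b ∣ (algebraMap A B π) ^ n :=
    exists_dvd_pow A B hinj π hπ0 hπm
  obtain ⟨k, hk⟩ := hdiv d hd0
  set cA : A := (π ^ (k + 1)) ^ p with hcA
  set c₁ : K₁ := algebraMap A K₁ cA with hc₁
  have hc₁0 : c₁ ≠ 0 := (map_ne_zero_iff _ hinjAK₁).2 (pow_ne_zero _ (pow_ne_zero _ hπ0))
  obtain ⟨K₃, _, _, β₃, hfd, hsep, hβ, hgenβ⟩ := exists_sep_ext p hp K₁ a c₁ hc₁0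
  letI algKK₃ : Algebra K K₃ := ((algebraMap K₁ K₃).comp (algebraMap K K₁)).toAlgebra
  haveI tKK₁K₃ : IsScalarTower K K₁ K₃ := IsScalarTower.of_algebraMap_eq (fun _ => rfl)
  refine ⟨K₃, inferInstance, algKK₃, inferInstance, tKK₁K₃, hfd, hsep, ?_⟩
  -- the solution property
  intro M₃ _ _ _ _ _ _ hgen₃ W₃ hW₃
  haveI := hfd
  haveI : FiniteDimensional K K₃ := FiniteDimensional.trans K K₁ K₃
  haveI : FiniteDimensional L M₃ := finiteDimensional_of_adjoin_eq_top (K := K) hgen₃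
  let ι₃ : M₃ →ₐ[L] Ω := IsAlgClosed.lift
  letI aM₃Ω : Algebra M₃ Ω := ι₃.toRingHom.toAlgebra
  haveI tLM₃Ω : IsScalarTower L M₃ Ω :=
    IsScalarTower.of_algebraMap_eq (fun l => (ι₃.commutes l).symm)
  letI aK₃Ω : Algebra K₃ Ω := ((algebraMap M₃ Ω).comp (algebraMap K₃ M₃)).toAlgebra
  haveI tK₃M₃Ω : IsScalarTower K₃ M₃ Ω := IsScalarTower.of_algebraMap_eq (fun _ => rfl)
  letI aK₁Ω : Algebra K₁ Ω := ((algebraMap K₃ Ω).comp (algebraMap K₁ K₃)).toAlgebra
  haveI tK₁K₃Ω : IsScalarTower K₁ K₃ Ω := IsScalarTower.of_algebraMap_eq (fun _ => rfl)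
  haveI tKM₃Ω : IsScalarTower K M₃ Ω := IsScalarTower.of_algebraMap_eq (fun k => by
    rw [IsScalarTower.algebraMap_apply K L Ω, IsScalarTower.algebraMap_apply L M₃ Ω,
      ← IsScalarTower.algebraMap_apply K L M₃])
  haveI tKK₃Ω : IsScalarTower K K₃ Ω := IsScalarTower.of_algebraMap_eq (fun k => by
    show algebraMap K Ω k = algebraMap M₃ Ω (algebraMap K₃ M₃ (algebraMap K K₃ k))
    rw [← IsScalarTower.algebraMap_apply K K₃ M₃, ← IsScalarTower.algebraMap_apply K M₃ Ω])
  haveI tKK₁Ω : IsScalarTower K K₁ Ω := IsScalarTower.of_algebraMap_eq (fun k => by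
    show algebraMap K Ω k = algebraMap K₃ Ω (algebraMap K₁ K₃ (algebraMap K K₁ k))
    rw [← IsScalarTower.algebraMap_apply K K₁ K₃, ← IsScalarTower.algebraMap_apply K K₃ Ω])
  let σ₁ : K₂ →ₐ[K₁] Ω := IsAlgClosed.lift
  letI aK₂Ω : Algebra K₂ Ω := σ₁.toRingHom.toAlgebra
  haveI tK₁K₂Ω : IsScalarTower K₁ K₂ Ω :=
    IsScalarTower.of_algebraMap_eq (fun k => (σ₁.commutes k).symm)
  haveI tKK₂Ω : IsScalarTower K K₂ Ω := IsScalarTower.of_algebraMap_eq (fun k => by
    rw [IsScalarTower.algebraMap_apply K K₁ Ω, IsScalarTower.algebraMap_apply K₁ K₂ Ω,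
      ← IsScalarTower.algebraMap_apply K K₁ K₂])
  let σ : K₂ →ₐ[K] Ω := IsScalarTower.toAlgHom K K₂ Ω
  -- the valuation ring of `Ω`
  obtain ⟨WΩ, hWΩ⟩ := exists_comap_eq (algebraMap M₃ Ω) W₃
  subst hWΩ
  have hBΩ : (algebraMap M₃ Ω).comp ((algebraMap L M₃).comp (algebraMap B L)) =
      algebraMap B Ω := by
    ext b
    simp only [RingHom.comp_apply]
    rw [← IsScalarTower.algebraMap_apply L M₃ Ω, ← IsScalarTower.algebraMap_apply B L Ω]
  have hWΩdom : EtRam.Dominates B (algebraMap B Ω) WΩ := by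
    have := (dominates_comap_iff _ _ _).1 hW₃
    rwa [hBΩ] at this
  -- the compositum `M₂ = L·K₂`
  obtain ⟨M₂, _, _, _, _, _, _, _, _, _, _, hgen₂⟩ := SolTower.exists_mid K L K₂ Ω
  set W₂ : ValuationSubring M₂ := WΩ.comap (algebraMap M₂ Ω) with hW₂def
  have hW₂ : EtRam.Dominates B ((algebraMap L M₂).comp (algebraMap B L)) W₂ := by
    rw [hW₂def, dominates_comap_iff]
    have : (algebraMap M₂ Ω).comp ((algebraMap L M₂).comp (algebraMap B L)) =
        algebraMap B Ω := by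
      ext b
      simp only [RingHom.comp_apply]
      rw [← IsScalarTower.algebraMap_apply L M₂ Ω, ← IsScalarTower.algebraMap_apply B L Ω]
    rw [this]
    exact hWΩdom
  have h2 := hsol M₂ hgen₂ W₂ hW₂
  have hwu₂ := (isWeaklyUnramified_comap_iff W₂ (algebraMap K₂ M₂)).1 h2.1
  -- inputs of the twin lemma
  set Fs : Subalgebra L Ω :=
    Algebra.adjoin L (Set.range (σ.toRingHom.comp (algebraMap K₁ K₂))) with hFs
  have hFs₁ : ∀ k : K₁, algebraMap K₁ Ω k ∈ Fs := fun k =>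
    Algebra.subset_adjoin ⟨k, (IsScalarTower.algebraMap_apply K₁ K₂ Ω k).symm⟩
  have hFs₂ : Fs ≤ Algebra.adjoin L (Set.range (algebraMap K₂ Ω)) :=
    Algebra.adjoin_mono (by
      rintro _ ⟨k, rfl⟩
      exact ⟨algebraMap K₁ K₂ k, rfl⟩)
  obtain ⟨hindep, hcond⟩ := hd σ
  have hcond' := hcond WΩ hWΩdom
  set πB : B := algebraMap A B π with hπB
  have hπB0 : πB ≠ 0 := (map_ne_zero_iff _ hinj).2 hπ0
  have hπBm : πB ∈ IsLocalRing.maximalIdeal B := by
    rw [IsLocalRing.mem_maximalIdeal, mem_nonunits_iff]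
    intro hu
    exact hπ.not_isUnit (isUnit_of_map_unit (algebraMap A B) π hu)
  have hinjBΩ : Function.Injective (algebraMap B Ω) := by
    rw [IsScalarTower.algebraMap_eq B L Ω]
    exact (algebraMap L Ω).injective.comp (IsFractionRing.injective B L)
  set ϖ : Ω := algebraMap B Ω πB with hϖdef
  have hϖ0 : ϖ ≠ 0 := (map_ne_zero_iff _ hinjBΩ).2 hπB0
  have hϖ1 : WΩ.valuation ϖ < 1 := hWΩdom.2 πB hπBm
  haveI : Algebra.IsAlgebraic B Ω :=
    (IsFractionRing.comap_isAlgebraic_iff (A := B) (K := L) (C := Ω)).2 inferInstance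
  have harch : ∀ x : Ω, x ≠ 0 → ∃ n j : ℕ,
      WΩ.valuation ϖ < WΩ.valuation (x * (ϖ ^ n / ϖ ^ j)) ∧
      WΩ.valuation (x * (ϖ ^ n / ϖ ^ j)) ≤ 1 := fun x hx0 =>
    exists_scale WΩ hWΩdom.1 πB hdiv hϖ0 hϖ1 x hx0 (Algebra.IsAlgebraic.isAlgebraic x)
  have hAΩ : ∀ x : A, algebraMap K₁ Ω (algebraMap A K₁ x) =
      algebraMap B Ω (algebraMap A B x) := by
    intro x
    show algebraMap K₁ Ω (algebraMap K K₁ (algebraMap A K x)) = _
    rw [← IsScalarTower.algebraMap_apply K K₁ Ω, IsScalarTower.algebraMap_apply K L Ω,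
      ← IsScalarTower.algebraMap_apply A K L, IsScalarTower.algebraMap_apply A B L,
      ← IsScalarTower.algebraMap_apply B L Ω]
  letI aAΩ : Algebra A Ω := ((algebraMap B Ω).comp (algebraMap A B)).toAlgebra
  haveI : IsScalarTower A B Ω := IsScalarTower.of_algebraMap_eq (fun _ => rfl)
  haveI : IsScalarTower A K₁ Ω := IsScalarTower.of_algebraMap_eq (fun x => (hAΩ x).symm)
  have haW : algebraMap K₁ Ω a ∈ WΩ :=
    SeidenbergLoc.mem_of_isIntegral (B := A) WΩ (fun x => hWΩdom.1 _) haint.algebraMap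
  have hc₁Ω : algebraMap K₁ Ω c₁ = (ϖ ^ (k + 1)) ^ p := by
    rw [hc₁, hAΩ, hcA, map_pow, map_pow, map_pow, map_pow]
  have hc1 : algebraMap K₁ Ω c₁ ∈ WΩ := by
    rw [hc₁Ω]
    exact pow_mem (pow_mem (hWΩdom.1 πB) _) _
  have hc : WΩ.valuation (algebraMap K₁ Ω c₁) ≤
      (WΩ.valuation (algebraMap B Ω d) * WΩ.valuation ϖ) ^ p := by
    rw [hc₁Ω, map_pow]
    refine pow_le_pow_left' ?_ p
    rw [map_pow, pow_succ]
    refine mul_le_mul_left ?_ _
    obtain ⟨b', hb'⟩ := hk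
    have h1 : WΩ.valuation ϖ ^ k =
        WΩ.valuation (algebraMap B Ω d) * WΩ.valuation (algebraMap B Ω b') := by
      rw [← map_pow, hϖdef, ← map_pow, hb', map_mul, map_mul]
    rw [h1]
    exact mul_le_of_le_one_right' ((WΩ.valuation_le_one_iff _).2 (hWΩdom.1 b'))
  obtain ⟨TM, TK23, TK32⟩ := TwinAmb.twin_amb p hp WΩ Fs hFs₁ hFs₂ α β₃ a c₁ ha hβ hgenα hgenβ
    (algebraMap B Ω d) ϖ (algebraMap B L πB) (IsScalarTower.algebraMap_apply B L Ω πB)
    haW hc hc1 hcond' hindep harch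
  -- translate to `M₃`, `M₂`
  have hM₃range : Algebra.adjoin L (Set.range (algebraMap K₃ Ω)) =
      (IsScalarTower.toAlgHom L M₃ Ω).range := by
    have h := AlgHom.map_adjoin (IsScalarTower.toAlgHom L M₃ Ω) (Set.range (algebraMap K₃ M₃))
    rw [hgen₃, Algebra.map_top] at h
    rw [h]
    congr 1
    ext x
    constructor
    · rintro ⟨k, rfl⟩
      exact ⟨algebraMap K₃ M₃ k, ⟨k, rfl⟩, rfl⟩
    · rintro ⟨_, ⟨k, rfl⟩, rfl⟩
      exact ⟨k, rfl⟩
  have hM₂range : Algebra.adjoin L (Set.range (algebraMap K₂ Ω)) =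
      (IsScalarTower.toAlgHom L M₂ Ω).range := by
    have h := AlgHom.map_adjoin (IsScalarTower.toAlgHom L M₂ Ω) (Set.range (algebraMap K₂ M₂))
    rw [hgen₂, Algebra.map_top] at h
    rw [h]
    congr 1
    ext x
    constructor
    · rintro ⟨k, rfl⟩
      exact ⟨algebraMap K₂ M₂ k, ⟨k, rfl⟩, (IsScalarTower.algebraMap_apply K₂ M₂ Ω k).symm⟩
    · rintro ⟨_, ⟨k, rfl⟩, rfl⟩
      exact ⟨k, IsScalarTower.algebraMap_apply K₂ M₂ Ω k⟩
  have TM' : ∀ x₃ : M₃, x₃ ≠ 0 → ∃ x₂ : M₂,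
      WΩ.valuation (algebraMap M₃ Ω x₃ - algebraMap M₂ Ω x₂) <
        WΩ.valuation (algebraMap M₃ Ω x₃) := by
    intro x₃ h
    obtain ⟨y, hy, hlt⟩ := TM (algebraMap M₃ Ω x₃) (by rw [hM₃range]; exact ⟨x₃, rfl⟩)
      ((map_ne_zero_iff _ (algebraMap M₃ Ω).injective).2 h)
    rw [hM₂range] at hy
    obtain ⟨x₂, hx₂⟩ := hy
    refine ⟨x₂, ?_⟩
    have hx₂' : algebraMap M₂ Ω x₂ = y := hx₂
    rw [hx₂']
    exact hlt
  set W₃ : ValuationSubring M₃ := WΩ.comap (algebraMap M₃ Ω) with hW₃def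
  refine ⟨(isWeaklyUnramified_comap_iff W₃ (algebraMap K₃ M₃)).2 ?_, ?_⟩
  · -- weakly unramified
    intro x hx
    by_cases hx0 : x = 0
    · refine ⟨0, ?_, 0, W₃.zero_mem, ?_⟩
      · rw [map_zero, map_zero]
        exact zero_lt_one
      · rw [hx0, mul_zero]
    rw [hW₃def, valuation_comap_lt_one_iff] at hx
    obtain ⟨x₂, hx₂⟩ := TM' x hx0
    have hvx₂ := valuation_eq_of_sub_lt WΩ _ _ hx₂
    have hvx0 : WΩ.valuation (algebraMap M₃ Ω x) ≠ 0 :=
      (Valuation.ne_zero_iff _).2 ((map_ne_zero_iff _ (algebraMap M₃ Ω).injective).2 hx0)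
    have hx₂lt : W₂.valuation x₂ < 1 := by
      rw [hW₂def, valuation_comap_lt_one_iff, hvx₂]
      exact hx
    obtain ⟨a₂, ha₂lt, w, hw, hxw⟩ := hwu₂ x₂ hx₂lt
    have hx₂0 : x₂ ≠ 0 := by
      intro h0
      rw [h0, map_zero, map_zero] at hvx₂
      exact hvx0 hvx₂.symm
    have ha₂0 : a₂ ≠ 0 := by
      rintro rfl
      rw [map_zero, zero_mul] at hxw
      exact hx₂0 hxw
    obtain ⟨a₃, ha₃⟩ := TK23 a₂ ha₂0
    have hva : WΩ.valuation (algebraMap K₃ Ω a₃) = WΩ.valuation (algebraMap K₂ Ω a₂) := by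
      have h' : WΩ.valuation (algebraMap K₂ Ω a₂ - algebraMap K₃ Ω a₃) <
          WΩ.valuation (algebraMap K₂ Ω a₂) := by rwa [Valuation.map_sub_swap]
      exact valuation_eq_of_sub_lt WΩ _ _ h'
    have hle : WΩ.valuation (algebraMap M₃ Ω x) ≤ WΩ.valuation (algebraMap K₂ Ω a₂) := by
      rw [← hvx₂, hxw, map_mul, map_mul, ← IsScalarTower.algebraMap_apply K₂ M₂ Ω]
      refine mul_le_of_le_one_right' ((WΩ.valuation_le_one_iff _).2 ?_)
      exact hw
    have ha₂lt' : WΩ.valuation (algebraMap K₂ Ω a₂) < 1 := by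
      rw [hW₂def, valuation_comap_lt_one_iff,
        ← IsScalarTower.algebraMap_apply K₂ M₂ Ω] at ha₂lt
      exact ha₂lt
    have hva0 : WΩ.valuation (algebraMap K₂ Ω a₂) ≠ 0 :=
      (Valuation.ne_zero_iff _).2 ((map_ne_zero_iff _ (algebraMap K₂ Ω).injective).2 ha₂0)
    have ha₃0 : algebraMap K₃ M₃ a₃ ≠ 0 := by
      intro h0
      have : algebraMap K₃ Ω a₃ = 0 := by
        rw [IsScalarTower.algebraMap_apply K₃ M₃ Ω, h0, map_zero]
      rw [this, map_zero] at hva
      exact hva0 hva.symm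
    refine ⟨a₃, ?_, x / algebraMap K₃ M₃ a₃, ?_, ?_⟩
    · rw [hW₃def, valuation_comap_lt_one_iff, ← IsScalarTower.algebraMap_apply K₃ M₃ Ω, hva]
      exact ha₂lt'
    · rw [hW₃def, ValuationSubring.mem_comap, map_div₀,
        ← IsScalarTower.algebraMap_apply K₃ M₃ Ω, ← ValuationSubring.valuation_le_one_iff,
        map_div₀, hva, div_le_one₀ (zero_lt_iff.2 hva0)]
      exact hle
    · rw [mul_div_cancel₀ _ ha₃0]
  · -- geometrically reduced residue field extension
    letI alg₃ : Algebra (IsLocalRing.ResidueField (W₃.comap (algebraMap K₃ M₃)))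
        (IsLocalRing.ResidueField W₃) :=
      (IsLocalRing.ResidueField.map (EtRam.inclOfComap W₃ (algebraMap K₃ M₃))).toAlgebra
    letI alg₂ : Algebra (IsLocalRing.ResidueField (W₂.comap (algebraMap K₂ M₂)))
        (IsLocalRing.ResidueField W₂) :=
      (IsLocalRing.ResidueField.map (EtRam.inclOfComap W₂ (algebraMap K₂ M₂))).toAlgebra
    haveI hgr₂ : Algebra.IsGeometricallyReduced
        (IsLocalRing.ResidueField (W₂.comap (algebraMap K₂ M₂)))
        (IsLocalRing.ResidueField W₂) := h2.2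
    let j₃ : IsLocalRing.ResidueField W₃ →+* IsLocalRing.ResidueField WΩ :=
      IsLocalRing.ResidueField.map (EtRam.inclOfComap WΩ (algebraMap M₃ Ω))
    let j₂ : IsLocalRing.ResidueField W₂ →+* IsLocalRing.ResidueField WΩ :=
      IsLocalRing.ResidueField.map (EtRam.inclOfComap WΩ (algebraMap M₂ Ω))
    refine GRTransfer.gr_transfer
      (k₂ := IsLocalRing.ResidueField (W₂.comap (algebraMap K₂ M₂)))
      (k₃ := IsLocalRing.ResidueField (W₃.comap (algebraMap K₃ M₃))) j₂ j₃ ?_ ?_ ?_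
    · -- residue classes of `W₃` come from `W₂`
      intro x
      obtain ⟨w₃, rfl⟩ := IsLocalRing.residue_surjective x
      by_cases h0 : (w₃ : M₃) = 0
      · refine ⟨0, ?_⟩
        have : w₃ = 0 := Subtype.ext h0
        rw [map_zero, this]
        simp
      obtain ⟨x₂, hx₂⟩ := TM' (w₃ : M₃) h0
      have hvx₂ := valuation_eq_of_sub_lt WΩ _ _ hx₂
      have hw₃ : WΩ.valuation (algebraMap M₃ Ω (w₃ : M₃)) ≤ 1 :=
        (WΩ.valuation_le_one_iff _).2 w₃.2
      have hx₂W : x₂ ∈ W₂ := by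
        rw [hW₂def, ValuationSubring.mem_comap, ← ValuationSubring.valuation_le_one_iff, hvx₂]
        exact hw₃
      refine ⟨IsLocalRing.residue W₂ ⟨x₂, hx₂W⟩, ?_⟩
      show IsLocalRing.ResidueField.map (EtRam.inclOfComap WΩ (algebraMap M₂ Ω))
          (IsLocalRing.residue W₂ ⟨x₂, hx₂W⟩) =
        IsLocalRing.ResidueField.map (EtRam.inclOfComap WΩ (algebraMap M₃ Ω))
          (IsLocalRing.residue W₃ w₃)
      rw [IsLocalRing.ResidueField.map_residue, IsLocalRing.ResidueField.map_residue]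
      apply residue_eq_of_sub_lt_one
      show WΩ.valuation (algebraMap M₂ Ω x₂ - algebraMap M₃ Ω (w₃ : M₃)) < 1
      rw [Valuation.map_sub_swap]
      exact lt_of_lt_of_le hx₂ hw₃
    · -- residue classes of `V₂` come from `V₃`
      intro x
      obtain ⟨a₂, rfl⟩ := IsLocalRing.residue_surjective x
      by_cases h0 : (a₂ : K₂) = 0
      · refine ⟨0, ?_⟩
        have : a₂ = 0 := Subtype.ext h0
        rw [this]
        simp
      obtain ⟨a₃, ha₃⟩ := TK23 (a₂ : K₂) h0
      have hva : WΩ.valuation (algebraMap K₃ Ω a₃) =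
          WΩ.valuation (algebraMap K₂ Ω (a₂ : K₂)) := by
        have h' : WΩ.valuation (algebraMap K₂ Ω (a₂ : K₂) - algebraMap K₃ Ω a₃) <
            WΩ.valuation (algebraMap K₂ Ω (a₂ : K₂)) := by rwa [Valuation.map_sub_swap]
        exact valuation_eq_of_sub_lt WΩ _ _ h'
      have ha₂W : WΩ.valuation (algebraMap K₂ Ω (a₂ : K₂)) ≤ 1 := by
        rw [ValuationSubring.valuation_le_one_iff, IsScalarTower.algebraMap_apply K₂ M₂ Ω]
        exact a₂.2
      have ha₃V : a₃ ∈ W₃.comap (algebraMap K₃ M₃) := by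
        rw [ValuationSubring.mem_comap, hW₃def, ValuationSubring.mem_comap,
          ← IsScalarTower.algebraMap_apply K₃ M₃ Ω, ← ValuationSubring.valuation_le_one_iff, hva]
        exact ha₂W
      refine ⟨IsLocalRing.residue _ ⟨a₃, ha₃V⟩, ?_⟩
      show IsLocalRing.ResidueField.map (EtRam.inclOfComap WΩ (algebraMap M₃ Ω))
          (IsLocalRing.ResidueField.map (EtRam.inclOfComap W₃ (algebraMap K₃ M₃))
            (IsLocalRing.residue _ ⟨a₃, ha₃V⟩)) =
        IsLocalRing.ResidueField.map (EtRam.inclOfComap WΩ (algebraMap M₂ Ω))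
          (IsLocalRing.ResidueField.map (EtRam.inclOfComap W₂ (algebraMap K₂ M₂))
            (IsLocalRing.residue _ a₂))
      rw [IsLocalRing.ResidueField.map_residue, IsLocalRing.ResidueField.map_residue,
        IsLocalRing.ResidueField.map_residue, IsLocalRing.ResidueField.map_residue]
      apply residue_eq_of_sub_lt_one
      show WΩ.valuation (algebraMap M₃ Ω (algebraMap K₃ M₃ a₃) -
        algebraMap M₂ Ω (algebraMap K₂ M₂ (a₂ : K₂))) < 1
      rw [← IsScalarTower.algebraMap_apply K₃ M₃ Ω, ← IsScalarTower.algebraMap_apply K₂ M₂ Ω]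
      exact lt_of_lt_of_le ha₃ ha₂W
    · -- residue classes of `V₃` come from `V₂`
      intro y
      obtain ⟨a₃, rfl⟩ := IsLocalRing.residue_surjective y
      by_cases h0 : (a₃ : K₃) = 0
      · refine ⟨0, ?_⟩
        have : a₃ = 0 := Subtype.ext h0
        rw [this]
        simp
      obtain ⟨a₂, ha₂⟩ := TK32 (a₃ : K₃) h0
      have hva := valuation_eq_of_sub_lt WΩ _ _ ha₂
      have ha₃W : WΩ.valuation (algebraMap K₃ Ω (a₃ : K₃)) ≤ 1 := by
        rw [ValuationSubring.valuation_le_one_iff, IsScalarTower.algebraMap_apply K₃ M₃ Ω]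
        exact a₃.2
      have ha₂V : a₂ ∈ W₂.comap (algebraMap K₂ M₂) := by
        rw [ValuationSubring.mem_comap, hW₂def, ValuationSubring.mem_comap,
          ← IsScalarTower.algebraMap_apply K₂ M₂ Ω, ← ValuationSubring.valuation_le_one_iff, hva]
        exact ha₃W
      refine ⟨IsLocalRing.residue _ ⟨a₂, ha₂V⟩, ?_⟩
      show IsLocalRing.ResidueField.map (EtRam.inclOfComap WΩ (algebraMap M₂ Ω))
          (IsLocalRing.ResidueField.map (EtRam.inclOfComap W₂ (algebraMap K₂ M₂))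
            (IsLocalRing.residue _ ⟨a₂, ha₂V⟩)) =
        IsLocalRing.ResidueField.map (EtRam.inclOfComap WΩ (algebraMap M₃ Ω))
          (IsLocalRing.ResidueField.map (EtRam.inclOfComap W₃ (algebraMap K₃ M₃))
            (IsLocalRing.residue _ a₃))
      rw [IsLocalRing.ResidueField.map_residue, IsLocalRing.ResidueField.map_residue,
        IsLocalRing.ResidueField.map_residue, IsLocalRing.ResidueField.map_residue]
      apply residue_eq_of_sub_lt_one
      show WΩ.valuation (algebraMap M₂ Ω (algebraMap K₂ M₂ a₂) -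
        algebraMap M₃ Ω (algebraMap K₃ M₃ (a₃ : K₃))) < 1
      rw [← IsScalarTower.algebraMap_apply K₃ M₃ Ω, ← IsScalarTower.algebraMap_apply K₂ M₂ Ω,
        Valuation.map_sub_swap]
      exact lt_of_lt_of_le ha₂ ha₃W

/-- **Epp's separable replacement step.** -/
theorem sep_step (p : ℕ) (hp : p.Prime) (A B K L : Type u)
    [CommRing A] [IsDomain A] [IsDiscreteValuationRing A] [CommRing B] [IsDomain B]
    [IsDiscreteValuationRing B]
    [Algebra A B] (hinj : Function.Injective (algebraMap A B)) [IsLocalHom (algebraMap A B)]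
    [Field K] [Field L] [Algebra A K] [IsFractionRing A K] [Algebra B L] [IsFractionRing B L]
    [Algebra K L] [Algebra A L] [IsScalarTower A K L] [IsScalarTower A B L] [CharP K p]
    [Algebra.IsGeometricallyReduced K L] (hB : CAlg.IsNagata B)
    (K₁ K₂ : Type u) [Field K₁] [Field K₂] [Algebra K K₁] [Algebra K K₂] [Algebra K₁ K₂]
    [IsScalarTower K K₁ K₂]
    [FiniteDimensional K K₁] [FiniteDimensional K₁ K₂] (hsol : EtRam.IsSolution B K L K₂)
    [IsPurelyInseparable K₁ K₂] (hdeg : Module.finrank K₁ K₂ = p) :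
    ∃ (K₃ : Type u) (_ : Field K₃) (_ : Algebra K K₃) (_ : Algebra K₁ K₃)
      (_ : IsScalarTower K K₁ K₃),
      FiniteDimensional K₁ K₃ ∧ Algebra.IsSeparable K₁ K₃ ∧ EtRam.IsSolution B K L K₃ :=
  sep_step_aux p hp A B K L hinj hB (AlgebraicClosure L) K₁ K₂ hsol hdeg

end Groth.Agent.Lib.Helper9.SepStep
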