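import Mathlib
import Groth.Prelude.Def_EtRam
import Groth.Agent.Lib.Helper87.HensNormal
import Groth.Agent.Lib.Helper87.HensStrictProps
import Groth.Agent.Lib.Helper28.StrictHensFactor

/-!
# The strict henselization of a DVR is a DVR with separable algebraic fraction field extension
-/

universe u

set_option linter.unusedSectionVars false
set_option linter.style.haveILetI false

namespace Groth.Agent.Lib.Helper9.StrHensDvr

open IsLocalRing TensorProduct Groth.Agent.Lib.Helper87.Hens

section Sep

/-- The image of an element of an étale algebra in a field is separable over the base field. -/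
theorem isSeparable_of_etale (R K E K' : Type u) [CommRing R] [Field K] [Algebra R K] [CommRing E]
    [Algebra R E] [Algebra.Etale R E] [Field K'] [Algebra K K'] [Algebra R K']
    [IsScalarTower R K K'] (g : E →ₐ[R] K') (a : E) : IsSeparable K (g a) := by
  classical
  let φ : K ⊗[R] E →ₐ[K] K' :=
    Algebra.TensorProduct.lift (Algebra.ofId K K') g (fun _ _ => Commute.all _ _)
  haveI : Algebra.Etale K (K ⊗[R] E) := inferInstance
  haveI : Module.Finite K (K ⊗[R] E) := Algebra.FormallyUnramified.finite_of_free K (K ⊗[R] E)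
  let F : Subalgebra K K' := φ.range
  let φ₀ : K ⊗[R] E →ₐ[K] F := φ.rangeRestrict
  have hφ₀ : Function.Surjective φ₀ := φ.rangeRestrict_surjective
  haveI : Module.Finite K F := Module.Finite.of_surjective φ₀.toLinearMap hφ₀
  haveI : Algebra.IsIntegral K F := inferInstance
  have hF : IsField F := isField_of_isIntegral_of_isField' (Field.toIsField K)
  let F' : IntermediateField K K' := Subalgebra.toIntermediateField' F hF
  let φ' : K ⊗[R] E →ₐ[K] F' := φ.codRestrict F'.toSubalgebra (fun x => ⟨x, rfl⟩)
  have hφ' : Function.Surjective φ' := by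
    rintro ⟨y, t, rfl⟩
    exact ⟨t, rfl⟩
  haveI : Algebra.FormallyUnramified K F' := Algebra.FormallyUnramified.of_surjective φ' hφ'
  haveI : Module.Finite K F' := Module.Finite.of_surjective φ'.toLinearMap hφ'
  haveI : Algebra.IsSeparable K F' := Algebra.FormallyUnramified.isSeparable K F'
  have h1 : IsSeparable K (φ' (1 ⊗ₜ a)) := Algebra.IsSeparable.isSeparable K _
  have h2 : g a = ((φ' (1 ⊗ₜ a) : F') : K') := by
    change g a = φ (1 ⊗ₜ a)
    rw [Algebra.TensorProduct.lift_tmul, map_one, one_mul]
  rw [h2]
  unfold IsSeparable at h1 ⊢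
  rwa [IntermediateField.minpoly_eq] at h1

/-- The fraction field of `H R Ω` is separable algebraic over that of `R`. -/
theorem isSeparable_fractionRing (R : Type u) [CommRing R] (Ω : Type u) [Field Ω] [Algebra R Ω]
    (K K' : Type u) [Field K] [Algebra R K] [Field K'] [Algebra (H R Ω) K']
    [IsFractionRing (H R Ω) K'] [Algebra K K'] [Algebra R K'] [IsScalarTower R K K']
    [IsScalarTower R (H R Ω) K'] : Algebra.IsSeparable K K' := by
  rw [← separableClosure.eq_top_iff, eq_top_iff]
  intro z _
  have key : ∀ x : H R Ω, algebraMap (H R Ω) K' x ∈ separableClosure K K' := by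
    intro x
    obtain ⟨i, y, rfl⟩ := H.exists_of x
    obtain ⟨a, s, rfl⟩ := IsLocalization.exists_mk'_eq (RingHom.ker i.pt).primeCompl y
    let g : i.A →ₐ[R] K' := (IsScalarTower.toAlgHom R (H R Ω) K').comp
      ((H.of i).comp (IsScalarTower.toAlgHom R i.A i.L))
    have hg : ∀ t : i.A, g t = algebraMap (H R Ω) K' (H.of i (algebraMap i.A i.L t)) := fun _ => rfl
    have ha : g a ∈ separableClosure K K' :=
      mem_separableClosure_iff.2 (isSeparable_of_etale R K i.A K' g a)
    have hs : g s ∈ separableClosure K K' :=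
      mem_separableClosure_iff.2 (isSeparable_of_etale R K i.A K' g s)
    have hmul : algebraMap (H R Ω) K' (H.of i (IsLocalization.mk' i.L a s)) * g s = g a := by
      rw [hg, hg, ← map_mul, ← map_mul, IsLocalization.mk'_spec]
    have hs0 : g s ≠ 0 := by
      rw [hg]
      exact (((IsLocalization.map_units i.L s).map (H.of i)).map (algebraMap (H R Ω) K')).ne_zero
    have h3 : algebraMap (H R Ω) K' (H.of i (IsLocalization.mk' i.L a s)) = g a / g s :=
      (eq_div_iff hs0).2 hmul
    rw [h3]
    exact div_mem ha hs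
  obtain ⟨x₁, x₂, hx₂, rfl⟩ := IsFractionRing.div_surjective (A := H R Ω) z
  exact div_mem (key x₁) (key x₂)

end Sep

section DVR

variable (R : Type u) [CommRing R] [IsDomain R] [IsDiscreteValuationRing R]
  (Ω : Type u) [Field Ω] [Algebra R Ω] [IsLocalHom (algebraMap R Ω)]

theorem injective_algebraMap_H : Function.Injective (algebraMap R (H R Ω)) := by
  haveI : Module.FaithfullyFlat R (H R Ω) := Module.FaithfullyFlat.of_flat_of_isLocalHom
  exact FaithfulSMul.algebraMap_injective R (H R Ω)

theorem isDiscreteValuationRing_H [IsDomain (H R Ω)] : IsDiscreteValuationRing (H R Ω) := by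
  haveI : IsNoetherianRing (H R Ω) := H.isNoetherianRing
  have hmap := H.map_maximalIdeal (R := R) (Ω := Ω)
  have hinj := injective_algebraMap_H R Ω
  obtain ⟨ϖ, hϖ⟩ := IsDiscreteValuationRing.exists_irreducible R
  have hne : ¬ IsField (H R Ω) := by
    rw [IsLocalRing.isField_iff_maximalIdeal_eq]
    intro h
    have h1 : algebraMap R (H R Ω) ϖ ∈ maximalIdeal (H R Ω) := by
      rw [← hmap]
      exact Ideal.mem_map_of_mem _ hϖ.not_isUnit
    rw [h, Ideal.mem_bot] at h1
    exact hϖ.ne_zero (hinj (by rw [h1, map_zero]))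
  refine ((IsDiscreteValuationRing.TFAE (H R Ω) hne).out 0 4).2 ?_
  rw [← hmap, (IsDiscreteValuationRing.irreducible_iff_uniformizer ϖ).1 hϖ, Ideal.map_span,
    Set.image_singleton]
  exact ⟨⟨_, rfl⟩⟩

end DVR

end Groth.Agent.Lib.Helper9.StrHensDvr
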