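import Mathlib
import Groth.Prelude.Def_EtRam
import Groth.Agent.Lib.Helper9.StrHensDvr
import Groth.Agent.Lib.Helper9.SolDescent

/-!
# The strictly henselian square over an extension of DVRs, reflecting solutions
-/

universe u

set_option linter.unusedSectionVars false
set_option linter.style.haveILetI false

namespace Groth.Agent.Lib.Helper9.StrHensSquare

open IsLocalRing Groth.Agent.Lib.Helper87.Hens Groth.Agent.Lib.Helper9.StrHensDvr
  Groth.Agent.Lib.Helper9.SolDescent Groth.Agent.Lib.Helper9.GeomRedTrans

theorem exists_fractionField (R : Type u) [CommRing R] [IsDomain R] :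
    ∃ (F : Type u) (_ : Field F) (_ : Algebra R F), IsFractionRing R F :=
  ⟨FractionRing R, inferInstance, inferInstance, inferInstance⟩

set_option maxHeartbeats 1600000 in
theorem main (A B K L : Type u) [CommRing A] [IsDomain A]
    [IsDiscreteValuationRing A] [CommRing B] [IsDomain B] [IsDiscreteValuationRing B] [Algebra A B]
    (hinj : Function.Injective (algebraMap A B)) [IsLocalHom (algebraMap A B)]
    [Field K] [Field L] [Algebra A K] [IsFractionRing A K] [Algebra B L] [IsFractionRing B L]
    [Algebra K L] [Algebra A L] [IsScalarTower A K L] [IsScalarTower A B L] :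
    ∃ (A' B' K' L' : Type u) (_ : CommRing A') (_ : IsDomain A') (_ : IsDiscreteValuationRing A')
      (_ : CommRing B') (_ : IsDomain B') (_ : IsDiscreteValuationRing B') (_ : Field K') (_ : Field L')
      (_ : Algebra A A') (_ : Algebra B B') (_ : Algebra A' B') (_ : Algebra A B')
      (_ : IsScalarTower A B B') (_ : IsScalarTower A A' B')
      (_ : Algebra A' K') (_ : IsFractionRing A' K') (_ : Algebra B' L') (_ : IsFractionRing B' L')
      (_ : Algebra K' L') (_ : Algebra A' L') (_ : IsScalarTower A' K' L') (_ : IsScalarTower A' B' L')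
      (_ : Algebra K K') (_ : Algebra A K') (_ : IsScalarTower A K K') (_ : IsScalarTower A A' K')
      (_ : Algebra L L') (_ : Algebra B L') (_ : IsScalarTower B L L') (_ : IsScalarTower B B' L')
      (hA : IsLocalHom (algebraMap A A')) (hB : IsLocalHom (algebraMap B B')) (_ : IsLocalHom (algebraMap A' B')),
      Function.Injective (algebraMap A A') ∧ Function.Injective (algebraMap B B') ∧
      Function.Injective (algebraMap A' B') ∧
      Algebra.IsSeparable K K' ∧ Algebra.IsSeparable L L' ∧
      (letI := (IsLocalRing.ResidueField.map (algebraMap A A')).toAlgebra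
       IsSepClosure (IsLocalRing.ResidueField A) (IsLocalRing.ResidueField A')) ∧
      (letI := (IsLocalRing.ResidueField.map (algebraMap B B')).toAlgebra
       IsSepClosure (IsLocalRing.ResidueField B) (IsLocalRing.ResidueField B')) ∧
      ((∃ (K₁ : Type u) (_ : Field K₁) (_ : Algebra K' K₁), FiniteDimensional K' K₁ ∧ EtRam.IsSolution B' K' L' K₁) →
        ∃ (K₁ : Type u) (_ : Field K₁) (_ : Algebra K K₁), FiniteDimensional K K₁ ∧ EtRam.IsSolution B K L K₁) ∧
      ((∃ (K₁ : Type u) (_ : Field K₁) (_ : Algebra K' K₁), FiniteDimensional K' K₁ ∧ Algebra.IsSeparable K' K₁ ∧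
          EtRam.IsSolution B' K' L' K₁) →
        ∃ (K₁ : Type u) (_ : Field K₁) (_ : Algebra K K₁), FiniteDimensional K K₁ ∧ Algebra.IsSeparable K K₁ ∧
          EtRam.IsSolution B K L K₁) := by
  classical
  haveI domA' : IsDomain (Hsh A) := H.isDomain
  haveI dvrA' : IsDiscreteValuationRing (Hsh A) := isDiscreteValuationRing_H A (Ωs A)
  haveI domB' : IsDomain (Hsh B) := H.isDomain
  haveI dvrB' : IsDiscreteValuationRing (Hsh B) := isDiscreteValuationRing_H B (Ωs B)
  haveI : Hensel.IsStrictHenselization A (Hsh A) := isStrictHenselization_Hsh A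
  obtain ⟨ψ, hψloc, hψ⟩ :=
    Groth.Agent.Lib.Helper28.StrictHensFactor.exists_extension A B (algebraMap A B) (Hsh A)
  have hAA' : Function.Injective (algebraMap A (Hsh A)) := injective_algebraMap_H A (Ωs A)
  have hBB' : Function.Injective (algebraMap B (Hsh B)) := injective_algebraMap_H B (Ωs B)
  letI algA'B' : Algebra (Hsh A) (Hsh B) := ψ.toAlgebra
  letI algAB' : Algebra A (Hsh B) := ((algebraMap B (Hsh B)).comp (algebraMap A B)).toAlgebra
  haveI tABB' : IsScalarTower A B (Hsh B) := IsScalarTower.of_algebraMap_eq fun _ => rfl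
  haveI tAA'B' : IsScalarTower A (Hsh A) (Hsh B) := IsScalarTower.of_algebraMap_eq fun a =>
    (RingHom.congr_fun hψ a).symm
  haveI locA'B' : IsLocalHom (algebraMap (Hsh A) (Hsh B)) := hψloc
  have hwA : (maximalIdeal A).map (algebraMap A (Hsh A)) = maximalIdeal (Hsh A) := H.map_maximalIdeal
  have hA'B' : Function.Injective (algebraMap (Hsh A) (Hsh B)) := by
    rw [injective_iff_map_eq_zero]
    intro x hx0
    by_contra hxne
    have hker : (RingHom.ker (algebraMap (Hsh A) (Hsh B))).IsPrime := RingHom.ker_isPrime _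
    have hkne : RingHom.ker (algebraMap (Hsh A) (Hsh B)) ≠ ⊥ := fun h => hxne (by
      have : x ∈ RingHom.ker (algebraMap (Hsh A) (Hsh B)) := hx0
      rwa [h, Ideal.mem_bot] at this)
    have hmax : RingHom.ker (algebraMap (Hsh A) (Hsh B)) = maximalIdeal (Hsh A) :=
      IsLocalRing.eq_maximalIdeal (hker.isMaximal hkne)
    obtain ⟨ϖ, hϖ⟩ := IsDiscreteValuationRing.exists_irreducible A
    have h1 : algebraMap A (Hsh A) ϖ ∈ maximalIdeal (Hsh A) := by
      rw [← hwA]
      exact Ideal.mem_map_of_mem _ hϖ.not_isUnit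
    rw [← hmax, RingHom.mem_ker, ← IsScalarTower.algebraMap_apply A (Hsh A) (Hsh B),
      IsScalarTower.algebraMap_apply A B (Hsh B)] at h1
    have h2 : algebraMap A B ϖ = 0 := hBB' (h1.trans (map_zero _).symm)
    exact hϖ.ne_zero (hinj (h2.trans (map_zero _).symm))
  obtain ⟨K', fK', algA'K', fracA'⟩ := exists_fractionField (Hsh A)
  obtain ⟨L', fL', algB'L', fracB'⟩ := exists_fractionField (Hsh B)
  -- `K → K'`
  have hgA : Function.Injective ((algebraMap (Hsh A) K').comp (algebraMap A (Hsh A))) :=
    (IsFractionRing.injective (Hsh A) K').comp hAA'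
  letI algKK' : Algebra K K' := (IsFractionRing.lift hgA).toAlgebra
  letI algAK' : Algebra A K' := ((algebraMap (Hsh A) K').comp (algebraMap A (Hsh A))).toAlgebra
  haveI tAA'K' : IsScalarTower A (Hsh A) K' := IsScalarTower.of_algebraMap_eq fun _ => rfl
  haveI tAKK' : IsScalarTower A K K' := IsScalarTower.of_algebraMap_eq fun a =>
    (IsFractionRing.lift_algebraMap hgA a).symm
  -- `L → L'`
  have hgB : Function.Injective ((algebraMap (Hsh B) L').comp (algebraMap B (Hsh B))) :=
    (IsFractionRing.injective (Hsh B) L').comp hBB'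
  letI algLL' : Algebra L L' := (IsFractionRing.lift hgB).toAlgebra
  letI algBL' : Algebra B L' := ((algebraMap (Hsh B) L').comp (algebraMap B (Hsh B))).toAlgebra
  haveI tBB'L' : IsScalarTower B (Hsh B) L' := IsScalarTower.of_algebraMap_eq fun _ => rfl
  haveI tBLL' : IsScalarTower B L L' := IsScalarTower.of_algebraMap_eq fun a =>
    (IsFractionRing.lift_algebraMap hgB a).symm
  -- `K' → L'`
  have hgA' : Function.Injective ((algebraMap (Hsh B) L').comp (algebraMap (Hsh A) (Hsh B))) :=
    (IsFractionRing.injective (Hsh B) L').comp hA'B'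
  letI algK'L' : Algebra K' L' := (IsFractionRing.lift hgA').toAlgebra
  letI algA'L' : Algebra (Hsh A) L' :=
    ((algebraMap (Hsh B) L').comp (algebraMap (Hsh A) (Hsh B))).toAlgebra
  haveI tA'B'L' : IsScalarTower (Hsh A) (Hsh B) L' := IsScalarTower.of_algebraMap_eq fun _ => rfl
  haveI tA'K'L' : IsScalarTower (Hsh A) K' L' := IsScalarTower.of_algebraMap_eq fun a =>
    (IsFractionRing.lift_algebraMap hgA' a).symm
  -- separability
  haveI sepK : Algebra.IsSeparable K K' := isSeparable_fractionRing A (Ωs A) K K'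
  haveI sepL : Algebra.IsSeparable L L' := isSeparable_fractionRing B (Ωs B) L L'
  -- residue fields
  have sclA : IsSepClosure (ResidueField A) (ResidueField (Hsh A)) := H.isSepClosure_residueField
  have sclB : IsSepClosure (ResidueField B) (ResidueField (Hsh B)) := H.isSepClosure_residueField
  have halgA : (IsLocalRing.ResidueField.map (algebraMap A (Hsh A))).toAlgebra =
      (inferInstance : Algebra (ResidueField A) (ResidueField (Hsh A))) := by
    apply Algebra.algebra_ext
    intro r
    obtain ⟨r, rfl⟩ := IsLocalRing.residue_surjective r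
    rfl
  have halgB : (IsLocalRing.ResidueField.map (algebraMap B (Hsh B))).toAlgebra =
      (inferInstance : Algebra (ResidueField B) (ResidueField (Hsh B))) := by
    apply Algebra.algebra_ext
    intro r
    obtain ⟨r, rfl⟩ := IsLocalRing.residue_surjective r
    rfl
  haveI : Algebra.IsSeparable (ResidueField A) (ResidueField (Hsh A)) := sclA.separable
  haveI : Algebra.IsGeometricallyReduced (ResidueField A) (ResidueField (Hsh A)) :=
    isGeometricallyReduced_of_isSeparable _ _
  haveI : Algebra.IsAlgebraic K K' := inferInstance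
  refine ⟨Hsh A, Hsh B, K', L', inferInstance, domA', dvrA', inferInstance, domB', dvrB', fK', fL',
    inferInstance, inferInstance, algA'B', algAB', tABB', tAA'B', algA'K', fracA', algB'L', fracB',
    algK'L', algA'L', tA'K'L', tA'B'L', algKK', algAK', tAKK', tAA'K', algLL', algBL', tBLL',
    tBB'L', inferInstance, inferInstance, locA'B', hAA', hBB', hA'B', sepK, sepL, ?_, ?_, ?_, ?_⟩
  · show @IsSepClosure (ResidueField A) _ (ResidueField (Hsh A)) _
      (IsLocalRing.ResidueField.map (algebraMap A (Hsh A))).toAlgebra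
    rw [halgA]
    exact sclA
  · show @IsSepClosure (ResidueField B) _ (ResidueField (Hsh B)) _
      (IsLocalRing.ResidueField.map (algebraMap B (Hsh B))).toAlgebra
    rw [halgB]
    exact sclB
  · rintro ⟨K₁', _, _, hfin, hsol⟩
    haveI := hfin
    obtain ⟨K₂, _, _, h1, h2, -⟩ := descent_aux A B K L (Hsh A) (Hsh B) K' L' hAA' hBB' hA'B' hwA
      K₁' hsol
    exact ⟨K₂, _, _, h1, h2⟩
  · rintro ⟨K₁', _, _, hfin, hsep, hsol⟩
    haveI := hfin
    obtain ⟨K₂, _, _, h1, h2, h3⟩ := descent_aux A B K L (Hsh A) (Hsh B) K' L' hAA' hBB' hA'B' hwA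
      K₁' hsol
    exact ⟨K₂, _, _, h1, h3 sepK hsep, h2⟩

end Groth.Agent.Lib.Helper9.StrHensSquare
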