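import Mathlib
import Groth.Prelude.Def_SGA7a
import Groth.Agent.Lib.Helper87.GeomUnibranch
import Groth.Agent.Lib.Helper9.DvrExt

/-!
# The valuation ring of the separable closure of the fraction field of a strictly henselian DVR

`R` a henselian DVR with fraction field `K`, `Ω` a separable algebraic extension of `K`.  The integral
closure of `R` in `Ω` is a valuation subring `W` of `Ω`, stable under `Gal(Ω/K)`; when the residue
field of `R` is separably closed every automorphism is in the inertia group of `W`.
-/

universe u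

set_option linter.unusedSectionVars false
set_option linter.style.haveILetI false

namespace Groth.Agent.Lib.Helper9.StrHensW

open IsLocalRing

variable (R K Ω : Type u) [CommRing R] [IsDomain R] [IsDiscreteValuationRing R]
  [HenselianLocalRing R] [Field K] [Algebra R K] [IsFractionRing R K]
  [Field Ω] [Algebra K Ω] [Algebra R Ω] [IsScalarTower R K Ω] [Algebra.IsSeparable K Ω]

include K

/-- an element of `K` whose image in `Ω` is integral over `R` comes from `R`. -/
theorem exists_of_isIntegral_algebraMap (y : K) (hy : IsIntegral R (algebraMap K Ω y)) :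
    ∃ a : R, algebraMap R K a = y := by
  rw [isIntegral_algebraMap_iff (algebraMap K Ω).injective] at hy
  exact IsIntegrallyClosed.algebraMap_eq_of_integral hy

/-- every element of `Ω` or its inverse is integral over `R`. -/
theorem isIntegral_or_inv (x : Ω) : IsIntegral R x ∨ IsIntegral R x⁻¹ := by
  classical
  haveI : Algebra.IsAlgebraic K Ω := inferInstance
  let L : IntermediateField K Ω := IntermediateField.adjoin K {x}
  haveI : FiniteDimensional K L :=
    IntermediateField.adjoin.finiteDimensional (Algebra.IsIntegral.isIntegral x)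
  haveI : Algebra.IsSeparable K L := Algebra.isSeparable_tower_bot_of_isSeparable K L Ω
  haveI : Module.Finite R (integralClosure R L) := IsIntegralClosure.finite R K L _
  haveI : IsDedekindDomain (integralClosure R L) := IsIntegralClosure.isDedekindDomain R K L _
  haveI : IsLocalRing (integralClosure R L) :=
    Groth.Agent.Lib.Helper87.Unibranch.isLocalRing_of_finite_of_isDomain R (integralClosure R L)
  haveI : IsFractionRing (integralClosure R L) L :=
    IsIntegralClosure.isFractionRing_of_finite_extension R K L _
  haveI : ValuationRing (integralClosure R L) := by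
    have h := (tfae_of_isNoetherianRing_of_isLocalRing_of_isDomain (integralClosure R L)).out 2 1
    exact h.mp inferInstance
  haveI : IsScalarTower R L Ω := IsScalarTower.of_algebraMap_eq fun a => by
    rw [IsScalarTower.algebraMap_apply R K Ω, IsScalarTower.algebraMap_apply K L Ω,
      ← IsScalarTower.algebraMap_apply R K L]
  have hxL : x ∈ L := IntermediateField.mem_adjoin_simple_self K x
  have key : ∀ y : L, IsLocalization.IsInteger (integralClosure R L) y → IsIntegral R (y : Ω) := by
    rintro y ⟨b, rfl⟩
    exact b.2.map (IsScalarTower.toAlgHom R L Ω)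
  rcases ValuationRing.isInteger_or_isInteger (integralClosure R L) (⟨x, hxL⟩ : L) with h | h
  · exact Or.inl (key _ h)
  · exact Or.inr (key _ h)

/-- the integral closure of `R` in `Ω` as a valuation subring. -/
noncomputable def W : ValuationSubring Ω :=
  { (integralClosure R Ω).toSubring with
    mem_or_inv_mem' := fun x => isIntegral_or_inv R K Ω x }

theorem mem_W {x : Ω} : x ∈ W R K Ω ↔ IsIntegral R x := Iff.rfl

theorem algebraMap_mem_W (a : R) : algebraMap R Ω a ∈ W R K Ω :=
  isIntegral_algebraMap

/-- `W` lies over `R`. -/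
theorem liesOver_W : SGA7.LiesOver K R (W R K Ω) := by
  constructor
  · intro a
    rw [← IsScalarTower.algebraMap_apply]
    exact algebraMap_mem_W R K Ω a
  · intro a ha
    rw [Groth.Agent.Lib.Helper9.DvrExt.valuation_lt_one_iff']
    by_cases h0 : algebraMap K Ω (algebraMap R K a) = 0
    · exact Or.inl h0
    refine Or.inr fun hmem => ?_
    have h1 : IsIntegral R (algebraMap K Ω (algebraMap R K a)⁻¹) := by
      rw [map_inv₀]
      exact hmem
    obtain ⟨b, hb⟩ := exists_of_isIntegral_algebraMap R K Ω _ h1
    have ha0 : algebraMap R K a ≠ 0 := fun h => h0 (by rw [h, map_zero])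
    have h2 : a * b = 1 := by
      apply IsFractionRing.injective R K
      rw [map_mul, hb, map_one, mul_inv_cancel₀ ha0]
    exact (IsLocalRing.mem_maximalIdeal a).1 ha (IsUnit.of_mul_eq_one _ h2)


theorem isUnit_of_mul_eq_one (a : R) (b : Ω) (hb : b ∈ W R K Ω) (h : algebraMap R Ω a * b = 1) :
    IsUnit a := by
  have ha0 : algebraMap R Ω a ≠ 0 := left_ne_zero_of_mul_eq_one h
  have hb' : b = (algebraMap R Ω a)⁻¹ := eq_inv_of_mul_eq_one_right h
  have h1 : IsIntegral R (algebraMap K Ω (algebraMap R K a)⁻¹) := by
    rw [map_inv₀, ← IsScalarTower.algebraMap_apply, ← hb']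
    exact hb
  obtain ⟨c, hc⟩ := exists_of_isIntegral_algebraMap R K Ω _ h1
  have ha0' : algebraMap R K a ≠ 0 := fun h' => ha0 (by
    rw [IsScalarTower.algebraMap_apply R K Ω, h', map_zero])
  have h2 : a * c = 1 := by
    apply IsFractionRing.injective R K
    rw [map_mul, hc, map_one, mul_inv_cancel₀ ha0']
  exact IsUnit.of_mul_eq_one _ h2

theorem map_mem_W (σ : Ω ≃ₐ[K] Ω) {x : Ω} (hx : x ∈ W R K Ω) : σ x ∈ W R K Ω := by
  have h : IsIntegral R x := hx
  exact h.map (σ.toAlgHom.restrictScalars R)

theorem map_algebraMap (σ : Ω ≃ₐ[K] Ω) (a : R) : σ (algebraMap R Ω a) = algebraMap R Ω a := by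
  rw [IsScalarTower.algebraMap_apply R K Ω, AlgEquiv.commutes]

/-- when the residue field is separably closed, every automorphism is in the inertia group. -/
theorem isInertia_W [IsSepClosed (ResidueField R)] (σ : Ω ≃ₐ[K] Ω) :
    SGA7.IsInertia (W R K Ω) σ := by
  intro x hx
  refine ⟨map_mem_W R K Ω σ hx, ?_⟩
  letI : Algebra R (W R K Ω) :=
    ((algebraMap R Ω).codRestrict (W R K Ω).toSubring (algebraMap_mem_W R K Ω)).toAlgebra
  haveI : IsScalarTower R (W R K Ω) Ω := IsScalarTower.of_algebraMap_eq fun _ => rfl
  haveI : IsLocalHom (algebraMap R (W R K Ω)) := by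
    constructor
    intro a ha
    obtain ⟨b, hb⟩ := isUnit_iff_exists_inv.1 ha
    exact isUnit_of_mul_eq_one R K Ω a (b : Ω) b.2 (congrArg Subtype.val hb)
  haveI : Algebra.IsAlgebraic (ResidueField R) (ResidueField (W R K Ω)) := by
    constructor
    intro y
    obtain ⟨w, rfl⟩ := residue_surjective y
    have hw : IsIntegral R (w : Ω) := w.2
    have hw' : IsIntegral R w :=
      (isIntegral_algebraMap_iff (B := Ω) Subtype.val_injective).1 hw
    have h1 : IsIntegral R (residue (W R K Ω) w) :=
      hw'.map (IsScalarTower.toAlgHom R (W R K Ω) (ResidueField (W R K Ω)))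
    exact (h1.tower_top (A := ResidueField R)).isAlgebraic
  -- the restriction of `σ`
  let σW : (W R K Ω) →+* (W R K Ω) :=
    (σ : Ω →+* Ω).restrict (W R K Ω) (W R K Ω) (fun y hy => map_mem_W R K Ω σ hy)
  have hσW : ∀ y : W R K Ω, ((σW y : W R K Ω) : Ω) = σ (y : Ω) := fun y => rfl
  haveI : IsLocalHom σW := by
    constructor
    intro a ha
    obtain ⟨b, hb⟩ := isUnit_iff_exists_inv.1 ha
    refine isUnit_iff_exists_inv.2 ⟨⟨σ.symm (b : Ω), map_mem_W R K Ω σ.symm b.2⟩, Subtype.ext ?_⟩
    have h1 : σ (a : Ω) * (b : Ω) = 1 := congrArg Subtype.val hb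
    show (a : Ω) * σ.symm (b : Ω) = 1
    apply σ.injective
    rw [map_mul, AlgEquiv.apply_symm_apply, h1, map_one]
  have hcomp : (ResidueField.map σW).comp (algebraMap (ResidueField R) (ResidueField (W R K Ω))) =
      (RingHom.id _).comp (algebraMap (ResidueField R) (ResidueField (W R K Ω))) := by
    ext y
    obtain ⟨a, rfl⟩ := residue_surjective y
    rw [RingHom.comp_apply, RingHom.comp_apply, IsLocalRing.ResidueField.algebraMap_residue, ResidueField.map_residue,
      RingHom.id_apply]
    congr 1
    apply Subtype.ext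
    rw [hσW]
    exact map_algebraMap R K Ω σ a
  have hid : ResidueField.map σW = RingHom.id _ :=
    IsPurelyInseparable.injective_comp_algebraMap (ResidueField R) (ResidueField (W R K Ω))
      (ResidueField (W R K Ω)) hcomp
  have h2 : residue (W R K Ω) (σW ⟨x, hx⟩) = residue (W R K Ω) ⟨x, hx⟩ := by
    rw [← ResidueField.map_residue, hid, RingHom.id_apply]
  have h3 : σW ⟨x, hx⟩ - ⟨x, hx⟩ ∈ maximalIdeal (W R K Ω) := by
    rw [← residue_eq_zero_iff, map_sub, h2, sub_self]
  exact (ValuationSubring.valuation_lt_one_iff (W R K Ω) _).1 h3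

end Groth.Agent.Lib.Helper9.StrHensW
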