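import Mathlib
import Groth.Prelude.Def_SGA7a

/-!
# The tame character of a valuation ring with trivial residue action

`Ω/K` algebraic, `W` a valuation subring of `Ω` such that every `K`-automorphism of `Ω` is in the
inertia group of `W`.  For `σ` and `x ≠ 0` the element `σ x / x` is a unit of `W` and its residue
class `thU σ x` is bimultiplicative.
-/

universe u

set_option linter.unusedSectionVars false
set_option linter.style.haveILetI false

namespace Groth.Agent.Lib.Helper9.TameChar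

open IsLocalRing

variable {K Ω : Type u} [Field K] [Field Ω] [Algebra K Ω] [Algebra.IsAlgebraic K Ω]
  (W : ValuationSubring Ω) (hI : ∀ σ : Ω ≃ₐ[K] Ω, SGA7.IsInertia W σ)

local notation "v" => ValuationSubring.valuation W

include hI

theorem map_mem (σ : Ω ≃ₐ[K] Ω) {x : Ω} (hx : x ∈ W) : σ x ∈ W := (hI σ x hx).1

theorem val_sub_lt (σ : Ω ≃ₐ[K] Ω) {x : Ω} (hx : x ∈ W) : v (σ x - x) < 1 := (hI σ x hx).2

theorem val_map_lt_one (σ : Ω ≃ₐ[K] Ω) {z : Ω} (hz : v z < 1) : v (σ z) < 1 := by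
  have hzW : z ∈ W := (ValuationSubring.valuation_le_one_iff W z).1 hz.le
  have h1 : v (σ z) ≤ 1 := (ValuationSubring.valuation_le_one_iff W _).2 (map_mem W hI σ hzW)
  refine lt_of_le_of_ne h1 fun h => ?_
  have hσz : σ z ≠ 0 := fun h0 => by rw [h0, map_zero] at h; exact zero_ne_one h
  have hz0 : z ≠ 0 := fun h0 => hσz (by rw [h0, map_zero])
  have h2 : (σ z)⁻¹ ∈ W := by
    rw [← ValuationSubring.valuation_le_one_iff, map_inv₀, h, inv_one]
  have h3 : σ.symm ((σ z)⁻¹) ∈ W := map_mem W hI σ.symm h2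
  rw [map_inv₀, AlgEquiv.symm_apply_apply, ← ValuationSubring.valuation_le_one_iff, map_inv₀,
    inv_le_one₀ (by rwa [Valuation.pos_iff])] at h3
  exact absurd hz (not_lt.2 h3)

theorem val_map_lt (σ : Ω ≃ₐ[K] Ω) {a b : Ω} (h : v a < v b) : v (σ a) < v (σ b) := by
  have hb : b ≠ 0 := fun h0 => by rw [h0, map_zero] at h; exact not_lt_zero' h
  have hvb : 0 < v b := (Valuation.pos_iff _).2 hb
  have hσb : σ b ≠ 0 := fun h0 => hb (by simpa using h0)
  have hvσb : 0 < v (σ b) := (Valuation.pos_iff _).2 hσb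
  have h1 : v (a / b) < 1 := by rw [map_div₀, div_lt_one₀ hvb]; exact h
  have h2 := val_map_lt_one W hI σ h1
  rwa [map_div₀, map_div₀, div_lt_one₀ hvσb] at h2

omit hI in
theorem exists_pow_fix (σ : Ω ≃ₐ[K] Ω) (x : Ω) : ∃ n : ℕ, 0 < n ∧ (σ ^ n) x = x := by
  classical
  have hx : IsIntegral K x := Algebra.IsIntegral.isIntegral x
  have hne : minpoly K x ≠ 0 := minpoly.ne_zero hx
  have hmem : ∀ i : ℕ, (σ ^ i) x ∈ (minpoly K x).rootSet Ω := by
    intro i
    rw [Polynomial.mem_rootSet]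
    refine ⟨hne, ?_⟩
    rw [← AlgEquiv.coe_algHom, Polynomial.aeval_algHom_apply, minpoly.aeval, map_zero]
  haveI : Finite ((minpoly K x).rootSet Ω) := Polynomial.rootSet_finite _ _
  obtain ⟨i, j, hij, h⟩ := Finite.exists_ne_map_eq_of_infinite
    (fun i : ℕ => (⟨(σ ^ i) x, hmem i⟩ : (minpoly K x).rootSet Ω))
  have h' : (σ ^ i) x = (σ ^ j) x := congrArg Subtype.val h
  have key : ∀ a b : ℕ, a < b → (σ ^ a) x = (σ ^ b) x → ∃ n : ℕ, 0 < n ∧ (σ ^ n) x = x := by
    intro a b hab hh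
    refine ⟨b - a, by omega, ?_⟩
    have hb : b = a + (b - a) := by omega
    rw [hb, pow_add, AlgEquiv.mul_apply] at hh
    exact ((σ ^ a).injective hh).symm
  rcases lt_or_gt_of_ne hij with h1 | h1
  · exact key i j h1 h'
  · exact key j i h1 h'.symm

theorem val_map (σ : Ω ≃ₐ[K] Ω) (x : Ω) : v (σ x) = v x := by
  obtain ⟨n, hn, hfix⟩ := exists_pow_fix σ x
  rcases lt_trichotomy (v (σ x)) (v x) with h | h | h
  · exfalso
    have key : ∀ m : ℕ, v ((σ ^ (m + 1)) x) < v x := by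
      intro m
      induction m with
      | zero => simpa using h
      | succ m ih =>
        rw [pow_succ', AlgEquiv.mul_apply]
        exact (val_map_lt W hI σ ih).trans h
    obtain ⟨m, rfl⟩ := Nat.exists_eq_succ_of_ne_zero hn.ne'
    have := key m
    rw [show (σ ^ (m + 1)) x = x from hfix] at this
    exact lt_irrefl _ this
  · exact h
  · exfalso
    have key : ∀ m : ℕ, v x < v ((σ ^ (m + 1)) x) := by
      intro m
      induction m with
      | zero => simpa using h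
      | succ m ih =>
        rw [pow_succ', AlgEquiv.mul_apply]
        exact h.trans (val_map_lt W hI σ ih)
    obtain ⟨m, rfl⟩ := Nat.exists_eq_succ_of_ne_zero hn.ne'
    have := key m
    rw [show (σ ^ (m + 1)) x = x from hfix] at this
    exact lt_irrefl _ this

theorem val_div (σ : Ω ≃ₐ[K] Ω) {x : Ω} (hx : x ≠ 0) : v (σ x / x) = 1 := by
  rw [map_div₀, val_map W hI, div_self]
  exact (Valuation.ne_zero_iff _).2 hx


/-- `σ x / x` as an element of `W`. -/
noncomputable def q (σ : Ω ≃ₐ[K] Ω) (x : Ωˣ) : W :=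
  ⟨σ x / x, (ValuationSubring.valuation_le_one_iff W _).1 (val_div W hI σ x.ne_zero).le⟩

theorem q_coe (σ : Ω ≃ₐ[K] Ω) (x : Ωˣ) : ((q W hI σ x : W) : Ω) = σ x / x := rfl

theorem q_one (σ : Ω ≃ₐ[K] Ω) : q W hI σ 1 = 1 :=
  Subtype.ext (by rw [q_coe]; simp)

theorem q_mul (σ : Ω ≃ₐ[K] Ω) (x y : Ωˣ) : q W hI σ (x * y) = q W hI σ x * q W hI σ y :=
  Subtype.ext (by
    show σ ((x * y : Ωˣ) : Ω) / ((x * y : Ωˣ) : Ω) = σ x / x * (σ y / y)
    rw [Units.val_mul, map_mul, mul_div_mul_comm])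

theorem residue_q_ne_zero (σ : Ω ≃ₐ[K] Ω) (x : Ωˣ) : residue W (q W hI σ x) ≠ 0 := by
  rw [Ne, residue_eq_zero_iff, ValuationSubring.valuation_lt_one_iff, q_coe,
    val_div W hI σ x.ne_zero]
  exact lt_irrefl 1

/-- the tame character `x ↦ σ x / x mod 𝔪`. -/
noncomputable def thU (σ : Ω ≃ₐ[K] Ω) : Ωˣ →* (ResidueField W)ˣ where
  toFun x := Units.mk0 (residue W (q W hI σ x)) (residue_q_ne_zero W hI σ x)
  map_one' := Units.ext (by simp [q_one])
  map_mul' x y := Units.ext (by simp [q_mul])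

theorem thU_coe (σ : Ω ≃ₐ[K] Ω) (x : Ωˣ) :
    ((thU W hI σ x : (ResidueField W)ˣ) : ResidueField W) = residue W (q W hI σ x) := rfl

theorem thU_eq_one_iff (σ : Ω ≃ₐ[K] Ω) (x : Ωˣ) :
    thU W hI σ x = 1 ↔ v (σ x - x) < v (x : Ω) := by
  have hx : (x : Ω) ≠ 0 := x.ne_zero
  have hvx : 0 < v (x : Ω) := (Valuation.pos_iff _).2 hx
  rw [← Units.val_inj, thU_coe, Units.val_one, ← sub_eq_zero, ← map_one (residue W), ← map_sub,
    residue_eq_zero_iff, ValuationSubring.valuation_lt_one_iff]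
  have h1 : (((q W hI σ x - 1 : W)) : Ω) = (σ x - x) / x := by
    show σ x / x - 1 = (σ x - x) / x
    rw [sub_div, div_self hx]
  rw [h1, map_div₀, div_lt_one₀ hvx]

theorem thU_of_val_eq_one (σ : Ω ≃ₐ[K] Ω) (u : Ωˣ) (hu : v (u : Ω) = 1) : thU W hI σ u = 1 := by
  rw [thU_eq_one_iff, hu]
  exact val_sub_lt W hI σ ((ValuationSubring.valuation_le_one_iff W _).1 hu.le)

theorem thU_mul (σ τ : Ω ≃ₐ[K] Ω) (x : Ωˣ) :
    thU W hI (σ * τ) x = thU W hI σ x * thU W hI τ x := by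
  let y : Ωˣ := Units.map (τ : Ω →* Ω) x
  have hy : (y : Ω) = τ x := rfl
  have h1 : q W hI (σ * τ) x = q W hI σ y * q W hI τ x := Subtype.ext (by
    show (σ * τ) x / x = σ y / y * (τ x / x)
    have hτx : τ (x : Ω) ≠ 0 := hy ▸ y.ne_zero
    rw [hy, AlgEquiv.mul_apply, div_mul_div_cancel₀ hτx])
  have h2 : thU W hI σ y = thU W hI σ x := by
    have hw : y = x * (y * x⁻¹) := by rw [mul_comm y, mul_inv_cancel_left]
    have hv : v ((y * x⁻¹ : Ωˣ) : Ω) = 1 := by
      rw [Units.val_mul, Units.val_inv_eq_inv_val, hy, ← div_eq_mul_inv]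
      exact val_div W hI τ x.ne_zero
    rw [hw, map_mul, thU_of_val_eq_one W hI σ _ hv, mul_one]
  rw [← h2]
  apply Units.ext
  rw [Units.val_mul, thU_coe, thU_coe, thU_coe, h1, map_mul]

/-- for fixed `x`, the character `σ ↦ σ x / x mod 𝔪`. -/
noncomputable def chr (x : Ωˣ) : (Ω ≃ₐ[K] Ω) →* (ResidueField W)ˣ where
  toFun σ := thU W hI σ x
  map_one' := by
    rw [thU_eq_one_iff, AlgEquiv.one_apply, sub_self, map_zero]
    exact (Valuation.pos_iff _).2 x.ne_zero
  map_mul' σ τ := thU_mul W hI σ τ x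

theorem chr_apply (x : Ωˣ) (σ : Ω ≃ₐ[K] Ω) : chr W hI x σ = thU W hI σ x := rfl

/-- the subgroup of automorphisms with trivial tame character on `L`. -/
noncomputable def VL (L : IntermediateField K Ω) : Subgroup (Ω ≃ₐ[K] Ω) where
  carrier := {σ | ∀ x : Ωˣ, (x : Ω) ∈ L → thU W hI σ x = 1}
  mul_mem' := by
    intro a b ha hb x hx
    rw [thU_mul, ha x hx, hb x hx, one_mul]
  one_mem' := by
    intro x _
    exact (chr W hI x).map_one
  inv_mem' := by
    intro a ha x hx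
    have h1 := (chr W hI x).map_inv a
    rw [chr_apply, chr_apply, ha x hx, inv_one] at h1
    exact h1

theorem mem_VL {L : IntermediateField K Ω} {σ : Ω ≃ₐ[K] Ω} :
    σ ∈ VL W hI L ↔ ∀ x : Ωˣ, (x : Ω) ∈ L → thU W hI σ x = 1 := Iff.rfl

/-- **Trace argument**: an element of `VL` whose `l`-th power is trivial on `L`, with `l` a unit of
`W`, is trivial on `L`. -/
theorem fix_of_pow_fix (L : IntermediateField K Ω) (π : Ω ≃ₐ[K] Ω) (hπ : π ∈ VL W hI L)
    (hst : ∀ x ∈ L, π x ∈ L) (l : ℕ) (hl : v (l : Ω) = 1) (h : ∀ x ∈ L, (π ^ l) x = x) :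
    ∀ y ∈ L, π y = y := by
  intro y hy
  by_contra hne
  set x : Ω := π y - y with hxdef
  have hx0 : x ≠ 0 := sub_ne_zero.2 hne
  have hxL : x ∈ L := sub_mem (hst y hy) hy
  have hvx : 0 < v x := (Valuation.pos_iff _).2 hx0
  -- the sum of the conjugates vanishes
  have hS : ∑ i ∈ Finset.range l, (π ^ i) x = 0 := by
    have h1 : ∀ i : ℕ, (π ^ i) x = (π ^ (i + 1)) y - (π ^ i) y := by
      intro i
      rw [hxdef, map_sub, pow_succ, AlgEquiv.mul_apply]
    rw [Finset.sum_congr rfl (fun i _ => h1 i), Finset.sum_range_sub (fun i => (π ^ i) y), h y hy,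
      pow_zero, AlgEquiv.one_apply, sub_self]
  -- but it has the valuation of `x`
  have h2 : ∑ i ∈ Finset.range l, (π ^ i) x
      = (l : Ω) * x + ∑ i ∈ Finset.range l, ((π ^ i) x - x) := by
    rw [Finset.sum_sub_distrib, Finset.sum_const, Finset.card_range, nsmul_eq_mul]
    ring
  have h3 : v (∑ i ∈ Finset.range l, ((π ^ i) x - x)) < v x := by
    refine Valuation.map_sum_lt _ hvx.ne' fun i _ => ?_
    have hi : π ^ i ∈ VL W hI L := Subgroup.pow_mem _ hπ i
    have := hi (Units.mk0 x hx0) hxL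
    rwa [thU_eq_one_iff] at this
  have h4 : v ((l : Ω) * x) = v x := by rw [map_mul, hl, one_mul]
  have h5 : v (∑ i ∈ Finset.range l, (π ^ i) x) = v x := by
    rw [h2, Valuation.map_add_eq_of_lt_left _ (by rwa [h4]), h4]
  rw [hS, map_zero] at h5
  exact hvx.ne h5

end Groth.Agent.Lib.Helper9.TameChar
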