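import Mathlib

set_option autoImplicit false
set_option linter.unusedSectionVars false
set_option linter.style.haveILetI false
open scoped Pointwise

namespace Groth.Agent.Lib.Helper9.TameInertia

section Abstract

variable {B : Type*} [CommRing B] {G : Type*} [Group G] [MulSemiringAction G B]
  (m : Ideal B)

lemma smul_mem_pow_of_mem_stabilizer {σ : G} (hσ : σ ∈ MulAction.stabilizer G m) (k : ℕ) {y : B}
    (hy : y ∈ m ^ k) : σ • y ∈ m ^ k := by
  have h1 : σ • (m ^ k) = m ^ k := by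
    rw [smul_pow', MulAction.mem_stabilizer_iff.1 hσ]
  rw [← h1]
  exact Ideal.smul_mem_pointwise_smul σ y _ hy

lemma mem_inertia_iff {σ : G} (J : Ideal B) : σ ∈ J.inertia G ↔ ∀ x, σ • x - x ∈ J := Iff.rfl

def wild : Subgroup G := MulAction.stabilizer G m ⊓ (m ^ 2).inertia G

lemma mem_wild {σ : G} : σ ∈ wild (G := G) m ↔
    σ ∈ MulAction.stabilizer G m ∧ ∀ x : B, σ • x - x ∈ m ^ 2 := Iff.rfl

lemma wild_step {σ : G} (hσ : σ ∈ wild (G := G) m) (k : ℕ) {y : B} (hy : y ∈ m ^ k) :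
    σ • y - y ∈ m ^ (k + 1) := by
  induction k generalizing y with
  | zero =>
    rw [zero_add, pow_one]
    exact Ideal.pow_le_self two_ne_zero (hσ.2 y)
  | succ k ih =>
    rw [pow_succ] at hy
    refine Submodule.mul_induction_on hy ?_ ?_
    · intro a ha b hb
      have e : σ • (a * b) - a * b = σ • a * (σ • b - b) + (σ • a - a) * b := by
        rw [smul_mul']; ring
      rw [e]
      refine Ideal.add_mem _ ?_ ?_
      · have h1 : σ • a * (σ • b - b) ∈ m ^ k * m ^ 2 :=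
          Ideal.mul_mem_mul (smul_mem_pow_of_mem_stabilizer m hσ.1 k ha) (hσ.2 b)
        rw [← pow_add] at h1
        exact h1
      · have h1 : (σ • a - a) * b ∈ m ^ (k + 1) * m := Ideal.mul_mem_mul (ih ha) hb
        rw [← pow_succ] at h1
        exact h1
    · intro x y hx hy
      have e : σ • (x + y) - (x + y) = (σ • x - x) + (σ • y - y) := by
        rw [smul_add]; ring
      rw [e]
      exact Ideal.add_mem _ hx hy

lemma smul_natCast' (σ : G) (t : ℕ) : σ • (t : B) = (t : B) :=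
  map_natCast (MulSemiringAction.toRingHom G B σ) t

lemma wild_pow_smul_sub {σ : G} (hσ : σ ∈ wild (G := G) m) (j : ℕ)
    (h : ∀ x : B, σ • x - x ∈ m ^ (j + 1)) (x : B) (t : ℕ) :
    (σ ^ t) • x - x - (t : B) * (σ • x - x) ∈ m ^ (j + 2) := by
  induction t with
  | zero => simp
  | succ t ih =>
    have e : (σ ^ (t + 1)) • x - x - ((t + 1 : ℕ) : B) * (σ • x - x) =
        σ • ((σ ^ t) • x - x - (t : B) * (σ • x - x)) +
          (t : B) * (σ • (σ • x - x) - (σ • x - x)) := by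
      rw [pow_succ', mul_smul, smul_sub, smul_sub, smul_mul', smul_natCast', smul_sub, Nat.cast_succ]
      ring
    rw [e]
    refine Ideal.add_mem _ (smul_mem_pow_of_mem_stabilizer m hσ.1 _ ih) ?_
    exact Ideal.mul_mem_left _ _ (wild_step m hσ (j + 1) (h x))

variable [m.IsMaximal]

lemma mem_mul_of_not_mem {a b : B} {J : Ideal B} (ha : a ∉ m) (hb : b ∈ J) (hab : a * b ∈ m * J) :
    b ∈ m * J := by
  obtain ⟨u, z, hz, huz⟩ := Ideal.IsMaximal.exists_inv (I := m) inferInstance ha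
  have e : b = u * (a * b) + z * b := by
    rw [← mul_assoc, ← add_mul, huz, one_mul]
  rw [e]
  exact Ideal.add_mem _ (Ideal.mul_mem_left _ _ hab) (Ideal.mul_mem_mul hz hb)

lemma wild_lift {σ : G} (hσ : σ ∈ wild (G := G) m) (n : ℕ) (hn : σ ^ n = 1)
    (hnm : (n : B) ∉ m) (j : ℕ) (h : ∀ x : B, σ • x - x ∈ m ^ (j + 1)) (x : B) :
    σ • x - x ∈ m ^ (j + 2) := by
  have h1 := wild_pow_smul_sub m hσ j h x n
  rw [hn, one_smul, sub_self, zero_sub, neg_mem_iff] at h1
  have h2 : σ • x - x ∈ m * m ^ (j + 1) := by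
    refine mem_mul_of_not_mem m hnm (h x) ?_
    rw [← pow_succ']
    exact h1
  rw [← pow_succ'] at h2
  exact h2

lemma wild_all {σ : G} (hσ : σ ∈ wild (G := G) m) (n : ℕ) (hn : σ ^ n = 1)
    (hnm : (n : B) ∉ m) (j : ℕ) (x : B) : σ • x - x ∈ m ^ (j + 2) := by
  induction j generalizing x with
  | zero => exact hσ.2 x
  | succ j ih => exact wild_lift m hσ n hn hnm (j + 1) ih x

lemma wild_eq_one [IsDomain B] [IsNoetherianRing B] [FaithfulSMul G B] {σ : G}
    (hσ : σ ∈ wild (G := G) m) (n : ℕ) (hn : σ ^ n = 1) (hnm : (n : B) ∉ m) : σ = 1 := by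
  apply FaithfulSMul.eq_of_smul_eq_smul (α := B)
  intro x
  rw [one_smul, ← sub_eq_zero]
  have h1 : σ • x - x ∈ (⨅ i : ℕ, m ^ i : Ideal B) := by
    rw [Ideal.mem_iInf]
    intro i
    rcases Nat.lt_or_ge i 2 with hi | hi
    · exact Ideal.pow_le_pow_right (by omega) (hσ.2 x)
    · obtain ⟨j, rfl⟩ := Nat.exists_eq_add_of_le' hi
      exact wild_all m hσ n hn hnm j x
  rw [Ideal.iInf_pow_eq_bot_of_isDomain m (Ideal.IsMaximal.ne_top inferInstance)] at h1
  exact h1

lemma natCast_not_mem_iff (n : ℕ) : (n : B) ∉ m ↔ ((n : ℕ) : B ⧸ m) ≠ 0 := by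
  rw [← map_natCast (Ideal.Quotient.mk m) n, Ne, Ideal.Quotient.eq_zero_iff_mem]

lemma isPGroup_wild [IsDomain B] [IsNoetherianRing B] [FaithfulSMul G B] [Finite G] (p : ℕ)
    (hp : p.Prime) [CharP (B ⧸ m) p] : IsPGroup p (wild (G := G) m) := by
  rintro ⟨σ, hσ⟩
  have hn : orderOf σ ≠ 0 := (orderOf_pos σ).ne'
  obtain ⟨a, n', hn', hnn⟩ := Nat.exists_eq_pow_mul_and_not_dvd hn p hp.ne_one
  refine ⟨a, Subtype.ext ?_⟩
  change σ ^ p ^ a = 1
  refine wild_eq_one m (Subgroup.pow_mem _ hσ _) n' ?_ ?_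
  · rw [← pow_mul, ← hnn, pow_orderOf_eq_one]
  · rw [natCast_not_mem_iff, Ne, CharP.cast_eq_zero_iff (B ⧸ m) p]
    exact hn'

lemma wild_eq_bot [IsDomain B] [IsNoetherianRing B] [FaithfulSMul G B] [Finite G]
    [CharZero (B ⧸ m)] : wild (G := G) m = ⊥ := by
  rw [eq_bot_iff]
  intro σ hσ
  rw [Subgroup.mem_bot]
  refine wild_eq_one m hσ (orderOf σ) (pow_orderOf_eq_one σ) ?_
  rw [natCast_not_mem_iff]
  exact Nat.cast_ne_zero.2 (orderOf_pos σ).ne'

end Abstract

section Tame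

variable {B : Type*} [CommRing B] [IsDedekindDomain B] {G : Type*} [Group G] [MulSemiringAction G B]
  (m : Ideal B) [m.IsMaximal]

lemma exists_uniformizer (hm : m ≠ ⊥) : ∃ π ∈ m, π ∉ m ^ 2 := by
  have h := Ideal.pow_succ_lt_pow hm 1
  rw [pow_one] at h
  obtain ⟨π, hπ, hπ2⟩ := SetLike.exists_of_lt h
  exact ⟨π, hπ, hπ2⟩

variable {m} {π : B}

lemma exists_decomp (hm : m ≠ ⊥) (hπ : π ∈ m) (hπ2 : π ∉ m ^ 2) {y : B} (hy : y ∈ m) :
    ∃ d : B, ∃ e ∈ m ^ 2, π * d + e = y :=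
  Ideal.exists_mul_add_mem_pow_succ hm (i := 1) π y (by rwa [pow_one]) hπ2 (by rwa [pow_one])

omit [IsDedekindDomain B] in
lemma decomp_unique (hπ2 : π ∉ m ^ 2) {d d' e e' : B} (he : e ∈ m ^ 2) (he' : e' ∈ m ^ 2)
    (h : π * d + e = π * d' + e') : d - d' ∈ m := by
  by_contra hd
  obtain ⟨u, z, hz, huz⟩ := Ideal.IsMaximal.exists_inv (I := m) inferInstance hd
  have h1 : π * (d - d') ∈ m ^ 2 := by
    have : π * (d - d') = e' - e := by linear_combination h
    rw [this]
    exact Ideal.sub_mem _ he' he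
  have hπm : π ∈ m := by
    by_contra hπm
    have := mem_mul_of_not_mem m hπm (Submodule.mem_top (x := d - d')) (by
      rw [Ideal.mul_top]
      exact Ideal.pow_le_self two_ne_zero h1)
    rw [Ideal.mul_top] at this
    exact hd this
  apply hπ2
  have e1 : π = u * (π * (d - d')) + π * z := by
    linear_combination (-π) * huz
  rw [e1, pow_two]
  exact Ideal.add_mem _ (Ideal.mul_mem_left _ _ (by rwa [pow_two] at h1)) (Ideal.mul_mem_mul hπm hz)

omit [IsDedekindDomain B] [m.IsMaximal] in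
lemma smul_mem_of_mem_inertia {σ : G} (hσ : σ ∈ m.inertia G) {y : B} (hy : y ∈ m) : σ • y ∈ m := by
  have := Ideal.add_mem _ (hσ y) hy
  rwa [sub_add_cancel] at this

noncomputable def theta0 (hm : m ≠ ⊥) (hπ : π ∈ m) (hπ2 : π ∉ m ^ 2) (σ : m.inertia G) : B ⧸ m :=
  Ideal.Quotient.mk m (exists_decomp hm hπ hπ2 (smul_mem_of_mem_inertia σ.2 hπ)).choose

lemma theta0_spec (hm : m ≠ ⊥) (hπ : π ∈ m) (hπ2 : π ∉ m ^ 2) (σ : m.inertia G) {d e : B}
    (he : e ∈ m ^ 2) (h : π * d + e = (σ : G) • π) :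
    theta0 hm hπ hπ2 σ = Ideal.Quotient.mk m d := by
  obtain ⟨e', he', h'⟩ := (exists_decomp hm hπ hπ2 (smul_mem_of_mem_inertia σ.2 hπ)).choose_spec
  rw [theta0, Ideal.Quotient.eq]
  exact decomp_unique hπ2 he' he (h'.trans h.symm)

lemma exists_theta0_eq (hm : m ≠ ⊥) (hπ : π ∈ m) (hπ2 : π ∉ m ^ 2) (σ : m.inertia G) :
    ∃ d : B, ∃ e ∈ m ^ 2, π * d + e = (σ : G) • π ∧ theta0 hm hπ hπ2 σ = Ideal.Quotient.mk m d := by
  obtain ⟨e', he', h'⟩ := (exists_decomp hm hπ hπ2 (smul_mem_of_mem_inertia σ.2 hπ)).choose_spec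
  exact ⟨_, e', he', h', rfl⟩

noncomputable def theta (hm : m ≠ ⊥) (hπ : π ∈ m) (hπ2 : π ∉ m ^ 2) : m.inertia G →* (B ⧸ m) where
  toFun := theta0 hm hπ hπ2
  map_one' := by
    rw [theta0_spec hm hπ hπ2 1 (d := 1) (e := 0) (Ideal.zero_mem _) (by simp), map_one]
  map_mul' σ τ := by
    obtain ⟨d, e, he, h, hd⟩ := exists_theta0_eq hm hπ hπ2 σ
    obtain ⟨d', e', he', h', hd'⟩ := exists_theta0_eq hm hπ hπ2 τ
    have hσstab : (σ : G) ∈ MulAction.stabilizer G m := Ideal.inertia_le_stabilizer m σ.2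
    rw [hd, hd', theta0_spec hm hπ hπ2 (σ * τ) (d := d * (σ : G) • d')
      (e := e * (σ : G) • d' + (σ : G) • e')
      (Ideal.add_mem _ (Ideal.mul_mem_right _ _ he) (smul_mem_pow_of_mem_stabilizer m hσstab 2 he')),
      map_mul]
    · congr 1
      rw [Ideal.Quotient.eq]
      exact σ.2 d'
    · rw [Subgroup.coe_mul, mul_smul, ← h', smul_add, smul_mul', ← h]
      ring

lemma theta_eq_one_iff (hm : m ≠ ⊥) (hπ : π ∈ m) (hπ2 : π ∉ m ^ 2) (σ : m.inertia G) :
    theta hm hπ hπ2 σ = 1 ↔ (σ : G) • π - π ∈ m ^ 2 := by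
  constructor
  · intro h1
    obtain ⟨d, e, he, h, hd⟩ := exists_theta0_eq hm hπ hπ2 σ
    have h2 : Ideal.Quotient.mk m d = 1 := hd.symm.trans h1
    rw [← map_one (Ideal.Quotient.mk m), Ideal.Quotient.eq] at h2
    have e1 : (σ : G) • π - π = π * (d - 1) + e := by rw [← h]; ring
    rw [e1]
    refine Ideal.add_mem _ ?_ he
    rw [pow_two]
    exact Ideal.mul_mem_mul hπ h2
  · intro h1
    change theta0 hm hπ hπ2 σ = 1
    rw [theta0_spec hm hπ hπ2 σ (d := 1) (e := (σ : G) • π - π) h1 (by ring), map_one]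

lemma smul_sub_mem_sq_of_mem (hm : m ≠ ⊥) (hπ : π ∈ m) (hπ2 : π ∉ m ^ 2) {σ : G}
    (hσ : σ ∈ m.inertia G) (h : σ • π - π ∈ m ^ 2) {y : B} (hy : y ∈ m) : σ • y - y ∈ m ^ 2 := by
  obtain ⟨d, e, he, rfl⟩ := exists_decomp hm hπ hπ2 hy
  have hσstab : σ ∈ MulAction.stabilizer G m := Ideal.inertia_le_stabilizer m hσ
  have e1 : σ • (π * d + e) - (π * d + e) =
      (σ • π - π) * σ • d + π * (σ • d - d) + (σ • e - e) := by
    rw [smul_add, smul_mul']; ring
  rw [e1]
  refine Ideal.add_mem _ (Ideal.add_mem _ (Ideal.mul_mem_right _ _ h) ?_)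
    (Ideal.sub_mem _ (smul_mem_pow_of_mem_stabilizer m hσstab 2 he) he)
  rw [pow_two]
  exact Ideal.mul_mem_mul hπ (hσ d)

omit [IsDedekindDomain B] in
lemma smul_eval_of_coeff_fixed (σ : G) (g : Polynomial B) (hg : ∀ i, σ • g.coeff i = g.coeff i)
    (x : B) : σ • g.eval x = g.eval (σ • x) := by
  have h1 : σ • g = g := by
    ext i
    rw [Polynomial.smul_eq_map, Polynomial.coeff_map]
    exact hg i
  conv_rhs => rw [← h1]
  exact (Polynomial.smul_eval_smul B σ g x).symm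

omit [IsDedekindDomain B] in
lemma smul_sub_mem_sq_of_poly {σ : G} (hσ : σ ∈ m.inertia G)
    (h : ∀ y ∈ m, σ • y - y ∈ m ^ 2) (x : B) (g : Polynomial B)
    (hg : ∀ i, σ • g.coeff i = g.coeff i) (hgx : g.eval x ∈ m)
    (hgx' : g.derivative.eval x ∉ m) : σ • x - x ∈ m ^ 2 := by
  obtain ⟨k, hk⟩ := Polynomial.binomExpansion g x (σ • x - x)
  rw [add_sub_cancel, ← smul_eval_of_coeff_fixed σ g hg x] at hk
  have h1 : g.derivative.eval x * (σ • x - x) ∈ m * m := by
    have e1 : g.derivative.eval x * (σ • x - x) =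
        (σ • g.eval x - g.eval x) - k * (σ • x - x) ^ 2 := by
      rw [hk]; ring
    rw [e1, ← pow_two]
    refine Ideal.sub_mem _ (h _ hgx) (Ideal.mul_mem_left _ _ ?_)
    rw [pow_two, pow_two]
    exact Ideal.mul_mem_mul (hσ x) (hσ x)
  rw [pow_two]
  exact mem_mul_of_not_mem m hgx' (hσ x) h1

end Tame

section GroupField

variable {Q : Type*} [Group Q] [Finite Q] {F : Type*} [Field F] (f : Q →* F)
  (hf : Function.Injective f)

include hf

lemma isCyclic_of_injective_field : IsCyclic Q := isCyclic_of_injective_ringHom f hf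

lemma not_dvd_card_of_injective_field (p : ℕ) [hp : Fact p.Prime] [CharP F p] :
    ¬ p ∣ Nat.card Q := by
  intro hdvd
  obtain ⟨g, hg⟩ := exists_prime_orderOf_dvd_card' p hdvd
  have h1 : f g ^ (p ^ 1 * 1) = 1 := by
    rw [pow_one, mul_one, ← map_pow, ← hg, pow_orderOf_eq_one, map_one]
  haveI : ExpChar F p := ExpChar.prime hp.out
  rw [ExpChar.pow_prime_pow_mul_eq_one_iff, pow_one] at h1
  have h2 : g = 1 := hf (h1.trans (map_one f).symm)
  rw [h2, orderOf_one] at hg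
  exact hp.out.one_lt.ne hg

lemma nonempty_mulEquiv_rootsOfUnity (e : ℕ) (he : Nat.card Q ∣ e)
    (h : ∀ u : F, u ^ e = 1 → u ^ Nat.card Q = 1) : Nonempty (Q ≃* ↥(rootsOfUnity e F)) := by
  have hpos : 0 < Nat.card Q := Nat.card_pos
  haveI : NeZero (Nat.card Q) := ⟨hpos.ne'⟩
  let g : Q →* Fˣ := f.toHomUnits
  have hg : Function.Injective g := by
    intro a b hab
    apply hf
    have := congrArg (fun u : Fˣ => (u : F)) hab
    simpa [g] using this
  have hle : g.range ≤ rootsOfUnity e F := by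
    rintro _ ⟨q, rfl⟩
    rw [mem_rootsOfUnity]
    obtain ⟨c, rfl⟩ := he
    rw [← map_pow, pow_mul, pow_card_eq_one', one_pow, map_one]
  have hle2 : rootsOfUnity e F ≤ rootsOfUnity (Nat.card Q) F := by
    intro u hu
    rw [mem_rootsOfUnity] at hu ⊢
    have := h (u : F) (by rw [← Units.val_pow_eq_pow_val, hu, Units.val_one])
    exact Units.ext (by rw [Units.val_pow_eq_pow_val, this, Units.val_one])
  have hcard : Nat.card (rootsOfUnity e F) ≤ Nat.card g.range := by
    calc Nat.card (rootsOfUnity e F) ≤ Nat.card (rootsOfUnity (Nat.card Q) F) :=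
          Subgroup.card_le_of_le hle2
      _ ≤ Nat.card Q := card_rootsOfUnity F (Nat.card Q)
      _ = Nat.card g.range := Nat.card_congr (MonoidHom.ofInjective hg).toEquiv
  haveI : Finite (rootsOfUnity e F) :=
    Finite.of_injective (Subgroup.inclusion hle2) (Subgroup.inclusion_injective hle2)
  have heq : g.range = rootsOfUnity e F := Subgroup.eq_of_le_of_card_ge hle hcard
  exact ⟨(MonoidHom.ofInjective hg).trans (MulEquiv.subgroupCongr heq)⟩

end GroupField

section Separable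

variable {A B : Type*} [CommRing A] [CommRing B] [Algebra A B] {G : Type*} [Group G]
  [MulSemiringAction G B] [SMulCommClass G A B] (m : Ideal B) [m.IsMaximal]

lemma exists_poly_of_isSeparable
    [Algebra.IsSeparable (A ⧸ m.comap (algebraMap A B)) (B ⧸ m)] (x : B) :
    ∃ g : Polynomial B, (∀ (σ : G) (i : ℕ), σ • g.coeff i = g.coeff i) ∧ g.eval x ∈ m ∧
      g.derivative.eval x ∉ m := by
  set p := m.comap (algebraMap A B) with hp
  have hsep := Algebra.IsSeparable.isSeparable (A ⧸ p) (Ideal.Quotient.mk m x)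
  set gbar := minpoly (A ⧸ p) (Ideal.Quotient.mk m x) with hgbar
  obtain ⟨g₀, hg₀⟩ := Polynomial.map_surjective (Ideal.Quotient.mk p) Ideal.Quotient.mk_surjective gbar
  have hsq : (Ideal.Quotient.mk m).comp (algebraMap A B) =
      (algebraMap (A ⧸ p) (B ⧸ m)).comp (Ideal.Quotient.mk p) := RingHom.ext fun a => rfl
  have key : ∀ q : Polynomial A, Ideal.Quotient.mk m ((q.map (algebraMap A B)).eval x) =
      Polynomial.aeval (Ideal.Quotient.mk m x) (q.map (Ideal.Quotient.mk p)) := by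
    intro q
    rw [Polynomial.eval_map, Polynomial.hom_eval₂, hsq, Polynomial.aeval_def, Polynomial.eval₂_map]
  refine ⟨g₀.map (algebraMap A B), fun σ i => ?_, ?_, ?_⟩
  · rw [Polynomial.coeff_map, smul_algebraMap]
  · rw [← Ideal.Quotient.eq_zero_iff_mem, key, hg₀]
    exact minpoly.aeval _ _
  · rw [← Ideal.Quotient.eq_zero_iff_mem, Polynomial.derivative_map, key,
      ← Polynomial.derivative_map, hg₀]
    exact hsep.aeval_derivative_ne_zero (minpoly.aeval _ _)

lemma wild_le_inertia : wild (G := G) m ≤ m.inertia G := fun σ hσ x =>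
  Ideal.pow_le_self two_ne_zero (hσ.2 x)

theorem theta_eq_one_iff_mem_wild [IsDedekindDomain B]
    [Algebra.IsSeparable (A ⧸ m.comap (algebraMap A B)) (B ⧸ m)] {π : B}
    (hm : m ≠ ⊥) (hπ : π ∈ m) (hπ2 : π ∉ m ^ 2) (σ : m.inertia G) :
    theta hm hπ hπ2 σ = 1 ↔ (σ : G) ∈ wild (G := G) m := by
  rw [theta_eq_one_iff]
  constructor
  · intro h
    refine ⟨Ideal.inertia_le_stabilizer m σ.2, fun x => ?_⟩
    obtain ⟨g, hg1, hg2, hg3⟩ := exists_poly_of_isSeparable (A := A) (G := G) m x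
    exact smul_sub_mem_sq_of_poly σ.2
      (fun y hy => smul_sub_mem_sq_of_mem hm hπ hπ2 σ.2 h hy) x g (hg1 σ) hg2 hg3
  · intro h
    exact h.2 π

end Separable

section Card

variable {R S G : Type*} [CommRing R] [CommRing S] [Algebra R S] [Group G]
  [MulSemiringAction G S] [IsGaloisGroup G R S] [Finite G]

open Ideal

attribute [local instance] Ideal.Quotient.field in
theorem card_stabilizer_eq_card_inertia_mul_inertiaDeg (p : Ideal R) [p.IsMaximal]
    (P : Ideal S) [P.LiesOver p] [P.IsMaximal] [Algebra.IsSeparable (R ⧸ p) (S ⧸ P)] :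
    Nat.card (MulAction.stabilizer G P) = Nat.card (P.inertia G) * P.inertiaDeg R := by
  have : IsGalois (R ⧸ p) (S ⧸ P) := { __ := Ideal.Quotient.normal G p P }
  have : Module.Finite (R ⧸ p) (S ⧸ P) := Ideal.Quotient.finite_of_isInvariant G p P
  have : Subgroup.index _ = _ := Nat.card_congr
    (Ideal.Quotient.stabilizerQuotientInertiaEquiv G p P).toEquiv
  rw [inertiaDeg_eq_of_isMaximal p P, ← IsGalois.card_aut_eq_finrank (R ⧸ p) (S ⧸ P), ← this,
    ← ((inertia G P).subgroupOf (MulAction.stabilizer G P)).card_mul_index,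
    Nat.card_congr (Subgroup.subgroupOfEquivOfLe (inertia_le_stabilizer (M := G) P)).toEquiv,
    AddSubgroup.subgroupOf_inertia]

theorem card_inertia_eq_ramificationIdx [IsDomain R] [IsDomain S] [Module.Finite R S]
    [Module.Flat R S] (p : Ideal R) [p.IsMaximal]
    (P : Ideal S) [P.LiesOver p] [P.IsMaximal] [Algebra.IsSeparable (R ⧸ p) (S ⧸ P)] :
    Nat.card (P.inertia G) = P.ramificationIdx R := by
  have H : (p.primesOver S).ncard * Nat.card (P.inertia G) * P.inertiaDeg R = Nat.card G := by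
    rw [mul_assoc, ← card_stabilizer_eq_card_inertia_mul_inertiaDeg p P,
      ← Algebra.IsInvariant.orbit_eq_primesOver R S G p P]
    simpa using Nat.card_congr (MulAction.orbitProdStabilizerEquivGroup G P)
  rw [← inertiaDegIn_eq_inertiaDeg p P G] at H
  have h1 : (p.primesOver S).ncard ≠ 0 := by grind [Nat.card_pos]
  have h2 : p.inertiaDegIn S ≠ 0 := by grind [Nat.card_pos]
  rw [← ncard_primesOver_mul_ramificationIdxIn_mul_inertiaDegIn p S G,
    mul_assoc, mul_right_inj' h1, mul_left_inj' h2] at H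
  rw [H, ramificationIdxIn_eq_ramificationIdx p P G]

end Card

section Structure

variable {I : Type*} [Group I] [Finite I] (N : Subgroup I) [N.Normal] {F : Type*} [Field F]
  (f : I ⧸ N →* F) (hf : Function.Injective f) (e : ℕ) (he : Nat.card I = e)

include hf he

lemma card_quotient_of_isPGroup (p : ℕ) (hp : p.Prime) [CharP F p] (hN : IsPGroup p N) :
    Nat.card (I ⧸ N) = e / p ^ e.factorization p ∧ ∃ a, e = p ^ a * Nat.card (I ⧸ N) := by
  haveI : Fact p.Prime := ⟨hp⟩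
  obtain ⟨a, ha⟩ := hN.exists_card_eq
  have h1 := Subgroup.card_eq_card_quotient_mul_card_subgroup N
  rw [he, ha] at h1
  have h2 : ¬ p ∣ Nat.card (I ⧸ N) := not_dvd_card_of_injective_field f hf p
  have hr : Nat.card (I ⧸ N) ≠ 0 := Nat.card_pos.ne'
  have hfac : e.factorization p = a := by
    rw [h1, Nat.factorization_mul hr (pow_ne_zero _ hp.ne_zero), Finsupp.add_apply,
      Nat.factorization_eq_zero_of_not_dvd h2, zero_add, hp.factorization_pow,
      Finsupp.single_eq_same]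
  refine ⟨?_, a, by rw [h1, mul_comm]⟩
  rw [hfac, h1, Nat.mul_div_cancel _ (pow_pos hp.pos a)]

lemma card_quotient_of_card_eq_one (hN : Nat.card N = 1) : Nat.card (I ⧸ N) = e := by
  have h1 := Subgroup.card_eq_card_quotient_mul_card_subgroup N
  rw [he, hN, mul_one] at h1
  exact h1.symm

lemma nonempty_mulEquiv_of_isPGroup (p : ℕ) (hp : p.Prime) [CharP F p] (hN : IsPGroup p N) :
    Nonempty (I ⧸ N ≃* ↥(rootsOfUnity e F)) := by
  obtain ⟨-, a, ha⟩ := card_quotient_of_isPGroup N f hf e he p hp hN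
  refine nonempty_mulEquiv_rootsOfUnity f hf e ⟨p ^ a, by rw [ha, mul_comm]⟩ fun u hu => ?_
  haveI : Fact p.Prime := ⟨hp⟩
  haveI : ExpChar F p := ExpChar.prime hp
  rw [ha] at hu
  exact (ExpChar.pow_prime_pow_mul_eq_one_iff p a _ u).1 hu

lemma nonempty_mulEquiv_of_card_eq_one (hN : Nat.card N = 1) :
    Nonempty (I ⧸ N ≃* ↥(rootsOfUnity e F)) := by
  have h1 := card_quotient_of_card_eq_one N f hf e he hN
  exact nonempty_mulEquiv_rootsOfUnity f hf e (by rw [h1]) fun u hu => by rw [h1]; exact hu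

end Structure

section Normal

variable {B : Type*} [CommRing B] {G : Type*} [Group G] [MulSemiringAction G B] (m : Ideal B)

lemma wild_normal : ((wild (G := G) m).subgroupOf (MulAction.stabilizer G m)).Normal := by
  constructor
  rintro ⟨σ, hσD⟩ hσ ⟨τ, hτ⟩
  rw [Subgroup.mem_subgroupOf] at hσ ⊢
  change σ ∈ wild m at hσ
  change τ * σ * τ⁻¹ ∈ wild m
  refine ⟨Subgroup.mul_mem _ (Subgroup.mul_mem _ hτ hσD) (Subgroup.inv_mem _ hτ), fun x => ?_⟩
  have e1 : (τ * σ * τ⁻¹) • x - x = τ • (σ • (τ⁻¹ • x) - τ⁻¹ • x) := by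
    rw [smul_sub, mul_smul, mul_smul, smul_inv_smul]
  rw [e1]
  exact smul_mem_pow_of_mem_stabilizer m hτ 2 (hσ.2 _)

end Normal

end Groth.Agent.Lib.Helper9.TameInertia
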