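import Mathlib
import Groth.Agent.Lib.Helper9.TameInertia
import Groth.Agent.Lib.Helper9.GaloisTame

/-!
# Galois extensions that are all inertia, of degree prime to the residue characteristic

`A` a DVR, `N/K` finite Galois of degree prime to the residue characteristic, such that every
automorphism lies in the inertia group of one maximal ideal `m₀` of the integral closure.  Then
`Gal(N/K)` is cyclic and every prime has ramification index `[N:K]`.
-/

universe u

set_option linter.unusedSectionVars false
set_option linter.style.haveILetI false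
set_option linter.overlappingInstances false

namespace Groth.Agent.Lib.Helper9.TameCyclic

open Groth.Agent.Lib.Helper9.TameInertia Groth.Agent.Lib.Helper9.GaloisTame

local notation "𝔪" => IsLocalRing.maximalIdeal

variable {A K N : Type u} [CommRing A] [IsDomain A] [IsDiscreteValuationRing A] [Field K]
  [Algebra A K] [IsFractionRing A K] [Field N] [Algebra K N] [FiniteDimensional K N] [IsGalois K N]
  [Algebra A N] [IsScalarTower A K N]

attribute [local instance] Ideal.Quotient.field in
theorem cyclic_and_totRam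
    (h : ∀ p : ℕ, p.Prime → CharP (A ⧸ 𝔪 A) p → ¬ p ∣ Module.finrank K N)
    (m₀ : Ideal (integralClosure A N)) [m₀.IsMaximal]
    (hin : ∀ (τ : N ≃ₐ[K] N) (b : integralClosure A N), ∃ c ∈ m₀, (c : N) = τ b - b) :
    IsCyclic (N ≃ₐ[K] N) ∧ ∀ P : Ideal (integralClosure A N), P.IsMaximal →
      P.ramificationIdx A = Module.finrank K N := by
  classical
  haveI : IsFractionRing (integralClosure A N) N :=
    integralClosure.isFractionRing_of_finite_extension K N
  haveI : IsDedekindDomain (integralClosure A N) :=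
    IsIntegralClosure.isDedekindDomain A K N (integralClosure A N)
  haveI : Module.Finite A (integralClosure A N) :=
    IsIntegralClosure.finite A K N (integralClosure A N)
  letI := IsIntegralClosure.MulSemiringAction A K N (integralClosure A N)
  haveI : IsGaloisGroup (N ≃ₐ[K] N) A (integralClosure A N) :=
    IsGaloisGroup.of_isFractionRing _ _ _ K N
  have hinjAB : Function.Injective (algebraMap A (integralClosure A N)) := by
    have h1 : Function.Injective (algebraMap A N) := by
      rw [IsScalarTower.algebraMap_eq A K N]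
      exact (algebraMap K N).injective.comp (IsFractionRing.injective A K)
    rw [IsScalarTower.algebraMap_eq A (integralClosure A N) N, RingHom.coe_comp] at h1
    exact Function.Injective.of_comp h1
  haveI : FaithfulSMul A (integralClosure A N) :=
    (faithfulSMul_iff_algebraMap_injective A _).2 hinjAB
  haveI : Module.IsTorsionFree A (integralClosure A N) := inferInstance
  haveI : Module.Flat A (integralClosure A N) := inferInstance
  haveI : Algebra.IsIntegral A (integralClosure A N) := inferInstance
  haveI : IsNoetherianRing (integralClosure A N) := inferInstance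
  haveI : FaithfulSMul (N ≃ₐ[K] N) (integralClosure A N) := IsGaloisGroup.faithful A
  haveI : SMulCommClass (N ≃ₐ[K] N) A (integralClosure A N) := IsGaloisGroup.commutes
  -- `m₀` lies over `𝔪 A`
  have hm₀A : m₀.under A = 𝔪 A :=
    IsLocalRing.eq_maximalIdeal (Ideal.isMaximal_comap_of_isIntegral_of_isMaximal m₀)
  haveI : m₀.LiesOver (𝔪 A) := ⟨hm₀A.symm⟩
  -- everything is inertia
  have htop : m₀.inertia (N ≃ₐ[K] N) = ⊤ := by
    rw [eq_top_iff]
    intro τ _ b
    obtain ⟨c, hc, hcb⟩ := hin τ b
    have : τ • b - b = c := by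
      apply Subtype.ext
      rw [hcb]
      exact congrArg₂ (· - ·) (algebraMap_galRestrict_apply A τ b) rfl
    rw [this]
    exact hc
  set p₀ : Ideal A := m₀.comap (algebraMap A (integralClosure A N)) with hp₀
  haveI hp₀max : p₀.IsMaximal := Ideal.isMaximal_comap_of_isIntegral_of_isMaximal m₀
  haveI hlies' : m₀.LiesOver p₀ := ⟨rfl⟩
  have hp₀eq : p₀ = 𝔪 A := IsLocalRing.eq_maximalIdeal hp₀max
  have h' : ∀ p : ℕ, p.Prime → CharP (A ⧸ p₀) p → ¬ p ∣ Module.finrank K N := hp₀eq ▸ h
  -- numerics
  have hid := Ideal.ncard_primesOver_mul_ramificationIdxIn_mul_inertiaDegIn p₀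
    (integralClosure A N) (N ≃ₐ[K] N)
  rw [Ideal.ramificationIdxIn_eq_ramificationIdx p₀ m₀ (N ≃ₐ[K] N),
    Ideal.inertiaDegIn_eq_inertiaDeg p₀ m₀ (N ≃ₐ[K] N),
    IsGalois.card_aut_eq_finrank K N] at hid
  have hf_dvd : m₀.inertiaDeg A ∣ Module.finrank K N :=
    ⟨(p₀.primesOver (integralClosure A N)).ncard * m₀.ramificationIdx A, by
      rw [← hid]; ring⟩
  have hfdeg : m₀.inertiaDeg A = Module.finrank (A ⧸ p₀) (integralClosure A N ⧸ m₀) :=
    Ideal.inertiaDeg_eq_of_isMaximal p₀ m₀
  haveI : FiniteDimensional (A ⧸ p₀) (integralClosure A N ⧸ m₀) := inferInstance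
  haveI hsepE : Algebra.IsSeparable (A ⧸ p₀) (integralClosure A N ⧸ m₀) :=
    isSeparable_of_not_dvd_finrank fun p hp hchar hdvd =>
      h' p hp hchar ((hfdeg ▸ hdvd).trans hf_dvd)
  have hcard : Nat.card (m₀.inertia (N ≃ₐ[K] N)) = m₀.ramificationIdx A :=
    card_inertia_eq_ramificationIdx (G := N ≃ₐ[K] N) p₀ m₀
  have he : m₀.ramificationIdx A = Module.finrank K N := by
    rw [← hcard, htop, Subgroup.card_top, IsGalois.card_aut_eq_finrank]
  have hA0 : 𝔪 A ≠ ⊥ := IsDiscreteValuationRing.not_a_field A
  have hm₀bot : m₀ ≠ ⊥ := by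
    intro h0
    apply hA0
    rw [← hp₀eq, hp₀, h0, Ideal.comap_bot_of_injective _ hinjAB]
  -- `[N:K]` is invertible in the residue field of `m₀`
  have hdm : ((Module.finrank K N : ℕ) : integralClosure A N) ∉ m₀ := by
    rw [natCast_not_mem_iff]
    have hinjq : Function.Injective (algebraMap (A ⧸ p₀) (integralClosure A N ⧸ m₀)) :=
      RingHom.injective _
    obtain ⟨q, hq⟩ := CharP.exists (A ⧸ p₀)
    rcases CharP.char_is_prime_or_zero (A ⧸ p₀) q with hq' | hq'
    · haveI := charP_of_injective_algebraMap hinjq q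
      rw [Ne, CharP.cast_eq_zero_iff (integralClosure A N ⧸ m₀) q]
      exact h' q hq' hq
    · subst hq'
      haveI : CharZero (A ⧸ p₀) := CharP.charP_to_charZero _
      haveI := charZero_of_injective_algebraMap hinjq
      exact Nat.cast_ne_zero.2 Module.finrank_pos.ne'
  refine ⟨?_, ?_⟩
  · obtain ⟨π, hπ, hπ2⟩ := exists_uniformizer m₀ hm₀bot
    let θ : m₀.inertia (N ≃ₐ[K] N) →* (integralClosure A N ⧸ m₀) := theta hm₀bot hπ hπ2
    have hθinj : Function.Injective θ := by
      rw [injective_iff_map_eq_one]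
      intro σ hσ
      have hw : (σ : N ≃ₐ[K] N) ∈ wild (G := N ≃ₐ[K] N) m₀ :=
        (theta_eq_one_iff_mem_wild (A := A) m₀ hm₀bot hπ hπ2 σ).1 hσ
      have h1 : (σ : N ≃ₐ[K] N) = 1 :=
        wild_eq_one m₀ hw (Module.finrank K N) (by
          rw [← IsGalois.card_aut_eq_finrank K N]; exact pow_card_eq_one') hdm
      exact Subtype.ext h1
    haveI : IsCyclic (m₀.inertia (N ≃ₐ[K] N)) := isCyclic_of_injective_field θ hθinj
    rw [htop] at this
    exact isCyclic_of_surjective (Subgroup.topEquiv (G := N ≃ₐ[K] N)).toMonoidHom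
      (Subgroup.topEquiv (G := N ≃ₐ[K] N)).surjective
  · intro P hP
    haveI := hP
    have hPA : P.under A = p₀ := by
      rw [hp₀eq]
      exact IsLocalRing.eq_maximalIdeal (Ideal.isMaximal_comap_of_isIntegral_of_isMaximal P)
    haveI : P.LiesOver p₀ := ⟨hPA.symm⟩
    rw [← Ideal.ramificationIdxIn_eq_ramificationIdx p₀ P (N ≃ₐ[K] N),
      Ideal.ramificationIdxIn_eq_ramificationIdx p₀ m₀ (N ≃ₐ[K] N), he]

end Groth.Agent.Lib.Helper9.TameCyclic
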