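import Mathlib
import Groth.Prelude.Def_SGA7a
import Groth.Agent.Lib.Helper9.TameCyclic
import Groth.Agent.Lib.Helper9.DvrEisensteinApp
import Groth.Agent.Lib.Helper9.DvrEisTame

/-!
# The unique Galois extension of degree `r` when the whole Galois group is inertia

`R` a DVR with fraction field `K`, `Ω` a separable closure of `K`, `W` a valuation subring of `Ω`
dominating `R`, and every `K`-automorphism of `Ω` is in the inertia group of `W`.  For `r` prime to
the residue characteristic there is exactly one Galois extension of degree `r` inside `Ω`, and it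
is totally ramified.
-/

universe u

set_option linter.unusedSectionVars false
set_option linter.style.haveILetI false
set_option linter.overlappingInstances false

open Polynomial IntermediateField

namespace Groth.Agent.Lib.Helper9.TameUnique

open Groth.Agent.Lib.Helper9.TameCyclic Groth.Agent.Lib.Helper9.DvrEisensteinApp

local notation "𝔪" => IsLocalRing.maximalIdeal

section Group

/-- In a finite cyclic group, subgroups of the same order are equal. -/
theorem subgroup_eq_of_card_eq {G : Type*} [Group G] [Finite G] [IsCyclic G] (A B : Subgroup G)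
    (h : Nat.card A = Nat.card B) : A = B := by
  classical
  haveI := Fintype.ofFinite G
  have key : ∀ C : Subgroup G, (C : Set G) = {g : G | g ^ Nat.card C = 1} := by
    intro C
    have hd : 0 < Nat.card C := Nat.card_pos
    have hsub : (C : Set G) ⊆ {g : G | g ^ Nat.card C = 1} := by
      intro g hg
      have := congrArg Subtype.val (pow_card_eq_one' (G := C) (x := ⟨g, hg⟩))
      rwa [Subgroup.coe_pow, Subgroup.coe_one] at this
    refine Set.eq_of_subset_of_ncard_le hsub ?_ (Set.toFinite _)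
    rw [Set.ncard_eq_toFinset_card', Set.toFinset_setOf, ← Nat.card_coe_set_eq]
    exact IsCyclic.card_pow_eq_one_le hd
  apply SetLike.coe_injective
  rw [key A, key B, h]

/-- Two normal subgroups of the same index whose intersection has cyclic quotient are equal. -/
theorem subgroup_eq_of_index_eq {𝔊 G : Type*} [Group 𝔊] [Group G] [Finite G] (ρ : 𝔊 →* G)
    (hρ : Function.Surjective ρ) (H₁ H₂ : Subgroup 𝔊) [H₁.Normal] [H₂.Normal] (r : ℕ) (hr : 0 < r)
    (h₁ : H₁.index = r) (h₂ : H₂.index = r) (hker : ρ.ker = H₁ ⊓ H₂)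
    (hcyc : (∀ τ : G, τ ^ r = 1) → IsCyclic G) : H₁ = H₂ := by
  have hpow : ∀ τ : G, τ ^ r = 1 := by
    intro τ
    obtain ⟨σ, rfl⟩ := hρ τ
    rw [← map_pow, ← MonoidHom.mem_ker, hker]
    exact ⟨h₁ ▸ H₁.pow_index_mem σ, h₂ ▸ H₂.pow_index_mem σ⟩
  haveI := hcyc hpow
  have hk₁ : ρ.ker ≤ H₁ := hker ▸ inf_le_left
  have hk₂ : ρ.ker ≤ H₂ := hker ▸ inf_le_right
  have hi₁ : (H₁.map ρ).index = r := (Subgroup.index_map_eq H₁ hρ hk₁).trans h₁
  have hi₂ : (H₂.map ρ).index = r := (Subgroup.index_map_eq H₂ hρ hk₂).trans h₂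
  have hc : Nat.card (H₁.map ρ) = Nat.card (H₂.map ρ) := by
    have e₁ := (H₁.map ρ).card_mul_index
    have e₂ := (H₂.map ρ).card_mul_index
    rw [hi₁] at e₁
    rw [hi₂] at e₂
    exact Nat.eq_of_mul_eq_mul_right hr (e₁.trans e₂.symm)
  have hm := subgroup_eq_of_card_eq _ _ hc
  rw [← Subgroup.comap_map_eq_self hk₁, ← Subgroup.comap_map_eq_self hk₂, hm]

end Group

variable {R K Ω : Type u} [CommRing R] [IsDomain R] [IsDiscreteValuationRing R] [Field K]
  [Algebra R K] [IsFractionRing R K] [Field Ω] [Algebra K Ω] [IsSepClosure K Ω] [Algebra R Ω]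
  [IsScalarTower R K Ω] (W : ValuationSubring Ω) (hW : SGA7.LiesOver K R W)
  (hI : ∀ σ : Ω ≃ₐ[K] Ω, SGA7.IsInertia W σ)

include hW in
theorem algebraMap_mem (a : R) : algebraMap R Ω a ∈ W := by
  rw [IsScalarTower.algebraMap_apply R K Ω]
  exact hW.1 a

include hW in
theorem mem_of_isIntegral {x : Ω} (hx : IsIntegral R x) : x ∈ W :=
  mem_of_isIntegral_of_forall_mem (algebraMap R Ω) W (algebraMap_mem W hW) hx

include hW in
theorem valuation_lt_one {a : R} (ha : a ∈ 𝔪 R) : W.valuation (algebraMap R Ω a) < 1 := by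
  rw [IsScalarTower.algebraMap_apply R K Ω]
  exact hW.2 a ha

theorem val_eq_one_of_mul_eq_one {x y : Ω} (hx : x ∈ W) (hy : y ∈ W) (h : x * y = 1) :
    W.valuation x = 1 := by
  have h1 : W.valuation x ≤ 1 := (W.valuation_le_one_iff _).2 hx
  have h2 : W.valuation y ≤ 1 := (W.valuation_le_one_iff _).2 hy
  have h3 : W.valuation x * W.valuation y = 1 := by rw [← map_mul, h, map_one]
  apply le_antisymm h1
  by_contra hlt
  rw [not_le] at hlt
  have h4 : W.valuation x * W.valuation y ≤ W.valuation x * 1 := mul_le_mul_right h2 _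
  rw [h3, mul_one] at h4
  exact absurd hlt (not_lt.2 h4)

include hW in
theorem valuation_eq_one {a : R} (ha : IsUnit a) : W.valuation (algebraMap R Ω a) = 1 := by
  obtain ⟨u, rfl⟩ := ha
  refine val_eq_one_of_mul_eq_one W (algebraMap_mem W hW _)
    (algebraMap_mem W hW ((u⁻¹ : Rˣ) : R)) ?_
  rw [← map_mul, Units.mul_inv, map_one]

theorem not_dvd_of_cast_ne_zero {r : ℕ} (hrk : (r : IsLocalRing.ResidueField R) ≠ 0) (p : ℕ)
    (hc : CharP (R ⧸ 𝔪 R) p) : ¬ p ∣ r := by
  intro hd
  apply hrk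
  exact (CharP.cast_eq_zero_iff (R ⧸ 𝔪 R) p r).2 hd

include hW hI in
theorem cyclic_and_totRam_of_inertia (L : IntermediateField K Ω) [FiniteDimensional K L]
    [IsGalois K L]
    (h : ∀ p : ℕ, p.Prime → CharP (R ⧸ 𝔪 R) p → ¬ p ∣ Module.finrank K L) :
    IsCyclic (L ≃ₐ[K] L) ∧ ∀ P : Ideal (integralClosure R L), P.IsMaximal →
      P.ramificationIdx R = Module.finrank K L := by
  haveI : IsGalois K Ω := inferInstance
  haveI : IsScalarTower R L Ω := IsScalarTower.of_algebraMap_eq fun a => by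
    rw [IsScalarTower.algebraMap_apply R K Ω, IsScalarTower.algebraMap_apply K L Ω,
      ← IsScalarTower.algebraMap_apply R K L]
  have hBW : ∀ b : integralClosure R L, ((b : L) : Ω) ∈ W := fun b =>
    mem_of_isIntegral W hW (b.2.map (IsScalarTower.toAlgHom R L Ω))
  let φ : integralClosure R L →+* W :=
    { toFun := fun b => ⟨((b : L) : Ω), hBW b⟩
      map_one' := rfl
      map_mul' := fun _ _ => rfl
      map_zero' := rfl
      map_add' := fun _ _ => rfl }
  let m₀ : Ideal (integralClosure R L) := (𝔪 W).comap φ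
  haveI : m₀.IsPrime := Ideal.comap_isPrime _ _
  have hmem : ∀ b, b ∈ m₀ ↔ W.valuation ((b : L) : Ω) < 1 := fun b => by
    rw [Ideal.mem_comap]
    exact ValuationSubring.valuation_lt_one_iff W (φ b)
  have hunder : m₀.comap (algebraMap R (integralClosure R L)) = 𝔪 R := by
    symm
    apply (IsLocalRing.maximalIdeal.isMaximal R).eq_of_le
      (Ideal.IsPrime.ne_top (Ideal.comap_isPrime _ _))
    intro a ha
    rw [Ideal.mem_comap, hmem]
    exact valuation_lt_one W hW ha
  haveI : m₀.IsMaximal := Ideal.isMaximal_of_isIntegral_of_isMaximal_comap m₀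
    (hunder ▸ IsLocalRing.maximalIdeal.isMaximal R)
  refine cyclic_and_totRam (A := R) (K := K) (N := L) h m₀ ?_
  intro τ b
  refine ⟨⟨τ b - b, ?_⟩, ?_, rfl⟩
  · exact (b.2.map (τ.restrictScalars R)).sub b.2
  · rw [hmem]
    have h1 : ((τ (b : L) : L) : Ω) = (τ.liftNormal Ω) ((b : L) : Ω) :=
      (AlgEquiv.liftNormal_commutes τ Ω (b : L)).symm
    show W.valuation (((τ (b : L) - (b : L) : L)) : Ω) < 1
    rw [AddSubgroupClass.coe_sub, h1]
    exact (hI (τ.liftNormal Ω) _ (hBW b)).2


include hW hI in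
theorem ramificationIdx_eq (r : ℕ) (hr : 0 < r) (hrk : (r : IsLocalRing.ResidueField R) ≠ 0)
    (L : IntermediateField K Ω) (hL : Module.finrank K L = r) [IsGalois K L]
    (P : Ideal (integralClosure R L)) (hP : P.IsMaximal) : P.ramificationIdx R = r := by
  haveI : FiniteDimensional K L := Module.finite_of_finrank_pos (hL ▸ hr)
  rw [← hL]
  exact (cyclic_and_totRam_of_inertia W hW hI L
    (fun p _ hc => hL ▸ not_dvd_of_cast_ne_zero hrk p hc)).2 P hP

include hW hI in
theorem unique (r : ℕ) (hr : 0 < r) (hrk : (r : IsLocalRing.ResidueField R) ≠ 0)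
    (L₁ L₂ : IntermediateField K Ω) (h₁ : Module.finrank K L₁ = r) (h₂ : Module.finrank K L₂ = r)
    [IsGalois K L₁] [IsGalois K L₂] : L₁ = L₂ := by
  haveI : FiniteDimensional K L₁ := Module.finite_of_finrank_pos (h₁ ▸ hr)
  haveI : FiniteDimensional K L₂ := Module.finite_of_finrank_pos (h₂ ▸ hr)
  haveI : IsGalois K Ω := inferInstance
  haveI : FiniteDimensional K (L₁ ⊔ L₂ : IntermediateField K Ω) :=
    IntermediateField.finiteDimensional_sup L₁ L₂
  haveI : Normal K (L₁ ⊔ L₂ : IntermediateField K Ω) := IntermediateField.normal_sup K Ω L₁ L₂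
  haveI : IsGalois K (L₁ ⊔ L₂ : IntermediateField K Ω) := ⟨⟩
  have hidx : ∀ (L : IntermediateField K Ω) [IsGalois K L] [FiniteDimensional K L],
      L.fixingSubgroup.index = Module.finrank K L := by
    intro L _ _
    rw [← L.restrictNormalHom_ker, Subgroup.index_ker,
      MonoidHom.range_eq_top.2 (AlgEquiv.restrictNormalHom_surjective Ω), Subgroup.card_top,
      IsGalois.card_aut_eq_finrank]
  have hnorm : ∀ (L : IntermediateField K Ω) [IsGalois K L], L.fixingSubgroup.Normal := by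
    intro L _
    rw [← L.restrictNormalHom_ker]
    exact MonoidHom.normal_ker _
  haveI := hnorm L₁
  haveI := hnorm L₂
  have key : L₁.fixingSubgroup = L₂.fixingSubgroup := by
    refine subgroup_eq_of_index_eq
      (AlgEquiv.restrictNormalHom (L₁ ⊔ L₂ : IntermediateField K Ω))
      (AlgEquiv.restrictNormalHom_surjective Ω) _ _ r hr ((hidx L₁).trans h₁)
      ((hidx L₂).trans h₂) ?_ ?_
    · rw [IntermediateField.restrictNormalHom_ker, IntermediateField.fixingSubgroup_sup]
    · intro hpow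
      refine (cyclic_and_totRam_of_inertia W hW hI (L₁ ⊔ L₂) ?_).1
      intro p hp hc hd
      rw [← IsGalois.card_aut_eq_finrank] at hd
      haveI : Fact p.Prime := ⟨hp⟩
      obtain ⟨τ, hτ⟩ := exists_prime_orderOf_dvd_card' p hd
      have : p ∣ r := hτ ▸ orderOf_dvd_of_pow_eq_one (hpow τ)
      exact not_dvd_of_cast_ne_zero hrk p hc this
  rw [← InfiniteGalois.fixedField_fixingSubgroup L₁, key,
    InfiniteGalois.fixedField_fixingSubgroup]

include hW in
/-- An `r`-th root of unity congruent to `1` is `1` (for `r` a unit of `R`). -/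
theorem eq_one_of_pow_eq_one (r : ℕ) (hr : 0 < r) (hru : IsUnit (r : R)) {η : Ω}
    (hη : η ^ r = 1) (hv : W.valuation (η - 1) < 1) : η = 1 := by
  by_contra hne
  have hηW : η ∈ W := mem_of_isIntegral W hW
    ⟨X ^ r - C 1, monic_X_pow_sub_C 1 hr.ne', by simp [hη]⟩
  have hsum : ∑ i ∈ Finset.range r, η ^ i = 0 := by
    have h1 := geom_sum_mul η r
    rw [hη, sub_self] at h1
    exact (mul_eq_zero.1 h1).resolve_right (sub_ne_zero.2 hne)
  let ηW : W := ⟨η, hηW⟩
  let g : (W : Type u)[X] := ∑ i ∈ Finset.range r, X ^ i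
  obtain ⟨c, hc⟩ := Polynomial.sub_dvd_eval_sub ηW 1 g
  have e1 : ((g.eval ηW : W) : Ω) = 0 := by
    simp only [g, Polynomial.eval_finset_sum, Polynomial.eval_pow, Polynomial.eval_X]
    rw [← hsum]
    simp [ηW]
  have e2 : ((g.eval 1 : W) : Ω) = (r : Ω) := by
    simp [g, Polynomial.eval_finset_sum]
  have hc' : (0 : Ω) - (r : Ω) = (η - 1) * (c : Ω) := by
    rw [← e1, ← e2]
    exact congrArg (fun w : W => (w : Ω)) hc
  have hvr : W.valuation ((r : ℕ) : Ω) = 1 := by
    have := valuation_eq_one W hW hru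
    rwa [map_natCast] at this
  have h3 : W.valuation ((0 : Ω) - (r : Ω)) < 1 := by
    rw [hc', map_mul]
    calc W.valuation (η - 1) * W.valuation (c : Ω) ≤ W.valuation (η - 1) * 1 :=
          mul_le_mul_right (W.valuation_le_one c) _
      _ < 1 := by rwa [mul_one]
  rw [zero_sub, Valuation.map_neg, hvr] at h3
  exact lt_irrefl _ h3

include hW hI in
theorem exists_galois (r : ℕ) (hr : 0 < r) (hrk : (r : IsLocalRing.ResidueField R) ≠ 0) :
    ∃ L : IntermediateField K Ω, Module.finrank K L = r ∧ IsGalois K L := by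
  haveI : IsGalois K Ω := inferInstance
  have hru : IsUnit (r : R) := by
    by_contra hnu
    apply hrk
    have h0 : IsLocalRing.residue R (r : R) = 0 :=
      (IsLocalRing.residue_eq_zero_iff _).2 ((IsLocalRing.mem_maximalIdeal _).2 hnu)
    rwa [map_natCast] at h0
  have hvr : W.valuation ((r : ℕ) : Ω) = 1 := by
    have := valuation_eq_one W hW hru
    rwa [map_natCast] at this
  have hrΩ : ((r : ℕ) : Ω) ≠ 0 := by
    intro h0
    rw [h0, map_zero] at hvr
    exact zero_ne_one hvr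
  haveI : NeZero ((r : ℕ) : Ω) := ⟨hrΩ⟩
  haveI : NeZero r := ⟨hr.ne'⟩
  haveI : IsSepClosed Ω := IsSepClosure.sep_closed K
  obtain ⟨ζ, hζ⟩ := HasEnoughRootsOfUnity.exists_primitiveRoot Ω r
  have hζ0 : ζ ≠ 0 := hζ.ne_zero hr.ne'
  have hζW : ζ ∈ W := mem_of_isIntegral W hW
    ⟨X ^ r - C 1, monic_X_pow_sub_C 1 hr.ne', by simp [hζ.pow_eq_one]⟩
  have hζinv : ζ⁻¹ = ζ ^ (r - 1) := by
    apply inv_eq_of_mul_eq_one_right
    rw [← pow_succ', Nat.sub_add_cancel hr, hζ.pow_eq_one]
  have hζinvW : ζ⁻¹ ∈ W := hζinv ▸ pow_mem hζW _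
  have hvζinv : W.valuation ζ⁻¹ = 1 :=
    val_eq_one_of_mul_eq_one W hζinvW hζW (inv_mul_cancel₀ hζ0)
  -- `ζ` is Galois-fixed
  have hfix : ∀ σ : Ω ≃ₐ[K] Ω, σ ζ = ζ := by
    intro σ
    have h1 : (σ ζ * ζ⁻¹) ^ r = 1 := by
      rw [mul_pow, ← map_pow, inv_pow, hζ.pow_eq_one, map_one, inv_one, mul_one]
    have h2 : W.valuation (σ ζ * ζ⁻¹ - 1) < 1 := by
      have : σ ζ * ζ⁻¹ - 1 = (σ ζ - ζ) * ζ⁻¹ := by
        rw [sub_mul, mul_inv_cancel₀ hζ0]
      rw [this, map_mul, hvζinv, mul_one]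
      exact (hI σ ζ hζW).2
    have h3 := eq_one_of_pow_eq_one W hW r hr hru h1 h2
    rw [mul_inv_eq_one₀ hζ0] at h3
    exact h3
  obtain ⟨z, hz⟩ := (InfiniteGalois.mem_range_algebraMap_iff_fixed ζ).2 hfix
  -- the Kummer extension
  obtain ⟨π, hπ⟩ := IsDiscreteValuationRing.exists_irreducible R
  have hirr : Irreducible (X ^ r - C (algebraMap R K π) : K[X]) :=
    DvrEisTame.irreducible_X_pow_sub_C K hπ r hr
  have hπK : algebraMap R K π ≠ 0 := by
    rw [Ne, map_eq_zero_iff _ (IsFractionRing.injective R K)]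
    exact hπ.ne_zero
  have hπΩ : algebraMap K Ω (algebraMap R K π) ≠ 0 := by
    rwa [Ne, map_eq_zero]
  have hsep : (X ^ r - C (algebraMap K Ω (algebraMap R K π)) : Polynomial Ω).Separable :=
    separable_X_pow_sub_C _ hrΩ hπΩ
  obtain ⟨α, hα⟩ := IsSepClosed.exists_root _
    (by rw [degree_X_pow_sub_C hr]; exact_mod_cast hr.ne') hsep
  have hαr : α ^ r = algebraMap K Ω (algebraMap R K π) := by
    simpa [sub_eq_zero] using hα
  have hα0 : α ≠ 0 := by
    intro h0
    rw [h0, zero_pow hr.ne'] at hαr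
    exact hπΩ hαr.symm
  have hroot : Polynomial.aeval α (X ^ r - C (algebraMap R K π) : K[X]) = 0 := by
    simp [hαr]
  have hmin : minpoly K α = X ^ r - C (algebraMap R K π) :=
    (minpoly.eq_of_irreducible_of_monic hirr hroot (monic_X_pow_sub_C _ hr.ne')).symm
  have hint : IsIntegral K α := ⟨_, monic_X_pow_sub_C _ hr.ne', hroot⟩
  refine ⟨K⟮α⟯, ?_, ?_⟩
  · rw [IntermediateField.adjoin.finrank hint, hmin, natDegree_X_pow_sub_C]
  · haveI : Normal K K⟮α⟯ := by
      rw [IntermediateField.normal_iff_forall_map_le']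
      intro σ
      rw [IntermediateField.adjoin_map, Set.image_singleton,
        IntermediateField.adjoin_simple_le_iff]
      have h1 : (σ α * α⁻¹) ^ r = 1 := by
        rw [mul_pow, ← map_pow, inv_pow, hαr, AlgEquiv.commutes, mul_inv_cancel₀ hπΩ]
      obtain ⟨i, _, hi⟩ := hζ.eq_pow_of_pow_eq_one h1
      have h2 : σ α = algebraMap K Ω (z ^ i) * α := by
        rw [map_pow, hz, hi, mul_assoc, inv_mul_cancel₀ hα0, mul_one]
      show σ α ∈ K⟮α⟯
      rw [h2]
      exact mul_mem (IntermediateField.algebraMap_mem _ _) (IntermediateField.mem_adjoin_simple_self K α)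
    exact ⟨⟩

include hW hI in
theorem main (r : ℕ) (hr : 0 < r) (hrk : (r : IsLocalRing.ResidueField R) ≠ 0) :
    (∃! L : IntermediateField K Ω, Module.finrank K L = r ∧ IsGalois K L) ∧
      ∀ L : IntermediateField K Ω, Module.finrank K L = r → IsGalois K L →
        ∀ P : Ideal (integralClosure R L), P.IsMaximal → P.ramificationIdx R = r := by
  refine ⟨?_, ?_⟩
  · obtain ⟨L, hL, hLG⟩ := exists_galois W hW hI r hr hrk
    refine ⟨L, ⟨hL, hLG⟩, ?_⟩
    rintro L' ⟨hL', hLG'⟩
    exact unique W hW hI r hr hrk L' L hL' hL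
  · intro L hL hLG P hP
    exact ramificationIdx_eq W hW hI r hr hrk L hL P hP

end Groth.Agent.Lib.Helper9.TameUnique
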