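import Mathlib
import Groth.Prelude.Def_SGA7a
import Groth.Agent.Lib.Helper9.TameChar
import Groth.Agent.Lib.Helper9.TameUnique
import Groth.Agent.Lib.Helper9.DvrExt

/-!
# Elements of the Galois group fixing an `r`-th root of a uniformizer are products of `r`-th powers
-/

universe u

set_option linter.unusedSectionVars false
set_option linter.style.haveILetI false

open Polynomial

namespace Groth.Agent.Lib.Helper9.TameKey

open IsLocalRing Groth.Agent.Lib.Helper9.TameChar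

section Cyc

/-- group-theoretic core: in a finite cyclic image, the kernel of `z ↦ z ^ m` consists of `r`-th
powers when `z ↦ z ^ m` has image of order exactly `r`. -/
theorem cyc {G F : Type*} [Group G] [Field F] (c : G →* Fˣ) (r : ℕ) (hr : 0 < r) (m : ℤ)
    (h1 : ∀ σ, c σ ^ ((r : ℤ) * m) = 1) (σ₁ : G) (h2 : orderOf (c σ₁ ^ m) = r)
    (σ₀ : G) (h0 : c σ₀ ^ m = 1) : ∃ τ, c σ₀ = c τ ^ r := by
  classical
  by_cases hm : m = 0
  · subst hm
    rw [zpow_zero, orderOf_one] at h2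
    subst h2
    exact ⟨σ₀, (pow_one _).symm⟩
  have hN : ((r : ℤ) * m).natAbs ≠ 0 := by
    rw [Int.natAbs_ne_zero]
    exact mul_ne_zero (by exact_mod_cast hr.ne') hm
  haveI : NeZero ((r : ℤ) * m).natAbs := ⟨hN⟩
  have hsub : (c.range : Set Fˣ) ⊆ (rootsOfUnity ((r : ℤ) * m).natAbs F : Set Fˣ) := by
    rintro _ ⟨σ, rfl⟩
    show c σ ∈ rootsOfUnity _ F
    rw [mem_rootsOfUnity, ← zpow_natCast, Int.natCast_natAbs]
    rcases abs_choice ((r : ℤ) * m) with h | h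
    · rw [h]; exact h1 σ
    · rw [h, zpow_neg, h1 σ, inv_one]
  have hfin : (rootsOfUnity ((r : ℤ) * m).natAbs F : Set Fˣ).Finite :=
    Set.finite_coe_iff.1 (inferInstanceAs (Finite (rootsOfUnity ((r : ℤ) * m).natAbs F)))
  haveI : Finite c.range := Set.finite_coe_iff.2 (hfin.subset hsub)
  obtain ⟨⟨γ, τ₀, rfl⟩, hg⟩ := IsCyclic.exists_generator (α := c.range)
  have hgen : ∀ σ : G, ∃ a : ℤ, c τ₀ ^ a = c σ := by
    intro σ
    obtain ⟨a, ha⟩ := Subgroup.mem_zpowers_iff.1 (hg ⟨c σ, σ, rfl⟩)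
    exact ⟨a, congrArg Subtype.val ha⟩
  set γ := c τ₀ with hγ
  have hd1 : orderOf (γ ^ m) ∣ r := by
    apply orderOf_dvd_of_pow_eq_one
    rw [← zpow_natCast, ← zpow_mul, mul_comm]
    exact h1 τ₀
  obtain ⟨b, hb⟩ := hgen σ₁
  have hd2 : r ∣ orderOf (γ ^ m) := by
    rw [← h2]
    apply orderOf_dvd_of_mem_zpowers
    rw [Subgroup.mem_zpowers_iff]
    exact ⟨b, by rw [← hb, ← zpow_mul, ← zpow_mul, mul_comm]⟩
  have hord : orderOf (γ ^ m) = r := Nat.dvd_antisymm hd1 hd2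
  obtain ⟨a, ha⟩ := hgen σ₀
  have h3 : (γ ^ m) ^ a = 1 := by
    rw [← zpow_mul, mul_comm, zpow_mul, ha, h0]
  rw [← orderOf_dvd_iff_zpow_eq_one, hord] at h3
  obtain ⟨a', rfl⟩ := h3
  refine ⟨τ₀ ^ a', ?_⟩
  rw [← ha, map_zpow, ← hγ, zpow_mul, zpow_natCast, ← zpow_natCast, ← zpow_natCast, ← zpow_mul,
    ← zpow_mul, mul_comm]

end Cyc

variable {R K Ω : Type u} [CommRing R] [IsDomain R] [IsDiscreteValuationRing R] [Field K]
  [Algebra R K] [IsFractionRing R K] [Field Ω] [Algebra K Ω] [IsSepClosure K Ω] [Algebra R Ω]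
  [IsScalarTower R K Ω] (W : ValuationSubring Ω) (hW : SGA7.LiesOver K R W)
  (hI : ∀ σ : Ω ≃ₐ[K] Ω, SGA7.IsInertia W σ)

local notation "v" => ValuationSubring.valuation W

include hW in
/-- the value group of a finite subextension is generated by one element. -/
theorem exists_uniformizer (L : IntermediateField K Ω) [FiniteDimensional K L] :
    ∃ ϖL : Ωˣ, (ϖL : Ω) ∈ L ∧
      ∀ x : Ωˣ, (x : Ω) ∈ L → ∃ j : ℤ, v (x : Ω) = v (ϖL : Ω) ^ j := by
  classical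
  let V : ValuationSubring L := W.comap (algebraMap L Ω)
  have hdom : EtRam.Dominates R ((algebraMap K L).comp (algebraMap R K)) V := by
    constructor
    · intro a
      show algebraMap L Ω (algebraMap K L (algebraMap R K a)) ∈ W
      rw [← IsScalarTower.algebraMap_apply K L Ω]
      exact hW.1 a
    · intro a ha
      rw [Groth.Agent.Lib.Helper9.DvrExt.valuation_comap_lt_one_iff]
      show v (algebraMap L Ω (algebraMap K L (algebraMap R K a))) < 1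
      rw [← IsScalarTower.algebraMap_apply K L Ω]
      exact hW.2 a ha
  haveI : IsDiscreteValuationRing V :=
    Groth.Agent.Lib.Helper9.DvrExt.isDiscreteValuationRing_of_dominates (A := R) (K := K) V hdom
  obtain ⟨ϖ, hϖ⟩ := IsDiscreteValuationRing.exists_irreducible V
  have hϖ0 : (((ϖ : V) : L) : Ω) ≠ 0 := by
    intro h
    apply hϖ.ne_zero
    apply Subtype.ext
    apply Subtype.ext
    exact h
  have hunit : ∀ u : Vˣ, v ((((u : V) : L)) : Ω) = 1 := by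
    intro u
    refine Groth.Agent.Lib.Helper9.TameUnique.val_eq_one_of_mul_eq_one W (u : V).2
      ((u⁻¹ : Vˣ) : V).2 ?_
    have := congrArg (fun w : V => (((w : L)) : Ω)) u.mul_inv
    exact this
  have key : ∀ y : L, y ∈ V → y ≠ 0 → ∃ n : ℕ, v (y : Ω) = v (((ϖ : V) : L) : Ω) ^ n := by
    intro y hy hy0
    have hy0' : (⟨y, hy⟩ : V) ≠ 0 := fun h => hy0 (congrArg Subtype.val h)
    obtain ⟨n, u, hu⟩ := IsDiscreteValuationRing.eq_unit_mul_pow_irreducible hy0' hϖ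
    refine ⟨n, ?_⟩
    have h1 : (y : Ω) = ((((u : V) : L)) : Ω) * ((((ϖ : V) : L)) : Ω) ^ n := by
      have := congrArg (fun w : V => (((w : L)) : Ω)) hu
      simpa using this
    rw [h1, map_mul, hunit, one_mul, map_pow]
  refine ⟨Units.mk0 _ hϖ0, (ϖ : L).2, ?_⟩
  intro x hx
  rcases V.mem_or_inv_mem ⟨x, hx⟩ with h | h
  · obtain ⟨n, hn⟩ := key ⟨x, hx⟩ h (fun h0 => x.ne_zero (congrArg Subtype.val h0))
    exact ⟨n, by rw [zpow_natCast]; exact hn⟩
  · obtain ⟨n, hn⟩ := key (⟨x, hx⟩ : L)⁻¹ h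
      (inv_ne_zero fun h0 => x.ne_zero (congrArg Subtype.val h0))
    refine ⟨-n, ?_⟩
    rw [zpow_neg, zpow_natCast, Units.val_mk0, ← hn]
    show v (x : Ω) = (v (((⟨x, hx⟩ : L)⁻¹ : L) : Ω))⁻¹
    rw [IntermediateField.coe_inv, map_inv₀, inv_inv]


omit [IsSepClosure K Ω] in
theorem val_eq_one_of_mul {a b : Ω} (ha : v a ≤ 1) (hb : v b ≤ 1) (h : v (a * b) = 1) : v a = 1 := by
  apply le_antisymm ha
  by_contra hlt
  rw [not_le] at hlt
  rw [map_mul] at h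
  have h4 : v a * v b ≤ v a * 1 := mul_le_mul_right hb _
  rw [h, mul_one] at h4
  exact absurd hlt (not_lt.2 h4)

/-- two automorphisms with the same restriction to a normal subfield agree on it. -/
theorem res_eq_iff (L : IntermediateField K Ω) [Normal K L] (α β : Ω ≃ₐ[K] Ω) :
    AlgEquiv.restrictNormalHom L α = AlgEquiv.restrictNormalHom L β ↔ ∀ x ∈ L, α x = β x := by
  constructor
  · intro h x hx
    rw [← AlgEquiv.restrictNormalHom_apply L α ⟨x, hx⟩, ← AlgEquiv.restrictNormalHom_apply L β ⟨x, hx⟩,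
      h]
  · intro h
    apply AlgEquiv.ext
    intro y
    apply Subtype.ext
    rw [AlgEquiv.restrictNormalHom_apply, AlgEquiv.restrictNormalHom_apply]
    exact h y y.2

include hW hI in
/-- **finite-level claim**. -/
theorem claimF (r : ℕ) (hr : 0 < r) (hru : IsUnit (r : R))
    (ϖ : R) (hϖ : Irreducible ϖ) (ρ : Ω) (hρ : ρ ^ r = algebraMap R Ω ϖ)
    (L : IntermediateField K Ω) [FiniteDimensional K L] [Normal K L] (hρL : ρ ∈ L)
    (σ₀ : Ω ≃ₐ[K] Ω) (hσ₀ : σ₀ ρ = ρ) :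
    ∃ τ π : Ω ≃ₐ[K] Ω, ∀ x ∈ L, (τ ^ r * π ^ r) x = σ₀ x := by
  classical
  haveI : IsGalois K Ω := inferInstance
  haveI : IsSepClosed Ω := IsSepClosure.sep_closed K
  have hinj : Function.Injective (algebraMap R Ω) := by
    rw [IsScalarTower.algebraMap_eq R K Ω]
    exact (algebraMap K Ω).injective.comp (IsFractionRing.injective R K)
  have hϖΩ : algebraMap R Ω ϖ ≠ 0 := fun h => hϖ.ne_zero (hinj (by rw [h, map_zero]))
  have hρ0 : ρ ≠ 0 := fun h => hϖΩ (by rw [← hρ, h, zero_pow hr.ne'])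
  have hfixR : ∀ (σ : Ω ≃ₐ[K] Ω) (a : R), σ (algebraMap R Ω a) = algebraMap R Ω a := by
    intro σ a
    rw [IsScalarTower.algebraMap_apply R K Ω, AlgEquiv.commutes]
  obtain ⟨ϖL, hϖL, hdisc⟩ := exists_uniformizer W hW L
  have hvϖL : v (ϖL : Ω) ≠ 0 := (Valuation.ne_zero_iff _).2 ϖL.ne_zero
  set ρu : Ωˣ := Units.mk0 ρ hρ0 with hρu
  obtain ⟨m, hm⟩ := hdisc ρu hρL
  -- Fact 1
  have fact1 : ∀ (σ : Ω ≃ₐ[K] Ω) (x : Ωˣ) (j : ℤ), v (x : Ω) = v (ϖL : Ω) ^ j →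
      thU W hI σ x = chr W hI ϖL σ ^ j := by
    intro σ x j hj
    have hx : x = (x * ϖL ^ (-j)) * ϖL ^ j := by
      rw [mul_assoc, ← zpow_add, neg_add_cancel, zpow_zero, mul_one]
    have hvu : v ((x * ϖL ^ (-j) : Ωˣ) : Ω) = 1 := by
      rw [Units.val_mul, Units.val_zpow_eq_zpow_val, map_mul, map_zpow₀, hj, ← zpow_add₀ hvϖL,
        add_neg_cancel, zpow_zero]
    conv_lhs => rw [hx]
    rw [map_mul, thU_of_val_eq_one W hI σ _ hvu, one_mul, map_zpow, chr_apply]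
  -- `thU σ` is trivial on `ρ ^ d` when `σ` fixes it up to a principal unit
  have hthρ : ∀ (σ : Ω ≃ₐ[K] Ω) (d : ℕ), chr W hI ϖL σ ^ ((d : ℤ) * m) = thU W hI σ (ρu ^ d) := by
    intro σ d
    rw [map_pow, fact1 σ ρu m hm, mul_comm, zpow_mul, zpow_natCast]
  have fact2 : ∀ σ : Ω ≃ₐ[K] Ω, chr W hI ϖL σ ^ ((r : ℤ) * m) = 1 := by
    intro σ
    rw [hthρ σ r, thU_eq_one_iff]
    have h1 : ((ρu ^ r : Ωˣ) : Ω) = algebraMap R Ω ϖ := by
      rw [Units.val_pow_eq_pow_val, hρu, Units.val_mk0, hρ]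
    rw [h1, hfixR, sub_self, map_zero]
    exact (Valuation.pos_iff _).2 hϖΩ
  -- a primitive root of unity and its Galois conjugate of `ρ`
  have hvr : v ((r : ℕ) : Ω) = 1 := by
    have := Groth.Agent.Lib.Helper9.TameUnique.valuation_eq_one W hW hru
    rwa [map_natCast] at this
  have hrΩ : ((r : ℕ) : Ω) ≠ 0 := by
    intro h0
    rw [h0, map_zero] at hvr
    exact zero_ne_one hvr
  haveI : NeZero ((r : ℕ) : Ω) := ⟨hrΩ⟩
  haveI : NeZero r := ⟨hr.ne'⟩
  obtain ⟨ζ, hζ⟩ := HasEnoughRootsOfUnity.exists_primitiveRoot Ω r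
  have hirr : Irreducible (X ^ r - C (algebraMap R K ϖ) : K[X]) :=
    Groth.Agent.Lib.Helper9.DvrEisTame.irreducible_X_pow_sub_C K hϖ r hr
  have hroot : ∀ α : Ω, α ^ r = algebraMap R Ω ϖ →
      minpoly K α = X ^ r - C (algebraMap R K ϖ) := by
    intro α hα
    have h1 : Polynomial.aeval α (X ^ r - C (algebraMap R K ϖ) : K[X]) = 0 := by
      simp [hα, ← IsScalarTower.algebraMap_apply]
    exact (minpoly.eq_of_irreducible_of_monic hirr h1 (monic_X_pow_sub_C _ hr.ne')).symm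
  have hconj : IsConjRoot K (ζ * ρ) ρ := by
    rw [IsConjRoot, hroot ρ hρ, hroot (ζ * ρ) (by rw [mul_pow, hζ.pow_eq_one, one_mul, hρ])]
  obtain ⟨σ₁, hσ₁⟩ := (isConjRoot_iff_exists_algEquiv).1 hconj
  have fact3 : orderOf (chr W hI ϖL σ₁ ^ m) = r := by
    rw [orderOf_eq_iff hr]
    constructor
    · rw [← zpow_natCast, ← zpow_mul, mul_comm]
      exact fact2 σ₁
    · intro d hdr hd hone
      rw [← zpow_natCast, ← zpow_mul, mul_comm, hthρ σ₁ d, thU_eq_one_iff] at hone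
      have h1 : ((ρu ^ d : Ωˣ) : Ω) = ρ ^ d := by
        rw [Units.val_pow_eq_pow_val, hρu, Units.val_mk0]
      have h2 : σ₁ (ρ ^ d) - ρ ^ d = (ζ ^ d - 1) * ρ ^ d := by
        rw [map_pow, hσ₁, mul_pow]; ring
      have hvρd : 0 < v (ρ ^ d) := (Valuation.pos_iff _).2 (pow_ne_zero _ hρ0)
      rw [h1, h2, map_mul, mul_lt_iff_lt_one_left hvρd] at hone
      have h3 := Groth.Agent.Lib.Helper9.TameUnique.eq_one_of_pow_eq_one W hW r hr hru
        (η := ζ ^ d) (by rw [← pow_mul, mul_comm, pow_mul, hζ.pow_eq_one, one_pow]) hone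
      exact hζ.pow_ne_one_of_pos_of_lt hd.ne' hdr h3
  have h0 : chr W hI ϖL σ₀ ^ m = 1 := by
    rw [← fact1 σ₀ ρu m hm, thU_eq_one_iff]
    show v (σ₀ ρ - ρ) < v ρ
    rw [hσ₀, sub_self, map_zero]
    exact (Valuation.pos_iff _).2 hρ0
  obtain ⟨τ, hτ⟩ := cyc (chr W hI ϖL) r hr m fact2 σ₁ fact3 σ₀ h0
  -- the wild part
  set π₁ : Ω ≃ₐ[K] Ω := (τ ^ r)⁻¹ * σ₀ with hπ₁
  have hπ₁c : chr W hI ϖL π₁ = 1 := by
    rw [hπ₁, map_mul, map_inv, map_pow, ← hτ, inv_mul_cancel]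
  have hπ₁V : π₁ ∈ VL W hI L := by
    intro x hx
    obtain ⟨j, hj⟩ := hdisc x hx
    rw [fact1 π₁ x j hj, hπ₁c, one_zpow]
  let res := AlgEquiv.restrictNormalHom (F := K) (K₁ := Ω) L
  have hn : 0 < orderOf (res π₁) := orderOf_pos _
  have hcop : Nat.Coprime (orderOf (res π₁)) r := by
    by_contra hnc
    obtain ⟨l, hl, hln, hlr⟩ := Nat.Prime.not_coprime_iff_dvd.1 hnc
    set n := orderOf (res π₁) with hndef
    set π₂ : Ω ≃ₐ[K] Ω := π₁ ^ (n / l) with hπ₂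
    have hπ₂V : π₂ ∈ VL W hI L := Subgroup.pow_mem _ hπ₁V _
    have hst : ∀ x ∈ L, π₂ x ∈ L := by
      intro x hx
      rw [← AlgEquiv.restrictNormalHom_apply L π₂ ⟨x, hx⟩]
      exact (res π₂ ⟨x, hx⟩).2
    have hvl : v ((l : ℕ) : Ω) = 1 := by
      obtain ⟨t, ht⟩ := hlr
      refine val_eq_one_of_mul W (b := ((t : ℕ) : Ω)) ?_ ?_ ?_
      · exact (ValuationSubring.valuation_le_one_iff W _).2 (natCast_mem W l)
      · exact (ValuationSubring.valuation_le_one_iff W _).2 (natCast_mem W t)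
      · rw [← Nat.cast_mul, ← ht, hvr]
    have hpow : ∀ x ∈ L, (π₂ ^ l) x = x := by
      have h1 : res (π₂ ^ l) = res 1 := by
        rw [map_pow, hπ₂, map_pow, ← pow_mul, Nat.div_mul_cancel hln, hndef, pow_orderOf_eq_one,
          map_one]
      intro x hx
      rw [(res_eq_iff L _ _).1 h1 x hx, AlgEquiv.one_apply]
    have hfix := fix_of_pow_fix W hI L π₂ hπ₂V hst l hvl hpow
    have h2 : res π₂ = res 1 := (res_eq_iff L _ _).2 (fun x hx => by
      rw [hfix x hx, AlgEquiv.one_apply])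
    rw [hπ₂, map_pow, map_one] at h2
    have h3 : n ∣ n / l := orderOf_dvd_of_pow_eq_one h2
    have h4 : 0 < n / l := Nat.div_pos (Nat.le_of_dvd hn hln) hl.pos
    have h5 : n / l < n := Nat.div_lt_self hn hl.one_lt
    exact absurd (Nat.le_of_dvd h4 h3) (not_le.2 h5)
  -- extract an `r`-th root of `res π₁` in its cyclic group
  have hcard : (Nat.card (Subgroup.zpowers (res π₁))).Coprime r := by
    rw [Nat.card_zpowers]; exact hcop
  obtain ⟨⟨g', hg'mem⟩, hg'⟩ : ∃ g' : Subgroup.zpowers (res π₁), g' ^ r = ⟨res π₁, Subgroup.mem_zpowers _⟩ :=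
    ⟨(powCoprime hcard).symm ⟨res π₁, Subgroup.mem_zpowers _⟩, (powCoprime hcard).apply_symm_apply _⟩
  obtain ⟨a, ha⟩ := Subgroup.mem_zpowers_iff.1 hg'mem
  have hg'r : g' ^ r = res π₁ := congrArg Subtype.val hg'
  refine ⟨τ, π₁ ^ a, ?_⟩
  have h6 : res ((π₁ ^ a) ^ r) = res π₁ := by
    rw [map_pow, map_zpow, ha, hg'r]
  intro x hx
  rw [AlgEquiv.mul_apply, (res_eq_iff L _ _).1 h6 x hx, ← AlgEquiv.mul_apply, hπ₁, mul_inv_cancel_left]


include hW hI in
/-- **Key claim**: an automorphism fixing an `r`-th root of a uniformizer is a product of two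
`r`-th powers (exactly, by compactness). -/
theorem exists_pow_mul_pow (r : ℕ) (hr : 0 < r) (hru : IsUnit (r : R))
    (ϖ : R) (hϖ : Irreducible ϖ) (ρ : Ω) (hρ : ρ ^ r = algebraMap R Ω ϖ)
    (σ₀ : Ω ≃ₐ[K] Ω) (hσ₀ : σ₀ ρ = ρ) :
    ∃ τ π : Ω ≃ₐ[K] Ω, τ ^ r * π ^ r = σ₀ := by
  classical
  haveI : IsGalois K Ω := inferInstance
  letI : TopologicalSpace Ω := ⊥
  haveI : DiscreteTopology Ω := ⟨rfl⟩
  haveI : ContinuousSMul (Ω ≃ₐ[K] Ω) Ω :=
    continuousSMul_iff_stabilizer_isOpen.2 fun x => stabilizer_isOpen_of_isIntegral (K := K) x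
  let D : Ω → Set ((Ω ≃ₐ[K] Ω) × (Ω ≃ₐ[K] Ω)) := fun x => {p | (p.1 ^ r * p.2 ^ r) x = σ₀ x}
  have hclosed : ∀ x, IsClosed (D x) := by
    intro x
    have hcont : Continuous fun p : (Ω ≃ₐ[K] Ω) × (Ω ≃ₐ[K] Ω) => (p.1 ^ r * p.2 ^ r) • x :=
      ((continuous_fst.pow r).mul (continuous_snd.pow r)).smul continuous_const
    exact (isClosed_singleton (x := σ₀ x)).preimage hcont
  have hfin : ∀ u : Finset Ω, (Set.univ ∩ ⋂ x ∈ u, D x).Nonempty := by
    intro u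
    let S : Set Ω := insert ρ (u : Set Ω)
    haveI : Finite S := Set.Finite.to_subtype ((Finset.finite_toSet u).insert ρ)
    haveI : FiniteDimensional K (IntermediateField.adjoin K S) :=
      IntermediateField.finiteDimensional_adjoin fun x _ => Algebra.IsIntegral.isIntegral x
    let L : IntermediateField K Ω := IntermediateField.normalClosure K (IntermediateField.adjoin K S) Ω
    have hSL : S ⊆ L := fun x hx =>
      IntermediateField.le_normalClosure _ (IntermediateField.subset_adjoin K S hx)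
    obtain ⟨τ, π, h⟩ := claimF W hW hI r hr hru ϖ hϖ ρ hρ L (hSL (Set.mem_insert _ _)) σ₀ hσ₀
    refine ⟨(τ, π), Set.mem_univ _, ?_⟩
    rw [Set.mem_iInter₂]
    intro x hx
    exact h x (hSL (Set.mem_insert_of_mem _ hx))
  obtain ⟨p, -, hp⟩ := isCompact_univ.inter_iInter_nonempty D hclosed hfin
  rw [Set.mem_iInter] at hp
  exact ⟨p.1, p.2, AlgEquiv.ext fun x => hp x⟩


/-- the Galois group permutes the `r`-th roots of a uniformizer transitively. -/
theorem exists_map_root (r : ℕ) (hr : 0 < r) (ϖ : R) (hϖ : Irreducible ϖ) (ρ : Ω)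
    (hρ : ρ ^ r = algebraMap R Ω ϖ) (ζ : Ω) (hζ : ζ ^ r = 1) :
    ∃ σ : Ω ≃ₐ[K] Ω, σ ρ = ζ * ρ := by
  haveI : IsGalois K Ω := inferInstance
  have hirr : Irreducible (X ^ r - C (algebraMap R K ϖ) : K[X]) :=
    Groth.Agent.Lib.Helper9.DvrEisTame.irreducible_X_pow_sub_C K hϖ r hr
  have hroot : ∀ α : Ω, α ^ r = algebraMap R Ω ϖ →
      minpoly K α = X ^ r - C (algebraMap R K ϖ) := by
    intro α hα
    have h1 : Polynomial.aeval α (X ^ r - C (algebraMap R K ϖ) : K[X]) = 0 := by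
      simp [hα, ← IsScalarTower.algebraMap_apply]
    exact (minpoly.eq_of_irreducible_of_monic hirr h1 (monic_X_pow_sub_C _ hr.ne')).symm
  have hconj : IsConjRoot K (ζ * ρ) ρ := by
    rw [IsConjRoot, hroot ρ hρ, hroot (ζ * ρ) (by rw [mul_pow, hζ, one_mul, hρ])]
  exact (isConjRoot_iff_exists_algEquiv).1 hconj

include hW hI in
/-- `r`-th roots of unity are fixed by the Galois group. -/
theorem map_root_of_unity (r : ℕ) (hr : 0 < r) (hru : IsUnit (r : R)) (ζ : Ω) (hζ : ζ ^ r = 1)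
    (σ : Ω ≃ₐ[K] Ω) : σ ζ = ζ := by
  have hζ0 : ζ ≠ 0 := fun h => by rw [h, zero_pow hr.ne'] at hζ; exact zero_ne_one hζ
  have hζW : ζ ∈ W := Groth.Agent.Lib.Helper9.TameUnique.mem_of_isIntegral W hW
    ⟨X ^ r - C 1, monic_X_pow_sub_C 1 hr.ne', by simp [hζ]⟩
  have hζinv : ζ⁻¹ = ζ ^ (r - 1) := by
    apply inv_eq_of_mul_eq_one_right
    rw [← pow_succ', Nat.sub_add_cancel hr, hζ]
  have hζinvW : ζ⁻¹ ∈ W := hζinv ▸ pow_mem hζW _
  have hvζinv : v ζ⁻¹ = 1 :=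
    Groth.Agent.Lib.Helper9.TameUnique.val_eq_one_of_mul_eq_one W hζinvW hζW (inv_mul_cancel₀ hζ0)
  have h1 : (σ ζ * ζ⁻¹) ^ r = 1 := by
    rw [mul_pow, ← map_pow, inv_pow, hζ, map_one, inv_one, mul_one]
  have h2 : v (σ ζ * ζ⁻¹ - 1) < 1 := by
    have : σ ζ * ζ⁻¹ - 1 = (σ ζ - ζ) * ζ⁻¹ := by
      rw [sub_mul, mul_inv_cancel₀ hζ0]
    rw [this, map_mul, hvζinv, mul_one]
    exact (hI σ ζ hζW).2
  have h3 := Groth.Agent.Lib.Helper9.TameUnique.eq_one_of_pow_eq_one W hW r hr hru h1 h2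
  rwa [mul_inv_eq_one₀ hζ0] at h3

end Groth.Agent.Lib.Helper9.TameKey
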