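import Mathlib

/-!
# Gluing etale-ness over a valuation ring along `D(s)` and `V(p)` (helper9)

`V` a valuation ring, `W` a domain containing `V`, `s ∈ V`, `P` a prime of `W`, `p = P ∩ V` with
`p = s p`, `P ⊆ p W`.  If `W[1/s]` is etale over `V[1/s]` and `W/P` is etale over `V/p`
then `W` is etale over `V`.
-/

open scoped TensorProduct

namespace Groth.Agent.Lib.Helper9.ValComp

universe u

section Basic

lemma exists_pow_mul {V : Type*} [CommRing V] {s : V} {p : Ideal V}
    (hp : ∀ a ∈ p, ∃ a' ∈ p, a = s * a') (N : ℕ) :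
    ∀ a ∈ p, ∃ a' ∈ p, a = s ^ N * a' := by
  induction N with
  | zero => intro a ha; exact ⟨a, ha, by simp⟩
  | succ N ih =>
    intro a ha
    obtain ⟨a1, ha1, rfl⟩ := ih a ha
    obtain ⟨a2, ha2, rfl⟩ := hp a1 ha1
    exact ⟨a2, ha2, by ring⟩

lemma exists_eq_mul_of_mem_map {V : Type*} [CommRing V] [IsDomain V] [ValuationRing V]
    {A : Type*} [CommRing A] [Algebra V A] (p : Ideal V) {y : A}
    (hy : y ∈ p.map (algebraMap V A)) : ∃ a ∈ p, ∃ w : A, y = algebraMap V A a * w := by
  unfold Ideal.map at hy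
  induction hy using Submodule.span_induction with
  | mem x h => obtain ⟨a, ha, rfl⟩ := h; exact ⟨a, ha, 1, by simp⟩
  | zero => exact ⟨0, p.zero_mem, 0, by simp⟩
  | add x y _ _ hx hy =>
    obtain ⟨a, ha, w, rfl⟩ := hx
    obtain ⟨b, hb, w', rfl⟩ := hy
    rcases ValuationRing.dvd_total a b with ⟨c, rfl⟩ | ⟨c, rfl⟩
    · exact ⟨a, ha, w + algebraMap V A c * w', by rw [map_mul]; ring⟩
    · exact ⟨b, hb, algebraMap V A c * w + w', by rw [map_mul]; ring⟩
  | smul r x _ hx =>
    obtain ⟨a, ha, w, rfl⟩ := hx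
    exact ⟨a, ha, r * w, by rw [smul_eq_mul]; ring⟩

lemma eq_span_of {A : Type*} [CommRing A] (s : A) (p' : Ideal A)
    (hp' : ∀ N : ℕ, ∀ a ∈ p', ∃ a' ∈ p', a = s ^ N * a') (I : Ideal A) (G : Set A)
    (hG : G ⊆ I) (h1 : ∀ f ∈ I, ∃ N : ℕ, s ^ N * f ∈ Ideal.span G)
    (h2 : I ≤ Ideal.span G ⊔ p' * I) : I = Ideal.span G := by
  apply le_antisymm _ (Ideal.span_le.mpr hG)
  have key : p' * I ≤ Ideal.span G := by
    rw [Ideal.mul_le]
    intro a ha f hf
    obtain ⟨N, hN⟩ := h1 f hf
    obtain ⟨a', ha', rfl⟩ := hp' N a ha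
    have : s ^ N * a' * f = a' * (s ^ N * f) := by ring
    rw [this]
    exact Ideal.mul_mem_left _ _ hN
  exact h2.trans (sup_le le_rfl key)

end Basic

section Main

variable {V W : Type u} [CommRing V] [CommRing W] [IsDomain V] [IsDomain W] [ValuationRing V]
  [Algebra V W]

lemma exists_mem_adjoin_mk (P : Ideal W) (T : Set (W ⧸ P)) (X : Set W)
    (hX : ∀ t ∈ T, ∃ x ∈ X, Ideal.Quotient.mk P x = t) :
    ∀ t ∈ Algebra.adjoin (V ⧸ P.comap (algebraMap V W)) T,
      ∃ e ∈ Algebra.adjoin V X, Ideal.Quotient.mk P e = t := by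
  intro t ht
  induction ht using Algebra.adjoin_induction with
  | mem x hx => obtain ⟨y, hy, rfl⟩ := hX x hx; exact ⟨y, Algebra.subset_adjoin hy, rfl⟩
  | algebraMap r =>
    obtain ⟨r, rfl⟩ := Ideal.Quotient.mk_surjective r
    exact ⟨algebraMap V W r, Subalgebra.algebraMap_mem _ _, rfl⟩
  | add x y _ _ hx hy =>
    obtain ⟨e1, he1, rfl⟩ := hx
    obtain ⟨e2, he2, rfl⟩ := hy
    exact ⟨e1 + e2, Subalgebra.add_mem _ he1 he2, map_add _ _ _⟩
  | mul x y _ _ hx hy =>
    obtain ⟨e1, he1, rfl⟩ := hx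
    obtain ⟨e2, he2, rfl⟩ := hy
    exact ⟨e1 * e2, Subalgebra.mul_mem _ he1 he2, map_mul _ _ _⟩

lemma exists_pow_mul_mem_adjoin (s : V) (Vs Ws : Type u) [CommRing Vs] [CommRing Ws]
    [Algebra V Vs] [Algebra W Ws] [Algebra Vs Ws] [Algebra V Ws] [IsScalarTower V Vs Ws]
    [IsScalarTower V W Ws] [IsLocalization.Away s Vs]
    (T : Set Ws) (Y : Set W)
    (hY : ∀ t ∈ T, ∃ y ∈ Y, ∃ n : ℕ, algebraMap V Ws s ^ n * t = algebraMap W Ws y) :
    ∀ t ∈ Algebra.adjoin Vs T, ∃ e ∈ Algebra.adjoin V Y, ∃ n : ℕ,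
      algebraMap V Ws s ^ n * t = algebraMap W Ws e := by
  intro t ht
  induction ht using Algebra.adjoin_induction with
  | mem x hx => obtain ⟨y, hy, n, h⟩ := hY x hx; exact ⟨y, Algebra.subset_adjoin hy, n, h⟩
  | algebraMap c =>
    obtain ⟨n, a, h⟩ := IsLocalization.Away.surj s c
    refine ⟨algebraMap V W a, Subalgebra.algebraMap_mem _ _, n, ?_⟩
    rw [← IsScalarTower.algebraMap_apply V W Ws, IsScalarTower.algebraMap_apply V Vs Ws,
      IsScalarTower.algebraMap_apply V Vs Ws a, ← map_pow, ← map_mul, mul_comm, h]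
  | add x y _ _ hx hy =>
    obtain ⟨e1, he1, n1, h1⟩ := hx
    obtain ⟨e2, he2, n2, h2⟩ := hy
    refine ⟨algebraMap V W (s ^ n2) * e1 + algebraMap V W (s ^ n1) * e2,
      Subalgebra.add_mem _ (Subalgebra.mul_mem _ (Subalgebra.algebraMap_mem _ _) he1)
        (Subalgebra.mul_mem _ (Subalgebra.algebraMap_mem _ _) he2), n1 + n2, ?_⟩
    rw [map_add, map_mul, map_mul, ← IsScalarTower.algebraMap_apply,
      ← IsScalarTower.algebraMap_apply, ← h1, ← h2, map_pow, map_pow]
    ring
  | mul x y _ _ hx hy =>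
    obtain ⟨e1, he1, n1, h1⟩ := hx
    obtain ⟨e2, he2, n2, h2⟩ := hy
    refine ⟨e1 * e2, Subalgebra.mul_mem _ he1 he2, n1 + n2, ?_⟩
    rw [map_mul, ← h1, ← h2]
    ring

variable (hinj : Function.Injective (algebraMap V W)) (s : V) (hs : s ≠ 0) (P : Ideal W)
  (hp : ∀ a ∈ P.comap (algebraMap V W), ∃ a' ∈ P.comap (algebraMap V W), a = s * a')
  (hP : P ≤ (P.comap (algebraMap V W)).map (algebraMap V W))
  (Vs Ws : Type u) [CommRing Vs] [CommRing Ws]
  [Algebra V Vs] [Algebra W Ws] [Algebra Vs Ws] [Algebra V Ws] [IsScalarTower V Vs Ws]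
  [IsScalarTower V W Ws] [IsLocalization.Away s Vs] [IsLocalization.Away (algebraMap V W s) Ws]

include hinj hs in
lemma algebraMap_Ws_injective : Function.Injective (algebraMap W Ws) := by
  have hs' : algebraMap V W s ≠ 0 := fun h => hs (hinj (by rw [h, map_zero]))
  exact IsLocalization.injective Ws (M := Submonoid.powers (algebraMap V W s))
    (powers_le_nonZeroDivisors_of_noZeroDivisors hs')

include hinj hs hp hP in
theorem finiteType [Algebra.FiniteType Vs Ws]
    [Algebra.FiniteType (V ⧸ P.comap (algebraMap V W)) (W ⧸ P)] :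
    Algebra.FiniteType V W := by
  classical
  obtain ⟨T1, hT1⟩ := (Algebra.FiniteType.out :
    (⊤ : Subalgebra (V ⧸ P.comap (algebraMap V W)) (W ⧸ P)).FG)
  obtain ⟨T2, hT2⟩ := (Algebra.FiniteType.out : (⊤ : Subalgebra Vs Ws).FG)
  choose nfun afun hfun using fun t : Ws => IsLocalization.Away.surj (algebraMap V W s) t
  let lift : W ⧸ P → W := Function.surjInv Ideal.Quotient.mk_surjective
  have hlift : ∀ t, Ideal.Quotient.mk P (lift t) = t :=
    Function.surjInv_eq Ideal.Quotient.mk_surjective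
  let X : Finset W := T1.image lift
  let Y : Finset W := T2.image afun
  have hinjW := algebraMap_Ws_injective hinj s hs Ws
  refine ⟨⟨X ∪ Y, eq_top_iff.mpr fun w _ => ?_⟩⟩
  have hXle : Algebra.adjoin V (X : Set W) ≤ Algebra.adjoin V ((X ∪ Y : Finset W) : Set W) :=
    Algebra.adjoin_mono (by intro x hx; simp only [Finset.coe_union]; exact Or.inl hx)
  have hYle : Algebra.adjoin V (Y : Set W) ≤ Algebra.adjoin V ((X ∪ Y : Finset W) : Set W) :=
    Algebra.adjoin_mono (by intro x hx; simp only [Finset.coe_union]; exact Or.inr hx)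
  obtain ⟨e, he, hew⟩ := exists_mem_adjoin_mk (V := V) P (T1 : Set (W ⧸ P)) (X : Set W)
    (fun t ht => ⟨lift t, Finset.mem_coe.mpr (Finset.mem_image_of_mem _ ht), hlift t⟩)
    (Ideal.Quotient.mk P w) (by rw [hT1]; trivial)
  have hz : w - e ∈ P := by
    rw [← Ideal.Quotient.eq, hew]
  obtain ⟨a, ha, w', hw'⟩ := exists_eq_mul_of_mem_map _ (hP hz)
  obtain ⟨e', he', N, hN⟩ := exists_pow_mul_mem_adjoin s Vs Ws (T2 : Set Ws) (Y : Set W)
    (fun t ht => ⟨afun t, Finset.mem_coe.mpr (Finset.mem_image_of_mem _ ht), nfun t, by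
      rw [mul_comm, IsScalarTower.algebraMap_apply V W Ws]; exact hfun t⟩)
    (algebraMap W Ws w') (by rw [hT2]; trivial)
  have hN' : algebraMap V W s ^ N * w' = e' := by
    apply hinjW
    rw [map_mul, map_pow, ← IsScalarTower.algebraMap_apply, hN]
  obtain ⟨a', ha', rfl⟩ := exists_pow_mul hp N a ha
  have : w = e + algebraMap V W a' * e' := by
    rw [← hN', ← mul_assoc, ← map_pow, ← map_mul, mul_comm a', ← hw']
    ring
  rw [this]
  exact Subalgebra.add_mem _ (hXle he)
    (Subalgebra.mul_mem _ (Subalgebra.algebraMap_mem _ _) (hYle he'))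

open MvPolynomial in
include hinj hP in
lemma quot_part {n : ℕ} (φ : MvPolynomial (Fin n) V →ₐ[V] W) (hφ : Function.Surjective φ)
    [Algebra.FinitePresentation (V ⧸ P.comap (algebraMap V W)) (W ⧸ P)] :
    ∃ G : Finset (MvPolynomial (Fin n) V),
      (∀ g ∈ G, φ g = 0) ∧
      ∀ f, φ f = 0 → f ∈ Ideal.span (G : Set (MvPolynomial (Fin n) V)) ⊔
        (P.comap (algebraMap V W)).map (algebraMap V (MvPolynomial (Fin n) V)) *
          RingHom.ker φ.toRingHom := by
  classical
  set p := P.comap (algebraMap V W) with hpdef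
  let mkp := Ideal.Quotient.mk p
  let mkP := Ideal.Quotient.mk P
  let φb : MvPolynomial (Fin n) (V ⧸ p) →ₐ[V ⧸ p] (W ⧸ P) :=
    MvPolynomial.aeval (fun i => mkP (φ (X i)))
  have hcomp : ∀ h, φb (MvPolynomial.map mkp h) = mkP (φ h) := by
    intro h
    have : (φb.toRingHom.comp (MvPolynomial.map mkp)) = (mkP.comp φ.toRingHom) := by
      apply MvPolynomial.ringHom_ext
      · intro r
        simp only [RingHom.comp_apply, MvPolynomial.map_C, AlgHom.toRingHom_eq_coe,
          RingHom.coe_coe, φb, MvPolynomial.aeval_C]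
        rw [← MvPolynomial.algebraMap_eq, φ.commutes]
        rfl
      · intro i
        simp [φb]
    exact RingHom.congr_fun this h
  have hsurj : Function.Surjective φb := by
    intro t
    obtain ⟨w, rfl⟩ := Ideal.Quotient.mk_surjective t
    obtain ⟨h, rfl⟩ := hφ w
    exact ⟨_, hcomp h⟩
  obtain ⟨T, hT⟩ := Algebra.FinitePresentation.ker_fG_of_surjective φb hsurj
  have hlift : ∀ k, φb k = 0 → ∃ g, φ g = 0 ∧ MvPolynomial.map mkp g = k := by
    intro k hk
    obtain ⟨h, rfl⟩ := MvPolynomial.map_surjective mkp Ideal.Quotient.mk_surjective k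
    have h1 : φ h ∈ P := by
      rw [hcomp] at hk
      exact Ideal.Quotient.eq_zero_iff_mem.mp hk
    obtain ⟨a, ha, w, hw⟩ := exists_eq_mul_of_mem_map _ (hP h1)
    obtain ⟨h', rfl⟩ := hφ w
    refine ⟨h - C a * h', ?_, ?_⟩
    · rw [map_sub, map_mul, hw, ← MvPolynomial.algebraMap_eq, φ.commutes, sub_self]
    · rw [map_sub, map_mul, MvPolynomial.map_C]
      have : mkp a = 0 := Ideal.Quotient.eq_zero_iff_mem.mpr ha
      rw [this, map_zero, zero_mul, sub_zero]
  choose! gfun hg1 hg2 using hlift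
  have hTker : ∀ k ∈ T, φb k = 0 := fun k hk => by
    have : k ∈ RingHom.ker φb.toRingHom := hT ▸ Ideal.subset_span hk
    exact this
  refine ⟨T.image gfun, ?_, ?_⟩
  · intro g hg
    obtain ⟨k, hk, rfl⟩ := Finset.mem_image.mp hg
    exact hg1 k (hTker k hk)
  · intro f hf
    have hf' : MvPolynomial.map mkp f ∈ RingHom.ker φb.toRingHom := by
      rw [RingHom.mem_ker]
      show φb (MvPolynomial.map mkp f) = 0
      rw [hcomp, hf, map_zero]
    rw [← hT] at hf'
    have hle : Ideal.span (T : Set _) ≤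
        (Ideal.span ((T.image gfun : Finset _) : Set (MvPolynomial (Fin n) V))).map
          (MvPolynomial.map mkp) := by
      rw [Ideal.span_le]
      intro k hk
      have := hg2 k (hTker k hk)
      rw [SetLike.mem_coe, ← this]
      exact Ideal.mem_map_of_mem _
        (Ideal.subset_span (Finset.mem_coe.mpr (Finset.mem_image_of_mem _ hk)))
    obtain ⟨g', hg', hgf⟩ := (Ideal.mem_map_iff_of_surjective _
      (MvPolynomial.map_surjective mkp Ideal.Quotient.mk_surjective)).mp (hle hf')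
    have hker : f - g' ∈ p.map (algebraMap V (MvPolynomial (Fin n) V)) := by
      rw [MvPolynomial.algebraMap_eq]
      have := MvPolynomial.ker_map (σ := Fin n) mkp
      rw [Ideal.mk_ker] at this
      rw [← this, RingHom.mem_ker, map_sub, hgf, sub_self]
    have hg'0 : φ g' = 0 := by
      have : Ideal.span ((T.image gfun : Finset _) : Set (MvPolynomial (Fin n) V)) ≤
          RingHom.ker φ.toRingHom := by
        rw [Ideal.span_le]
        intro g hg
        obtain ⟨k, hk, rfl⟩ := Finset.mem_image.mp (Finset.mem_coe.mp hg)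
        exact hg1 k (hTker k hk)
      exact this hg'
    obtain ⟨a, ha, h, hh⟩ := exists_eq_mul_of_mem_map (A := MvPolynomial (Fin n) V) p hker
    have hfg : f = g' + (f - g') := by ring
    rw [hfg]
    refine Ideal.add_mem _ (Ideal.mem_sup_left hg') (Ideal.mem_sup_right ?_)
    by_cases ha0 : a = 0
    · rw [hh, ha0, map_zero, zero_mul]
      exact Ideal.zero_mem _
    · rw [hh]
      refine Ideal.mul_mem_mul (Ideal.mem_map_of_mem _ ha) ?_
      rw [RingHom.mem_ker]
      have h0 : φ (f - g') = 0 := by rw [map_sub, hf, hg'0, sub_zero]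
      rw [hh, map_mul, φ.commutes] at h0
      exact (mul_eq_zero.mp h0).resolve_left (fun h => ha0 (hinj (by rw [h, map_zero])))

attribute [local instance] MvPolynomial.algebraMvPolynomial in
open MvPolynomial in
include hinj hs in
lemma loc_part {n : ℕ} (φ : MvPolynomial (Fin n) V →ₐ[V] W) (hφ : Function.Surjective φ)
    [Algebra.FinitePresentation Vs Ws] :
    ∃ G : Finset (MvPolynomial (Fin n) V),
      (∀ g ∈ G, φ g = 0) ∧
      ∀ f, φ f = 0 → ∃ N : ℕ, algebraMap V (MvPolynomial (Fin n) V) s ^ N * f ∈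
        Ideal.span (G : Set (MvPolynomial (Fin n) V)) := by
  classical
  have hinjW := algebraMap_Ws_injective hinj s hs Ws
  have hs' : s ∈ nonZeroDivisors V := mem_nonZeroDivisors_of_ne_zero hs
  have hinjV : Function.Injective (algebraMap V Vs) :=
    IsLocalization.injective Vs (M := Submonoid.powers s)
      (powers_le_nonZeroDivisors_of_noZeroDivisors hs)
  let ι : MvPolynomial (Fin n) V →+* MvPolynomial (Fin n) Vs := MvPolynomial.map (algebraMap V Vs)
  have hι : Function.Injective ι := MvPolynomial.map_injective _ hinjV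
  let φs : MvPolynomial (Fin n) Vs →ₐ[Vs] Ws :=
    MvPolynomial.aeval (fun i => algebraMap W Ws (φ (X i)))
  have hcomp : ∀ h, φs (ι h) = algebraMap W Ws (φ h) := by
    intro h
    have : (φs.toRingHom.comp ι) = ((algebraMap W Ws).comp φ.toRingHom) := by
      apply MvPolynomial.ringHom_ext
      · intro r
        simp only [RingHom.comp_apply, MvPolynomial.map_C, AlgHom.toRingHom_eq_coe,
          RingHom.coe_coe, φs, ι, MvPolynomial.aeval_C]
        rw [← MvPolynomial.algebraMap_eq, φ.commutes, ← IsScalarTower.algebraMap_apply,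
          ← IsScalarTower.algebraMap_apply]
      · intro i
        simp [φs, ι]
    exact RingHom.congr_fun this h
  obtain ⟨u, hu⟩ := IsLocalization.Away.algebraMap_isUnit (S := Vs) s
  have hsurj : Function.Surjective φs := by
    intro t
    obtain ⟨m, a, h⟩ := IsLocalization.Away.surj (algebraMap V W s) t
    obtain ⟨h', rfl⟩ := hφ a
    refine ⟨C ((↑(u⁻¹) : Vs) ^ m) * ι h', ?_⟩
    rw [map_mul, hcomp, ← h, ← IsScalarTower.algebraMap_apply,
      IsScalarTower.algebraMap_apply V Vs Ws, ← hu]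
    simp only [φs, MvPolynomial.aeval_C]
    rw [mul_comm t, ← mul_assoc, ← map_pow, ← map_mul, ← mul_pow, Units.inv_mul, one_pow,
      map_one, one_mul]
  obtain ⟨T, hT⟩ := Algebra.FinitePresentation.ker_fG_of_surjective φs hsurj
  have hTker : ∀ k ∈ T, φs k = 0 := fun k hk => by
    have : k ∈ RingHom.ker φs.toRingHom := hT ▸ Ideal.subset_span hk
    exact this
  have hlift : ∀ k, φs k = 0 → ∃ g, φ g = 0 ∧ ∃ N : ℕ, k * ι (C (s ^ N)) = ι g := by
    intro k hk
    obtain ⟨⟨g, ⟨m, hm⟩⟩, hx⟩ := IsLocalization.surj ((Submonoid.powers s).map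
      (C (σ := Fin n))) k
    obtain ⟨m0, ⟨N, rfl⟩, rfl⟩ := hm
    simp only [MvPolynomial.algebraMap_def] at hx
    refine ⟨g, ?_, N, hx⟩
    apply hinjW
    rw [← hcomp, map_zero]
    show φs (ι g) = 0
    rw [← hx, map_mul, hk, zero_mul]
  choose! gfun hg1 hg2 using hlift
  refine ⟨T.image gfun, ?_, ?_⟩
  · intro g hg
    obtain ⟨k, hk, rfl⟩ := Finset.mem_image.mp hg
    exact hg1 k (hTker k hk)
  · intro f hf
    have hf' : ι f ∈ RingHom.ker φs.toRingHom := by
      rw [RingHom.mem_ker]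
      show φs (ι f) = 0
      rw [hcomp, hf, map_zero]
    rw [← hT] at hf'
    have hle : Ideal.span (T : Set _) ≤
        (Ideal.span ((T.image gfun : Finset _) : Set (MvPolynomial (Fin n) V))).map
          (algebraMap (MvPolynomial (Fin n) V) (MvPolynomial (Fin n) Vs)) := by
      rw [Ideal.span_le]
      intro k hk
      obtain ⟨N, hN⟩ := hg2 k (hTker k hk)
      have hunit : IsUnit (ι (C (s ^ N))) := by
        simp only [ι, MvPolynomial.map_C, map_pow]
        exact (IsUnit.map C ⟨u, hu⟩).pow N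
      obtain ⟨v, hv⟩ := hunit
      have : k = ι (gfun k) * ↑(v⁻¹) := by
        rw [← hN, ← hv, mul_assoc, Units.mul_inv, mul_one]
      rw [SetLike.mem_coe, this]
      refine Ideal.mul_mem_right _ _ ?_
      exact Ideal.mem_map_of_mem _
        (Ideal.subset_span (Finset.mem_coe.mpr (Finset.mem_image_of_mem _ hk)))
    have := (IsLocalization.mem_map_algebraMap_iff ((Submonoid.powers s).map (C (σ := Fin n)))
      (MvPolynomial (Fin n) Vs)).mp (hle hf')
    obtain ⟨⟨⟨g, hg⟩, ⟨m, hm⟩⟩, hx⟩ := this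
    obtain ⟨m0, ⟨N, rfl⟩, rfl⟩ := hm
    simp only [MvPolynomial.algebraMap_def] at hx
    refine ⟨N, ?_⟩
    have : algebraMap V (MvPolynomial (Fin n) V) s ^ N * f = g := by
      apply hι
      rw [← hx, MvPolynomial.algebraMap_eq, ← map_pow, mul_comm, map_mul]
    rw [this]
    exact hg

include hinj hs hp hP in
theorem finitePresentation [Algebra.FinitePresentation Vs Ws]
    [Algebra.FinitePresentation (V ⧸ P.comap (algebraMap V W)) (W ⧸ P)] :
    Algebra.FinitePresentation V W := by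
  classical
  have hft : Algebra.FiniteType V W := finiteType hinj s hs P hp hP Vs Ws
  obtain ⟨n, φ, hφ⟩ := Algebra.FiniteType.iff_quotient_mvPolynomial''.1 hft
  refine Algebra.FinitePresentation.of_surjective hφ ?_
  obtain ⟨G1, hG1, h1⟩ := loc_part hinj s hs Vs Ws φ hφ
  obtain ⟨G2, hG2, h2⟩ := quot_part hinj P hP φ hφ
  refine ⟨G1 ∪ G2, ?_⟩
  symm
  have hsub1 : Ideal.span (G1 : Set (MvPolynomial (Fin n) V)) ≤
      Ideal.span ((G1 ∪ G2 : Finset _) : Set (MvPolynomial (Fin n) V)) :=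
    Ideal.span_mono (by intro x hx; simp only [Finset.coe_union]; exact Or.inl hx)
  have hsub2 : Ideal.span (G2 : Set (MvPolynomial (Fin n) V)) ≤
      Ideal.span ((G1 ∪ G2 : Finset _) : Set (MvPolynomial (Fin n) V)) :=
    Ideal.span_mono (by intro x hx; simp only [Finset.coe_union]; exact Or.inr hx)
  refine eq_span_of (algebraMap V (MvPolynomial (Fin n) V) s)
    ((P.comap (algebraMap V W)).map (algebraMap V (MvPolynomial (Fin n) V))) ?_ _ _ ?_ ?_ ?_
  · intro N a ha
    obtain ⟨a0, ha0, h, rfl⟩ := exists_eq_mul_of_mem_map _ ha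
    obtain ⟨a1, ha1, rfl⟩ := exists_pow_mul hp N a0 ha0
    refine ⟨algebraMap V _ a1 * h, Ideal.mul_mem_right _ _ (Ideal.mem_map_of_mem _ ha1), ?_⟩
    rw [map_mul, map_pow]
    ring
  · intro g hg
    rw [Finset.coe_union] at hg
    rcases hg with hg | hg
    · exact hG1 g hg
    · exact hG2 g hg
  · intro f hf
    obtain ⟨N, hN⟩ := h1 f hf
    exact ⟨N, hsub1 hN⟩
  · intro f hf
    exact sup_le_sup_right hsub2 _ (h2 f hf)

include hinj in
theorem flat : Module.Flat V W := by
  rw [Module.Flat.flat_iff_torsion_eq_bot_of_isBezout]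
  rw [eq_bot_iff]
  rintro m ⟨⟨r, hr⟩, h⟩
  have hr0 : r ≠ 0 := nonZeroDivisors.ne_zero hr
  have h' : algebraMap V W r * m = 0 := by
    rw [← Algebra.smul_def]; exact h
  have : algebraMap V W r ≠ 0 := fun h0 => hr0 (hinj (by rw [h0, map_zero]))
  exact (Submodule.mem_bot V).mpr ((mul_eq_zero.mp h').resolve_left this)

include hp hP in
theorem formallyUnramified [Algebra.FormallyUnramified Vs Ws]
    [Algebra.FormallyUnramified (V ⧸ P.comap (algebraMap V W)) (W ⧸ P)] :
    Algebra.FormallyUnramified V W := by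
  constructor
  -- U1 : every differential is killed by a power of `s`
  have U1 : ∀ ω : Ω[W⁄V], ∃ N : ℕ, (algebraMap V W s) ^ N • ω = 0 := by
    intro ω
    have h1 : Algebra.FormallyUnramified V Vs :=
      Algebra.FormallyUnramified.of_isLocalization (Submonoid.powers s)
    have h2 : Algebra.FormallyUnramified V Ws := Algebra.FormallyUnramified.comp V Vs Ws
    have h3 : KaehlerDifferential.map V V W Ws ω = 0 := Subsingleton.elim _ _
    obtain ⟨⟨c, ⟨N, rfl⟩⟩, hc⟩ := (IsLocalizedModule.eq_zero_iff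
      (Submonoid.powers (algebraMap V W s)) (KaehlerDifferential.map V V W Ws)).mp h3
    exact ⟨N, hc⟩
  -- U2 : Ω = P Ω
  have U2 : (P • (⊤ : Submodule W (Ω[W⁄V]))) = ⊤ := by
    have h1 : Algebra.FormallyUnramified V (V ⧸ P.comap (algebraMap V W)) := inferInstance
    have h2 : Algebra.FormallyUnramified V (W ⧸ P) :=
      Algebra.FormallyUnramified.comp V (V ⧸ P.comap (algebraMap V W)) (W ⧸ P)
    have hex := KaehlerDifferential.exact_kerCotangentToTensor_mapBaseChange V W (W ⧸ P)
      Ideal.Quotient.mk_surjective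
    have hsub : Subsingleton ((W ⧸ P) ⊗[W] Ω[W⁄V]) := by
      refine subsingleton_of_forall_eq 0 fun x => ?_
      obtain ⟨c, rfl⟩ := (hex x).mp (Subsingleton.elim _ _)
      obtain ⟨⟨z, hz⟩, rfl⟩ := Ideal.toCotangent_surjective _ c
      rw [KaehlerDifferential.kerCotangentToTensor_toCotangent]
      have hzP : z ∈ P := by
        have : algebraMap W (W ⧸ P) z = 0 := hz
        exact Ideal.Quotient.eq_zero_iff_mem.mp this
      obtain ⟨a, ha, w, rfl⟩ := exists_eq_mul_of_mem_map _ (hP hzP)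
      have haP : algebraMap V W a ∈ P := ha
      rw [Derivation.leibniz]
      simp only [Derivation.map_algebraMap, smul_zero, add_zero]
      have : algebraMap V W a • (1 : W ⧸ P) = 0 := by
        rw [Algebra.smul_def, mul_one]
        exact Ideal.Quotient.eq_zero_iff_mem.mpr haP
      rw [TensorProduct.tmul_smul, TensorProduct.smul_tmul', this, TensorProduct.zero_tmul]
    have := (TensorProduct.quotTensorEquivQuotSMul (Ω[W⁄V]) P).symm.subsingleton
    exact Submodule.Quotient.subsingleton_iff.mp this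
  refine subsingleton_of_forall_eq 0 fun ω => ?_
  have hω : ω ∈ P • (⊤ : Submodule W (Ω[W⁄V])) := by rw [U2]; trivial
  refine Submodule.smul_induction_on hω ?_ ?_
  · intro r hr n _
    obtain ⟨N, hN⟩ := U1 n
    obtain ⟨a, ha, w, rfl⟩ := exists_eq_mul_of_mem_map _ (hP hr)
    obtain ⟨a', ha', rfl⟩ := exists_pow_mul hp N a ha
    rw [map_mul, map_pow, mul_assoc, mul_comm, mul_smul, hN, smul_zero]
  · intro x y hx hy
    rw [hx, hy, add_zero]

include hinj hs hp hP in
theorem etale [Algebra.Etale Vs Ws]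
    [Algebra.Etale (V ⧸ P.comap (algebraMap V W)) (W ⧸ P)] :
    Algebra.Etale V W := by
  have h1 : Algebra.FinitePresentation V W := finitePresentation hinj s hs P hp hP Vs Ws
  have h2 : Module.Flat V W := flat hinj
  have h3 : Algebra.FormallyUnramified V W := formallyUnramified s P hp hP Vs Ws
  exact Algebra.Etale.of_formallyUnramified_of_flat

end Main

end Groth.Agent.Lib.Helper9.ValComp
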