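import Mathlib
import Groth.Agent.Lib.Helper9.ValComp

/-!
# Composite of etale valuation-ring maps (helper9)
-/

namespace Groth.Agent.Lib.Helper9.ValComp

universe u

lemma exists_away {R : Type*} [CommRing R] [Finite (PrimeSpectrum R)] (p : Ideal R)
    [hpp : p.IsPrime] :
    ∃ s : R, s ∉ p ∧ ∀ t : R, t ∉ p → ∃ n : ℕ, t ∣ s ^ n := by
  classical
  haveI : Fintype (PrimeSpectrum R) := Fintype.ofFinite _
  have hex : ∀ q : PrimeSpectrum R, ∃ x : R, x ∉ p ∧ (¬ q.asIdeal ≤ p → x ∈ q.asIdeal) := by
    intro q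
    by_cases h : q.asIdeal ≤ p
    · exact ⟨1, fun h1 => hpp.ne_top ((Ideal.eq_top_iff_one _).mpr h1), fun h' => absurd h h'⟩
    · obtain ⟨x, hxq, hxp⟩ := SetLike.not_le_iff_exists.mp h
      exact ⟨x, hxp, fun _ => hxq⟩
  choose f hf1 hf2 using hex
  refine ⟨∏ q, f q, ?_, ?_⟩
  · intro h
    obtain ⟨q, _, hq⟩ := (Ideal.IsPrime.prod_mem_iff).mp h
    exact hf1 q hq
  · intro t ht
    have : (∏ q, f q) ∈ (Ideal.span {t}).radical := by
      rw [Ideal.radical_eq_sInf, Ideal.mem_sInf]
      rintro J ⟨hJ1, hJ2⟩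
      have htJ : t ∈ J := hJ1 (Ideal.subset_span rfl)
      have hJp : ¬ J ≤ p := fun h => ht (h htJ)
      have hfJ := hf2 ⟨J, hJ2⟩ hJp
      obtain ⟨c, hc⟩ := Finset.dvd_prod_of_mem f (Finset.mem_univ (⟨J, hJ2⟩ : PrimeSpectrum R))
      rw [hc]
      exact J.mul_mem_right _ hfJ
    obtain ⟨n, hn⟩ := this
    exact ⟨n, Ideal.mem_span_singleton.mp hn⟩

lemma exists_mul_of_mem {V : Type*} [CommRing V] [IsDomain V] [ValuationRing V] (p : Ideal V)
    [hpp : p.IsPrime] {s : V} (hs : s ∉ p) : ∀ a ∈ p, ∃ a' ∈ p, a = s * a' := by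
  intro a ha
  rcases ValuationRing.dvd_total a s with ⟨c, hc⟩ | ⟨c, hc⟩
  · exact absurd (hc ▸ p.mul_mem_right c ha) hs
  · refine ⟨c, ?_, hc⟩
    rcases (hpp.mem_or_mem (hc ▸ ha : s * c ∈ p)) with h | h
    · exact absurd h hs
    · exact h

lemma away_of_atPrime {R : Type*} [CommRing R] (p : Ideal R) [hpp : p.IsPrime] (s : R)
    (hs : s ∉ p) (h : ∀ t : R, t ∉ p → ∃ n : ℕ, t ∣ s ^ n) (S : Type*) [CommRing S] [Algebra R S]
    [IsLocalization.AtPrime S p] : IsLocalization.Away s S := by
  have h1 : IsLocalization.AtPrime (Localization.Away s) p :=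
    IsLocalization.of_le_of_exists_dvd (Submonoid.powers s) p.primeCompl
      (by rintro x ⟨n, rfl⟩; exact fun hx => hs (hpp.mem_of_pow_mem n hx))
      (fun t ht => by obtain ⟨n, hn⟩ := h t ht; exact ⟨s ^ n, ⟨n, rfl⟩, hn⟩)
  have e : Localization.Away s ≃ₐ[R] S := IsLocalization.algEquiv p.primeCompl _ _
  exact IsLocalization.isLocalization_of_algEquiv (Submonoid.powers s) e

lemma exists_dvd_pow_of_not_mem {V W : Type u} [CommRing V] [CommRing W] [IsDomain W]
    [ValuationRing W] [Algebra V W] (P : Ideal W) [hPP : P.IsPrime]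
    [Algebra.QuasiFinite (V ⧸ P.comap (algebraMap V W)) (W ⧸ P)]
    (s : V) (h : ∀ t : V, t ∉ P.comap (algebraMap V W) → ∃ n : ℕ, t ∣ s ^ n) :
    ∀ u : W, u ∉ P → ∃ n : ℕ, u ∣ (algebraMap V W s) ^ n := by
  intro u hu
  have : algebraMap V W s ∈ (Ideal.span {u}).radical := by
    rw [Ideal.radical_eq_sInf, Ideal.mem_sInf]
    rintro J ⟨hJ1, hJ2⟩
    have huJ : u ∈ J := hJ1 (Ideal.subset_span rfl)
    have hPJ : P ≤ J := by
      rcases (Std.Total.total (r := (· ≤ · : Ideal W → Ideal W → Prop)) P J) with h | h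
      · exact h
      · exact absurd (h huJ) hu
    by_contra hsJ
    have hcomap : J.comap (algebraMap V W) = P.comap (algebraMap V W) := by
      apply le_antisymm
      · intro t ht
        by_contra htP
        obtain ⟨n, c, hc⟩ := h t htP
        apply hsJ
        have h1 : algebraMap V W (s ^ n) ∈ J := by
          rw [hc, map_mul]
          exact J.mul_mem_right _ ht
        rw [map_pow] at h1
        exact hJ2.mem_of_pow_mem n h1
      · exact Ideal.comap_mono hPJ
    let mkP := Ideal.Quotient.mk P
    have hker : RingHom.ker mkP ≤ J := by rw [Ideal.mk_ker]; exact hPJ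
    have : (J.map mkP).IsPrime :=
      Ideal.map_isPrime_of_surjective Ideal.Quotient.mk_surjective hker
    have : IsDomain (W ⧸ P) := Ideal.Quotient.isDomain P
    have : (⊥ : Ideal (W ⧸ P)).IsPrime := Ideal.isPrime_bot
    have hunder : (⊥ : Ideal (W ⧸ P)).under (V ⧸ P.comap (algebraMap V W)) =
        (J.map mkP).under (V ⧸ P.comap (algebraMap V W)) := by
      ext x
      obtain ⟨x, rfl⟩ := Ideal.Quotient.mk_surjective x
      simp only [Ideal.under_def, Ideal.mem_comap]
      have hx : algebraMap (V ⧸ P.comap (algebraMap V W)) (W ⧸ P) (Ideal.Quotient.mk _ x) =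
          mkP (algebraMap V W x) := rfl
      rw [hx]
      constructor
      · intro hx0
        rw [Ideal.mem_bot] at hx0
        rw [hx0]
        exact Ideal.zero_mem _
      · intro hxJ
        have h1 : algebraMap V W x ∈ J := by
          have h2 : algebraMap V W x ∈ (J.map mkP).comap mkP := Ideal.mem_comap.mpr hxJ
          rw [Ideal.comap_map_of_surjective mkP Ideal.Quotient.mk_surjective,
            ← RingHom.ker_eq_comap_bot, Ideal.mk_ker, sup_eq_left.mpr hPJ] at h2
          exact h2
        have h3 : x ∈ P.comap (algebraMap V W) := by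
          rw [← hcomap]
          exact Ideal.mem_comap.mpr h1
        rw [Ideal.mem_bot]
        exact Ideal.Quotient.eq_zero_iff_mem.mpr h3
    have hbot := Algebra.QuasiFinite.eq_of_le_of_under_eq
      (R := V ⧸ P.comap (algebraMap V W)) (⊥ : Ideal (W ⧸ P)) (J.map mkP) bot_le hunder
    have hJP : J ≤ P := by
      intro x hx
      have h1 : mkP x ∈ J.map mkP := Ideal.mem_map_of_mem _ hx
      rw [← hbot, Ideal.mem_bot] at h1
      exact Ideal.Quotient.eq_zero_iff_mem.mp h1
    exact hu (hJP huJ)
  obtain ⟨n, hn⟩ := this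
  exact ⟨n, Ideal.mem_span_singleton.mp hn⟩

theorem etale_of_atPrime_of_quotient {V W : Type u} [CommRing V] [CommRing W] [IsDomain V]
    [IsDomain W] [ValuationRing V] [ValuationRing W] [Algebra V W]
    (hinj : Function.Injective (algebraMap V W))
    [Finite (PrimeSpectrum V)] (P : Ideal W) [hPP : P.IsPrime]
    (hA : (Localization.localRingHom (P.comap (algebraMap V W)) P (algebraMap V W) rfl).Etale)
    (hB : (Ideal.quotientMap P (algebraMap V W) (le_refl (P.comap (algebraMap V W)))).Etale) :
    Algebra.Etale V W := by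
  have hpp : (P.comap (algebraMap V W)).IsPrime := Ideal.comap_isPrime _ _
  obtain ⟨s, hsp, hs⟩ := exists_away (P.comap (algebraMap V W))
  have hs0 : s ≠ 0 := fun h => hsp (h ▸ Ideal.zero_mem _)
  have heqB : (Ideal.quotientMap P (algebraMap V W)
      (le_refl (P.comap (algebraMap V W)))).toAlgebra =
      (inferInstance : Algebra (V ⧸ P.comap (algebraMap V W)) (W ⧸ P)) :=
    Algebra.algebra_ext _ _ (fun r => rfl)
  have hetB : Algebra.Etale (V ⧸ P.comap (algebraMap V W)) (W ⧸ P) := by
    unfold RingHom.Etale at hB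
    rw [heqB] at hB
    exact hB
  have hqf : Algebra.QuasiFinite (V ⧸ P.comap (algebraMap V W)) (W ⧸ P) := inferInstance
  have hsW := exists_dvd_pow_of_not_mem P s hs
  let algA : Algebra (Localization.AtPrime (P.comap (algebraMap V W))) (Localization.AtPrime P) :=
    (Localization.localRingHom (P.comap (algebraMap V W)) P (algebraMap V W) rfl).toAlgebra
  have htower : IsScalarTower V (Localization.AtPrime (P.comap (algebraMap V W)))
      (Localization.AtPrime P) := IsScalarTower.of_algebraMap_eq (fun x => by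
      rw [RingHom.algebraMap_toAlgebra, Localization.localRingHom_to_map,
        ← IsScalarTower.algebraMap_apply])
  have hetA : Algebra.Etale (Localization.AtPrime (P.comap (algebraMap V W)))
      (Localization.AtPrime P) := hA
  have haway1 : IsLocalization.Away s (Localization.AtPrime (P.comap (algebraMap V W))) :=
    away_of_atPrime _ s hsp hs _
  have hsP : algebraMap V W s ∉ P := hsp
  have haway2 : IsLocalization.Away (algebraMap V W s) (Localization.AtPrime P) :=
    away_of_atPrime P _ hsP hsW _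
  have hp : ∀ a ∈ P.comap (algebraMap V W), ∃ a' ∈ P.comap (algebraMap V W), a = s * a' :=
    exists_mul_of_mem _ hsp
  have hP : P ≤ (P.comap (algebraMap V W)).map (algebraMap V W) := by
    have hloc : IsLocalHom (algebraMap (Localization.AtPrime (P.comap (algebraMap V W)))
        (Localization.AtPrime P)) :=
      Localization.isLocalHom_localRingHom _ _ _ rfl
    have hmax := Algebra.FormallyUnramified.map_maximalIdeal
      (R := Localization.AtPrime (P.comap (algebraMap V W))) (S := Localization.AtPrime P)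
    rw [← Localization.AtPrime.map_eq_maximalIdeal, ← Localization.AtPrime.map_eq_maximalIdeal,
      Ideal.map_map, ← IsScalarTower.algebraMap_eq V _ (Localization.AtPrime P),
      IsScalarTower.algebraMap_eq V W (Localization.AtPrime P), ← Ideal.map_map] at hmax
    intro z hz
    have hz' : algebraMap W (Localization.AtPrime P) z ∈
        ((P.comap (algebraMap V W)).map (algebraMap V W)).map
          (algebraMap W (Localization.AtPrime P)) := by
      rw [hmax]
      exact Ideal.mem_map_of_mem _ hz
    obtain ⟨⟨⟨y, hy⟩, ⟨u, hu⟩⟩, hx⟩ :=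
      (IsLocalization.mem_map_algebraMap_iff P.primeCompl (Localization.AtPrime P)).mp hz'
    have hzu : z * u = y :=
      IsLocalization.injective (Localization.AtPrime P) P.primeCompl_le_nonZeroDivisors
        (by rw [map_mul]; exact hx)
    obtain ⟨n, c, hc⟩ := hsW u hu
    have h1 : algebraMap V W s ^ n * z ∈ (P.comap (algebraMap V W)).map (algebraMap V W) := by
      have h2 : algebraMap V W s ^ n * z = c * y := by rw [hc, ← hzu]; ring
      rw [h2]
      exact Ideal.mul_mem_left _ _ hy
    obtain ⟨a, ha, w, hw⟩ := exists_eq_mul_of_mem_map _ h1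
    obtain ⟨a', ha', rfl⟩ := exists_pow_mul hp n a ha
    have hzz : z = algebraMap V W a' * w := by
      have hsn : algebraMap V W s ^ n ≠ 0 :=
        pow_ne_zero _ (fun h => hs0 (hinj (by rw [h, map_zero])))
      apply mul_left_cancel₀ hsn
      rw [hw, map_mul, map_pow]
      ring
    rw [hzz]
    exact Ideal.mul_mem_right _ _ (Ideal.mem_map_of_mem _ ha')
  exact etale hinj s hs0 P hp hP (Localization.AtPrime (P.comap (algebraMap V W)))
    (Localization.AtPrime P)

end Groth.Agent.Lib.Helper9.ValComp
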